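import Cfsg.Agent.Lib.Classical.OrthForms
import Cfsg.Agent.Lib.Classical.OrthOrders

/-!
# Counting totally singular subspaces
-/

set_option autoImplicit false
set_option linter.unusedSectionVars false

universe u

namespace Cfsg.Agent.Classical.Elusive.OTs

open Module QuadraticMap
open Cfsg.Agent.Classical.OCount (IsHPair comp res valNum)

variable {F : Type u} [Field F] [Fintype F]

/-- A space of Witt index `j` with anisotropic part of dimension `e`, through its number of zeros. -/
structure Shape {V : Type u} [AddCommGroup V] [Module F V] (Q : QuadraticForm F V) (j e : ℕ) : Prop where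
  pnd : OCount.PND Q
  dim : finrank F V = 2 * j + e
  zeros : Nat.card {v : V // Q v = 0} = valNum (Fintype.card F) e j 1

theorem shape_formOf {R : Type} [Fintype R] [DecidableEq R] {ι : Type} [Fintype ι] [DecidableEq ι] {m : ℕ}
    (e : ι ≃ (Fin m ⊕ Fin m) ⊕ R) (P : QuadraticForm F (R → F)) (hP : OCount.PND P)
    (h0 : ∀ z, P z = 0 → z = 0) : Shape (OOmega.formOf m e P) m (Fintype.card R) := by
  refine ⟨OOmega.formOf_pnd hP, ?_, ?_⟩
  · rw [finrank_fintype_fun_eq_card, Fintype.card_congr e, Fintype.card_sum, Fintype.card_sum, Fintype.card_fin,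
      two_mul]
  · have h1 : Nat.card {z : R → F // P z = 0} = 1 := by
      rw [Nat.card_eq_one_iff_unique]
      exact ⟨⟨fun a b => Subtype.ext ((h0 _ a.2).trans (h0 _ b.2).symm)⟩, ⟨⟨0, QuadraticMap.map_zero P⟩⟩⟩
    rw [← h1, ← OCount.card_stdQ m P 0]
    exact Nat.card_congr ((LinearEquiv.funCongrLeft F F e.symm).toEquiv.subtypeEquiv fun x => Iff.rfl)

theorem valNum_one {q : ℕ} (hq : 1 ≤ q) (e j : ℕ) :
    valNum q e j 1 = (q ^ j - 1) * (q ^ (j - 1 + e) + 1) + 1 := by
  unfold valNum
  have := Nat.one_le_pow j q hq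
  rw [mul_add, mul_one, mul_one, add_assoc, Nat.sub_add_cancel this]

variable {V : Type u} [AddCommGroup V] [Module F V] [FiniteDimensional F V] {Q : QuadraticForm F V} {j e : ℕ}

theorem exists_hpair (hQ : OCount.PND Q) {v : V} (hv : v ≠ 0) (hv0 : Q v = 0) : ∃ w, IsHPair Q (v, w) := by
  haveI : Finite V := Module.finite_of_finite F
  have h := OCount.card_partner hQ hv hv0
  obtain ⟨⟨w, h1, h2⟩⟩ := (Nat.card_pos_iff.mp (h ▸ pow_pos Fintype.card_pos _)).1
  exact ⟨w, hv0, h1, h2⟩

theorem Shape.pos (h : Shape Q j e) {v : V} (hv : v ≠ 0) (hv0 : Q v = 0) : 1 ≤ j := by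
  haveI : Finite V := Module.finite_of_finite F
  by_contra hj
  obtain rfl : j = 0 := by omega
  have h1 := h.zeros
  rw [valNum_one Fintype.card_pos, pow_zero, Nat.sub_self, zero_mul, zero_add, Nat.card_eq_one_iff_unique] at h1
  haveI := h1.1
  exact hv (congrArg Subtype.val (Subsingleton.elim (⟨v, hv0⟩ : {v : V // Q v = 0}) ⟨0, QuadraticMap.map_zero Q⟩))

theorem Shape.comp (h : Shape Q j e) {p : V × V} (hp : IsHPair Q p) : Shape (res Q p) (j - 1) e := by
  haveI : Finite V := Module.finite_of_finite F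
  have hp1 : p.1 ≠ 0 := fun h0 => by
    have := hp.2.2
    rw [h0, polar_zero_left] at this
    exact zero_ne_one this
  have hj := h.pos hp1 hp.1
  obtain ⟨k, rfl⟩ : ∃ k, j = k + 1 := ⟨j - 1, by omega⟩
  have hd := OCount.finrank_comp hp
  have hd' : finrank F (OCount.comp Q p) = 2 * k + e := by rw [h.dim] at hd; omega
  refine ⟨OCount.res_pnd h.pnd hp, by rw [hd', Nat.add_sub_cancel], ?_⟩
  have e0 := OCount.card_value hp 0
  rw [h.zeros, OCount.valNum_succ Fintype.card_pos, hd'] at e0
  rw [Nat.add_sub_cancel]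
  exact (Nat.eq_of_mul_eq_mul_left Fintype.card_pos (Nat.add_left_cancel e0)).symm

/-- Totally singular subspaces. -/
def IsTs (Q : QuadraticForm F V) (W : Submodule F V) : Prop := ∀ v ∈ W, Q v = 0

theorem IsTs.polar_eq {W : Submodule F V} (hW : IsTs Q W) {x y : V} (hx : x ∈ W) (hy : y ∈ W) : polar Q x y = 0 := by
  rw [polar, hW _ (W.add_mem hx hy), hW _ hx, hW _ hy, sub_zero, sub_zero]

/-- The part of a totally singular subspace through `v` in the complement of a pair. -/
theorem split_ts {v w : V} (hp : IsHPair Q (v, w)) {W : Submodule F V} (hW : IsTs Q W) (hv : v ∈ W) :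
    W = Submodule.span F {v} ⊔ (W.comap (OCount.comp Q (v, w)).subtype).map (OCount.comp Q (v, w)).subtype ∧
      Submodule.span F {v} ⊓ (W.comap (OCount.comp Q (v, w)).subtype).map (OCount.comp Q (v, w)).subtype = ⊥ := by
  constructor
  · refine le_antisymm (fun x hx => ?_) (sup_le ((Submodule.span_singleton_le_iff_mem v W).mpr hv) ?_)
    · have hc : x - polar Q x w • v ∈ OCount.comp Q (v, w) := by
        refine OCount.mem_comp.mpr ⟨?_, ?_⟩
        · show polar Q v (x - polar Q x w • v) = 0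
          rw [polar_sub_right, polar_smul_right, hW.polar_eq hv hx, hW.polar_eq hv hv, smul_zero, sub_zero]
        · show polar Q w (x - polar Q x w • v) = 0
          rw [polar_sub_right, polar_smul_right, polar_comm Q w v, show polar Q v w = 1 from hp.2.2,
            polar_comm Q w x, smul_eq_mul, mul_one, sub_self]
      exact Submodule.mem_sup.mpr ⟨_, Submodule.smul_mem _ (polar Q x w) (Submodule.mem_span_singleton_self v),
        x - polar Q x w • v, ⟨⟨_, hc⟩, W.sub_mem hx (W.smul_mem _ hv), rfl⟩, add_sub_cancel _ _⟩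
    · rintro _ ⟨y, hy, rfl⟩
      exact hy
  · refine (Submodule.eq_bot_iff _).mpr ?_
    rintro x ⟨hx, ⟨y, -, rfl⟩⟩
    obtain ⟨c, hc⟩ := Submodule.mem_span_singleton.mp hx
    have h1 : polar Q w (y : V) = 0 := (OCount.mem_comp.mp y.2).2
    rw [show ((OCount.comp Q (v, w)).subtype y) = (y : V) from rfl] at hc ⊢
    rw [← hc, polar_smul_right, polar_comm Q w v, show polar Q v w = 1 from hp.2.2, smul_eq_mul, mul_one] at h1
    rw [← hc, h1, zero_smul]

/-- Totally singular subspaces through a vector and of the complement of a pair. -/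
theorem through_facts {v w : V} (hp : IsHPair Q (v, w)) (m : ℕ) :
    Nat.card {W : Submodule F V // (finrank F W = m + 1 ∧ IsTs Q W) ∧ v ∈ W} =
      Nat.card {U : Submodule F (OCount.comp Q (v, w)) // finrank F U = m ∧ IsTs (res Q (v, w)) U} := by
  have hv0 : v ≠ 0 := fun h0 => by
    have := hp.2.2
    simp only [h0, polar_zero_left] at this
    exact zero_ne_one this
  have hfwd : ∀ W : Submodule F V, (finrank F W = m + 1 ∧ IsTs Q W) ∧ v ∈ W →
      finrank F (W.comap (OCount.comp Q (v, w)).subtype) = m ∧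
        IsTs (res Q (v, w)) (W.comap (OCount.comp Q (v, w)).subtype) := by
    rintro W ⟨⟨hd, hW⟩, hv⟩
    obtain ⟨h1, h2⟩ := split_ts hp hW hv
    have h3 := Submodule.finrank_sup_add_finrank_inf_eq (Submodule.span F {v})
      ((W.comap (OCount.comp Q (v, w)).subtype).map (OCount.comp Q (v, w)).subtype)
    rw [h2, ← h1, finrank_bot, finrank_span_singleton hv0, Submodule.finrank_map_subtype_eq, hd] at h3
    exact ⟨by omega, fun y hy => hW _ hy⟩
  have hback : ∀ U : Submodule F (OCount.comp Q (v, w)), finrank F U = m ∧ IsTs (res Q (v, w)) U →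
      (finrank F ↥(Submodule.span F {v} ⊔ U.map (OCount.comp Q (v, w)).subtype) = m + 1 ∧
        IsTs Q (Submodule.span F {v} ⊔ U.map (OCount.comp Q (v, w)).subtype)) ∧
        (Submodule.span F {v} ⊔ U.map (OCount.comp Q (v, w)).subtype).comap (OCount.comp Q (v, w)).subtype = U := by
    rintro U ⟨hd, hU⟩
    have key : ∀ (c : F) (y : OCount.comp Q (v, w)), c • v + (y : V) ∈ OCount.comp Q (v, w) → c = 0 := by
      intro c y hy
      have h1 : polar Q w (c • v + (y : V)) = 0 := (OCount.mem_comp.mp hy).2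
      rw [polar_add_right, polar_smul_right, polar_comm Q w v, show polar Q v w = 1 from hp.2.2,
        show polar Q w (y : V) = 0 from (OCount.mem_comp.mp y.2).2, smul_eq_mul, mul_one, add_zero] at h1
      exact h1
    have hinf : Submodule.span F {v} ⊓ U.map (OCount.comp Q (v, w)).subtype = ⊥ := by
      refine (Submodule.eq_bot_iff _).mpr ?_
      rintro x ⟨hx, ⟨y, -, rfl⟩⟩
      obtain ⟨c, hc⟩ := Submodule.mem_span_singleton.mp hx
      have hc0 := key c 0 (by rw [hc]; simpa using y.2)
      rw [← hc, hc0, zero_smul]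
    refine ⟨⟨?_, ?_⟩, ?_⟩
    · have h3 := Submodule.finrank_sup_add_finrank_inf_eq (Submodule.span F {v})
        (U.map (OCount.comp Q (v, w)).subtype)
      rw [hinf, finrank_bot, finrank_span_singleton hv0, Submodule.finrank_map_subtype_eq, hd] at h3
      omega
    · intro x hx
      obtain ⟨a, ha, _, ⟨y, hy, rfl⟩, rfl⟩ := Submodule.mem_sup.mp hx
      obtain ⟨c, rfl⟩ := Submodule.mem_span_singleton.mp ha
      show Q (c • v + (y : V)) = 0
      rw [OCount.map_two, QuadraticMap.map_smul, show Q v = 0 from hp.1, smul_zero, polar_smul_left,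
        show polar Q v (y : V) = 0 from (OCount.mem_comp.mp y.2).1, smul_zero, show Q (y : V) = 0 from hU y hy]
      simp
    · refine le_antisymm (fun x hx => ?_) fun x hx => Submodule.mem_sup_right ⟨x, hx, rfl⟩
      obtain ⟨a, ha, _, ⟨y, hy, rfl⟩, hxe⟩ := Submodule.mem_sup.mp hx
      obtain ⟨c, rfl⟩ := Submodule.mem_span_singleton.mp ha
      have hc0 := key c y (by rw [show c • v + (y : V) = (x : V) from hxe]; exact x.2)
      rw [hc0, zero_smul, zero_add] at hxe
      rwa [show x = y from Subtype.ext hxe.symm]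
  exact Nat.card_congr
    { toFun := fun W => ⟨_, hfwd W.1 W.2⟩
      invFun := fun U => ⟨_, (hback U.1 U.2).1, Submodule.mem_sup_left (Submodule.mem_span_singleton_self v)⟩
      left_inv := fun W => Subtype.ext (split_ts hp W.2.1.2 W.2.2).1.symm
      right_inv := fun U => Subtype.ext (hback U.1 U.2).2 }

/-- The Witt index bounds totally singular subspaces. -/
theorem ts_le : ∀ (j : ℕ) {V : Type u} [AddCommGroup V] [Module F V] [FiniteDimensional F V]
    {Q : QuadraticForm F V} {e : ℕ}, Shape Q j e → ∀ W : Submodule F V, IsTs Q W → finrank F W ≤ j := by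
  intro j
  induction j with
  | zero =>
    intro V _ _ _ Q e h W hW
    refine (Submodule.finrank_eq_zero.mpr ((Submodule.eq_bot_iff _).mpr fun v hv => ?_)).le
    by_contra hv0
    exact absurd (h.pos hv0 (hW v hv)) (by omega)
  | succ j ih =>
    intro V _ _ _ Q e h W hW
    rcases eq_or_ne W ⊥ with rfl | hne
    · simp
    obtain ⟨v, hv, hv0⟩ := Submodule.exists_mem_ne_zero_of_ne_bot hne
    obtain ⟨w, hp⟩ := exists_hpair h.pnd hv0 (hW v hv)
    have h1 := ih (h.comp hp) (W.comap (OCount.comp Q (v, w)).subtype) fun y hy => hW _ hy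
    obtain ⟨e1, -⟩ := split_ts hp hW hv
    have h2 := Submodule.finrank_add_le_finrank_add_finrank (Submodule.span F {v})
      ((W.comap (OCount.comp Q (v, w)).subtype).map (OCount.comp Q (v, w)).subtype)
    rw [← e1, Submodule.finrank_map_subtype_eq, finrank_span_singleton hv0] at h2
    omega

/-- The number of totally singular subspaces. -/
theorem count_mul : ∀ (m : ℕ) {V : Type u} [AddCommGroup V] [Module F V] [FiniteDimensional F V]
    {Q : QuadraticForm F V} {j e : ℕ}, Shape Q j e → m ≤ j →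
      Nat.card {W : Submodule F V // finrank F W = m ∧ IsTs Q W} *
          ∏ k ∈ Finset.range m, (Fintype.card F ^ (k + 1) - 1) =
        ∏ k ∈ Finset.range m, (Fintype.card F ^ (j - k) - 1) * (Fintype.card F ^ (j - k - 1 + e) + 1) := by
  intro m
  induction m with
  | zero =>
    intro V _ _ _ Q j e _ _
    rw [Finset.range_zero, Finset.prod_empty, Finset.prod_empty, mul_one, Nat.card_eq_one_iff_unique]
    exact ⟨⟨fun a b => Subtype.ext ((Submodule.finrank_eq_zero.mp a.2.1).trans
      (Submodule.finrank_eq_zero.mp b.2.1).symm)⟩, ⟨⟨⊥, finrank_bot F V, fun v hv => by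
        rw [(Submodule.mem_bot F).mp hv, QuadraticMap.map_zero]⟩⟩⟩
  | succ m ih =>
    intro V _ _ _ Q j e h hm
    classical
    haveI : Finite V := Module.finite_of_finite F
    haveI : Finite (Submodule F V) := Finite.of_injective _ SetLike.coe_injective
    haveI := Fintype.ofFinite V
    set q := Fintype.card F with hq
    let P := {W : Submodule F V // finrank F W = m + 1 ∧ IsTs Q W}
    haveI := Fintype.ofFinite P
    let S := {v : V // Q v = 0 ∧ v ≠ 0}
    let e1 : (Σ W : P, {v : W.1 // v ≠ 0}) ≃ Σ v : S, {W : Submodule F V // (finrank F W = m + 1 ∧ IsTs Q W) ∧ v.1 ∈ W} :=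
      { toFun := fun s => ⟨⟨(s.2.1 : V), s.1.2.2 _ s.2.1.2, fun h0 => s.2.2 (Subtype.ext h0)⟩,
          ⟨s.1.1, s.1.2, s.2.1.2⟩⟩
        invFun := fun s => ⟨⟨s.2.1, s.2.2.1⟩, ⟨⟨s.1.1, s.2.2.2⟩, fun h0 => s.1.2.2 (congrArg Subtype.val h0)⟩⟩
        left_inv := fun s => rfl
        right_inv := fun s => rfl }
    have hL : Nat.card (Σ W : P, {v : W.1 // v ≠ 0}) = Nat.card P * (q ^ (m + 1) - 1) := by
      have hW : ∀ W : P, Nat.card {v : W.1 // v ≠ 0} = q ^ (m + 1) - 1 := fun W => by
        haveI := Fintype.ofFinite W.1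
        rw [Nat.card_eq_fintype_card, Fintype.card_subtype_compl, Fintype.card_subtype_eq,
          Module.card_eq_pow_finrank (K := F) (V := W.1), W.2.1]
      rw [Nat.card_sigma, Finset.sum_congr rfl fun W _ => hW W, Finset.sum_const, Finset.card_univ, smul_eq_mul,
        Nat.card_eq_fintype_card]
    have hR : ∀ v : S, Nat.card {W : Submodule F V // (finrank F W = m + 1 ∧ IsTs Q W) ∧ v.1 ∈ W} *
        ∏ k ∈ Finset.range m, (q ^ (k + 1) - 1) =
        ∏ k ∈ Finset.range m, (q ^ (j - 1 - k) - 1) * (q ^ (j - 1 - k - 1 + e) + 1) := fun v => by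
      obtain ⟨w, hp⟩ := exists_hpair h.pnd v.2.2 v.2.1
      rw [through_facts hp m]
      exact ih (h.comp hp) (by omega)
    have hS : Nat.card S = (q ^ j - 1) * (q ^ (j - 1 + e) + 1) := by
      have h1 : Nat.card S = Nat.card {v : V // Q v = 0} - 1 := by
        rw [Nat.card_eq_fintype_card, Nat.card_eq_fintype_card, ← Fintype.card_subtype_eq
          (⟨0, QuadraticMap.map_zero Q⟩ : {v : V // Q v = 0}), ← Fintype.card_subtype_compl]
        exact Fintype.card_congr
          { toFun := fun v => ⟨⟨v.1, v.2.1⟩, fun h0 => v.2.2 (congrArg Subtype.val h0)⟩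
            invFun := fun v => ⟨v.1.1, v.1.2, fun h0 => v.2 (Subtype.ext h0)⟩
            left_inv := fun v => rfl
            right_inv := fun v => rfl }
      rw [h1, h.zeros, valNum_one Fintype.card_pos, Nat.add_sub_cancel]
    have key : Nat.card P * (q ^ (m + 1) - 1) * ∏ k ∈ Finset.range m, (q ^ (k + 1) - 1) =
        Nat.card S * ∏ k ∈ Finset.range m, (q ^ (j - 1 - k) - 1) * (q ^ (j - 1 - k - 1 + e) + 1) := by
      rw [← hL, Nat.card_congr e1, Nat.card_sigma, Finset.sum_mul, Finset.sum_congr rfl fun v _ => hR v,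
        Finset.sum_const, Finset.card_univ, smul_eq_mul, Nat.card_eq_fintype_card]
    show Nat.card P * _ = _
    rw [Finset.prod_range_succ, mul_comm (∏ k ∈ Finset.range m, _), ← mul_assoc, key,
      Finset.prod_range_succ', hS, Nat.sub_zero, mul_comm]
    congr 1
    exact Finset.prod_congr rfl fun k _ => by rw [show j - 1 - k = j - (k + 1) by omega]

/-- Totally singular subspaces of every dimension up to the Witt index. -/
theorem exists_ts_dim (h : Shape Q j e) {m : ℕ} (hm : m ≤ j) :
    ∃ W : Submodule F V, finrank F W = m ∧ IsTs Q W := by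
  have h1 := count_mul m h hm
  by_contra hno
  haveI : IsEmpty {W : Submodule F V // finrank F W = m ∧ IsTs Q W} := ⟨fun W => hno ⟨W.1, W.2⟩⟩
  rw [Nat.card_of_isEmpty, zero_mul] at h1
  refine (Finset.prod_pos fun k hk => ?_).ne' h1.symm
  rw [Finset.mem_range] at hk
  exact Nat.mul_pos (Nat.sub_pos_of_lt (Nat.one_lt_pow (by omega) Fintype.one_lt_card)) (Nat.succ_pos _)

/-- Primes dividing the number of totally singular subspaces. -/
theorem prime_dvd (h : Shape Q j e) {m : ℕ} (hm : m ≤ j) (hme : m < j + e) {r : ℕ} (hr : r.Prime)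
    (hdvd : r ∣ Nat.card {W : Submodule F V // finrank F W = m ∧ IsTs Q W}) :
    (r : F) ≠ 0 ∧ ∃ k < m, (Fintype.card F : ZMod r) ^ (j - k) = 1 ∨
      (Fintype.card F : ZMod r) ^ (j - k - 1 + e) = -1 := by
  haveI : Fact r.Prime := ⟨hr⟩
  have h1 := count_mul m h hm
  obtain ⟨k, hk, hkr⟩ := (hr.prime.dvd_finsetProd_iff _).mp (h1 ▸ hdvd.mul_right _)
  rw [Finset.mem_range] at hk
  have h2 : (Fintype.card F : ZMod r) ^ (j - k) = 1 ∨ (Fintype.card F : ZMod r) ^ (j - k - 1 + e) = -1 := by
    rcases hr.dvd_mul.mp hkr with h3 | h3 <;> rw [← ZMod.natCast_eq_zero_iff] at h3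
    · rw [Nat.cast_sub (Nat.one_le_pow _ _ Fintype.card_pos), Nat.cast_pow, Nat.cast_one, sub_eq_zero] at h3
      exact Or.inl h3
    · rw [Nat.cast_add, Nat.cast_pow, Nat.cast_one] at h3
      exact Or.inr (eq_neg_of_add_eq_zero_left h3)
  refine ⟨fun hr0 => ?_, k, hk, h2⟩
  have hq : (Fintype.card F : ZMod r) = 0 := by
    haveI := Fact.mk hr
    haveI : CharP F r := (CharP.charP_iff_prime_eq_zero hr).mpr hr0
    obtain ⟨n, -, hn⟩ := FiniteField.card F r
    rw [hn, Nat.cast_pow, ZMod.natCast_self, zero_pow n.ne_zero]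
  rw [hq, zero_pow (by omega), zero_pow (by omega)] at h2
  rcases h2 with h2 | h2
  · exact zero_ne_one h2
  · exact one_ne_zero (neg_eq_zero.mp h2.symm)

/-- The same in terms of the order of the field size modulo the prime. -/
theorem room (h : Shape Q j e) {m : ℕ} (hm : m ≤ j) (hme : m < j + e) {r : ℕ} (hr : r.Prime) (hr2 : r ≠ 2)
    (hdvd : r ∣ Nat.card {W : Submodule F V // finrank F W = m ∧ IsTs Q W}) :
    ∃ k < m, (∃ a, j - k = orderOf (Fintype.card F : ZMod r) * a) ∨
      ∃ h a, orderOf (Fintype.card F : ZMod r) = 2 * h ∧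
        j - k - 1 + e = orderOf (Fintype.card F : ZMod r) * a + h := by
  haveI : Fact r.Prime := ⟨hr⟩
  obtain ⟨-, k, hk, h1⟩ := prime_dvd h hm hme hr hdvd
  refine ⟨k, hk, h1.imp (fun h1 => orderOf_dvd_of_pow_eq_one h1) fun h1 => ?_⟩
  obtain ⟨i, hi⟩ : ∃ i, i = orderOf (Fintype.card F : ZMod r) := ⟨_, rfl⟩
  obtain ⟨a, ha⟩ : ∃ a, a = j - k - 1 + e := ⟨_, rfl⟩
  rw [← ha] at h1
  have hne : (-1 : ZMod r) ≠ 1 := fun h0 => by
    have h' : ((2 : ℕ) : ZMod r) = 0 := by push_cast; linear_combination -h0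
    exact hr2 ((Nat.prime_dvd_prime_iff_eq hr Nat.prime_two).mp ((ZMod.natCast_eq_zero_iff _ _).mp h'))
  have hnd : ¬ i ∣ a := fun hd => by
    rw [hi, orderOf_dvd_iff_pow_eq_one, h1] at hd
    exact hne hd
  have hd2 : i ∣ 2 * a := hi ▸ orderOf_dvd_of_pow_eq_one (by rw [mul_comm, pow_mul, h1, neg_one_sq])
  rcases Nat.even_or_odd i with ⟨c, hc⟩ | ho
  · obtain ⟨w, hw⟩ := hd2
    rcases Nat.even_or_odd w with ⟨u, hu⟩ | ⟨u, hu⟩
    · exact absurd ⟨u, by rw [hu, Nat.mul_add] at hw; omega⟩ hnd
    · refine ⟨c, u, by omega, ?_⟩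
      rw [← hi, ← ha]
      rw [hu, mul_add, mul_one, mul_left_comm] at hw
      omega
  · exact absurd ((Nat.Coprime.dvd_mul_left (Nat.coprime_two_right.mpr ho)).mp hd2) hnd

end Cfsg.Agent.Classical.Elusive.OTs
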