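import Cfsg.Agent.Lib.Classical.Elusive.Decomp

/-!
# Prime order elements of the special linear group
-/

set_option autoImplicit false

namespace Cfsg.Agent.Classical.Elusive

open Polynomial Module

universe u

variable {F : Type u} [Field F] [Fintype F]

/-- The side condition for the irreducible scaled case. -/
def Cond (n r q : ℕ) : Prop := padicValNat r n ≤ padicValNat r (q - 1) ∧ (r = 2 → Even n → q % 4 = 1)

theorem exists_root_of_pow_eq_one {G : Type*} [Group G] [Finite G] [IsCyclic G] {r k : ℕ} [Fact r.Prime]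
    (hr : r ∣ Nat.card G) (hk : k ≠ 0) (hv : padicValNat r k < padicValNat r (Nat.card G)) {d : G} (hd : d ^ k = 1) :
    ∃ y : G, y ^ r = d := by
  obtain ⟨g, hg⟩ := IsCyclic.exists_generator (α := G)
  obtain ⟨j, rfl⟩ := (IsOfFinOrder.mem_powers_iff_mem_zpowers (isOfFinOrder_of_finite g)).mpr (hg d)
  have hN : orderOf g = Nat.card G := orderOf_eq_card_of_forall_mem_zpowers hg
  obtain ⟨m, hm⟩ := Nat.gcd_dvd_right k (Nat.card G)
  have hdg : (g ^ j) ^ (Nat.gcd k (Nat.card G)) = 1 := pow_gcd_eq_one.mpr ⟨hd, pow_card_eq_one'⟩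
  have hrm : r ∣ m := by
    by_contra hc
    have hm0 : m ≠ 0 := fun h => hc (h ▸ dvd_zero r)
    have hg0 : Nat.gcd k (Nat.card G) ≠ 0 := fun h => hk (Nat.eq_zero_of_gcd_eq_zero_left h)
    have h1 : padicValNat r (Nat.card G) = padicValNat r (Nat.gcd k (Nat.card G)) := by
      conv_lhs => rw [hm]
      rw [padicValNat.mul hg0 hm0, padicValNat.eq_zero_of_not_dvd hc, add_zero]
    have h2 : padicValNat r (Nat.gcd k (Nat.card G)) ≤ padicValNat r k :=
      (padicValNat_dvd_iff_le hk).mp (pow_padicValNat_dvd.trans (Nat.gcd_dvd_left _ _))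
    omega
  obtain ⟨m', rfl⟩ := hrm
  rw [← pow_mul, ← orderOf_dvd_iff_pow_eq_one, hN] at hdg
  have hrj : r ∣ j := by
    have hpos : 0 < Nat.gcd k (Nat.card G) := Nat.gcd_pos_of_pos_left _ (Nat.pos_of_ne_zero hk)
    have h3 : Nat.gcd k (Nat.card G) * (r * m') ∣ Nat.gcd k (Nat.card G) * j := by
      rw [← hm, mul_comm _ j]; exact hdg
    exact (dvd_mul_right r m').trans (Nat.dvd_of_mul_dvd_mul_left hpos h3)
  obtain ⟨j', rfl⟩ := hrj
  exact ⟨g ^ j', by rw [← pow_mul, mul_comm]⟩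

theorem cast_ne_zero {p r : ℕ} [Fact p.Prime] [CharP F p] [Fact r.Prime] (hrp : r ≠ p) : (r : F) ≠ 0 := by
  rw [Ne, CharP.cast_eq_zero_iff F p]
  exact fun h => hrp ((Nat.prime_dvd_prime_iff_eq Fact.out Fact.out).mp h).symm

theorem orderOf_pos' {p r : ℕ} [Fact p.Prime] [CharP F p] [Fact r.Prime] (hrp : r ≠ p) :
    0 < orderOf (Fintype.card F : ZMod r) := by
  have h : (Fintype.card F : ZMod r) ≠ 0 := fun h => by
    rw [ZMod.natCast_eq_zero_iff] at h
    obtain ⟨f, -, hf⟩ := FiniteField.card F p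
    rw [hf] at h
    exact hrp ((Nat.prime_dvd_prime_iff_eq Fact.out Fact.out).mp ((Fact.out : r.Prime).dvd_of_dvd_pow h))
  have hu : IsOfFinOrder (Fintype.card F : ZMod r) := by
    rw [isOfFinOrder_iff_pow_eq_one]
    exact ⟨r - 1, Nat.sub_pos_of_lt (Fact.out : r.Prime).one_lt, ZMod.pow_card_sub_one_eq_one h⟩
  exact hu.orderOf_pos

theorem orderOf_eq_one_iff' {r : ℕ} [Fact r.Prime] :
    orderOf (Fintype.card F : ZMod r) = 1 ↔ r ∣ Fintype.card F - 1 := by
  rw [orderOf_eq_one_iff, ← ZMod.natCast_eq_zero_iff, Nat.cast_sub Fintype.card_pos, Nat.cast_one, sub_eq_zero]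

/-- The possible block structures of an element of prime order. -/
theorem element_blocks {p : ℕ} [Fact p.Prime] [CharP F p] {r : ℕ} [Fact r.Prime] (hrp : r ≠ p) {n : ℕ}
    (hn : n ≠ 0) (x : Matrix.SpecialLinearGroup (Fin n) F)
    (hx : ∃ c : F, ((x ^ r : Matrix.SpecialLinearGroup (Fin n) F) : Matrix (Fin n) (Fin n) F) = c • (1 : Matrix (Fin n) (Fin n) F)) :
    ∃ (k : ℕ) (d : Fin k → ℕ), Nonempty (Blocks (Matrix.toLin' (x : Matrix (Fin n) (Fin n) F)) d) ∧
      ((2 ≤ orderOf (Fintype.card F : ZMod r) ∧ ∀ j, d j = 1 ∨ d j = orderOf (Fintype.card F : ZMod r)) ∨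
        (orderOf (Fintype.card F : ZMod r) = 1 ∧ ∀ j, d j = 1) ∨
        (orderOf (Fintype.card F : ZMod r) = 1 ∧ (∀ j, d j = r) ∧ ¬ Cond n r (Fintype.card F))) := by
  classical
  have hr0 := cast_ne_zero (F := F) hrp
  obtain ⟨c, hc⟩ := hx
  obtain ⟨f, hf⟩ : ∃ f, f = Matrix.toLin' (x : Matrix (Fin n) (Fin n) F) := ⟨_, rfl⟩
  rw [← hf]
  have hfr : f ^ r = c • 1 := by
    rw [hf, ← Matrix.toLin'_pow, ← Matrix.SpecialLinearGroup.coe_pow, hc, map_smul, Matrix.toLin'_one]
    rfl
  have hc0 : c ≠ 0 := fun h => by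
    haveI : Nonempty (Fin n) := ⟨⟨0, Nat.pos_of_ne_zero hn⟩⟩
    have := congrArg Matrix.det hc
    rw [Matrix.SpecialLinearGroup.det_coe, h, zero_smul, Matrix.det_zero] at this
    exact one_ne_zero this
  have hs := isSemisimple_of_pow hr0 hc0 hfr
  have hi0 := orderOf_pos' (F := F) (p := p) hrp
  have hU : Nat.card Fˣ = Fintype.card F - 1 := by rw [Nat.card_units, Nat.card_eq_fintype_card]
  by_cases hdvd : r ∣ Fintype.card F - 1
  · have hi1 := orderOf_eq_one_iff'.mpr hdvd
    obtain ⟨k, qs, hB, hch, hq⟩ := exists_blocks (finrank F (Fin n → F)) f le_rfl hs (X ^ r - C c) (by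
      rw [map_sub, map_pow, aeval_X, aeval_C, hfr, Algebra.algebraMap_eq_smul_one, sub_self])
    by_cases hroot : ∃ y : F, y ^ r = c
    · refine ⟨k, _, hB, Or.inr (Or.inl ⟨hi1, fun j => ?_⟩)⟩
      obtain ⟨y, hy⟩ := hroot
      obtain ⟨ζ, hζ⟩ := exists_prime_orderOf_dvd_card' (G := Fˣ) r (hU ▸ hdvd)
      have hζ' : IsPrimitiveRoot (ζ : F) r := by
        rw [← hζ, ← orderOf_units]; exact IsPrimitiveRoot.orderOf _
      have hsp : (X ^ r - C c).Splits := X_pow_sub_C_splits_of_isPrimitiveRoot hζ' hy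
      exact natDegree_eq_of_degree_eq_some ((hsp.of_dvd (X_pow_sub_C_ne_zero (Fact.out : r.Prime).pos c)
        (hq j).2.2).degree_eq_one_of_irreducible (hq j).1)
    · push Not at hroot
      have hirr := X_pow_sub_C_irreducible_of_prime (Fact.out : r.Prime) hroot
      have hqs : ∀ j, qs j = X ^ r - C c := fun j =>
        eq_of_monic_of_associated (hq j).2.1 (monic_X_pow_sub_C c (Fact.out : r.Prime).ne_zero)
          ((hq j).1.associated_of_dvd hirr (hq j).2.2)
      have hdeg : ∀ j, (qs j).natDegree = r := fun j => by rw [hqs, natDegree_X_pow_sub_C]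
      refine ⟨k, _, hB, Or.inr (Or.inr ⟨hi1, hdeg, fun hcond => ?_⟩)⟩
      have hnk : n = r * k := by
        obtain ⟨B⟩ := hB
        have := B.sum_eq
        rw [Finset.sum_congr rfl (fun j _ => hdeg j), Module.finrank_fin_fun] at this
        rw [← this]; simp [mul_comm]
      have hk0 : k ≠ 0 := fun h => hn (by rw [hnk, h, mul_zero])
      have hdet : ((-1) ^ r * -c) ^ k = 1 := by
        have h1 := Matrix.det_eq_sign_charpoly_coeff (x : Matrix (Fin n) (Fin n) F)
        rw [Matrix.SpecialLinearGroup.det_coe, ← Matrix.charpoly_toLin', ← hf, hch, coeff_zero_prod,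
          Finset.prod_congr rfl (fun j _ => by rw [hqs j]), Fintype.card_fin] at h1
        rw [mul_pow, ← pow_mul, ← hnk]
        simpa [coeff_X_pow, (Fact.out : r.Prime).ne_zero, eq_comm] using h1
      have hne : (-1 : F) ^ r * -c ≠ 0 := mul_ne_zero (pow_ne_zero _ (neg_ne_zero.mpr one_ne_zero)) (neg_ne_zero.mpr hc0)
      have hv : padicValNat r k < padicValNat r (Nat.card Fˣ) := by
        rw [hU]
        have := hcond.1
        rw [hnk, padicValNat.mul (Fact.out : r.Prime).ne_zero hk0, padicValNat_self] at this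
        omega
      obtain ⟨y, hy⟩ := exists_root_of_pow_eq_one (hU.symm ▸ hdvd) hk0 hv (d := Units.mk0 _ hne)
        (Units.ext (by rw [Units.val_pow_eq_pow_val]; exact hdet))
      have hy' : (y : F) ^ r = (-1) ^ r * -c := by
        rw [← Units.val_pow_eq_pow_val, hy]; rfl
      rcases (Fact.out : r.Prime).eq_two_or_odd' with h2 | ho
      · have hev : Even n := hnk ▸ Even.mul_right (h2 ▸ even_two) k
        obtain ⟨z, hz⟩ := FiniteField.isSquare_neg_one_iff.mpr (by rw [hcond.2 h2 hev]; norm_num)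
        apply hroot (z * y)
        rw [mul_pow, hy', h2, pow_two, ← hz, pow_two]
        ring
      · exact hroot y (by rw [hy', ho.neg_one_pow]; ring)
  · have hi2 : 2 ≤ orderOf (Fintype.card F : ZMod r) := by
      have : orderOf (Fintype.card F : ZMod r) ≠ 1 := fun h => hdvd (orderOf_eq_one_iff'.mp h)
      omega
    obtain ⟨l, hl⟩ := (powCoprime (G := Fˣ) (n := r) (Nat.Coprime.symm ((Nat.Prime.coprime_iff_not_dvd Fact.out).mpr
      (by rwa [hU])))).surjective (Units.mk0 c hc0)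
    have hl' : (l : F) ^ r = c := by
      rw [← Units.val_pow_eq_pow_val]; exact congrArg Units.val hl
    obtain ⟨g, hg⟩ : ∃ g, g = (l : F)⁻¹ • f := ⟨_, rfl⟩
    have hgr : g ^ r = (1 : F) • 1 := by
      rw [hg, _root_.smul_pow, hfr, smul_smul, inv_pow, hl', inv_mul_cancel₀ hc0]
    have hgs := isSemisimple_of_pow hr0 one_ne_zero hgr
    obtain ⟨k, qs, ⟨B⟩, -, hq⟩ := exists_blocks (finrank F (Fin n → F)) g le_rfl hgs (X ^ r - 1) (by
      rw [map_sub, map_pow, aeval_X, map_one, hgr, one_smul, sub_self])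
    have hfg : f = (l : F) • g := by rw [hg, smul_smul, mul_inv_cancel₀ l.ne_zero, one_smul]
    refine ⟨k, _, ⟨⟨B.sub, fun s => ?_, B.mono, B.dim, B.compl⟩⟩, Or.inl ⟨hi2, fun j => ?_⟩⟩
    · rintro _ ⟨v, hv, rfl⟩
      rw [hfg, LinearMap.smul_apply]
      exact Submodule.smul_mem _ _ (B.inv s ⟨v, hv, rfl⟩)
    · by_cases h1 : qs j = X - C 1
      · left; rw [h1, natDegree_X_sub_C]
      · right; exact natDegree_factor (hq j).1 (hq j).2.1 (hq j).2.2 h1

theorem matrix_eq_of_aeval {n r : ℕ} {c : F} {x : Matrix.SpecialLinearGroup (Fin n) F}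
    (h : aeval (Matrix.toLin' (x : Matrix (Fin n) (Fin n) F)) (X ^ r - C c) = 0) :
    ((x ^ r : Matrix.SpecialLinearGroup (Fin n) F) : Matrix (Fin n) (Fin n) F) = c • (1 : Matrix (Fin n) (Fin n) F) := by
  apply Matrix.toLin'.injective
  rw [Matrix.SpecialLinearGroup.coe_pow, Matrix.toLin'_pow, map_smul, Matrix.toLin'_one]
  rw [map_sub, map_pow, aeval_X, aeval_C, Algebra.algebraMap_eq_smul_one, sub_eq_zero] at h
  exact h

/-- An element with one irreducible block type and a fixed space. -/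
theorem exists_mixed {p : ℕ} [Fact p.Prime] [CharP F p] {r : ℕ} [Fact r.Prime] (hrp : r ≠ p)
    (hi : 2 ≤ orderOf (Fintype.card F : ZMod r)) {n a t : ℕ} (hn : a + orderOf (Fintype.card F : ZMod r) * t = n) :
    ∃ x : Matrix.SpecialLinearGroup (Fin n) F,
      (∃ c : F, ((x ^ r : Matrix.SpecialLinearGroup (Fin n) F) : Matrix (Fin n) (Fin n) F) = c • (1 : Matrix (Fin n) (Fin n) F)) ∧
      Module.End.IsSemisimple (Matrix.toLin' (x : Matrix (Fin n) (Fin n) F)) ∧
      ∃ q : F[X], Irreducible q ∧ q.natDegree = orderOf (Fintype.card F : ZMod r) ∧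
        (Matrix.toLin' (x : Matrix (Fin n) (Fin n) F)).charpoly = (X - C (1 : F)) ^ a * q ^ t := by
  classical
  have hr0 := cast_ne_zero (F := F) hrp
  obtain ⟨S, hS⟩ : ∃ S : F[X], S = ∑ j ∈ Finset.range r, X ^ j := ⟨_, rfl⟩
  have hS1 : S * (X - 1) = X ^ r - 1 := hS ▸ geom_sum_mul X r
  have hev : S.eval 1 = (r : F) := by simp [hS, eval_finsetSum]
  have hnu : ¬ IsUnit S := fun hu => by
    have h0 := natDegree_eq_zero_of_isUnit hu
    have hS0 : S ≠ 0 := fun h => hr0 (by rw [← hev, h, eval_zero])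
    have := congrArg natDegree hS1
    rw [← C_1, natDegree_mul hS0 (X_sub_C_ne_zero _), natDegree_X_pow_sub_C, natDegree_X_sub_C, h0] at this
    exact (Fact.out : r.Prime).one_lt.ne this
  obtain ⟨q, hqm, hqi, hqd⟩ := Polynomial.exists_monic_irreducible_factor S hnu
  have hq1 : q ≠ X - C 1 := fun h => hr0 (by
    obtain ⟨T, hT⟩ := hqd
    rw [← hev, hT, h]; simp)
  have hqr : q ∣ X ^ r - 1 := hS1 ▸ hqd.mul_right _
  have hdeg := natDegree_factor hqi hqm hqr hq1
  haveI : Fact (Irreducible q) := ⟨hqi⟩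
  have hq0 : q.coeff 0 = (-1) ^ q.natDegree := by
    have hN := Algebra.PowerBasis.norm_gen_eq_coeff_zero_minpoly (AdjoinRoot.powerBasis hqi.ne_zero)
    rw [AdjoinRoot.powerBasis_gen, AdjoinRoot.powerBasis_dim, AdjoinRoot.minpoly_root hqi.ne_zero, hqm.leadingCoeff,
      inv_one, map_one, mul_one] at hN
    have hz : (AdjoinRoot.root q) ^ r = 1 := by
      have := AdjoinRoot.mk_eq_zero.mpr hqr
      rwa [map_sub, map_pow, AdjoinRoot.mk_X, map_one, sub_eq_zero] at this
    have hNr : Algebra.norm F (AdjoinRoot.root q) ^ r = 1 := by rw [← map_pow, hz, map_one]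
    have hdvd : ¬ r ∣ Fintype.card F - 1 := fun h => by
      have := orderOf_eq_one_iff'.mpr h
      omega
    have hN0 : Algebra.norm F (AdjoinRoot.root q) ≠ 0 := fun h => by
      rw [h, zero_pow (Fact.out : r.Prime).ne_zero] at hNr; exact zero_ne_one hNr
    have hN1 : Algebra.norm F (AdjoinRoot.root q) = 1 := orderOf_eq_one_iff.mp (by
      rcases (Nat.dvd_prime Fact.out).mp (orderOf_dvd_of_pow_eq_one hNr) with h | h
      · exact h
      · exact absurd (h ▸ orderOf_dvd_of_pow_eq_one (FiniteField.pow_card_sub_one_eq_one _ hN0)) hdvd)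
    calc q.coeff 0 = (-1) ^ q.natDegree * ((-1) ^ q.natDegree * q.coeff 0) := by
          rw [← mul_assoc, ← pow_add, Even.neg_one_pow ⟨_, rfl⟩, one_mul]
      _ = _ := by rw [← hN, hN1, mul_one]
  obtain ⟨x, hxc, hxs⟩ := exists_SL p ((X - C (1 : F)) ^ a * q ^ t) (((monic_X_sub_C 1).pow a).mul (hqm.pow t)) (n := n)
    (by rw [((monic_X_sub_C (1 : F)).pow a).natDegree_mul (hqm.pow t), natDegree_pow, natDegree_pow,
      natDegree_X_sub_C, hdeg, mul_one, mul_comm t, hn])
    (by rw [mul_coeff_zero, coeff_zero_eq_eval_zero, eval_pow, eval_sub, eval_X, eval_C, zero_sub,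
      coeff_zero_eq_eval_zero, eval_pow, ← coeff_zero_eq_eval_zero, hq0, ← pow_mul, ← pow_add, hdeg, hn])
  refine ⟨x, ⟨1, matrix_eq_of_aeval ?_⟩, hxs, q, hqi, hdeg, hxc⟩
  rw [C_1]
  refine aeval_of_charpoly hxs (N := a + t) ?_
  rw [hxc, pow_add]
  exact mul_dvd_mul (pow_dvd_pow_of_dvd (C_1 (R := F) ▸ Dvd.intro_left S hS1) a) (pow_dvd_pow_of_dvd hqr t)

/-- An element all of whose invariant subspaces have dimension divisible by `r`. -/
theorem exists_scaled {p : ℕ} [Fact p.Prime] [CharP F p] {r : ℕ} [Fact r.Prime] (hrp : r ≠ p)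
    (hi : orderOf (Fintype.card F : ZMod r) = 1) {n : ℕ} (hrn : r ∣ n) (hcond : ¬ Cond n r (Fintype.card F)) :
    ∃ x : Matrix.SpecialLinearGroup (Fin n) F,
      (∃ c : F, ((x ^ r : Matrix.SpecialLinearGroup (Fin n) F) : Matrix (Fin n) (Fin n) F) = c • (1 : Matrix (Fin n) (Fin n) F)) ∧
      Module.End.IsSemisimple (Matrix.toLin' (x : Matrix (Fin n) (Fin n) F)) ∧
      ∃ q : F[X], Irreducible q ∧ q.natDegree = r ∧
        (Matrix.toLin' (x : Matrix (Fin n) (Fin n) F)).charpoly = q ^ (n / r) := by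
  classical
  have hd := orderOf_eq_one_iff'.mp hi
  obtain ⟨t, rfl⟩ := hrn
  rw [Nat.mul_div_cancel_left _ (Fact.out : r.Prime).pos]
  have hU : Nat.card Fˣ = Fintype.card F - 1 := by rw [Nat.card_units, Nat.card_eq_fintype_card]
  obtain ⟨c, hroot, hdet⟩ : ∃ c : F, (∀ y : F, y ^ r ≠ c) ∧ ((-1) ^ r * -c) ^ t = 1 := by
    by_cases hv : padicValNat r (r * t) ≤ padicValNat r (Fintype.card F - 1)
    · obtain ⟨h2, hev, h4⟩ : r = 2 ∧ Even (r * t) ∧ ¬ Fintype.card F % 4 = 1 := by
        by_contra hc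
        exact hcond ⟨hv, fun a b => by_contra fun h => hc ⟨a, b, h⟩⟩
      subst h2
      refine ⟨-1, fun y hy => ?_, by simp⟩
      have h3 := (FiniteField.isSquare_neg_one_iff (F := F)).mp ⟨y, by rw [← hy, pow_two]⟩
      obtain ⟨m, hm⟩ := hd
      have : 1 ≤ Fintype.card F := Fintype.card_pos
      omega
    · have ht : t ≠ 0 := fun h => hv (by rw [h, mul_zero, padicValNat_zero_right]; exact Nat.zero_le _)
      obtain ⟨g, hg⟩ := IsCyclic.exists_generator (α := Fˣ)
      have hN : orderOf g = Fintype.card F - 1 := by rw [orderOf_eq_card_of_forall_mem_zpowers hg, hU]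
      obtain ⟨e, he⟩ := pow_padicValNat_dvd (p := r) (n := Fintype.card F - 1)
      obtain ⟨s, hs⟩ : ∃ s, s = padicValNat r (Fintype.card F - 1) := ⟨_, rfl⟩
      rw [← hs] at he hv
      have hN0 : Fintype.card F - 1 ≠ 0 := by
        have := Fintype.one_lt_card (α := F); omega
      have hs1 : 1 ≤ s := hs ▸ one_le_padicValNat_of_dvd hN0 hd
      have he0 : e ≠ 0 := fun h => hN0 (by rw [he, h, mul_zero])
      have hord : orderOf (g ^ e) = r ^ s := by
        rw [orderOf_pow' g he0, hN, he, Nat.gcd_eq_right (Dvd.intro_left _ rfl),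
          Nat.mul_div_cancel _ (Nat.pos_of_ne_zero he0)]
      obtain ⟨c, hc⟩ : ∃ c, c = g ^ e := ⟨_, rfl⟩
      refine ⟨(c : F), fun y hy => ?_, ?_⟩
      · have hy0 : y ≠ 0 := fun h => c.ne_zero (by rw [← hy, h, zero_pow (Fact.out : r.Prime).ne_zero])
        have h1 : (Units.mk0 y hy0) ^ r = c := Units.ext (by rw [Units.val_pow_eq_pow_val]; exact hy)
        have hoy : orderOf (Units.mk0 y hy0) = r ^ (s + 1) := by
          refine orderOf_eq_prime_pow ?_ ?_
          · rw [show s = s - 1 + 1 by omega, pow_succ', pow_mul, h1, hc, ← orderOf_dvd_iff_pow_eq_one, hord,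
              Nat.pow_dvd_pow_iff_le_right (Fact.out : r.Prime).one_lt]
            omega
          · rw [pow_succ', pow_mul, h1, hc, ← hord, pow_orderOf_eq_one]
        have hdiv : r ^ (s + 1) ∣ Fintype.card F - 1 := hU ▸ hoy ▸ orderOf_dvd_natCard _
        have := (padicValNat_dvd_iff_le hN0).mp hdiv
        omega
      · have hst : r ^ s ∣ t := by
          rw [padicValNat_dvd_iff_le ht]
          rw [padicValNat.mul (Fact.out : r.Prime).ne_zero ht, padicValNat_self] at hv
          omega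
        have hct : (c : F) ^ t = 1 := by
          rw [← Units.val_pow_eq_pow_val, hc, (orderOf_dvd_iff_pow_eq_one).mp (hord ▸ hst)]; rfl
        rw [mul_pow, neg_pow (c : F) t, hct, mul_one, ← pow_mul, ← pow_add]
        rcases (Fact.out : r.Prime).eq_two_or_odd' with h2 | ho
        · refine Even.neg_one_pow ?_
          have : 2 ∣ t := by
            have h' : r ∣ t := (dvd_pow_self r (by omega)).trans hst
            rwa [h2] at h'
          rw [h2]
          exact (even_two_mul t).add (even_iff_two_dvd.mpr this)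
        · refine Even.neg_one_pow ?_
          obtain ⟨m, hm⟩ := ho
          rw [hm]
          exact ⟨(m + 1) * t, by ring⟩
  have hirr := X_pow_sub_C_irreducible_of_prime (Fact.out : r.Prime) hroot
  obtain ⟨x, hxc, hxs⟩ := exists_SL p ((X ^ r - C c) ^ t) ((monic_X_pow_sub_C c (Fact.out : r.Prime).ne_zero).pow t)
    (n := r * t) (by rw [natDegree_pow, natDegree_X_pow_sub_C, mul_comm]) (by
      rw [coeff_zero_eq_eval_zero, eval_pow, eval_sub, eval_pow, eval_X, eval_C,
        zero_pow (Fact.out : r.Prime).ne_zero, zero_sub, pow_mul]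
      rw [mul_pow, ← pow_mul] at hdet
      calc (-c) ^ t = ((-1 : F) ^ (r * t)) * (((-1 : F) ^ (r * t)) * (-c) ^ t) := by
            rw [← mul_assoc, ← pow_add, Even.neg_one_pow ⟨_, rfl⟩, one_mul]
        _ = _ := by rw [hdet, mul_one, pow_mul])
  exact ⟨x, ⟨c, matrix_eq_of_aeval (aeval_of_charpoly hxs (N := t) (hxc ▸ dvd_rfl))⟩, hxs, _, hirr,
    natDegree_X_pow_sub_C, hxc⟩

/-- `Submodule` count. -/
theorem card_subspaces_mul {n m : ℕ} (hmn : m ≤ n) :
    Nat.card {W : Submodule F (Fin n → F) // finrank F W = m} *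
      ∏ j : Fin m, (Fintype.card F ^ m - Fintype.card F ^ (j : ℕ)) =
      ∏ j : Fin m, (Fintype.card F ^ n - Fintype.card F ^ (j : ℕ)) := by
  classical
  haveI : Fintype {W : Submodule F (Fin n → F) // finrank F W = m} := Fintype.ofFinite _
  let sp : {s : Fin m → (Fin n → F) // LinearIndependent F s} → {W : Submodule F (Fin n → F) // finrank F W = m} :=
    fun s => ⟨Submodule.span F (Set.range s.1), (finrank_span_eq_card s.2).trans (Fintype.card_fin m)⟩
  have hfib : ∀ W : {W : Submodule F (Fin n → F) // finrank F W = m},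
      Nat.card {s // sp s = W} = ∏ j : Fin m, (Fintype.card F ^ m - Fintype.card F ^ (j : ℕ)) := fun W => by
    have h := card_linearIndependent (K := F) (V := W.1) (k := m) W.2.ge
    rw [W.2] at h
    rw [← h]
    refine Nat.card_congr
      { toFun := fun s => ⟨fun j => ⟨s.1.1 j, (congrArg Subtype.val s.2) ▸ Submodule.subset_span (Set.mem_range_self j)⟩,
          LinearIndependent.of_comp W.1.subtype s.1.2⟩
        invFun := fun s => ⟨⟨fun j => (s.1 j : Fin n → F), s.2.map' W.1.subtype W.1.ker_subtype⟩,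
          Subtype.ext (Submodule.eq_of_le_of_finrank_eq
            (Submodule.span_le.mpr (Set.range_subset_iff.mpr fun j => (s.1 j).2)) (by
              rw [W.2, finrank_span_eq_card (R := F) (b := fun j => (s.1 j : Fin n → F)) (s.2.map' W.1.subtype W.1.ker_subtype), Fintype.card_fin]))⟩
        left_inv := fun s => rfl
        right_inv := fun s => rfl }
  have h := card_linearIndependent (K := F) (V := Fin n → F) (k := m) (by rw [Module.finrank_fin_fun]; exact hmn)
  rw [Module.finrank_fin_fun, ← Nat.card_congr (Equiv.sigmaFiberEquiv sp), Nat.card_sigma,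
    Finset.sum_congr rfl (fun W _ => hfib W), Finset.sum_const, smul_eq_mul, Finset.card_univ] at h
  rw [← h, Nat.card_eq_fintype_card]

theorem prod_pow_sub (n m : ℕ) (hm : m ≤ n) :
    ∏ j : Fin m, (Fintype.card F ^ n - Fintype.card F ^ (j : ℕ)) =
      (∏ j : Fin m, Fintype.card F ^ (j : ℕ)) * ∏ j : Fin m, (Fintype.card F ^ (n - j) - 1) := by
  rw [← Finset.prod_mul_distrib]
  refine Finset.prod_congr rfl fun j _ => ?_
  rw [Nat.mul_sub_one, ← pow_add, Nat.add_sub_cancel' (j.isLt.le.trans hm)]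

/-- A prime divisor of the number of subspaces. -/
theorem prime_dvd_subspaces {p : ℕ} [Fact p.Prime] [CharP F p] {r : ℕ} [Fact r.Prime] {n m : ℕ} (hmn : m ≤ n)
    (h : r ∣ Nat.card {W : Submodule F (Fin n → F) // finrank F W = m}) :
    r ≠ p ∧ ∃ j < m, r ∣ Fintype.card F ^ (n - j) - 1 := by
  obtain ⟨A, hA⟩ : ∃ A, A = Nat.card {W : Submodule F (Fin n → F) // finrank F W = m} := ⟨_, rfl⟩
  rw [← hA] at h
  have e : A * ∏ j : Fin m, (Fintype.card F ^ (m - j) - 1) = ∏ j : Fin m, (Fintype.card F ^ (n - j) - 1) := by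
    have h0 := card_subspaces_mul (F := F) hmn
    rw [← hA, prod_pow_sub (F := F) m m le_rfl, prod_pow_sub (F := F) n m hmn] at h0
    refine Nat.eq_of_mul_eq_mul_left (Finset.prod_pos (s := Finset.univ) (f := fun j : Fin m => Fintype.card F ^ (j : ℕ))
      fun j _ => pow_pos Fintype.card_pos _) ?_
    rw [← h0]; ring
  obtain ⟨j, -, hj⟩ := (Prime.dvd_finsetProd_iff (Fact.out : r.Prime).prime _).mp (e ▸ h.mul_right _)
  refine ⟨fun hrp => ?_, j, j.isLt, hj⟩
  subst hrp
  obtain ⟨f, -, hf⟩ := FiniteField.card F r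
  have h1 : r ∣ Fintype.card F ^ (n - j) := by
    rw [hf, ← pow_mul]
    exact dvd_pow_self _ (Nat.mul_pos f.pos (Nat.sub_pos_of_lt (lt_of_lt_of_le j.isLt hmn))).ne'
  have h2 := Nat.dvd_sub h1 hj
  rw [Nat.sub_sub_self (Nat.one_le_pow _ _ Fintype.card_pos)] at h2
  exact (Fact.out : r.Prime).one_lt.ne' (Nat.dvd_one.mp h2)

theorem orderOf_dvd_iff' {r : ℕ} [Fact r.Prime] (e : ℕ) :
    r ∣ Fintype.card F ^ e - 1 ↔ orderOf (Fintype.card F : ZMod r) ∣ e := by
  rw [orderOf_dvd_iff_pow_eq_one, ← ZMod.natCast_eq_zero_iff, Nat.cast_sub (Nat.one_le_pow _ _ Fintype.card_pos),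
    Nat.cast_pow, Nat.cast_one, sub_eq_zero]

end Cfsg.Agent.Classical.Elusive
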