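import Mathlib
import Cfsg.Agent.Lib.Classical.OrthForms
import Cfsg.Agent.Lib.Classical.WittIndex
import Cfsg.Agent.Lib.Classical.SymplecticIso
import Cfsg.Agent.Lib.Small.QuadStandard
import Cfsg.Agent.Lib.Lead.SympDerangement

/-!
# Quadratic forms in characteristic two and isometries without fixed vectors

Zero counts separate the two types, an isometry without fixed vectors preserves at most one quadratic form
with a given polar form, and an involution preserves forms of both types unless its fixed space is totally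
singular.
-/

set_option autoImplicit false
set_option linter.unusedSectionVars false

universe u

namespace Cfsg.Agent.Classical.CharTwoQuad

open Module QuadraticMap Cfsg Cfsg.Agent.Classical Cfsg.Agent.Classical.OOmega Cfsg.Agent.Classical.OCount

variable {F : Type u} [Field F] [Fintype F]
variable {V : Type u} [AddCommGroup V] [Module F V] [FiniteDimensional F V]

/-- The number of zeros of a quadratic form. -/
noncomputable def zeros (Q : QuadraticForm F V) : ℕ := Nat.card {x : V // Q x = 0}

/-- The number of zeros of a hyperbolic form in dimension `2m`. -/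
def plusN (q m : ℕ) : ℕ := valNum q 0 m 1

/-- The number of zeros of an elliptic form in dimension `2m`. -/
def minusN (q m : ℕ) : ℕ := valNum q 2 (m - 1) 1

theorem plusN_succ (q k : ℕ) : plusN q (k + 1) = (q ^ (k + 1) - 1) * q ^ k + q ^ (k + 1) := by
  simp [plusN, valNum]

theorem minusN_succ {q : ℕ} (hq : 1 ≤ q) (k : ℕ) : minusN q (k + 1) = (q ^ k - 1) * q ^ (k + 1) + q ^ k := by
  rcases k with _ | j
  · simp [minusN, valNum]
  · simp [minusN, valNum]

theorem plusN_pred {q : ℕ} (hq : 1 ≤ q) (k : ℕ) :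
    plusN q (k + 1) - 1 = (q ^ (k + 1) - 1) * (q ^ k + 1) := by
  rw [plusN_succ]
  have h : 1 ≤ q ^ (k + 1) := Nat.one_le_pow _ _ hq
  rw [Nat.mul_add, mul_one]
  omega

theorem minusN_pred {q : ℕ} (hq : 1 ≤ q) (k : ℕ) :
    minusN q (k + 1) - 1 = (q ^ k - 1) * (q ^ (k + 1) + 1) := by
  rw [minusN_succ hq]
  have h : 1 ≤ q ^ k := Nat.one_le_pow _ _ hq
  rw [Nat.mul_add, mul_one]
  omega

theorem plus_ne_minus {q : ℕ} (hq : 2 ≤ q) {m : ℕ} (hm : 1 ≤ m) : plusN q m ≠ minusN q m := by
  obtain ⟨k, rfl⟩ : ∃ k, m = k + 1 := ⟨m - 1, by omega⟩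
  rw [plusN_succ, minusN_succ (by omega)]
  have h : q ^ k < q ^ (k + 1) := Nat.pow_lt_pow_right (by omega) (by omega)
  have h1 : 1 ≤ q ^ k := Nat.one_le_pow _ _ (by omega)
  zify [h1, (by omega : 1 ≤ q ^ (k + 1))]
  intro he
  have : (q : ℤ) ^ k < (q : ℤ) ^ (k + 1) := by exact_mod_cast h
  nlinarith

theorem ne_middle {q : ℕ} (hq : 2 ≤ q) {m : ℕ} (hm : 1 ≤ m) :
    plusN q m ≠ q ^ (2 * m - 1) ∧ minusN q m ≠ q ^ (2 * m - 1) := by
  obtain ⟨k, rfl⟩ : ∃ k, m = k + 1 := ⟨m - 1, by omega⟩
  rw [plusN_succ, minusN_succ (by omega), show 2 * (k + 1) - 1 = (k + 1) + k by omega]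
  have h : q ^ k < q ^ (k + 1) := Nat.pow_lt_pow_right (by omega) (by omega)
  have h1 : 1 ≤ q ^ k := Nat.one_le_pow _ _ (by omega)
  have h' : (q : ℤ) ^ k < (q : ℤ) ^ (k + 1) := by exact_mod_cast h
  have h2 : 1 ≤ q ^ (k + 1) := by omega
  rw [pow_add q (k + 1) k]
  generalize q ^ k = A at *
  generalize q ^ (k + 1) = B at *
  constructor <;> zify [h1, h2] <;> intro he <;> nlinarith

/-- An odd prime dividing `q ^ m + 1` does not divide the number of non-zero zeros of a hyperbolic form. -/
theorem not_dvd_plus {q m r : ℕ} (hq : 1 ≤ q) (hm : 1 ≤ m) (hr : r.Prime) (hr2 : r ≠ 2) (h : r ∣ q ^ m + 1) :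
    ¬ r ∣ plusN q m - 1 := by
  obtain ⟨k, rfl⟩ : ∃ k, m = k + 1 := ⟨m - 1, by omega⟩
  rw [plusN_pred hq]
  haveI : Fact r.Prime := ⟨hr⟩
  have h2 : (2 : ZMod r) ≠ 0 := fun e => hr2 <| ((Nat.prime_dvd_prime_iff_eq hr Nat.prime_two).mp
    ((ZMod.natCast_eq_zero_iff _ _).mp (by exact_mod_cast e)))
  intro hd
  have e1 : (q : ZMod r) ^ (k + 1) + 1 = 0 := by exact_mod_cast (ZMod.natCast_eq_zero_iff _ _).mpr h
  have e2 : ((q : ZMod r) ^ (k + 1) - 1) * ((q : ZMod r) ^ k + 1) = 0 := by
    have := (ZMod.natCast_eq_zero_iff _ _).mpr hd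
    rw [Nat.cast_mul, Nat.cast_sub (Nat.one_le_pow _ _ hq)] at this
    push_cast at this
    exact this
  rcases mul_eq_zero.mp e2 with e3 | e3
  · exact h2 (by linear_combination e1 - e3)
  · have e4 : (q : ZMod r) = 1 := by
      rw [pow_succ] at e1
      linear_combination (q : ZMod r) * e3 - e1
    rw [e4, one_pow] at e1
    exact h2 (by linear_combination e1)

omit [Fintype F] in
theorem two_mul_zero (h2 : (2 : F) = 0) (x : F) : 2 * x = 0 := by rw [h2, zero_mul]

omit [Fintype F] in
theorem add_self' (h2 : (2 : F) = 0) (x : F) : x + x = 0 := by linear_combination x * h2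

theorem zeros_equiv {W : Type*} [AddCommGroup W] [Module F W] {Q : QuadraticForm F V}
    (e : V ≃ₗ[F] W) (f : W → F) (he : ∀ x, Q x = f (e x)) : zeros Q = Nat.card {y : W // f y = 0} :=
  Nat.card_congr (e.toEquiv.subtypeEquiv fun x => by rw [he]; rfl)

theorem card_plus_zeros (m : ℕ) :
    Nat.card {y : Fin m ⊕ Fin m → F // Cfsg.quadFormPlus m F y = 0} = plusN (Fintype.card F) m := by
  classical
  rw [← coe_plus m, Nat.card_congr ((LinearEquiv.funCongrLeft F F
    (Equiv.sumEmpty (Fin m ⊕ Fin m) Empty)).toEquiv.subtypeEquiv (q := fun z => stdQ m 0 z = 0) fun x => ?_),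
    card_stdQ, plusN, Fintype.card_eq_zero (α := Empty)]
  · congr 1
    exact Nat.card_eq_one_iff_unique.mpr ⟨⟨fun a b => Subtype.ext (funext fun r => r.elim)⟩,
      ⟨⟨fun r => r.elim, by simp⟩⟩⟩
  · rw [formOf_apply]; rfl

theorem card_minus_zeros (k : ℕ) {a b : F}
    (hab : ∀ z₁ z₂ : F, z₁ ^ 2 + a * z₁ * z₂ + b * z₂ ^ 2 = 0 → z₁ = 0 ∧ z₂ = 0) :
    Nat.card {y : (Fin k ⊕ Fin k) ⊕ Fin 2 → F // Cfsg.quadFormMinus k F a b y = 0} =
      minusN (Fintype.card F) (k + 1) := by
  classical
  rw [← coe_minus k a b, show Nat.card {y // formOf k (Equiv.refl _) (planeForm a b) y = 0} =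
      Nat.card {z // stdQ k (planeForm a b) z = 0} from rfl, card_stdQ, Fintype.card_fin, minusN,
    Nat.add_sub_cancel]
  congr 1
  exact Nat.card_eq_one_iff_unique.mpr ⟨⟨fun x y => Subtype.ext (funext fun i => by
    have hx := x.2
    have hy := y.2
    rw [planeForm_apply] at hx hy
    obtain ⟨h1, h2⟩ := hab _ _ hx
    obtain ⟨h3, h4⟩ := hab _ _ hy
    fin_cases i
    · exact h1.trans h3.symm
    · exact h2.trans h4.symm)⟩, ⟨⟨0, QuadraticMap.map_zero _⟩⟩⟩

omit [Fintype F] in
theorem binary_aniso {ζ : F} (hζ : ∀ t : F, t ^ 2 + t + ζ ≠ 0) (z₁ z₂ : F)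
    (h : z₁ ^ 2 + 1 * z₁ * z₂ + ζ * z₂ ^ 2 = 0) : z₁ = 0 ∧ z₂ = 0 := by
  by_cases hz : z₂ = 0
  · subst hz
    exact ⟨pow_eq_zero_iff two_ne_zero |>.mp (by linear_combination h), rfl⟩
  · refine absurd ?_ (hζ (z₁ / z₂))
    field_simp
    linear_combination h

omit [Fintype F] in
theorem nondeg {Q : QuadraticForm F V} (hQ : PND Q) : (polarBilin Q).Nondegenerate :=
  ⟨hQ, fun v hv => hQ v fun w => by rw [polar_comm]; exact hv w⟩

/-- Every non-singular form in even dimension is one of the two standard forms. -/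
theorem dichotomy {Q : QuadraticForm F V} (hQ : PND Q) {m : ℕ} (hm : 1 ≤ m) (hV : finrank F V = 2 * m) :
    (∃ e : V ≃ₗ[F] (Fin m ⊕ Fin m → F), ∀ x, Q x = Cfsg.quadFormPlus m F (e x)) ∨
    ∃ ζ : F, (∀ t : F, t ^ 2 + t + ζ ≠ 0) ∧ ∃ e : V ≃ₗ[F] ((Fin (m - 1) ⊕ Fin (m - 1)) ⊕ Fin 2 → F),
      ∀ x, Q x = Cfsg.quadFormMinus (m - 1) F 1 ζ (e x) := by
  classical
  rcases Small.QuadBasis.even_basis Q hm hV (nondeg hQ) with
    ⟨b, hb1, hb2, hb3⟩ | ⟨b, ζ, hζ, hb1, hb2, hb3, hb4, hx, hxy, hy⟩
  · refine Or.inl ⟨b.equivFun, fun x => ?_⟩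
    have hF : Small.QuadBasis.Frame Q ⊤ m (fun i => b (.inl i)) fun i => b (.inr i) :=
      ⟨fun _ => trivial, fun _ => trivial, fun i => (hb1 i).1, fun i => (hb1 i).2, hb2, fun i j => (hb3 i j).1,
        fun i j => (hb3 i j).2⟩
    have h := Small.QuadBasis.frame_value _ hF (κ := Fin 0) Fin.elim0 (fun c => c.elim0)
      (fun i => b.repr x (.inl i)) (fun i => b.repr x (.inr i)) Fin.elim0
    have hv : ∑ i, (b.repr x (.inl i) • b (.inl i) + b.repr x (.inr i) • b (.inr i)) = x := by
      rw [Finset.sum_add_distrib, ← Fintype.sum_sum_type (fun i => b.repr x i • b i), b.sum_repr]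
    simp only [Finset.univ_eq_empty, Finset.sum_empty, add_zero, QuadraticMap.map_zero, hv] at h
    exact h
  · refine Or.inr ⟨ζ, hζ, b.equivFun, fun x => ?_⟩
    have hF : Small.QuadBasis.Frame Q ⊤ (m - 1) (fun i => b (.inl (.inl i))) fun i => b (.inl (.inr i)) :=
      ⟨fun _ => trivial, fun _ => trivial, fun i => (hb1 i).1, fun i => (hb1 i).2, hb2, fun i j => (hb3 i j).1,
        fun i j => (hb3 i j).2⟩
    have h := Small.QuadBasis.frame_value _ hF (fun k => b (.inr k)) (fun k i => hb4 i k)
      (fun i => b.repr x (.inl (.inl i))) (fun i => b.repr x (.inl (.inr i))) (fun k => b.repr x (.inr k))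
    have hv : ∑ i, (b.repr x (.inl (.inl i)) • b (.inl (.inl i)) + b.repr x (.inl (.inr i)) • b (.inl (.inr i))) +
        ∑ k, b.repr x (.inr k) • b (.inr k) = x := by
      conv_rhs => rw [← b.sum_repr x]
      rw [Fintype.sum_sum_type, Fintype.sum_sum_type, Finset.sum_add_distrib]
    rw [hv, Fin.sum_univ_two, Small.QuadBasis.q_add, Small.QuadBasis.q_smul, Small.QuadBasis.q_smul,
      Small.QuadBasis.p_smul_left, Small.QuadBasis.p_smul_right, hx, hxy, hy] at h
    rw [h]
    simp only [Cfsg.quadFormMinus, Basis.equivFun_apply]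
    ring

/-- The two kinds of zero counts. -/
theorem zeros_cases {Q : QuadraticForm F V} (hQ : PND Q) {m : ℕ} (hm : 1 ≤ m) (hV : finrank F V = 2 * m) :
    zeros Q = plusN (Fintype.card F) m ∨ zeros Q = minusN (Fintype.card F) m := by
  rcases dichotomy hQ hm hV with ⟨e, he⟩ | ⟨ζ, hζ, e, he⟩
  · exact Or.inl (by rw [zeros_equiv e _ he, card_plus_zeros])
  · right
    rw [zeros_equiv e _ he, card_minus_zeros (m - 1) (binary_aniso hζ), Nat.sub_add_cancel hm]

/-- Additive Artin–Schreier classes. -/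
theorem as_sum (h2 : (2 : F) = 0) {ζ ζ' : F} (hζ : ∀ t : F, t ^ 2 + t + ζ ≠ 0) (hζ' : ∀ t : F, t ^ 2 + t + ζ' ≠ 0) :
    ∃ s : F, s ^ 2 + s = ζ + ζ' := by
  classical
  let g : F →+ F := AddMonoidHom.mk' (fun s => s ^ 2 + s) fun x y => by linear_combination x * y * h2
  have hg : ∀ x, g x = x ^ 2 + x := fun x => rfl
  have hker : Nat.card g.ker = 2 := by
    rw [Nat.card_eq_two_iff]
    refine ⟨0, ⟨1, AddMonoidHom.mem_ker.mpr (by rw [hg, one_pow]; linear_combination h2)⟩,
      fun e => one_ne_zero (congrArg Subtype.val e).symm, ?_⟩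
    refine Set.eq_univ_of_forall fun x => ?_
    have hx : g x.1 = 0 := x.2
    rw [hg] at hx
    rcases mul_eq_zero.mp (show x.1 * (x.1 - 1) = 0 by linear_combination hx - x.1 * h2) with h | h
    · exact Or.inl (Subtype.ext h)
    · exact Or.inr (Subtype.ext (sub_eq_zero.mp h))
  have h1 := g.range.card_mul_index
  have h3 := g.ker.card_mul_index
  rw [AddSubgroup.index_ker, hker] at h3
  have hidx : g.range.index = 2 := by
    have hp : 0 < Nat.card g.range := Nat.card_pos
    exact Nat.eq_of_mul_eq_mul_left hp (by linarith)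
  have mem : ∀ z : F, (∀ t : F, t ^ 2 + t + z ≠ 0) → z ∉ g.range := fun z hz ⟨t, ht⟩ => hz t (by
    rw [hg] at ht
    linear_combination ht + z * h2)
  obtain ⟨s, hs⟩ := (AddSubgroup.add_mem_iff_of_index_two hidx).mpr
    (iff_of_false (mem ζ hζ) (mem ζ' hζ'))
  exact ⟨s, hs⟩

/-- Forms with equally many zeros are isometric. -/
theorem exists_isometry {W : Type u} [AddCommGroup W] [Module F W] [FiniteDimensional F W] (h2 : (2 : F) = 0)
    {Q : QuadraticForm F V} {Q' : QuadraticForm F W} (hQ : PND Q) (hQ' : PND Q') {m : ℕ} (hm : 1 ≤ m)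
    (hV : finrank F V = 2 * m) (hW : finrank F W = 2 * m) (hz : zeros Q = zeros Q') :
    ∃ φ : V ≃ₗ[F] W, ∀ x, Q' (φ x) = Q x := by
  have hne := plus_ne_minus (q := Fintype.card F) Fintype.one_lt_card hm
  rcases dichotomy hQ hm hV with ⟨e, he⟩ | ⟨ζ, hζ, e, he⟩ <;>
    rcases dichotomy hQ' hm hW with ⟨e', he'⟩ | ⟨ζ', hζ', e', he'⟩
  · exact ⟨e.trans e'.symm, fun x => by rw [he', he]; simp⟩
  · rw [zeros_equiv e _ he, card_plus_zeros, zeros_equiv e' _ he', card_minus_zeros _ (binary_aniso hζ'),
      Nat.sub_add_cancel hm] at hz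
    exact absurd hz hne
  · rw [zeros_equiv e _ he, card_minus_zeros _ (binary_aniso hζ), zeros_equiv e' _ he', card_plus_zeros,
      Nat.sub_add_cancel hm] at hz
    exact absurd hz.symm hne
  · obtain ⟨s, hs⟩ := as_sum h2 hζ hζ'
    let T : ((Fin (m - 1) ⊕ Fin (m - 1)) ⊕ Fin 2 → F) →ₗ[F] ((Fin (m - 1) ⊕ Fin (m - 1)) ⊕ Fin 2 → F) :=
      { toFun := fun z => Sum.elim (fun i => z (.inl i)) ![z (.inr 0) + s * z (.inr 1), z (.inr 1)]
        map_add' := fun x y => funext fun i => by
          rcases i with i | i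
          · rfl
          · fin_cases i <;> simp <;> ring
        map_smul' := fun c x => funext fun i => by
          rcases i with i | i
          · rfl
          · fin_cases i <;> simp <;> ring }
    have hT : Function.Involutive T := fun z => funext fun i => by
      rcases i with i | i
      · rfl
      · fin_cases i
        · show (z (.inr 0) + s * z (.inr 1)) + s * z (.inr 1) = z (.inr 0)
          linear_combination s * z (.inr 1) * h2
        · rfl
    have hval : ∀ z, Cfsg.quadFormMinus (m - 1) F 1 ζ' (T z) = Cfsg.quadFormMinus (m - 1) F 1 ζ z := fun z => by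
      show Cfsg.quadFormMinus (m - 1) F 1 ζ' (Sum.elim (fun i => z (.inl i))
        ![z (.inr 0) + s * z (.inr 1), z (.inr 1)]) = _
      simp only [Cfsg.quadFormMinus, Sum.elim_inl, Sum.elim_inr, Matrix.cons_val_zero, Matrix.cons_val_one]
      linear_combination (z (.inr 1) ^ 2) * hs + (z (.inr 0) * s * z (.inr 1) + ζ' * z (.inr 1) ^ 2) * h2
    exact ⟨(e.trans (LinearEquiv.ofInvolutive T hT)).trans e'.symm, fun x => by
      rw [he', he, ← hval]; simp [LinearEquiv.ofInvolutive]⟩

/-- A totally singular subspace of half the dimension is its own orthogonal space. -/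
theorem mem_of_perp {Q : QuadraticForm F V} (hQ : PND Q) {m : ℕ} (hV : finrank F V = 2 * m)
    {U : Submodule F V} (hU : ∀ x ∈ U, Q x = 0) (hd : finrank F U = m) {x : V}
    (hx : ∀ y ∈ U, polar Q x y = 0) : x ∈ U := by
  obtain ⟨C, hC⟩ := U.exists_isCompl
  have hdim := Submodule.finrank_add_eq_of_isCompl hC
  have hUU : ∀ y ∈ U, ∀ z ∈ U, polar Q y z = 0 := fun y hy z hz => by
    simp only [polar, hU y hy, hU z hz, hU _ (U.add_mem hy hz), sub_zero]
  let ψ : U →ₗ[F] (C →ₗ[F] F) := (polarBilin Q).compl₁₂ U.subtype C.subtype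
  have hψ : ∀ (y : U) (c : C), ψ y c = polar Q (y : V) (c : V) := fun _ _ => rfl
  have hinj : Function.Injective ψ := by
    rw [← LinearMap.ker_eq_bot, LinearMap.ker_eq_bot']
    intro y hy
    refine Subtype.ext (hQ _ fun w => ?_)
    obtain ⟨w₁, hw₁, w₂, hw₂, rfl⟩ := Submodule.mem_sup.mp (hC.sup_eq_top.symm ▸ Submodule.mem_top : w ∈ U ⊔ C)
    rw [polar_add_right, hUU _ y.2 _ hw₁, zero_add, ← hψ y ⟨w₂, hw₂⟩, hy, LinearMap.zero_apply]
  have hsurj : Function.Surjective ψ :=
    (LinearMap.injective_iff_surjective_of_finrank_eq_finrank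
      (by rw [Module.finrank_linearMap_self, hd]; omega)).mp hinj
  obtain ⟨x₁, hx₁, x₂, hx₂, rfl⟩ := Submodule.mem_sup.mp (hC.sup_eq_top.symm ▸ Submodule.mem_top : x ∈ U ⊔ C)
  suffices h : (⟨x₂, hx₂⟩ : C) = 0 by
    rw [show x₂ = 0 from congrArg Subtype.val h, add_zero]; exact hx₁
  refine (Module.forall_dual_apply_eq_zero_iff F _).mp fun l => ?_
  obtain ⟨y, rfl⟩ := hsurj l
  have h := hx y.1 y.2
  rw [polar_add_left, hUU _ hx₁ _ y.2, zero_add] at h
  rw [hψ, polar_comm]
  exact h

/-- A totally singular subspace of half the dimension forces the hyperbolic count. -/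
theorem zeros_of_ts {Q : QuadraticForm F V} (hQ : PND Q) {m : ℕ} (hm : 1 ≤ m) (hV : finrank F V = 2 * m)
    {U : Submodule F V} (hU : ∀ x ∈ U, Q x = 0) (hd : finrank F U = m) :
    zeros Q = plusN (Fintype.card F) m := by
  classical
  obtain ⟨C, hC⟩ := U.exists_isCompl
  have hdim := Submodule.finrank_add_eq_of_isCompl hC
  haveI : Finite V := Module.finite_of_finite F
  haveI := Fintype.ofFinite C
  have key : ∀ (u : U) (c : C), Q ((u : V) + c) = Q (c : V) + polarBilin Q (c : V) (u : V) := fun u c => by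
    rw [polarBilin_apply_apply, polar, add_comm (c : V), hU _ u.2]; ring
  let φ : C → (U →ₗ[F] F) := fun c => (polarBilin Q (c : V)).comp U.subtype
  let pe := Submodule.prodEquivOfIsCompl U C hC
  let E : {x : V // Q x = 0} ≃ Σ c : C, {u : U // φ c u = -Q (c : V)} :=
    { toFun := fun x => ⟨(pe.symm x.1).2, (pe.symm x.1).1, by
        have h := x.2
        rw [← pe.apply_symm_apply x.1, Submodule.coe_prodEquivOfIsCompl', key] at h
        show polarBilin Q _ _ = _
        simp only [Submodule.coe_subtype] at *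
        linear_combination h⟩
      invFun := fun s => ⟨(s.2.1 : V) + s.1, by
        have h : polarBilin Q (s.1 : V) (s.2.1 : V) = _ := s.2.2
        rw [key, h, add_neg_cancel]⟩
      left_inv := fun x => Subtype.ext (by
        show ((pe.symm x.1).1 : V) + (pe.symm x.1).2 = x.1
        rw [← Submodule.coe_prodEquivOfIsCompl' U C hC (pe.symm x.1)]
        exact pe.apply_symm_apply x.1)
      right_inv := fun s => by
        obtain ⟨c, u, h⟩ := s
        have hs : pe.symm ((u : V) + c) = (u, c) := by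
          rw [LinearEquiv.symm_apply_eq, Submodule.coe_prodEquivOfIsCompl']
        exact Sigma.subtype_ext (congrArg Prod.snd hs) (congrArg Prod.fst hs) }
  have hne : ∀ c : C, c ≠ 0 → Nat.card {u : U // φ c u = -Q (c : V)} = Fintype.card F ^ (m - 1) := by
    intro c hc
    rw [card_fibre (fun h => hc ?_), hd]
    have hmem : (c : V) ∈ U := mem_of_perp hQ hV hU hd fun y hy => LinearMap.congr_fun h ⟨y, hy⟩
    have : (c : V) ∈ U ⊓ C := ⟨hmem, c.2⟩
    rw [hC.inf_eq_bot, Submodule.mem_bot] at this
    exact Subtype.ext this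
  have hz : Nat.card {u : U // φ 0 u = -Q ((0 : C) : V)} = Fintype.card F ^ m := by
    rw [Nat.card_congr (Equiv.subtypeUnivEquiv fun u => by simp [φ]), Module.natCard_eq_pow_finrank (K := F),
      hd, Nat.card_eq_fintype_card]
  rw [zeros, Nat.card_congr E, Nat.card_sigma, ← Finset.sum_erase_add _ _ (Finset.mem_univ (0 : C)), hz,
    Finset.sum_congr rfl fun c hc => hne c (Finset.ne_of_mem_erase hc), Finset.sum_const,
    Finset.card_erase_of_mem (Finset.mem_univ _), Finset.card_univ, smul_eq_mul,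
    ← Nat.card_eq_fintype_card (α := C), Module.natCard_eq_pow_finrank (K := F), Nat.card_eq_fintype_card,
    show finrank F C = m by omega, plusN, valNum, add_zero, mul_one]

theorem isPlus_iff {ι : Type} [Fintype ι] [DecidableEq ι] {Q : QuadraticForm F (ι → F)} (hQ : PND Q) {m : ℕ}
    (hm : 1 ≤ m) (hι : Fintype.card ι = 2 * m) :
    Cfsg.Geo.IsPlusTypeOn ⇑Q ⊤ ↔ zeros Q = plusN (Fintype.card F) m := by
  have hV : finrank F (ι → F) = 2 * m := by rw [finrank_fintype_fun_eq_card, hι]
  constructor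
  · rintro ⟨U, -, hU, hd⟩
    rw [finrank_top, hV] at hd
    exact zeros_of_ts hQ hm hV hU (by omega)
  · intro hz
    rcases dichotomy hQ hm hV with ⟨e, he⟩ | ⟨ζ, hζ, e, he⟩
    · let N : (Fin m → F) →ₗ[F] (Fin m ⊕ Fin m → F) :=
        { toFun := fun a => Sum.elim a 0
          map_add' := fun a b => funext fun i => by rcases i with i | i <;> simp
          map_smul' := fun c a => funext fun i => by rcases i with i | i <;> simp }
      have hinj : Function.Injective (e.symm.toLinearMap.comp N) :=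
        e.symm.injective.comp fun a b h => funext fun i => congrFun h (.inl i)
      refine ⟨LinearMap.range (e.symm.toLinearMap.comp N), le_top, ?_, ?_⟩
      · rintro x ⟨a, rfl⟩
        rw [he]
        simp [Cfsg.quadFormPlus, N]
      · rw [LinearMap.finrank_range_of_inj hinj, finrank_fintype_fun_eq_card, Fintype.card_fin, finrank_top, hV]
    · rw [zeros_equiv e _ he, card_minus_zeros _ (binary_aniso hζ), Nat.sub_add_cancel hm] at hz
      exact absurd hz.symm (plus_ne_minus Fintype.one_lt_card hm)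

/-! ### Invariant forms -/

omit [Fintype F] [FiniteDimensional F V] in
theorem pow_invariant {Q : QuadraticForm F V} {g : Module.End F V} (h : ∀ x, Q (g x) = Q x) (n : ℕ) (x : V) :
    Q ((g ^ n) x) = Q x := by
  induction n with
  | zero => simp
  | succ n ih => rw [pow_succ', Module.End.mul_apply, h, ih]

/-- An isometry of prime order without fixed vectors permutes the non-zero zeros semiregularly. -/
theorem dvd_zeros {Q : QuadraticForm F V} {g : Module.End F V} {r : ℕ} [Fact r.Prime] (hg : g ^ r = 1)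
    (hfix : ∀ x, g x = x → x = 0) (hinv : ∀ x, Q (g x) = Q x) : r ∣ zeros Q - 1 := by
  classical
  haveI : Finite V := Module.finite_of_finite F
  haveI := Fintype.ofFinite V
  let f : Function.End {x : V // Q x = 0} := fun x => ⟨g x.1, by rw [hinv]; exact x.2⟩
  have hit : ∀ (n : ℕ) (x : {x : V // Q x = 0}), ((f ^ n) x).1 = (g ^ n) x.1 := by
    intro n
    induction n with
    | zero => intro x; rfl
    | succ n ih =>
      intro x
      rw [pow_succ', pow_succ', Module.End.mul_apply, ← ih]
      rfl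
  have hf : f ^ r ^ 1 = 1 := by
    rw [pow_one]
    funext x
    apply Subtype.ext
    rw [hit, hg]
    rfl
  have hmod := Equiv.Perm.card_fixedPoints_modEq hf
  have h1 : Fintype.card f.fixedPoints = 1 := by
    rw [Fintype.card_eq_one_iff]
    refine ⟨⟨⟨0, QuadraticMap.map_zero Q⟩, Subtype.ext (map_zero g)⟩, fun y => ?_⟩
    exact Subtype.ext (Subtype.ext (hfix _ (congrArg Subtype.val y.2)))
  rw [h1, ← Nat.card_eq_fintype_card] at hmod
  exact (Nat.modEq_iff_dvd' (Nat.card_pos_iff.mpr ⟨⟨⟨0, QuadraticMap.map_zero Q⟩⟩, inferInstance⟩)).mp hmod.symm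

omit [Fintype F] in
/-- An isometry without fixed vectors preserves at most one form with a given polar form. -/
theorem eq_of_fixfree {Q Q' : QuadraticForm F V} {g : Module.End F V} (hfix : ∀ x, g x = x → x = 0)
    (h : ∀ x, Q (g x) = Q x) (h' : ∀ x, Q' (g x) = Q' x) (hp : ∀ x y, polar Q x y = polar Q' x y) : Q = Q' := by
  have hadd : ∀ x y, (Q - Q') (x + y) = (Q - Q') x + (Q - Q') y := fun x y => by
    have := hp x y
    simp only [polar] at this
    simp only [QuadraticMap.sub_apply]
    linear_combination this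
  have hinj : Function.Injective ⇑(g - 1 : Module.End F V) := by
    rw [← LinearMap.ker_eq_bot, LinearMap.ker_eq_bot']
    intro x hx
    exact hfix x (sub_eq_zero.mp (by simpa using hx))
  ext x
  obtain ⟨y, rfl⟩ := (LinearMap.injective_iff_surjective.mp hinj) x
  have e1 := hadd ((g - 1 : Module.End F V) y) y
  rw [show (g - 1 : Module.End F V) y + y = g y by simp] at e1
  have es : ∀ z, (Q - Q') z = Q z - Q' z := fun z => rfl
  rw [es, es, es, h, h'] at e1
  linear_combination -e1

omit [Fintype F] [FiniteDimensional F V] in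
/-- Averaging over a group of odd order. -/
theorem exists_average (h2 : (2 : F) = 0) (Q : QuadraticForm F V) {g : Module.End F V} {r : ℕ} (hr : Odd r)
    (hg : g ^ r = 1) (hiso : ∀ x y, polar Q (g x) (g y) = polar Q x y) :
    ∃ Q' : QuadraticForm F V, (∀ x y, polar Q' x y = polar Q x y) ∧ ∀ x, Q' (g x) = Q' x := by
  refine ⟨∑ i ∈ Finset.range r, Q.comp (g ^ i), fun x y => ?_, fun x => ?_⟩
  · have hi : ∀ i : ℕ, polar Q ((g ^ i) x) ((g ^ i) y) = polar Q x y := by
      intro i
      induction i with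
      | zero => simp
      | succ i ih => rw [pow_succ', Module.End.mul_apply, Module.End.mul_apply, hiso, ih]
    obtain ⟨j, rfl⟩ := hr
    simp only [polar, QuadraticMap.sum_apply, QuadraticMap.comp_apply, map_add, ← Finset.sum_sub_distrib]
    rw [Finset.sum_congr rfl fun i _ => (show Q ((g ^ i) x + (g ^ i) y) - Q ((g ^ i) x) - Q ((g ^ i) y) =
        Q (x + y) - Q x - Q y from hi i),
      Finset.sum_const, Finset.card_range, nsmul_eq_mul]
    push_cast
    linear_combination ((j : F) * (Q (x + y) - Q x - Q y)) * h2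
  · have hc : ∀ z : V, (∑ i ∈ Finset.range r, Q.comp (g ^ i)) z = ∑ i ∈ Finset.range r, Q ((g ^ i) z) :=
      fun z => by simp [QuadraticMap.sum_apply]
    rw [hc, hc]
    have e1 := Finset.sum_range_succ (fun i => Q ((g ^ i) x)) r
    have e2 := Finset.sum_range_succ' (fun i => Q ((g ^ i) x)) r
    rw [hg] at e1
    simp only [pow_succ, Module.End.mul_apply, pow_zero, Module.End.one_apply] at e1 e2
    linear_combination e1 - e2

/-- An involution preserving the polar form preserves some form with that polar form. -/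
theorem exists_invariant (h2 : (2 : F) = 0) (Q : QuadraticForm F V) {g : Module.End F V} (hg : ∀ x, g (g x) = x)
    (hiso : ∀ x y, polar Q (g x) (g y) = polar Q x y) :
    ∃ Q' : QuadraticForm F V, (∀ x y, polar Q' x y = polar Q x y) ∧ ∀ x, Q' (g x) = Q' x := by
  classical
  have hsq : ∀ c : F, ∃ t : F, t * t = c := fun c => Small.QuadBasis.exists_sq h2 c
  choose rt hrt using hsq
  have uniq : ∀ s t : F, s * s = t * t → s = t := fun s t h =>
    sub_eq_zero.mp (mul_self_eq_zero.mp (show (s - t) * (s - t) = 0 by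
      linear_combination h + (t * t - s * t) * h2))
  let H : V → F := fun x => Q (g x) + Q x
  have hH : ∀ x, rt (H x) * rt (H x) = Q (g x) + Q x := fun x => hrt _
  let μ : V →ₗ[F] F :=
    { toFun := fun x => rt (H x)
      map_add' := fun x y => uniq _ _ (by
        have hp := hiso x y
        simp only [polar] at hp
        rw [hH, map_add]
        linear_combination hp - hH x - hH y - rt (H x) * rt (H y) * h2 + (Q (x + y) - Q x - Q y) * h2)
      map_smul' := fun c x => uniq _ _ (by
        simp only [RingHom.id_apply, smul_eq_mul]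
        rw [hH, map_smul, QuadraticMap.map_smul, QuadraticMap.map_smul, smul_eq_mul, smul_eq_mul]
        linear_combination -(c * c) * hH x) }
  let a : V →ₗ[F] V := g + LinearMap.id
  have ha : ∀ x, a x = g x + x := fun x => rfl
  have hker : ∀ x, a x = 0 → μ x = 0 := fun x hx => uniq _ _ (by
    rw [ha, add_eq_zero_iff_eq_neg] at hx
    show rt (H x) * rt (H x) = 0 * 0
    rw [hH, hx, QuadraticMap.map_neg, zero_mul]
    linear_combination Q x * h2)
  obtain ⟨s, hs⟩ := a.rangeRestrict.exists_rightInverse_of_surjective a.range_rangeRestrict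
  obtain ⟨l, hl⟩ := LinearMap.exists_extend (μ.comp s)
  have hla : ∀ x, l (a x) = μ x := fun x => by
    have e1 : l (a x) = μ (s (a.rangeRestrict x)) := LinearMap.congr_fun hl (a.rangeRestrict x)
    have e2 : a (s (a.rangeRestrict x)) = a x :=
      congrArg Subtype.val (LinearMap.congr_fun hs (a.rangeRestrict x))
    rw [e1, ← sub_eq_zero, ← map_sub]
    exact hker _ (by rw [map_sub, e2, sub_self])
  refine ⟨Q + QuadraticMap.linMulLin l l, fun x y => ?_, fun x => ?_⟩
  · simp only [polar, QuadraticMap.add_apply, QuadraticMap.linMulLin_apply, map_add]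
    linear_combination l x * l y * h2
  · simp only [QuadraticMap.add_apply, QuadraticMap.linMulLin_apply]
    have e := hla x
    rw [ha, map_add] at e
    have e' : (l (g x) + l x) * (l (g x) + l x) = Q (g x) + Q x := by rw [e]; exact hH x
    linear_combination e' + (Q (g x) - l x * l x - l (g x) * l x) * h2

/-- An involution fixing a non-singular vector preserves forms of both types. -/
theorem exists_other (h2 : (2 : F) = 0) {Q : QuadraticForm F V} (hQ : PND Q) {m : ℕ} (hm : 1 ≤ m)
    (hV : finrank F V = 2 * m) {g : Module.End F V} (hinv : ∀ x, Q (g x) = Q x) {w : V} (hw : g w = w)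
    (hQw : Q w ≠ 0) :
    ∃ Q' : QuadraticForm F V, (∀ x y, polar Q' x y = polar Q x y) ∧ (∀ x, Q' (g x) = Q' x) ∧
      zeros Q' ≠ zeros Q := by
  classical
  haveI : Finite V := Module.finite_of_finite F
  haveI := Fintype.ofFinite V
  let φ : V →ₗ[F] F := polarBilin Q w
  have hφ : ∀ x, φ x = polar Q w x := fun _ => rfl
  have hφg : ∀ x, φ (g x) = φ x := fun x => by
    have e : polar Q (g w) (g x) = polar Q w x := by
      simp only [polar, ← map_add, hinv]
    rw [hw] at e
    exact e
  have hw0 : w ≠ 0 := fun h => hQw (h ▸ QuadraticMap.map_zero Q)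
  have hφ0 : φ ≠ 0 := fun h => hw0 (hQ w fun y => LinearMap.congr_fun h y)
  have hφw : φ w = 0 := by rw [hφ, polar_self, two_nsmul]; exact add_self' h2 _
  let Qc : F → QuadraticForm F V := fun c => Q + c • QuadraticMap.linMulLin φ φ
  have hQc : ∀ c x, Qc c x = Q x + c * (φ x * φ x) := fun c x => by simp [Qc, QuadraticMap.linMulLin_apply]
  have hpol : ∀ c x y, polar (Qc c) x y = polar Q x y := fun c x y => by
    simp only [polar, hQc, map_add]
    linear_combination c * φ x * φ y * h2
  by_contra hcon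
  push Not at hcon
  have hall : ∀ c, zeros (Qc c) = zeros Q := fun c =>
    hcon (Qc c) (hpol c) fun x => by rw [hQc, hQc, hinv, hφg]
  have hEq : (Σ c : F, {x : V // Qc c x = 0}) ≃ Σ x : V, {c : F // Qc c x = 0} :=
    { toFun := fun s => ⟨s.2.1, s.1, s.2.2⟩
      invFun := fun s => ⟨s.2.1, s.1, s.2.2⟩
      left_inv := fun _ => rfl
      right_inv := fun _ => rfl }
  have hfib : ∀ x : V, Nat.card {c : F // Qc c x = 0} =
      if φ x = 0 then (if Q x = 0 then Fintype.card F else 0) else 1 := by
    intro x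
    split
    · next hx =>
      split
      · next hq => rw [Nat.card_congr (Equiv.subtypeUnivEquiv fun c => by rw [hQc, hq, hx]; ring),
          Nat.card_eq_fintype_card]
      · next hq =>
        refine Nat.card_eq_zero.mpr (Or.inl ⟨fun c => hq ?_⟩)
        have := c.2
        rw [hQc, hx] at this
        simpa using this
    · next hx =>
      refine Nat.card_eq_one_iff_unique.mpr ⟨⟨fun c c' => Subtype.ext ?_⟩, ⟨⟨-Q x / (φ x * φ x), ?_⟩⟩⟩
      · have e := c.2
        have e' := c'.2
        rw [hQc] at e e'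
        exact mul_right_cancel₀ (mul_ne_zero hx hx) (by linear_combination e - e')
      · rw [hQc]; field_simp; ring
  have hA : Nat.card {x : V // φ x = 0 ∧ Q x = 0} * Fintype.card F = Fintype.card F ^ (2 * m - 1) := by
    have hk : finrank F (LinearMap.ker φ) = 2 * m - 1 := by
      have h := LinearMap.finrank_range_add_finrank_ker φ
      rw [LinearMap.range_eq_top.mpr (φ.surjective_of_ne_zero hφ0), finrank_top, finrank_self, hV] at h
      omega
    have hval : ∀ (x : V) (t : F), φ x = 0 → Q (x + t • w) = Q x + t * t * Q w := fun x t hx => by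
      have e : polar Q x (t • w) = 0 := by
        rw [polar_smul_right, polar_comm, ← hφ, hx, smul_zero]
      simp only [polar] at e
      rw [show Q (x + t • w) = Q x + Q (t • w) by linear_combination e, QuadraticMap.map_smul, smul_eq_mul]
    let g₀ : {x : V // φ x = 0 ∧ Q x = 0} × F → LinearMap.ker φ := fun p =>
      ⟨p.1.1 + p.2 • w, by rw [LinearMap.mem_ker, map_add, map_smul, p.1.2.1, hφw, smul_zero, add_zero]⟩
    have hbij : Function.Bijective g₀ := by
      constructor
      · rintro ⟨x, t⟩ ⟨x', t'⟩ h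
        have e : x.1 + t • w = x'.1 + t' • w := congrArg Subtype.val h
        have e2 := congrArg Q e
        rw [hval _ _ x.2.1, hval _ _ x'.2.1, x.2.2, x'.2.2, zero_add, zero_add] at e2
        have ht : t = t' := sub_eq_zero.mp (mul_self_eq_zero.mp (show (t - t') * (t - t') = 0 by
          linear_combination (mul_right_cancel₀ hQw e2) + (t' * t' - t * t') * h2))
        subst ht
        exact Prod.ext (Subtype.ext (add_right_cancel e)) rfl
      · intro y
        obtain ⟨t, ht⟩ := Small.QuadBasis.exists_sq h2 (Q (y : V) / Q w)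
        have hy : φ (y : V) = 0 := y.2
        refine ⟨(⟨y.1 + t • w, ?_, ?_⟩, t), Subtype.ext ?_⟩
        · rw [map_add, map_smul, hy, hφw, smul_zero, add_zero]
        · rw [hval _ _ hy, ht, div_mul_cancel₀ _ hQw]; exact add_self' h2 _
        · show y.1 + t • w + t • w = y.1
          rw [add_assoc, ← add_smul, add_self' h2, zero_smul, add_zero]
    have := Nat.card_congr (Equiv.ofBijective g₀ hbij)
    rwa [Nat.card_prod, Nat.card_eq_fintype_card (α := F), Module.natCard_eq_pow_finrank (K := F) (V := LinearMap.ker φ),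
      hk, Nat.card_eq_fintype_card (α := F)] at this
  have hne0 : Nat.card {x : V // φ x ≠ 0} + Fintype.card F ^ (2 * m - 1) = Fintype.card F ^ (2 * m) := by
    have h1 := card_fibre hφ0 0
    rw [hV] at h1
    rw [← h1, ← Nat.card_sum, Nat.card_congr ((Equiv.sumComm _ _).trans (Equiv.sumCompl _)),
      Module.natCard_eq_pow_finrank (K := F), hV, Nat.card_eq_fintype_card]
  have hcount := Nat.card_congr hEq
  rw [Nat.card_sigma, Nat.card_sigma, Finset.sum_congr rfl fun x _ => hfib x] at hcount
  have hz : ∀ c, Nat.card {x : V // Qc c x = 0} = zeros Q := hall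
  rw [Finset.sum_congr rfl fun c _ => hz c, Finset.sum_const, Finset.card_univ, smul_eq_mul, Finset.sum_ite,
    Finset.sum_ite, Finset.sum_const, Finset.sum_const_zero, add_zero, smul_eq_mul, Finset.sum_const,
    smul_eq_mul, mul_one, Finset.filter_filter] at hcount
  rw [← Fintype.card_subtype, ← Fintype.card_subtype, ← Nat.card_eq_fintype_card (α := {x : V // φ x = 0 ∧ Q x = 0}),
    ← Nat.card_eq_fintype_card (α := {x : V // ¬ φ x = 0})] at hcount
  have hfin : Fintype.card F * zeros Q = Fintype.card F * Fintype.card F ^ (2 * m - 1) := by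
    rw [hcount, ← pow_succ', show 2 * m - 1 + 1 = 2 * m by omega]
    rw [hA]
    simp only [ne_eq] at hne0
    omega
  have hzz := Nat.eq_of_mul_eq_mul_left Fintype.card_pos hfin
  rcases zeros_cases hQ hm hV with h | h <;> rw [h] at hzz
  · exact (ne_middle Fintype.one_lt_card hm).1 hzz
  · exact (ne_middle Fintype.one_lt_card hm).2 hzz

/-- An involution with totally singular fixed space: the dimension is divisible by four and the form hyperbolic. -/
theorem fix_ts (h2 : (2 : F) = 0) {Q : QuadraticForm F V} (hQ : PND Q) {m : ℕ} (hm : 1 ≤ m)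
    (hV : finrank F V = 2 * m) {g : Module.End F V} (hg : ∀ x, g (g x) = x) (hinv : ∀ x, Q (g x) = Q x)
    (hts : ∀ x, g x = x → Q x = 0) : Even m ∧ zeros Q = plusN (Fintype.card F) m := by
  classical
  let a : V →ₗ[F] V := g + LinearMap.id
  have ha : ∀ x, a x = g x + x := fun x => rfl
  have neg_eq : ∀ x : V, -x = x := fun x => by
    rw [neg_eq_iff_add_eq_zero, ← two_smul F, h2, zero_smul]
  have hker : ∀ x, a x = 0 ↔ g x = x := fun x => by rw [ha, add_eq_zero_iff_eq_neg, neg_eq]
  have hle : LinearMap.range a ≤ LinearMap.ker a := by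
    rintro _ ⟨x, rfl⟩
    rw [LinearMap.mem_ker, hker, ha, map_add, hg, add_comm]
  have hU : ∀ x ∈ LinearMap.ker a, Q x = 0 := fun x hx => hts x ((hker x).mp hx)
  have hd1 : finrank F (LinearMap.ker a) ≤ m := by
    have := Witt.finrank_le_half Q (nondeg hQ) hU
    omega
  have hd2 := LinearMap.finrank_range_add_finrank_ker a
  have hd3 := Submodule.finrank_mono hle
  rw [hV] at hd2
  have hd : finrank F (LinearMap.ker a) = m := by omega
  have heq : LinearMap.range a = LinearMap.ker a := Submodule.eq_of_le_of_finrank_eq hle (by omega)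
  refine ⟨?_, zeros_of_ts hQ hm hV hU hd⟩
  obtain ⟨C, hC⟩ := (LinearMap.ker a).exists_isCompl
  have hdC : finrank F C = m := by have := Submodule.finrank_add_eq_of_isCompl hC; omega
  let β : C →ₗ[F] C →ₗ[F] F := (polarBilin Q).compl₁₂ C.subtype (a.comp C.subtype)
  have hβ : ∀ x y : C, β x y = polar Q (x : V) (a (y : V)) := fun _ _ => rfl
  have hβND : SpCount.IsAltND β := by
    refine ⟨fun x => ?_, fun x hx => ?_⟩
    · have e1 : Q (a (x : V)) = 0 := hU _ (hle ⟨_, rfl⟩)
      have e2 : (x : V) + a (x : V) = g (x : V) := by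
        rw [ha, add_left_comm, ← two_smul F (x : V), h2, zero_smul, add_zero]
      rw [hβ, polar, e2, hinv, e1]
      ring
    · have hmem : (x : V) ∈ LinearMap.ker a := mem_of_perp hQ hV hU hd fun y hy => by
        rw [← heq] at hy
        obtain ⟨z, rfl⟩ := hy
        obtain ⟨z₁, hz₁, z₂, hz₂, rfl⟩ :=
          Submodule.mem_sup.mp (hC.sup_eq_top.symm ▸ Submodule.mem_top : z ∈ LinearMap.ker a ⊔ C)
        rw [map_add, LinearMap.mem_ker.mp hz₁, zero_add, ← hβ x ⟨z₂, hz₂⟩]
        exact hx _
      have : (x : V) ∈ LinearMap.ker a ⊓ C := ⟨hmem, x.2⟩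
      rw [hC.inf_eq_bot, Submodule.mem_bot] at this
      exact Subtype.ext this
  rw [← hdC]
  exact Lead.SympDerangement.even_finrank _ hβND le_rfl

end Cfsg.Agent.Classical.CharTwoQuad
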