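import Mathlib
import Cfsg.Prelude.Def_GeometricClasses
import Cfsg.Agent.Lib.Classical.Elusive.CharTwoQuad
import Cfsg.Agent.Lib.Classical.OrthIndex

/-!
# Explicit isometries of orthogonal spaces in characteristic two

Isometries of prime order without fixed vectors in both types, the involution with totally singular fixed
space of the hyperbolic space, and the counts of non-singular points and of forms.
-/

set_option autoImplicit false
set_option linter.unusedSectionVars false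

universe u

namespace Cfsg.Agent.Classical.CharTwoQuad

open Module QuadraticMap Matrix Cfsg Cfsg.Agent.Classical Cfsg.Agent.Classical.OOmega Cfsg.Agent.Classical.OCount

variable {F : Type u} [Field F] [Fintype F]

theorem prime_not_dvd_card (h2 : (2 : F) = 0) {r : ℕ} (hr : r.Prime) (hr2 : r ≠ 2) : ¬ r ∣ Fintype.card F := by
  haveI : CharP F 2 := CharTwo.of_one_ne_zero_of_two_eq_zero one_ne_zero h2
  obtain ⟨n, -, hn⟩ := FiniteField.card F 2
  intro h
  rw [hn] at h
  exact hr2 ((Nat.prime_dvd_prime_iff_eq hr Nat.prime_two).mp (hr.dvd_of_dvd_pow h))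

/-- Multiplication by a field element as a matrix without fixed vectors. -/
theorem exists_fixfree_matrix {d r : ℕ} (hd : 1 ≤ d) (hr : r.Prime) (h : r ∣ Fintype.card F ^ d - 1) :
    ∃ A : Matrix (Fin d) (Fin d) F, A ^ r = 1 ∧ ∀ v, A *ᵥ v = v → v = 0 := by
  obtain ⟨p, hp⟩ := CharP.exists F
  haveI := hp
  haveI : Fact p.Prime := ⟨CharP.char_is_prime F p⟩
  haveI : NeZero d := ⟨by omega⟩
  haveI : Fact r.Prime := ⟨hr⟩
  let K := FiniteField.Extension F p d
  have hK : Module.finrank F K = d := FiniteField.finrank_extension F p d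
  haveI : Module.Finite F K := Module.finite_of_finrank_eq_succ (n := d - 1) (by omega)
  haveI : Finite K := Module.finite_of_finite F
  let b : Module.Basis (Fin d) F K := Module.finBasisOfFinrankEq F K hK
  have hdvd : r ∣ Nat.card Kˣ := by
    rwa [Nat.card_units, Module.natCard_eq_pow_finrank (K := F) (V := K), hK, Nat.card_eq_fintype_card]
  obtain ⟨ζ, hζ⟩ := exists_prime_orderOf_dvd_card' r hdvd
  refine ⟨Algebra.leftMulMatrix b (ζ : K), ?_, fun v hv => ?_⟩
  · rw [← map_pow, ← Units.val_pow_eq_pow_val, ← hζ, pow_orderOf_eq_one, Units.val_one, map_one]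
  · obtain ⟨y, rfl⟩ := b.equivFun.surjective v
    rw [Basis.equivFun_apply, Algebra.leftMulMatrix_mulVec_repr] at hv
    have h1 : (ζ : K) * y = y := b.repr.injective (DFunLike.coe_injective (by simpa using hv))
    by_cases hy : y = 0
    · rw [hy, map_zero]
    · exfalso
      have h2 : (ζ : K) = 1 := mul_right_cancel₀ hy (by rw [h1, one_mul])
      rw [Units.val_eq_one] at h2
      rw [h2, orderOf_one] at hζ
      exact hr.one_lt.ne hζ

/-- Multiplication in the field of degree `2d`: an isometry of prime order dividing `q ^ d + 1` without fixed vectors. -/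
theorem exists_fixfree_isom (h2 : (2 : F) = 0) {V : Type u} [AddCommGroup V] [Module F V] [FiniteDimensional F V]
    {B : V →ₗ[F] V →ₗ[F] F} (hB : SpCount.IsAltND B) {d r : ℕ} (hd : 1 ≤ d) (hV : finrank F V = 2 * d)
    (hr : r.Prime) (h : r ∣ Fintype.card F ^ d + 1) :
    ∃ g : Module.End F V, g ^ r = 1 ∧ (∀ x, g x = x → x = 0) ∧ ∀ x y, B (g x) (g y) = B x y := by
  obtain ⟨p, hp⟩ := CharP.exists F
  haveI := hp
  haveI : Fact p.Prime := ⟨CharP.char_is_prime F p⟩
  haveI : NeZero (2 * d) := ⟨by omega⟩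
  haveI : Fact r.Prime := ⟨hr⟩
  let K := FiniteField.Extension F p (2 * d)
  have hK : Module.finrank F K = 2 * d := FiniteField.finrank_extension F p (2 * d)
  haveI : Module.Finite F K := Module.finite_of_finrank_eq_succ (n := 2 * d - 1) (by omega)
  haveI : Finite K := Module.finite_of_finite F
  haveI := Fintype.ofFinite K
  set q := Fintype.card F with hq
  haveI : CharP F 2 := CharTwo.of_one_ne_zero_of_two_eq_zero one_ne_zero h2
  haveI : CharP K 2 := charP_of_injective_algebraMap (algebraMap F K).injective 2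
  have hcard : Nat.card K = q ^ (2 * d) := by
    rw [Module.natCard_eq_pow_finrank (K := F) (V := K), hK, Nat.card_eq_fintype_card]
  obtain ⟨n, -, hn⟩ := FiniteField.card F 2
  have hqn : q = 2 ^ (n : ℕ) := hn
  have hadd : ∀ (i : ℕ) (x y : K), (x + y) ^ (q ^ i) = x ^ (q ^ i) + y ^ (q ^ i) := fun i x y => by
    rw [hqn, ← pow_mul, add_pow_char_pow]
  have hfix : ∀ (i : ℕ) (c : F), (algebraMap F K c) ^ (q ^ i) = algebraMap F K c := fun i c => by
    rw [← map_pow, FiniteField.pow_card_pow]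
  have hinv : ∀ x : K, (x ^ (q ^ d)) ^ (q ^ d) = x := fun x => by
    rw [← pow_mul, ← pow_add, ← two_mul, ← hcard, Nat.card_eq_fintype_card, FiniteField.pow_card]
  let σ : K →ₗ[F] K :=
    { toFun := fun x => x ^ (q ^ d)
      map_add' := hadd d
      map_smul' := fun c x => by
        simp only [Algebra.smul_def, mul_pow, hfix, RingHom.id_apply] }
  let B₀ : K →ₗ[F] K →ₗ[F] F := (LinearMap.mul F K).compr₂ (Algebra.trace F K) |>.compl₂ σ
  have hB₀ : ∀ x y, B₀ x y = Algebra.trace F K (x * y ^ (q ^ d)) := fun _ _ => rfl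
  have hB₀ND : SpCount.IsAltND B₀ := by
    refine ⟨fun x => (algebraMap F K).injective ?_, fun x hx => ?_⟩
    · have e2d : Finset.range (finrank F K) = Finset.range (d + d) := by
        rw [← two_mul]; exact congrArg Finset.range hK
      rw [hB₀, map_zero, FiniteField.algebraMap_trace_eq_sum_pow, e2d, Finset.sum_range_add,
        Nat.card_eq_fintype_card]
      have hw : (x * x ^ (q ^ d)) ^ (q ^ d) = x * x ^ (q ^ d) := by rw [mul_pow, hinv, mul_comm]
      have hshift : ∀ i, (x * x ^ (q ^ d)) ^ (q ^ (d + i)) = (x * x ^ (q ^ d)) ^ (q ^ i) := fun i => by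
        rw [pow_add q d i, pow_mul, hw]
      rw [← hq]
      simp only [hshift]
      exact CharTwo.add_self_eq_zero _
    · refine (traceForm_nondegenerate F K).1 x fun y => ?_
      have := hx (y ^ (q ^ d))
      rw [hB₀, hinv] at this
      exact this
  have hd1 : r ∣ Nat.card Kˣ := by
    rw [Nat.card_units, hcard, pow_mul', ← one_pow 2, Nat.sq_sub_sq]
    exact h.mul_right _
  obtain ⟨ζ, hζ⟩ := exists_prime_orderOf_dvd_card' r hd1
  have hζ1 : (ζ : K) * (ζ : K) ^ (q ^ d) = 1 := by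
    rw [← pow_succ', ← Units.val_pow_eq_pow_val]
    obtain ⟨c, hc⟩ := h
    rw [hc, pow_mul, ← hζ, pow_orderOf_eq_one, one_pow, Units.val_one]
  obtain ⟨fK⟩ := SpCount.exists_fam d hB₀ND hK
  obtain ⟨fV⟩ := SpCount.exists_fam d hB hV
  let φ : K ≃ₗ[F] V := (SpCount.famBasis hB₀ND hK fK).equiv (SpCount.famBasis hB hV fV) (Equiv.refl _)
  have hφ : ∀ x y, B (φ x) (φ y) = B₀ x y := by
    have e : B.compl₁₂ φ.toLinearMap φ.toLinearMap = B₀ := by
      refine LinearMap.ext_basis (SpCount.famBasis hB₀ND hK fK) (SpCount.famBasis hB₀ND hK fK) fun i j => ?_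
      simp only [LinearMap.compl₁₂_apply, LinearEquiv.coe_coe, φ, Basis.equiv_apply, Equiv.refl_apply]
      simp only [SpCount.famBasis, Basis.mk_apply]
      rw [fV.2, fK.2]
    exact fun x y => LinearMap.congr_fun (LinearMap.congr_fun e x) y
  let g₀ : Module.End F K := LinearMap.mulLeft F (ζ : K)
  let g : Module.End F V := φ.conj g₀
  have hg : ∀ x, g x = φ ((ζ : K) * φ.symm x) := fun _ => rfl
  refine ⟨g, ?_, fun x hx => ?_, fun x y => ?_⟩
  · have hit : ∀ (n : ℕ) x, (g ^ n) x = φ ((ζ : K) ^ n * φ.symm x) := by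
      intro n
      induction n with
      | zero => intro x; simp
      | succ n ih => intro x; rw [pow_succ', Module.End.mul_apply, ih, hg, φ.symm_apply_apply, pow_succ', mul_assoc]
    refine LinearMap.ext fun x => ?_
    rw [hit, ← Units.val_pow_eq_pow_val, ← hζ, pow_orderOf_eq_one, Units.val_one, one_mul, φ.apply_symm_apply]
    rfl
  · rw [hg, ← LinearEquiv.eq_symm_apply] at hx
    by_contra hx0
    have h0 : φ.symm x ≠ 0 := fun e => hx0 (φ.symm.map_eq_zero_iff.mp e)
    have h1 : (ζ : K) = 1 := mul_right_cancel₀ h0 (by rw [hx, one_mul])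
    rw [Units.val_eq_one] at h1
    rw [h1, orderOf_one] at hζ
    exact hr.one_lt.ne hζ
  · rw [hg, hg, hφ, ← φ.apply_symm_apply x, ← φ.apply_symm_apply y, hφ, φ.symm_apply_apply, φ.symm_apply_apply,
      hB₀, hB₀]
    congr 1
    rw [mul_pow]
    linear_combination (φ.symm x * φ.symm y ^ (q ^ d)) * hζ1

section Coordinates

variable {ι : Type} [Fintype ι] [DecidableEq ι]

/-- The group element of an endomorphism of finite order. -/
noncomputable def glOf (g : Module.End F (ι → F)) (r : ℕ) (hr : r ≠ 0) (hg : g ^ r = 1) : GL ι F :=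
  Units.ofPowEqOne (LinearMap.toMatrixAlgEquiv' g) r (by rw [← map_pow, hg, map_one]) hr

theorem glOf_mulVec {g : Module.End F (ι → F)} {r : ℕ} (hr : r ≠ 0) (hg : g ^ r = 1) (v : ι → F) :
    (glOf g r hr hg : Matrix ι ι F) *ᵥ v = g v :=
  LinearMap.toMatrix'_mulVec g v

theorem glOf_pow {g : Module.End F (ι → F)} {r : ℕ} (hr : r ≠ 0) (hg : g ^ r = 1) : glOf g r hr hg ^ r = 1 :=
  Units.ext (by
    rw [Units.val_pow_eq_pow_val, Units.val_one]
    show LinearMap.toMatrixAlgEquiv' g ^ r = 1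
    rw [← map_pow, hg, map_one])

omit [Fintype F] in
theorem mem_isometry {Q : (ι → F) → F} {x : GL ι F} :
    x ∈ Cfsg.isometryGroup F Q ↔ ∀ v, Q ((x : Matrix ι ι F) *ᵥ v) = Q v :=
  ⟨fun h v => h v v, fun h u _ => h u⟩

omit [Fintype F] in
theorem pow_endo {x : GL ι F} {n : ℕ} (h : x ^ n = 1) :
    (Matrix.mulVecLin (x : Matrix ι ι F)) ^ n = (1 : Module.End F (ι → F)) := by
  have : Matrix.toLinAlgEquiv' ((x : Matrix ι ι F) ^ n) = (1 : Module.End F (ι → F)) := by
    rw [← Units.val_pow_eq_pow_val, h, Units.val_one, map_one]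
  rw [map_pow] at this
  exact this

/-- Elements of odd order of the orthogonal group lie in `Ω`. -/
theorem mem_omegaGL_of_odd [CharP F 2] {Q : QuadraticForm F (ι → F)} (hQ : PND Q) (hn : 5 ≤ Fintype.card ι)
    {x : GL ι F} (hx : x ∈ Cfsg.isometryGroup F ⇑Q) {r : ℕ} (hr : Odd r) (hxr : x ^ r = 1) :
    x ∈ Cfsg.Geo.omegaGL ⇑Q := by
  have hidx : (Cfsg.Omega F ⇑Q).index = 2 := index_omega_two hQ (by omega) (Or.inr (by omega))
  refine ⟨⟨x, hx⟩, ?_, rfl⟩
  obtain ⟨j, rfl⟩ := hr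
  have e : (⟨x, hx⟩ : ↥(Cfsg.isometryGroup F ⇑Q)) = (⟨x, hx⟩ : ↥(Cfsg.isometryGroup F ⇑Q)) ^ (j + 1) *
      (⟨x, hx⟩ : ↥(Cfsg.isometryGroup F ⇑Q)) ^ (j + 1) := Subtype.ext (by
    show x = x ^ (j + 1) * x ^ (j + 1)
    rw [← pow_add, show j + 1 + (j + 1) = 2 * j + 1 + 1 by omega, pow_succ, hxr, one_mul])
  rw [e]
  exact Subgroup.mul_self_mem_of_index_two hidx _

/-- The fixed non-singular points of an isometry. -/
theorem exists_point_iff {Q : QuadraticForm F (ι → F)} (h2 : (2 : F) = 0) {x : GL ι F}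
    (hx : ∀ v, Q ((x : Matrix ι ι F) *ᵥ v) = Q v) :
    (∃ W : Submodule F (ι → F), (Module.finrank F ↥W = 1 ∧ ∃ v ∈ W, Q v ≠ 0) ∧
      W.map (Matrix.toLin' (x : Matrix ι ι F)) ≤ W) ↔ ∃ v, (x : Matrix ι ι F) *ᵥ v = v ∧ Q v ≠ 0 := by
  constructor
  · rintro ⟨W, ⟨hd, v, hv, hQv⟩, hW⟩
    have hv0 : v ≠ 0 := fun h => hQv (h ▸ QuadraticMap.map_zero Q)
    have he : W = Submodule.span F {v} := (Submodule.eq_of_le_of_finrank_eq
      ((Submodule.span_singleton_le_iff_mem _ _).mpr hv) (by rw [hd, finrank_span_singleton hv0])).symm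
    have := hW ⟨v, hv, rfl⟩
    rw [he, Submodule.mem_span_singleton, Matrix.toLin'_apply] at this
    obtain ⟨c, hc⟩ := this
    have e := hx v
    rw [← hc, QuadraticMap.map_smul, smul_eq_mul] at e
    have hc1 : c = 1 := sub_eq_zero.mp (mul_self_eq_zero.mp
      ((mul_eq_zero.mp (show (c - 1) * (c - 1) * Q v = 0 by linear_combination e + (1 - c) * Q v * h2)).resolve_right hQv))
    exact ⟨v, by rw [← hc, hc1, one_smul], hQv⟩
  · rintro ⟨v, hv, hQv⟩
    have hv0 : v ≠ 0 := fun h => hQv (h ▸ QuadraticMap.map_zero Q)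
    refine ⟨Submodule.span F {v}, ⟨finrank_span_singleton hv0, v, Submodule.mem_span_singleton_self v, hQv⟩, ?_⟩
    rw [Submodule.map_span, Set.image_singleton, Matrix.toLin'_apply, hv]

omit [Fintype F] in
/-- A scalar isometry is the identity. -/
theorem scalar_eq_one {Q : QuadraticForm F (ι → F)} (h2 : (2 : F) = 0) (hne : ∃ v, Q v ≠ 0) {x : GL ι F}
    (hx : ∀ v, Q ((x : Matrix ι ι F) *ᵥ v) = Q v) {z : F} (hz : (x : Matrix ι ι F) = z • 1) : x = 1 := by
  obtain ⟨v, hv⟩ := hne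
  have e := hx v
  rw [hz, Matrix.smul_mulVec, Matrix.one_mulVec, QuadraticMap.map_smul, smul_eq_mul] at e
  have hz1 : z = 1 := sub_eq_zero.mp (mul_self_eq_zero.mp
    ((mul_eq_zero.mp (show (z - 1) * (z - 1) * Q v = 0 by linear_combination e + (1 - z) * Q v * h2)).resolve_right hv))
  refine Units.ext ?_
  rw [hz, hz1, one_smul, Units.val_one]

omit [Fintype F] in
/-- A power that is scalar is trivial. -/
theorem pow_eq_one_of_scalar {Q : QuadraticForm F (ι → F)} (h2 : (2 : F) = 0) (hne : ∃ v, Q v ≠ 0) {x : GL ι F}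
    (hx : x ∈ Cfsg.isometryGroup F ⇑Q) {r : ℕ} (h : ∃ z : F, ((x ^ r : GL ι F) : Matrix ι ι F) = z • 1) :
    x ^ r = 1 := by
  obtain ⟨z, hz⟩ := h
  exact scalar_eq_one h2 hne (mem_isometry.mp (Subgroup.pow_mem _ hx r)) hz

theorem exists_nonzero_value {Q : QuadraticForm F (ι → F)} (hQ : PND Q) (hn : 1 ≤ Fintype.card ι) :
    ∃ v, Q v ≠ 0 := by
  by_contra hc
  push Not at hc
  haveI : Nonempty ι := Fintype.card_pos_iff.mp hn
  obtain ⟨v, hv⟩ := exists_ne (0 : ι → F)
  exact hv (hQ v fun w => by rw [polar, hc, hc, hc]; ring)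

/-- The number of non-singular points. -/
theorem card_points {Q : QuadraticForm F (ι → F)} :
    (Fintype.card F - 1) *
        Nat.card {W : Submodule F (ι → F) // Module.finrank F ↥W = 1 ∧ ∃ v ∈ W, Q v ≠ 0} + zeros Q =
      Fintype.card F ^ Fintype.card ι := by
  classical
  let P := {W : Submodule F (ι → F) // Module.finrank F ↥W = 1 ∧ ∃ v ∈ W, Q v ≠ 0}
  haveI : Finite (Submodule F (ι → F)) := Finite.of_injective _ SetLike.coe_injective
  haveI := Fintype.ofFinite P
  have hspan : ∀ (W : P) (v : ι → F), v ∈ W.1 → v ≠ 0 → Q v ≠ 0 := by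
    rintro ⟨W, hd, w, hw, hQw⟩ v hv hv0
    have he : W = Submodule.span F {w} := (Submodule.eq_of_le_of_finrank_eq
      ((Submodule.span_singleton_le_iff_mem _ _).mpr hw)
      (by rw [hd, finrank_span_singleton (fun h : w = 0 => hQw (by rw [h, QuadraticMap.map_zero]))])).symm
    obtain ⟨c, rfl⟩ := Submodule.mem_span_singleton.mp (show v ∈ Submodule.span F {w} by rw [← he]; exact hv)
    rw [QuadraticMap.map_smul, smul_eq_mul]
    exact mul_ne_zero (mul_self_ne_zero.mpr fun h => hv0 (by rw [h, zero_smul])) hQw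
  have hfib : ∀ W : P, Nat.card {v : W.1 // v ≠ 0} = Fintype.card F - 1 := by
    intro W
    haveI := Fintype.ofFinite W.1
    rw [Nat.card_eq_fintype_card, Fintype.card_subtype_compl, Fintype.card_subtype_eq,
      ← Nat.card_eq_fintype_card, Module.natCard_eq_pow_finrank (K := F), W.2.1, pow_one, Nat.card_eq_fintype_card]
  let e : {v : ι → F // Q v ≠ 0} ≃ Σ W : P, {v : W.1 // v ≠ 0} :=
    { toFun := fun v => ⟨⟨Submodule.span F {v.1}, finrank_span_singleton fun h => v.2 (h ▸ QuadraticMap.map_zero Q),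
          v.1, Submodule.mem_span_singleton_self _, v.2⟩,
        ⟨v.1, Submodule.mem_span_singleton_self _⟩, fun h => v.2 (by
          rw [show v.1 = 0 from congrArg Subtype.val h, QuadraticMap.map_zero])⟩
      invFun := fun s => ⟨s.2.1.1, hspan s.1 _ s.2.1.2 fun h => s.2.2 (Subtype.ext h)⟩
      left_inv := fun v => rfl
      right_inv := fun s => by
        obtain ⟨⟨W, hd, w, hw, hQw⟩, ⟨v, hv⟩, hv0⟩ := s
        have he : Submodule.span F {v} = W := Submodule.eq_of_le_of_finrank_eq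
          ((Submodule.span_singleton_le_iff_mem _ _).mpr hv)
          (by rw [hd, finrank_span_singleton fun h => hv0 (Subtype.ext h)])
        subst he
        rfl }
  have h1 : Nat.card {v : ι → F // Q v ≠ 0} = (Fintype.card F - 1) * Nat.card P := by
    rw [Nat.card_congr e, Nat.card_sigma, Finset.sum_congr rfl fun W _ => hfib W, Finset.sum_const,
      Finset.card_univ, smul_eq_mul, ← Nat.card_eq_fintype_card (α := P), mul_comm]
  rw [← h1, zeros, ← Nat.card_sum, Nat.card_congr ((Equiv.sumComm _ _).trans (Equiv.sumCompl _)),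
    Nat.card_eq_fintype_card, Fintype.card_fun]

end Coordinates

/-! ### The hyperbolic space -/

section Plus

variable {d : ℕ}

/-- The hyperbolic form. -/
noncomputable def plusForm (d : ℕ) (F : Type u) [Field F] : QuadraticForm F (Fin d ⊕ Fin d → F) :=
  formOf d (Equiv.sumEmpty (Fin d ⊕ Fin d) Empty).symm (0 : QuadraticForm F (Empty → F))

omit [Fintype F] in
theorem coe_plusForm : ⇑(plusForm d F) = Cfsg.quadFormPlus d F := coe_plus d

theorem plusForm_pnd : PND (plusForm d F) := formOf_pnd pnd_empty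

theorem zeros_plusForm : zeros (plusForm d F) = plusN (Fintype.card F) d := by
  rw [zeros, coe_plusForm, card_plus_zeros]

omit [Fintype F] in
theorem plus_apply (v : Fin d ⊕ Fin d → F) :
    Cfsg.quadFormPlus d F v = (fun i => v (.inl i)) ⬝ᵥ fun i => v (.inr i) := rfl

omit [Fintype F] in
theorem polar_plusForm (h2 : (2 : F) = 0) (u v : Fin d ⊕ Fin d → F) :
    polar (plusForm d F) u v = Cfsg.sympForm d F u v := by
  simp [polar, coe_plusForm, Cfsg.quadFormPlus, Cfsg.sympForm, Matrix.J, dotProduct, Fintype.sum_sum_type,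
    Matrix.fromBlocks_mulVec, Matrix.neg_mulVec, Function.comp_def, Finset.sum_neg_distrib]
  rw [← Finset.sum_sub_distrib, ← Finset.sum_sub_distrib, neg_add_eq_sub, ← Finset.sum_sub_distrib]
  refine Finset.sum_congr rfl fun i _ => ?_
  linear_combination (u (.inl i) * v (.inr i)) * h2

omit [Fintype F] in
theorem mulVec_blocks (A B C D : Matrix (Fin d) (Fin d) F) (v : Fin d ⊕ Fin d → F) :
    Cfsg.quadFormPlus d F (Matrix.fromBlocks A B C D *ᵥ v) =
      (A *ᵥ (fun i => v (.inl i)) + B *ᵥ fun i => v (.inr i)) ⬝ᵥ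
        (C *ᵥ (fun i => v (.inl i)) + D *ᵥ fun i => v (.inr i)) := by
  rw [Matrix.fromBlocks_mulVec]
  rfl

/-- The Levi element of an invertible block. -/
def levi (A : GL (Fin d) F) : GL (Fin d ⊕ Fin d) F where
  val := Matrix.fromBlocks (A : Matrix (Fin d) (Fin d) F) 0 0 ((A⁻¹ : GL (Fin d) F) : Matrix (Fin d) (Fin d) F)ᵀ
  inv := Matrix.fromBlocks ((A⁻¹ : GL (Fin d) F) : Matrix (Fin d) (Fin d) F) 0 0 (A : Matrix (Fin d) (Fin d) F)ᵀ
  val_inv := by
    simp [Matrix.fromBlocks_multiply, ← Matrix.transpose_mul, ← Units.val_mul]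
  inv_val := by
    simp [Matrix.fromBlocks_multiply, ← Matrix.transpose_mul, ← Units.val_mul]

omit [Fintype F] in
theorem levi_mem (A : GL (Fin d) F) : levi A ∈ Cfsg.isometryGroup F (Cfsg.quadFormPlus d F) := by
  refine mem_isometry.mpr fun v => ?_
  show Cfsg.quadFormPlus d F (Matrix.fromBlocks _ 0 0 _ *ᵥ v) = _
  rw [mulVec_blocks, Matrix.zero_mulVec, Matrix.zero_mulVec, add_zero, zero_add, plus_apply,
    Matrix.dotProduct_mulVec, Matrix.vecMul_transpose, Matrix.mulVec_mulVec, ← Units.val_mul, inv_mul_cancel,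
    Units.val_one, Matrix.one_mulVec]

/-- The unipotent element of an alternating block. -/
def unip (h2 : (2 : F) = 0) (U : Matrix (Fin d) (Fin d) F) : GL (Fin d ⊕ Fin d) F where
  val := Matrix.fromBlocks 1 (U + Uᵀ) 0 1
  inv := Matrix.fromBlocks 1 (U + Uᵀ) 0 1
  val_inv := by
    rw [Matrix.fromBlocks_multiply]
    have : (U + Uᵀ) + (U + Uᵀ) = 0 := by
      rw [← two_smul F (U + Uᵀ), h2, zero_smul]
    simp [this, Matrix.fromBlocks_one]
  inv_val := by
    rw [Matrix.fromBlocks_multiply]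
    have : (U + Uᵀ) + (U + Uᵀ) = 0 := by
      rw [← two_smul F (U + Uᵀ), h2, zero_smul]
    simp [this, Matrix.fromBlocks_one]

omit [Fintype F] in
theorem unip_mem (h2 : (2 : F) = 0) (U : Matrix (Fin d) (Fin d) F) :
    unip h2 U ∈ Cfsg.isometryGroup F (Cfsg.quadFormPlus d F) := by
  refine mem_isometry.mpr fun v => ?_
  show Cfsg.quadFormPlus d F (Matrix.fromBlocks 1 (U + Uᵀ) 0 1 *ᵥ v) = _
  rw [mulVec_blocks, Matrix.zero_mulVec, Matrix.one_mulVec, Matrix.one_mulVec, zero_add, plus_apply,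
    add_dotProduct, Matrix.add_mulVec, add_dotProduct]
  set y := fun i => v (Sum.inr i)
  have : Uᵀ *ᵥ y ⬝ᵥ y = U *ᵥ y ⬝ᵥ y := by
    rw [Matrix.mulVec_transpose, ← Matrix.dotProduct_mulVec, dotProduct_comm]
  rw [this]
  linear_combination (U *ᵥ y ⬝ᵥ y) * h2

/-- An isometry of prime order dividing `q ^ d - 1` without fixed vectors. -/
theorem exists_fixfree_plus (hd : 1 ≤ d) {r : ℕ} (hr : r.Prime) (h : r ∣ Fintype.card F ^ d - 1) :
    ∃ x : GL (Fin d ⊕ Fin d) F, x ∈ Cfsg.isometryGroup F (Cfsg.quadFormPlus d F) ∧ x ^ r = 1 ∧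
      ∀ v, (x : Matrix (Fin d ⊕ Fin d) (Fin d ⊕ Fin d) F) *ᵥ v = v → v = 0 := by
  obtain ⟨A, hA, hfix⟩ := exists_fixfree_matrix hd hr h
  let a : GL (Fin d) F := Units.ofPowEqOne A r hA hr.ne_zero
  have ha : a ^ r = 1 := Units.ext (by rw [Units.val_pow_eq_pow_val, Units.val_one]; exact hA)
  refine ⟨levi a, levi_mem a, ?_, fun v hv => ?_⟩
  · have hmul : ∀ b c : GL (Fin d) F, levi (b * c) = levi b * levi c := fun b c => Units.ext (by
      simp [levi, Matrix.fromBlocks_multiply, Matrix.transpose_mul, _root_.mul_inv_rev])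
    have hone : levi (1 : GL (Fin d) F) = 1 := Units.ext (by simp [levi, Matrix.fromBlocks_one])
    let L : GL (Fin d) F →* GL (Fin d ⊕ Fin d) F :=
      { toFun := levi, map_one' := hone, map_mul' := hmul }
    show L a ^ r = 1
    rw [← map_pow, ha, map_one]
  · change Matrix.fromBlocks (a : Matrix (Fin d) (Fin d) F) 0 0
      ((a⁻¹ : GL (Fin d) F) : Matrix (Fin d) (Fin d) F)ᵀ *ᵥ v = v at hv
    rw [Matrix.fromBlocks_mulVec, Matrix.zero_mulVec, Matrix.zero_mulVec, add_zero, zero_add] at hv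
    have e1 : (fun i => v (.inl i)) = 0 := hfix _ (funext fun i => congrFun hv (.inl i))
    have e2 : ((a⁻¹ : GL (Fin d) F) : Matrix (Fin d) (Fin d) F)ᵀ *ᵥ (fun i => v (.inr i)) = fun i => v (.inr i) :=
      funext fun i => congrFun hv (.inr i)
    set y := fun i => v (Sum.inr i) with hy
    have e3 : (a : Matrix (Fin d) (Fin d) F)ᵀ *ᵥ y = y := by
      conv_lhs => rw [← e2]
      rw [Matrix.mulVec_mulVec, ← Matrix.transpose_mul, ← Units.val_mul, inv_mul_cancel, Units.val_one,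
        Matrix.transpose_one, Matrix.one_mulVec]
    have e4 : y = 0 := by
      by_contra h0
      have hdet : ((a : Matrix (Fin d) (Fin d) F) - 1)ᵀ.det = 0 := by
        refine Matrix.exists_mulVec_eq_zero_iff.mp ⟨y, h0, ?_⟩
        rw [Matrix.transpose_sub, Matrix.transpose_one, Matrix.sub_mulVec, e3, Matrix.one_mulVec, sub_self]
      rw [Matrix.det_transpose] at hdet
      obtain ⟨w, hw0, hw⟩ := Matrix.exists_mulVec_eq_zero_iff.mpr hdet
      rw [Matrix.sub_mulVec, Matrix.one_mulVec, sub_eq_zero] at hw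
      exact hw0 (hfix w hw)
    funext i
    rcases i with i | i
    · exact congrFun e1 i
    · exact congrFun e4 i

/-- The standard alternating block in dimension `k + k`. -/
def altBlock (F : Type u) [Field F] (k : ℕ) (R : Matrix (Fin k) (Fin k) F) :
    Matrix (Fin (k + k)) (Fin (k + k)) F :=
  Matrix.reindexAlgEquiv F F finSumFinEquiv (Matrix.fromBlocks 0 R 0 0)

/-- The involution with totally singular fixed space. -/
theorem exists_ts_involution (h2 : (2 : F) = 0) {k : ℕ} (hk : 1 ≤ k) :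
    ∃ x : GL (Fin (k + k) ⊕ Fin (k + k)) F, x ∈ Cfsg.isometryGroup F (Cfsg.quadFormPlus (k + k) F) ∧
      x ^ 2 = 1 ∧ x ≠ 1 ∧ (∀ v, (x : Matrix (Fin (k + k) ⊕ Fin (k + k)) _ F) *ᵥ v = v →
        Cfsg.quadFormPlus (k + k) F v = 0) ∧ (2 ≤ k → x ∈ Cfsg.Geo.omegaGL (Cfsg.quadFormPlus (k + k) F)) := by
  set W := altBlock F k 1 with hW
  have hsq : (W + Wᵀ) * (W + Wᵀ) = 1 := by
    rw [hW, altBlock]
    rw [show (Matrix.reindexAlgEquiv F F (finSumFinEquiv (m := k) (n := k)) (Matrix.fromBlocks 0 1 0 0))ᵀ =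
      Matrix.reindexAlgEquiv F F finSumFinEquiv (Matrix.fromBlocks 0 (1 : Matrix (Fin k) (Fin k) F) 0 0)ᵀ from rfl,
      ← map_add, ← map_mul, Matrix.fromBlocks_transpose, Matrix.fromBlocks_add, Matrix.fromBlocks_multiply]
    simp [Matrix.fromBlocks_one]
  have hy : ∀ v : Fin (k + k) ⊕ Fin (k + k) → F,
      (unip h2 W : Matrix (Fin (k + k) ⊕ Fin (k + k)) _ F) *ᵥ v = v → (fun i => v (.inr i)) = 0 := by
    intro v hv
    change Matrix.fromBlocks 1 (W + Wᵀ) 0 1 *ᵥ v = v at hv
    rw [Matrix.fromBlocks_mulVec] at hv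
    have e : (W + Wᵀ) *ᵥ (fun i => v (.inr i)) = 0 := funext fun i => by
      have := congrFun hv (.inl i)
      simpa [Function.comp_def] using this
    calc (fun i => v (.inr i)) = ((W + Wᵀ) * (W + Wᵀ)) *ᵥ (fun i => v (.inr i)) := by rw [hsq, Matrix.one_mulVec]
      _ = 0 := by rw [← Matrix.mulVec_mulVec, e, Matrix.mulVec_zero]
  refine ⟨unip h2 W, unip_mem h2 W, ?_, ?_, fun v hv => ?_, fun hk2 => ?_⟩
  · rw [pow_two]
    exact Units.ext (unip h2 W).val_inv
  · intro h
    haveI : Nonempty (Fin (k + k)) := ⟨⟨0, by omega⟩⟩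
    obtain ⟨y, hy0⟩ := exists_ne (0 : Fin (k + k) → F)
    refine hy0 (funext fun i => congrFun (hy (Sum.elim 0 y) ?_) i)
    rw [h, Units.val_one, Matrix.one_mulVec]
  · rw [plus_apply, hy v hv, dotProduct_zero]
  · -- a commutator
    obtain ⟨ℓ, hℓ, hℓd⟩ := Nat.exists_prime_and_dvd (n := Fintype.card F ^ k - 1) (by
      have h4 : 4 ≤ Fintype.card F ^ k := le_trans (by have := Fintype.one_lt_card (α := F); nlinarith) (Nat.pow_le_pow_right Fintype.card_pos hk2)
      omega)
    obtain ⟨P, hP, hPfix⟩ := exists_fixfree_matrix (by omega : 1 ≤ k) hℓ hℓd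
    have hdet : (P + 1).det ≠ 0 := fun h => by
      obtain ⟨w, hw0, hw⟩ := Matrix.exists_mulVec_eq_zero_iff.mpr h
      rw [Matrix.add_mulVec, Matrix.one_mulVec, add_eq_zero_iff_eq_neg] at hw
      refine hw0 (hPfix w (hw.trans ?_))
      rw [neg_eq_iff_add_eq_zero, ← two_smul F w, h2, zero_smul]
    have hPu : IsUnit P := IsUnit.of_pow_eq_one hP hℓ.ne_zero
    set R := (P + 1)⁻¹ with hR
    let A₀ : GL (Fin k ⊕ Fin k) F :=
      { val := Matrix.fromBlocks P 0 0 1
        inv := Matrix.fromBlocks P⁻¹ 0 0 1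
        val_inv := by
          simp [Matrix.fromBlocks_multiply, Matrix.mul_nonsing_inv _ ((Matrix.isUnit_iff_isUnit_det _).mp hPu),
            Matrix.fromBlocks_one]
        inv_val := by
          simp [Matrix.fromBlocks_multiply, Matrix.nonsing_inv_mul _ ((Matrix.isUnit_iff_isUnit_det _).mp hPu),
            Matrix.fromBlocks_one] }
    let A : GL (Fin (k + k)) F :=
      Units.map (Matrix.reindexAlgEquiv F F finSumFinEquiv : _ ≃ₐ[F] _).toRingEquiv.toMonoidHom A₀
    set U := altBlock F k R with hU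
    have hAU : (A : Matrix (Fin (k + k)) (Fin (k + k)) F) * U * (A : Matrix (Fin (k + k)) (Fin (k + k)) F)ᵀ + U =
        W := by
      show Matrix.reindexAlgEquiv F F finSumFinEquiv (Matrix.fromBlocks P 0 0 1) *
          Matrix.reindexAlgEquiv F F finSumFinEquiv (Matrix.fromBlocks 0 R 0 0) *
          Matrix.reindexAlgEquiv F F finSumFinEquiv (Matrix.fromBlocks P 0 0 1)ᵀ +
          Matrix.reindexAlgEquiv F F finSumFinEquiv (Matrix.fromBlocks 0 R 0 0) =
        Matrix.reindexAlgEquiv F F finSumFinEquiv (Matrix.fromBlocks 0 1 0 0)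
      rw [← map_mul, ← map_mul, ← map_add, Matrix.fromBlocks_transpose, Matrix.fromBlocks_multiply,
        Matrix.fromBlocks_multiply, Matrix.fromBlocks_add]
      congr 1
      have e : P * R + R = 1 := by
        rw [hR]
        nth_rewrite 2 [← one_mul (P + 1)⁻¹]
        rw [← add_mul, Matrix.mul_nonsing_inv _ (isUnit_iff_ne_zero.mpr hdet)]
      simp [e]
    let G := ↥(Cfsg.isometryGroup F (Cfsg.quadFormPlus (k + k) F))
    let hA' : G := ⟨levi A, levi_mem A⟩
    let hU' : G := ⟨unip h2 U, unip_mem h2 U⟩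
    refine ⟨hA' * hU' * hA'⁻¹ * hU'⁻¹, ?_, ?_⟩
    · show hA' * hU' * hA'⁻¹ * hU'⁻¹ ∈ commutator G
      rw [← commutatorElement_def, commutator_def]
      exact Subgroup.commutator_mem_commutator (Subgroup.mem_top _) (Subgroup.mem_top _)
    · refine Units.ext ?_
      show Matrix.fromBlocks _ _ _ _ * Matrix.fromBlocks 1 (U + Uᵀ) 0 1 * Matrix.fromBlocks _ _ _ _ *
        Matrix.fromBlocks 1 (U + Uᵀ) 0 1 = Matrix.fromBlocks 1 (W + Wᵀ) 0 1
      rw [Matrix.fromBlocks_multiply, Matrix.fromBlocks_multiply, Matrix.fromBlocks_multiply, ← hAU]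
      have e : (((A⁻¹ : GL (Fin (k + k)) F) : Matrix (Fin (k + k)) (Fin (k + k)) F))ᵀ *
          (A : Matrix (Fin (k + k)) (Fin (k + k)) F)ᵀ = 1 := by
        rw [← Matrix.transpose_mul, ← Units.val_mul, mul_inv_cancel, Units.val_one, Matrix.transpose_one]
      rw [Matrix.coe_units_inv] at e
      simp [Matrix.transpose_add, Matrix.transpose_mul, Matrix.mul_add, Matrix.add_mul, Matrix.mul_assoc, e]
      abel

end Plus

/-! ### The orders -/

theorem sp_plus_order (q : ℕ) (hq : 1 ≤ q) (k : ℕ) :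
    2 * (q ^ ((k + 1) ^ 2) * ∏ i ∈ Finset.range (k + 1), (q ^ (2 * (i + 1)) - 1)) =
      (∏ i ∈ Finset.range (k + 1), (valNum q 0 (i + 1) 1 - 1) * q ^ (2 * i)) *
        (q ^ (k + 1) * (q ^ (k + 1) + 1)) := by
  have hv : ∀ i, valNum q 0 (i + 1) 1 - 1 = (q ^ (i + 1) - 1) * (q ^ i + 1) := fun i => by
    rw [← plusN_pred hq, plusN]
  have hsq : ∀ i, q ^ (2 * (i + 1)) - 1 = (q ^ (i + 1) + 1) * (q ^ (i + 1) - 1) := fun i => by
    rw [pow_mul', ← Nat.sq_sub_sq, one_pow]
  induction k with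
  | zero => simp [Finset.prod_range_succ, hv, hsq 0]; ring
  | succ k ih =>
    simp only [Finset.prod_range_succ _ (k + 1)]
    rw [hv, hsq, show (k + 1 + 1) ^ 2 = (k + 1) ^ 2 + (2 * (k + 1) + 1) by ring, pow_add]
    linear_combination (q ^ (2 * (k + 1) + 1) * ((q ^ (k + 1 + 1) + 1) * (q ^ (k + 1 + 1) - 1))) * ih

theorem sp_minus_order (q : ℕ) (hq : 1 ≤ q) (k : ℕ) :
    2 * (q ^ ((k + 1) ^ 2) * ∏ i ∈ Finset.range (k + 1), (q ^ (2 * (i + 1)) - 1)) =
      (2 * (q + 1) * ∏ i ∈ Finset.range k, (valNum q 2 (i + 1) 1 - 1) * q ^ (2 * i + 2)) *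
        (q ^ (k + 1) * (q ^ (k + 1) - 1)) := by
  have hv : ∀ i, valNum q 2 (i + 1) 1 - 1 = (q ^ (i + 1) - 1) * (q ^ (i + 2) + 1) := fun i => by
    have := minusN_pred hq (i + 1)
    rwa [minusN] at this
  have hsq : ∀ i, q ^ (2 * (i + 1)) - 1 = (q ^ (i + 1) + 1) * (q ^ (i + 1) - 1) := fun i => by
    rw [pow_mul', ← Nat.sq_sub_sq, one_pow]
  induction k with
  | zero => simp [Finset.prod_range_succ, hsq 0]; ring
  | succ k ih =>
    rw [Finset.prod_range_succ (fun i => (valNum q 2 (i + 1) 1 - 1) * q ^ (2 * i + 2)) k,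
      Finset.prod_range_succ (fun i => q ^ (2 * (i + 1)) - 1) (k + 1)]
    rw [hv, hsq, show (k + 1 + 1) ^ 2 = (k + 1) ^ 2 + (2 * k + 3) by ring, pow_add]
    linear_combination (q ^ (2 * k + 3) * ((q ^ (k + 1 + 1) + 1) * (q ^ (k + 1 + 1) - 1))) * ih

end Cfsg.Agent.Classical.CharTwoQuad
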