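import Mathlib
import Cfsg.Agent.Lib.Classical.Elusive.CharTwoModels
import Cfsg.Agent.Lib.Classical.OrthMatrix
import Cfsg.Agent.Lib.Classical.OrthNotMax
import Cfsg.Agent.Lib.Classical.FormSpMaximal
import Cfsg.Agent.Lib.Classical.SymplecticCount

/-!
# Quadratic forms polarising to the symplectic form in characteristic two

The index of an orthogonal group in the symplectic group, and conjugation of elements into it.
-/

set_option autoImplicit false
set_option linter.unusedSectionVars false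

universe u

namespace Cfsg.Agent.Classical.CharTwoQuad

open Module QuadraticMap Matrix Cfsg Cfsg.Agent.Classical Cfsg.Agent.Classical.OOmega Cfsg.Agent.Classical.OCount

variable {F : Type u} [Field F] [Fintype F] {d : ℕ}

theorem card_spGL : Nat.card ↥(Cfsg.spGL d F) = Fintype.card F ^ (d ^ 2) *
    ∏ i ∈ Finset.range d, (Fintype.card F ^ (2 * (i + 1)) - 1) := by
  classical
  rw [← SpCount.card_symplecticGroup d]
  refine Nat.card_congr
    { toFun := fun x => ⟨x.1.1, ?_⟩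
      invFun := fun A => ⟨⟨A.1, (A⁻¹).1, by rw [← Submonoid.coe_mul, mul_inv_cancel, Submonoid.coe_one],
        by rw [← Submonoid.coe_mul, inv_mul_cancel, Submonoid.coe_one]⟩, fun u v => Lead.Symp.form_preserved A.2 u v⟩
      left_inv := fun x => Subtype.ext (Units.ext rfl)
      right_inv := fun A => Subtype.ext rfl }
  rw [SymplecticGroup.mem_iff']
  refine Matrix.ext fun i j => ?_
  have h := x.2 (Pi.single i 1) (Pi.single j 1)
  change sympForm d F (x.1.1 *ᵥ Pi.single i 1) (x.1.1 *ᵥ Pi.single j 1) = _ at h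
  rw [sympForm, sympForm, Matrix.mulVec_mulVec, ← Matrix.vecMul_transpose, ← Matrix.dotProduct_mulVec,
    Matrix.mulVec_mulVec, ← Matrix.mul_assoc] at h
  simpa [dotProduct, Pi.single_apply] using h

variable {Q : QuadraticForm F (Fin d ⊕ Fin d → F)}

/-- Forms polarising to the symplectic form. -/
def PolarSymp (Q : QuadraticForm F (Fin d ⊕ Fin d → F)) : Prop :=
  ∀ u v, polar Q u v = Cfsg.sympForm d F u v

theorem pnd_of_polarSymp (h : PolarSymp Q) : PND Q := fun v hv => by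
  by_contra hv0
  obtain ⟨z, hz⟩ := Lead.Symp.exists_form_ne hv0
  exact hz (by rw [← h]; exact hv z)

omit [Fintype F] in
theorem isometry_mem_spGL (hB : PolarSymp Q) {x : GL (Fin d ⊕ Fin d) F}
    (hx : ∀ v, Q ((x : Matrix (Fin d ⊕ Fin d) (Fin d ⊕ Fin d) F) *ᵥ v) = Q v) : x ∈ Cfsg.spGL d F := by
  intro u v
  show sympForm d F ((x : Matrix (Fin d ⊕ Fin d) (Fin d ⊕ Fin d) F) *ᵥ u)
    ((x : Matrix (Fin d ⊕ Fin d) (Fin d ⊕ Fin d) F) *ᵥ v) = _
  rw [← hB, ← hB, polar, polar, ← Matrix.mulVec_add, hx, hx, hx]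

omit [Fintype F] in
theorem spGL_polar (hB : PolarSymp Q) {x : GL (Fin d ⊕ Fin d) F} (hx : x ∈ Cfsg.spGL d F)
    (u v : Fin d ⊕ Fin d → F) :
    polar Q ((x : Matrix (Fin d ⊕ Fin d) (Fin d ⊕ Fin d) F) *ᵥ u)
      ((x : Matrix (Fin d ⊕ Fin d) (Fin d ⊕ Fin d) F) *ᵥ v) = polar Q u v := by
  rw [hB, hB]; exact hx u v

theorem mem_similarity_iff (hB : PolarSymp Q) (hd : 1 ≤ d) {x : GL (Fin d ⊕ Fin d) F} :
    (x ∈ Cfsg.Geo.quadSimilarityGroup ⇑Q ∧ x ∈ Cfsg.spGL d F) ↔ x ∈ Cfsg.isometryGroup F ⇑Q := by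
  constructor
  · rintro ⟨⟨c, hc⟩, hx⟩
    refine mem_isometry.mpr fun v => ?_
    haveI : Nonempty (Fin d ⊕ Fin d) := ⟨.inl ⟨0, hd⟩⟩
    obtain ⟨w, hw⟩ := exists_ne (0 : Fin d ⊕ Fin d → F)
    obtain ⟨z, hz⟩ := Lead.Symp.exists_form_ne hw
    have e := spGL_polar hB hx w z
    rw [polar, polar, ← Matrix.mulVec_add, hc, hc, hc, ← mul_sub, ← mul_sub] at e
    rw [hc, show (c : F) = 1 from ?_, one_mul]
    refine mul_right_cancel₀ ?_ (e.trans (one_mul _).symm)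
    change polar Q w z ≠ 0
    rw [hB]; exact hz
  · intro hx
    exact ⟨⟨1, fun v => by rw [Units.val_one, one_mul]; exact mem_isometry.mp hx v⟩,
      isometry_mem_spGL hB (mem_isometry.mp hx)⟩

theorem card_iso_congr {ι κ : Type} [Fintype ι] [DecidableEq ι] [Fintype κ] [DecidableEq κ]
    {Q₁ : QuadraticForm F (ι → F)} {Q₂ : QuadraticForm F (κ → F)} (φ : (ι → F) ≃ₗ[F] (κ → F))
    (hφ : ∀ x, Q₂ (φ x) = Q₁ x) :
    Nat.card ↥(Cfsg.isometryGroup F ⇑Q₁) = Nat.card ↥(Cfsg.isometryGroup F ⇑Q₂) := by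
  rw [← Nat.card_congr (ORefl.toMat Q₁).toEquiv, ← Nat.card_congr (ORefl.toMat Q₂).toEquiv]
  exact Nat.card_congr
    { toFun := fun g => ⟨(φ.symm.trans g.1).trans φ, fun x => by
        rw [LinearEquiv.trans_apply, LinearEquiv.trans_apply, hφ, g.2, ← hφ, φ.apply_symm_apply]⟩
      invFun := fun g => ⟨(φ.trans g.1).trans φ.symm, fun x => by
        rw [LinearEquiv.trans_apply, LinearEquiv.trans_apply, ← hφ, φ.apply_symm_apply, g.2, hφ]⟩
      left_inv := fun g => Subtype.ext (LinearEquiv.ext fun x => by simp)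
      right_inv := fun g => Subtype.ext (LinearEquiv.ext fun x => by simp) }

theorem relIndex_mul (hB : PolarSymp Q) (hd : 1 ≤ d) :
    Nat.card ↥(Cfsg.isometryGroup F ⇑Q) * (Cfsg.Geo.quadSimilarityGroup ⇑Q).relIndex (Cfsg.spGL d F) =
      Nat.card ↥(Cfsg.spGL d F) := by
  rw [← Subgroup.card_mul_index ((Cfsg.Geo.quadSimilarityGroup ⇑Q).subgroupOf (Cfsg.spGL d F))]
  congr 1
  exact Nat.card_congr
    { toFun := fun x => ⟨⟨x.1, ((mem_similarity_iff hB hd).mpr x.2).2⟩,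
        Subgroup.mem_subgroupOf.mpr ((mem_similarity_iff hB hd).mpr x.2).1⟩
      invFun := fun x => ⟨x.1.1, (mem_similarity_iff hB hd).mp ⟨Subgroup.mem_subgroupOf.mp x.2, x.1.2⟩⟩
      left_inv := fun _ => rfl
      right_inv := fun _ => rfl }

/-- A prime divisor of the index. -/
theorem dvd_of_dvd_index (h2 : (2 : F) = 0) (hB : PolarSymp Q) (hd : 1 ≤ d) {r : ℕ} (hr : r.Prime) (hr2 : r ≠ 2)
    (h : r ∣ (Cfsg.Geo.quadSimilarityGroup ⇑Q).relIndex (Cfsg.spGL d F)) :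
    (zeros Q = plusN (Fintype.card F) d ∧ r ∣ Fintype.card F ^ d + 1) ∨
      (zeros Q = minusN (Fintype.card F) d ∧ r ∣ Fintype.card F ^ d - 1) := by
  have hV : finrank F (Fin d ⊕ Fin d → F) = 2 * d := by
    rw [finrank_fintype_fun_eq_card, Fintype.card_sum, Fintype.card_fin]; ring
  have hQ := pnd_of_polarSymp hB
  obtain ⟨k, rfl⟩ : ∃ k, d = k + 1 := ⟨d - 1, by omega⟩
  set q := Fintype.card F with hq
  have hq1 : 1 ≤ q := Fintype.card_pos
  have hrel := relIndex_mul hB hd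
  have hpos : 0 < Nat.card ↥(Cfsg.isometryGroup F ⇑Q) := Nat.card_pos
  obtain ⟨c, hc⟩ := h
  rw [hc, card_spGL] at hrel
  have hstd : ∀ t : ℕ, Nat.card ↥(Cfsg.isometryGroup F ⇑Q) * (q ^ (k + 1) * t) =
      2 * (q ^ ((k + 1) ^ 2) * ∏ i ∈ Finset.range (k + 1), (q ^ (2 * (i + 1)) - 1)) → r ∣ t := by
    intro t ht
    rw [← hrel] at ht
    have e : q ^ (k + 1) * t = 2 * (r * c) := Nat.eq_of_mul_eq_mul_left hpos (by rw [ht]; ring)
    have hd2 : r ∣ q ^ (k + 1) * t := ⟨2 * c, by rw [e]; ring⟩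
    exact ((Nat.Prime.dvd_mul hr).mp hd2).resolve_left
      fun h => prime_not_dvd_card h2 hr hr2 (hr.dvd_of_dvd_pow h)
  rcases zeros_cases hQ hd hV with hz | hz
  · refine Or.inl ⟨hz, hstd _ ?_⟩
    obtain ⟨φ, hφ⟩ := exists_isometry h2 hQ (plusForm_pnd (d := k + 1) (F := F)) hd hV hV (hz.trans zeros_plusForm.symm)
    rw [card_iso_congr φ hφ, coe_plusForm, card_plus, sp_plus_order q hq1 k]
  · refine Or.inr ⟨hz, hstd _ ?_⟩
    rcases dichotomy hQ hd hV with ⟨e, he⟩ | ⟨ζ, hζ, e, he⟩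
    · rw [zeros_equiv e _ he, card_plus_zeros] at hz
      exact absurd hz (plus_ne_minus Fintype.one_lt_card hd)
    · have hab := binary_aniso hζ
      rw [← coe_minus] at he
      rw [card_iso_congr e (fun x => (he x).symm), coe_minus, card_minus (k + 1 - 1) 1 ζ hab, sp_minus_order q hq1 k, Nat.add_sub_cancel]

/-- Conjugation into an orthogonal group is the existence of an invariant form of the same type. -/
theorem conj_iff (h2 : (2 : F) = 0) (hB : PolarSymp Q) (hd : 1 ≤ d) {x : GL (Fin d ⊕ Fin d) F}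
    (hx : x ∈ Cfsg.spGL d F) :
    (∃ g ∈ Cfsg.spGL d F, g⁻¹ * x * g ∈ Cfsg.Geo.quadSimilarityGroup ⇑Q) ↔
      ∃ Q' : QuadraticForm F (Fin d ⊕ Fin d → F), PolarSymp Q' ∧ zeros Q' = zeros Q ∧
        ∀ v, Q' ((x : Matrix (Fin d ⊕ Fin d) (Fin d ⊕ Fin d) F) *ᵥ v) = Q' v := by
  constructor
  · rintro ⟨g, hg, hgx⟩
    have hi := mem_isometry.mp ((mem_similarity_iff hB hd).mp
      ⟨hgx, mul_mem (mul_mem (inv_mem hg) hx) hg⟩)
    refine ⟨Q.comp (Matrix.mulVecLin ((g⁻¹ : GL (Fin d ⊕ Fin d) F) : Matrix (Fin d ⊕ Fin d) (Fin d ⊕ Fin d) F)),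
      fun u v => ?_, ?_, fun v => ?_⟩
    · rw [← hB]
      simp only [polar, QuadraticMap.comp_apply, map_add, Matrix.mulVecLin_apply]
      exact spGL_polar hB (inv_mem hg) u v
    · rw [zeros, zeros]
      refine Nat.card_congr ((Equiv.mk (fun v => ((g⁻¹ : GL (Fin d ⊕ Fin d) F) : Matrix (Fin d ⊕ Fin d) (Fin d ⊕ Fin d) F) *ᵥ v)
        (fun v => (g : Matrix (Fin d ⊕ Fin d) (Fin d ⊕ Fin d) F) *ᵥ v) ?_ ?_).subtypeEquiv fun v => Iff.rfl) <;>
        intro v <;> dsimp only <;> rw [Matrix.mulVec_mulVec, ← Units.val_mul] <;> simp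
    · have e := hi (((g⁻¹ : GL (Fin d ⊕ Fin d) F) : Matrix (Fin d ⊕ Fin d) (Fin d ⊕ Fin d) F) *ᵥ v)
      simp only [QuadraticMap.comp_apply, Matrix.mulVecLin_apply]
      rw [Matrix.mulVec_mulVec, ← Units.val_mul] at e ⊢
      rwa [mul_assoc (g⁻¹ * x) g, mul_inv_cancel, mul_one] at e
  · rintro ⟨Q', hB', hz, hinv⟩
    have hV : finrank F (Fin d ⊕ Fin d → F) = 2 * d := by
      rw [finrank_fintype_fun_eq_card, Fintype.card_sum, Fintype.card_fin]; ring
    obtain ⟨φ, hφ⟩ := exists_isometry h2 (pnd_of_polarSymp hB) (pnd_of_polarSymp hB') hd hV hV hz.symm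
    let g : GL (Fin d ⊕ Fin d) F := ⟨LinearMap.toMatrix' φ.toLinearMap, LinearMap.toMatrix' φ.symm.toLinearMap,
      by rw [← LinearMap.toMatrix'_comp, LinearEquiv.comp_symm, LinearMap.toMatrix'_id],
      by rw [← LinearMap.toMatrix'_comp, LinearEquiv.symm_comp, LinearMap.toMatrix'_id]⟩
    have hgv : ∀ v, (g : Matrix (Fin d ⊕ Fin d) (Fin d ⊕ Fin d) F) *ᵥ v = φ v := fun v =>
      LinearMap.toMatrix'_mulVec _ v
    have hgs : g ∈ Cfsg.spGL d F := fun u v => by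
      show sympForm d F ((g : Matrix (Fin d ⊕ Fin d) (Fin d ⊕ Fin d) F) *ᵥ u)
        ((g : Matrix (Fin d ⊕ Fin d) (Fin d ⊕ Fin d) F) *ᵥ v) = _
      rw [hgv, hgv, ← hB', ← hB, polar, polar, ← map_add, hφ, hφ, hφ]
    refine ⟨g, hgs, 1, fun v => ?_⟩
    rw [Units.val_one, one_mul, Units.val_mul, Units.val_mul, ← Matrix.mulVec_mulVec, ← Matrix.mulVec_mulVec, hgv,
      ← hφ (((g⁻¹ : GL (Fin d ⊕ Fin d) F) : Matrix (Fin d ⊕ Fin d) (Fin d ⊕ Fin d) F) *ᵥ _), ← hgv (_ *ᵥ _),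
      Matrix.mulVec_mulVec _ (g : Matrix (Fin d ⊕ Fin d) (Fin d ⊕ Fin d) F), ← Units.val_mul, mul_inv_cancel,
      Units.val_one, Matrix.one_mulVec, hinv, hφ]

end Cfsg.Agent.Classical.CharTwoQuad
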