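import Mathlib
import Cfsg.Agent.Lib.Small.Semisimple
import Cfsg.Agent.Lib.Small.SemisimpleCount

/-!
# Invariant subspaces of semisimple elements of prime order
-/

set_option autoImplicit false

namespace Cfsg.Agent.Classical.Elusive

open Polynomial Module
open Cfsg.Agent.Small.Semisimple (exists_ker exists_summand charpoly_of_summand rootMul)

universe u v

variable {K : Type u} [Field K]

/-- Invariant subspaces indexed by sets of blocks. -/
structure Blocks {V : Type v} [AddCommGroup V] [Module K V] (f : Module.End K V) {k : ℕ} (d : Fin k → ℕ) where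
  sub : Finset (Fin k) → Submodule K V
  inv : ∀ s, (sub s).map f ≤ sub s
  mono : Monotone sub
  dim : ∀ s, finrank K (sub s) = ∑ i, if i ∈ s then d i else 0
  compl : ∀ s, IsCompl (sub s) (sub sᶜ)

theorem isCompl_prod {A B : Type*} [AddCommGroup A] [Module K A] [AddCommGroup B] [Module K B]
    {a a' : Submodule K A} {b b' : Submodule K B} (h : IsCompl a a') (h' : IsCompl b b') :
    IsCompl (a.prod b) (a'.prod b') := by
  refine ⟨disjoint_iff.mpr ?_, codisjoint_iff.mpr ?_⟩
  · rw [Submodule.prod_inf_prod, h.inf_eq_bot, h'.inf_eq_bot, Submodule.prod_bot]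
  · rw [Submodule.prod_sup_prod, h.sup_eq_top, h'.sup_eq_top, Submodule.prod_top]

theorem finrank_prod' {A B : Type*} [AddCommGroup A] [Module K A] [AddCommGroup B] [Module K B]
    [FiniteDimensional K A] [FiniteDimensional K B] (a : Submodule K A) (b : Submodule K B) :
    finrank K (a.prod b) = finrank K a + finrank K b := by
  rw [LinearEquiv.finrank_eq ({ toFun := fun x => (⟨x.1.1, x.2.1⟩, ⟨x.1.2, x.2.2⟩)
                                invFun := fun x => ⟨(x.1.1, x.2.1), x.1.2, x.2.2⟩
                                map_add' := fun _ _ => rfl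
                                map_smul' := fun _ _ => rfl } : (a.prod b) ≃ₗ[K] a × b)]
  exact Module.finrank_prod

theorem exists_blocks : ∀ (N : ℕ) {V : Type v} [AddCommGroup V] [Module K V] [FiniteDimensional K V]
    (f : Module.End K V), finrank K V ≤ N → f.IsSemisimple → ∀ P : K[X], aeval f P = 0 →
    ∃ (k : ℕ) (qs : Fin k → K[X]), Nonempty (Blocks f (fun i => (qs i).natDegree)) ∧ f.charpoly = ∏ i, qs i ∧
      ∀ i, Irreducible (qs i) ∧ (qs i).Monic ∧ qs i ∣ P := by
  classical
  intro N
  induction N with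
  | zero =>
    intro V _ _ _ f h0 _ P _
    haveI : Subsingleton V := Module.finrank_zero_iff.mp (Nat.le_zero.mp h0 : finrank K V = 0)
    refine ⟨0, Fin.elim0, ⟨⟨fun _ => ⊥, fun _ => by simp, fun _ _ _ => le_rfl, fun s => by simp,
      fun s => ⟨disjoint_bot_left, codisjoint_iff.mpr (Subsingleton.elim _ _)⟩⟩⟩, ?_, fun i => i.elim0⟩
    rw [Finset.univ_eq_empty, Finset.prod_empty]
    exact Polynomial.eq_one_of_monic_natDegree_zero f.charpoly_monic (by
      rw [LinearMap.charpoly_natDegree]; omega)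
  | succ N ih =>
    intro V _ _ _ f hN hs P hP
    by_cases h0 : finrank K V = 0
    · exact ih f (by omega) hs P hP
    have hdeg : f.charpoly.natDegree ≠ 0 := by rw [LinearMap.charpoly_natDegree]; exact h0
    obtain ⟨q, hqm, hqi, hqd⟩ := Polynomial.exists_monic_irreducible_factor f.charpoly
      (fun hu => hdeg (natDegree_eq_zero_of_isUnit hu))
    have hqP : q ∣ P := by
      by_contra hnd
      obtain ⟨v, hv, hqv⟩ := exists_ker f hqi hqd
      obtain ⟨a, b, hab⟩ := (hqi.coprime_iff_not_dvd).2 hnd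
      apply hv
      have := congrArg (fun g => aeval f g v) hab
      simpa [Module.End.mul_apply, hqv, hP] using this.symm
    obtain ⟨U, hU, e, he⟩ := exists_summand f hs hqi hqm hqd
    haveI := (AdjoinRoot.powerBasis' hqm).finite
    have hdim : finrank K V = q.natDegree + finrank K U := by
      rw [← e.finrank_eq, Module.finrank_prod, (AdjoinRoot.powerBasis' hqm).finrank, AdjoinRoot.powerBasis'_dim]
    have hP' : aeval (f.restrict hU) P = 0 := by
      ext x
      have : ∀ (Q : K[X]), ((aeval (f.restrict hU) Q x : U) : V) = aeval f Q (x : V) := by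
        intro Q
        induction Q using Polynomial.induction_on' with
        | add a b ha hb => simp [ha, hb]
        | monomial m a =>
          simp only [aeval_monomial, Module.End.mul_apply, Module.algebraMap_end_apply, SetLike.val_smul]
          congr 1
          induction m generalizing x with
          | zero => simp
          | succ m ihm =>
            rw [pow_succ', pow_succ', Module.End.mul_apply, Module.End.mul_apply]
            exact congrArg f (ihm x)
      rw [this, hP]; rfl
    obtain ⟨k, qs, ⟨B⟩, hch, hqs⟩ := ih (f.restrict hU) (by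
      have := hqi.natDegree_pos; omega) (Module.End.IsSemisimple.restrict hU hs) P hP'
    refine ⟨k + 1, Fin.cons q qs, ⟨?_⟩, ?_, fun i => ?_⟩
    rotate_left
    · rw [charpoly_of_summand hqm e he, hch, Fin.prod_univ_succ]
      simp
    · refine Fin.cases ⟨hqi, hqm, hqP⟩ (fun j => ?_) i
      simpa using hqs j
    let tl : Finset (Fin (k + 1)) → Finset (Fin k) := fun s => Finset.univ.filter fun i => i.succ ∈ s
    let hd : Finset (Fin (k + 1)) → Submodule K (AdjoinRoot q) := fun s => if 0 ∈ s then ⊤ else ⊥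
    refine
      { sub := fun s => ((hd s).prod (B.sub (tl s))).map (e : (AdjoinRoot q × U) →ₗ[K] V)
        inv := fun s => ?_
        mono := fun s t hst => ?_
        dim := fun s => ?_
        compl := fun s => ?_ }
    · rintro _ ⟨_, ⟨⟨a, b⟩, ⟨ha, hb⟩, rfl⟩, rfl⟩
      refine ⟨(rootMul q a, f.restrict hU b), ⟨?_, B.inv _ ⟨b, hb, rfl⟩⟩, (he (a, b)).symm⟩
      show rootMul q a ∈ hd s
      simp only [hd] at ha ⊢
      by_cases h : 0 ∈ s
      · rw [if_pos h]; trivial
      · rw [if_neg h] at ha ⊢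
        rw [(Submodule.mem_bot K).mp ha, map_zero]; exact zero_mem _
    · refine Submodule.map_mono (Submodule.prod_mono ?_ (B.mono fun i hi => ?_))
      · simp only [hd]
        by_cases h : 0 ∈ s
        · rw [if_pos h, if_pos (hst h)]
        · rw [if_neg h]; exact bot_le
      · simp only [tl, Finset.mem_filter, Finset.mem_univ, true_and] at hi ⊢
        exact hst hi
    · rw [LinearEquiv.finrank_map_eq, finrank_prod', B.dim, Fin.sum_univ_succ, Fin.cons_zero]
      congr 1
      · by_cases h : 0 ∈ s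
        · rw [show hd s = ⊤ from if_pos h, if_pos h, finrank_top, (AdjoinRoot.powerBasis' hqm).finrank,
            AdjoinRoot.powerBasis'_dim]
        · rw [show hd s = ⊥ from if_neg h, if_neg h, finrank_bot]
      · exact Finset.sum_congr rfl fun i _ => by simp [tl]
    · refine ((Submodule.orderIsoMapComap e).isCompl_iff).mp (isCompl_prod ?_ ?_)
      · simp only [hd, Finset.mem_compl]
        by_cases h : 0 ∈ s
        · rw [if_pos h, if_neg (not_not.mpr h)]; exact isCompl_top_bot
        · rw [if_neg h, if_pos h]; exact isCompl_bot_top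
      · have : tl sᶜ = (tl s)ᶜ := by ext i; simp [tl]
        rw [this]; exact B.compl _

variable {V : Type v} [AddCommGroup V] [Module K V]

theorem Blocks.sum_eq [FiniteDimensional K V] {f : Module.End K V} {k : ℕ} {d : Fin k → ℕ} (B : Blocks f d) :
    ∑ i, d i = finrank K V := by
  classical
  have h := Submodule.finrank_add_eq_of_isCompl (B.compl Finset.univ)
  rw [B.dim, B.dim] at h
  simpa using h

/-- Disjoint families with prescribed numbers of blocks of the two sizes. -/
theorem Blocks.exists_pair {f : Module.End K V} {k : ℕ} {d : Fin k → ℕ} (B : Blocks f d) {D : ℕ}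
    (hD : D ≠ 1) (hd : ∀ i, d i = 1 ∨ d i = D) {a₁ b₁ a₂ b₂ : ℕ}
    (ha : a₁ + a₂ ≤ (Finset.univ.filter fun i => d i = 1).card)
    (hb : b₁ + b₂ ≤ (Finset.univ.filter fun i => d i = D).card) :
    ∃ s₁ s₂ : Finset (Fin k), s₁ ⊆ s₂ᶜ ∧ finrank K (B.sub s₁) = a₁ + D * b₁ ∧
      finrank K (B.sub s₂) = a₂ + D * b₂ := by
  classical
  obtain ⟨A, hA, hAc⟩ := Finset.exists_subset_card_eq ha
  obtain ⟨C, hC, hCc⟩ := Finset.exists_subset_card_eq hb
  obtain ⟨A₁, hA₁, hA₁c⟩ := Finset.exists_subset_card_eq (show a₁ ≤ A.card by omega)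
  obtain ⟨C₁, hC₁, hC₁c⟩ := Finset.exists_subset_card_eq (show b₁ ≤ C.card by omega)
  have key : ∀ X Y : Finset (Fin k), X ⊆ A → Y ⊆ C → finrank K (B.sub (X ∪ Y)) = X.card + D * Y.card := by
    intro X Y hX hY
    have hdisj : Disjoint X Y := Finset.disjoint_left.mpr fun i hx hy => hD (by
      have h1 := (Finset.mem_filter.mp (hA (hX hx))).2
      have h2 := (Finset.mem_filter.mp (hC (hY hy))).2
      omega)
    rw [B.dim, Finset.sum_ite_mem, Finset.univ_inter, Finset.sum_union hdisj,
      Finset.sum_congr rfl (fun i hi => (Finset.mem_filter.mp (hA (hX hi))).2),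
      Finset.sum_congr rfl (fun i hi => (Finset.mem_filter.mp (hC (hY hi))).2)]
    simp [mul_comm]
  refine ⟨A₁ ∪ C₁, (A \ A₁) ∪ (C \ C₁), ?_, ?_, ?_⟩
  · intro i hi
    simp only [Finset.mem_union, Finset.mem_compl, Finset.mem_sdiff] at hi ⊢
    rintro (⟨h, h'⟩ | ⟨h, h'⟩)
    · rcases hi with hi | hi
      · exact h' hi
      · exact hD (by
          have h1 := (Finset.mem_filter.mp (hA h)).2
          have h2 := (Finset.mem_filter.mp (hC (hC₁ hi))).2
          omega)
    · rcases hi with hi | hi
      · exact hD (by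
          have h1 := (Finset.mem_filter.mp (hA (hA₁ hi))).2
          have h2 := (Finset.mem_filter.mp (hC h)).2
          omega)
      · exact h' hi
  · rw [key _ _ hA₁ hC₁, hA₁c, hC₁c]
  · rw [key _ _ Finset.sdiff_subset Finset.sdiff_subset, Finset.card_sdiff_of_subset hA₁,
      Finset.card_sdiff_of_subset hC₁, hA₁c, hC₁c, hAc, hCc, Nat.add_sub_cancel_left, Nat.add_sub_cancel_left]

/-- Counts of the two sizes. -/
theorem Blocks.counts [FiniteDimensional K V] {f : Module.End K V} {k : ℕ} {d : Fin k → ℕ} (B : Blocks f d)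
    {D : ℕ} (hD : D ≠ 1) (hd : ∀ i, d i = 1 ∨ d i = D) :
    (Finset.univ.filter fun i => d i = 1).card + D * (Finset.univ.filter fun i => d i = D).card = finrank K V := by
  classical
  rw [← B.sum_eq, ← Finset.sum_filter_add_sum_filter_not Finset.univ (fun i => d i = 1) d,
    Finset.sum_congr (s₁ := Finset.univ.filter fun i => d i = 1) rfl (fun i hi => (Finset.mem_filter.mp hi).2)]
  have : (Finset.univ.filter fun i => ¬ d i = 1) = Finset.univ.filter fun i => d i = D := by
    ext i
    have := hd i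
    simp only [Finset.mem_filter, Finset.mem_univ, true_and]
    omega
  rw [this, Finset.sum_congr rfl (fun i hi => (Finset.mem_filter.mp hi).2)]
  simp [mul_comm]

/-- The degree of a nontrivial factor of `Xʳ - 1` is the order of `|K|` modulo `r`. -/
theorem natDegree_factor [Fintype K] {r : ℕ} [Fact r.Prime] {q : K[X]}
    (hq : Irreducible q) (hm : q.Monic) (hd : q ∣ X ^ r - 1) (h1 : q ≠ X - C 1) :
    q.natDegree = orderOf (Fintype.card K : ZMod r) := by
  haveI : Fact (Irreducible q) := ⟨hq⟩
  haveI := (AdjoinRoot.powerBasis hq.ne_zero).finite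
  haveI : Finite (AdjoinRoot q) := Module.finite_of_finite K
  haveI : Fintype (AdjoinRoot q) := Fintype.ofFinite _
  have hfr : finrank K (AdjoinRoot q) = q.natDegree := by
    rw [(AdjoinRoot.powerBasis hq.ne_zero).finrank, AdjoinRoot.powerBasis_dim]
  obtain ⟨z, hz⟩ : ∃ z, z = AdjoinRoot.root q := ⟨_, rfl⟩
  have hzr : z ^ r = 1 := by
    have := AdjoinRoot.mk_eq_zero.mpr hd
    rw [map_sub, map_pow, AdjoinRoot.mk_X, map_one, sub_eq_zero] at this
    rw [hz]; exact this
  have hz1 : z ≠ 1 := fun h => h1 (by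
    refine (eq_of_monic_of_associated (monic_X_sub_C 1) hm ?_).symm
    refine ((irreducible_X_sub_C (1 : K)).associated_of_dvd hq ?_)
    have hdvd : q ∣ X - C 1 := AdjoinRoot.mk_eq_zero.mp (by
      rw [map_sub, AdjoinRoot.mk_X, AdjoinRoot.mk_C, map_one, ← hz, h, sub_self])
    exact (hq.associated_of_dvd (irreducible_X_sub_C (1 : K)) hdvd).symm.dvd)
  have hord : orderOf z = r := orderOf_eq_prime hzr hz1
  have hcast : ∀ e : ℕ, (Fintype.card K : ZMod r) ^ e = 1 ↔ r ∣ Fintype.card K ^ e - 1 := fun e => by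
    rw [← ZMod.natCast_eq_zero_iff, Nat.cast_sub (Nat.one_le_pow _ _ Fintype.card_pos), Nat.cast_pow, Nat.cast_one,
      sub_eq_zero]
  refine Nat.dvd_antisymm ?_ (orderOf_dvd_of_pow_eq_one ((hcast _).mpr ?_))
  · have h := (hcast _).mp (pow_orderOf_eq_one (Fintype.card K : ZMod r))
    rw [← hfr, ← FiniteField.orderOf_frobeniusAlgHom K (AdjoinRoot q)]
    refine orderOf_dvd_of_pow_eq_one (AdjoinRoot.algHom_ext ?_)
    rw [AlgHom.coe_pow, FiniteField.coe_frobeniusAlgHom, pow_iterate, AlgHom.one_apply, ← hz]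
    obtain ⟨c, hc⟩ := h
    dsimp only
    rw [show Fintype.card K ^ orderOf (Fintype.card K : ZMod r) = r * c + 1 by
      rw [← hc, Nat.sub_add_cancel (Nat.one_le_pow _ _ Fintype.card_pos)], pow_succ, pow_mul, hzr, one_pow, one_mul]
  · rw [← hord, ← hfr, ← Module.card_eq_pow_finrank (K := K) (V := AdjoinRoot q)]
    exact orderOf_dvd_of_pow_eq_one (FiniteField.pow_card_sub_one_eq_one z fun h => by
      rw [h, zero_pow (Fact.out : r.Prime).ne_zero] at hzr; exact zero_ne_one hzr)

theorem isSemisimple_of_pow {f : Module.End K V} [FiniteDimensional K V] {r : ℕ} (hr : (r : K) ≠ 0) {c : K}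
    (hc : c ≠ 0) (h : f ^ r = c • 1) : f.IsSemisimple := by
  refine Module.End.isSemisimple_of_squarefree_aeval_eq_zero (separable_X_pow_sub_C c hr hc).squarefree ?_
  rw [map_sub, map_pow, aeval_X, aeval_C, h, Algebra.algebraMap_eq_smul_one, sub_self]

/-- A semisimple map annihilated by a power is annihilated by the base. -/
theorem aeval_of_charpoly [FiniteDimensional K V] {f : Module.End K V} (hs : f.IsSemisimple) {P : K[X]} {N : ℕ}
    (h : f.charpoly ∣ P ^ N) : aeval f P = 0 := by
  have hsq := hs.minpoly_squarefree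
  rcases Nat.eq_zero_or_pos N with rfl | hN
  · rw [pow_zero] at h
    have := Polynomial.natDegree_eq_zero_of_isUnit (isUnit_of_dvd_one h)
    rw [LinearMap.charpoly_natDegree] at this
    haveI : Subsingleton V := Module.finrank_zero_iff.mp this
    exact Subsingleton.elim _ _
  · obtain ⟨Q, hQ⟩ := (hsq.dvd_pow_iff_dvd hN.ne').mp ((LinearMap.minpoly_dvd_charpoly f).trans h)
    rw [hQ, map_mul, minpoly.aeval, zero_mul]

/-- The characteristic polynomial splits along an invariant subspace. -/
theorem charpoly_pieces [FiniteDimensional K V] {f : Module.End K V} {U W : Submodule K V} (h : IsCompl U W)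
    (hU : U ∈ f.invtSubmodule) (hW : W ∈ f.invtSubmodule) :
    f.charpoly = (f.restrict hU).charpoly * (f.restrict hW).charpoly := by
  have : f = (Submodule.prodEquivOfIsCompl U W h).conj ((f.restrict hU).prodMap (f.restrict hW)) := by
    ext x
    obtain ⟨⟨a, b⟩, rfl⟩ := (Submodule.prodEquivOfIsCompl U W h).surjective x
    rw [LinearEquiv.conj_apply_apply, LinearEquiv.symm_apply_apply]
    simp [Submodule.coe_prodEquivOfIsCompl']
    rfl
  conv_lhs => rw [this]
  rw [LinearEquiv.charpoly_conj, LinearMap.charpoly_prodMap]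

theorem exists_dvd_of_invariant [FiniteDimensional K V] {f : Module.End K V} (hs : f.IsSemisimple)
    {W : Submodule K V} (hW : W.map f ≤ W) :
    ∃ g : K[X], g ∣ f.charpoly ∧ g.natDegree = finrank K W := by
  have hW' : W ∈ f.invtSubmodule := (Module.End.mem_invtSubmodule_iff_map_le f).mpr hW
  obtain ⟨U, hU, hc⟩ := Module.End.isSemisimple_iff.1 hs W hW'
  refine ⟨(f.restrict hW').charpoly, ?_, LinearMap.charpoly_natDegree _⟩
  rw [charpoly_pieces hc hW' hU]
  exact dvd_mul_right _ _

/-- Degrees of the divisors of `(X - 1)ᵃ qᵇ`. -/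
theorem degree_divisor {q g : K[X]} (hq : Irreducible q) {a b : ℕ}
    (hg : g ∣ (X - C (1 : K)) ^ a * q ^ b) : ∃ a' b', a' ≤ a ∧ b' ≤ b ∧ g.natDegree = a' + q.natDegree * b' := by
  obtain ⟨d₁, d₂, h₁, h₂, rfl⟩ := exists_dvd_and_dvd_of_dvd_mul hg
  obtain ⟨a', ha', e₁⟩ := (dvd_prime_pow (prime_X_sub_C (1 : K)) a).mp h₁
  obtain ⟨b', hb', e₂⟩ := (dvd_prime_pow hq.prime b).mp h₂
  refine ⟨a', b', ha', hb', ?_⟩
  have h₀ := degree_eq_degree_of_associated (e₁.mul_mul e₂)
  rw [natDegree_eq_of_degree_eq h₀, natDegree_mul (pow_ne_zero _ (X_sub_C_ne_zero _)) (pow_ne_zero _ hq.ne_zero),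
    natDegree_pow, natDegree_pow, natDegree_X_sub_C, mul_one, mul_comm]

theorem degree_divisor_pow {q g : K[X]} (hq : Irreducible q) {b : ℕ} (hg : g ∣ q ^ b) :
    ∃ b', b' ≤ b ∧ g.natDegree = q.natDegree * b' := by
  obtain ⟨b', hb', e⟩ := (dvd_prime_pow hq.prime b).mp hg
  exact ⟨b', hb', by rw [natDegree_eq_of_degree_eq (degree_eq_degree_of_associated e), natDegree_pow, mul_comm]⟩

/-- An element of `SLₙ` with given characteristic polynomial, semisimple. -/
theorem exists_SL {F : Type u} [Field F] [Fintype F] (p : ℕ) [Fact p.Prime] [CharP F p] {n : ℕ} (P : F[X])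
    (hm : P.Monic) (hd : P.natDegree = n) (h0 : P.coeff 0 = (-1) ^ n) :
    ∃ g : Matrix.SpecialLinearGroup (Fin n) F,
      (Matrix.toLin' (g : Matrix (Fin n) (Fin n) F)).charpoly = P ∧
      Module.End.IsSemisimple (Matrix.toLin' (g : Matrix (Fin n) (Fin n) F)) := by
  obtain ⟨A, hA⟩ := Cfsg.Agent.Small.Semisimple.exists_matrix P hm hd
  have hdet : A.det = 1 := by
    rw [Matrix.det_eq_sign_charpoly_coeff, hA, h0, Fintype.card_fin, ← pow_add, Even.neg_one_pow ⟨n, rfl⟩]
  obtain ⟨C, hC⟩ : ∃ C : Matrix.SpecialLinearGroup (Fin n) F, ↑C = A := ⟨⟨A, hdet⟩, rfl⟩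
  obtain ⟨k, hk⟩ := Cfsg.Agent.Small.Semisimple.exists_pow_coprime (F := F) p C
  refine ⟨C ^ (Fintype.card F ^ k), ?_, ?_⟩
  · rw [Matrix.charpoly_toLin', Matrix.SpecialLinearGroup.coe_pow, hC,
      Cfsg.Agent.Small.Semisimple.charpoly_pow_card_pow, hA]
  · refine Cfsg.Agent.Small.Semisimple.matrix_isSemisimple p
      (Matrix.SpecialLinearGroup.toGL (C ^ (Fintype.card F ^ k))) ?_
    rw [orderOf_injective _ Matrix.SpecialLinearGroup.toGL_injective]
    exact hk

end Cfsg.Agent.Classical.Elusive
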