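import Mathlib
import Cfsg.Agent.Lib.Classical.Elusive.Decomp

/-!
# Isometries of odd prime order without fixed vectors

A non-degenerate symmetric or alternating space with an isometry `g` of odd prime order `r` without fixed
vectors: invariant subspaces have dimension divisible by the order `i` of `q` modulo `r`, irreducible ones are
totally isotropic or non-degenerate (the latter only for even `i`), and totally isotropic invariant subspaces
of every dimension allowed by counting exist.
-/

set_option autoImplicit false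
set_option linter.unusedSectionVars false

universe u

namespace Cfsg.Agent.Classical.Elusive.Free

open Module Polynomial

variable {F : Type u} [Field F] [Fintype F]

/-- A symmetric or alternating non-degenerate form. -/
structure Refl {V : Type u} [AddCommGroup V] [Module F V] (B : LinearMap.BilinForm F V) : Prop where
  swap : ∃ ε : F, ∀ u v, B v u = ε * B u v
  nondeg : ∀ v, (∀ w, B v w = 0) → v = 0

/-- An isometry of odd prime order `r`, invertible in `F`, without fixed vectors. -/
structure IsFree {V : Type u} [AddCommGroup V] [Module F V] (B : LinearMap.BilinForm F V) (g : Module.End F V)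
    (r : ℕ) : Prop where
  prime : r.Prime
  odd : r ≠ 2
  ne_zero : (r : F) ≠ 0
  pow_eq : g ^ r = 1
  fixfree : ∀ v, g v = v → v = 0
  isometry : ∀ u v, B (g u) (g v) = B u v

variable {V : Type u} [AddCommGroup V] [Module F V] {B : LinearMap.BilinForm F V}

omit [Fintype F] in
theorem Refl.zero_swap (hB : Refl B) {u v : V} (h : B u v = 0) : B v u = 0 := by
  obtain ⟨ε, hε⟩ := hB.swap
  rw [hε, h, mul_zero]

omit [Fintype F] in
theorem Refl.isRefl (hB : Refl B) : B.IsRefl := fun _ _ h => hB.zero_swap h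

omit [Fintype F] in
theorem Refl.nondegenerate (hB : Refl B) : B.Nondegenerate :=
  ⟨hB.nondeg, fun v hv => hB.nondeg v fun w => hB.zero_swap (hv w)⟩

variable [FiniteDimensional F V] {g : Module.End F V} {r : ℕ}

omit [Fintype F] [FiniteDimensional F V] in
theorem IsFree.semisimple [FiniteDimensional F V] (hg : IsFree B g r) : g.IsSemisimple :=
  Elusive.isSemisimple_of_pow hg.ne_zero one_ne_zero (by rw [one_smul, hg.pow_eq])

omit [Fintype F] in
theorem IsFree.injective (hg : IsFree B g r) : Function.Injective g := by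
  intro x y h
  have := congrArg (g ^ (r - 1)) h
  rwa [← Module.End.mul_apply, ← Module.End.mul_apply, ← pow_succ, Nat.sub_add_cancel hg.prime.one_le,
    hg.pow_eq, Module.End.one_apply, Module.End.one_apply] at this

omit [Fintype F] in
/-- The inverse preserves invariant subspaces. -/
theorem IsFree.map_eq (hg : IsFree B g r) {U : Submodule F V} (hU : ∀ x ∈ U, g x ∈ U) {x : V} (hx : x ∈ U) :
    ∃ y ∈ U, g y = x := by
  refine ⟨(g ^ (r - 1)) x, ?_, ?_⟩
  · have key : ∀ n : ℕ, (g ^ n) x ∈ U := by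
      intro n
      induction n with
      | zero => simpa using hx
      | succ n ih => rw [pow_succ', Module.End.mul_apply]; exact hU _ ih
    exact key _
  · rw [← Module.End.mul_apply, ← pow_succ', Nat.sub_add_cancel hg.prime.one_le, hg.pow_eq, Module.End.one_apply]

omit [Fintype F] in
/-- The orthogonal space of an invariant subspace is invariant. -/
theorem IsFree.orth_invariant (hg : IsFree B g r) {U : Submodule F V} (hU : ∀ x ∈ U, g x ∈ U) {x : V}
    (hx : x ∈ B.orthogonal U) : g x ∈ B.orthogonal U := by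
  intro y hy
  obtain ⟨z, hz, rfl⟩ := hg.map_eq hU hy
  show B (g z) (g x) = 0
  rw [hg.isometry]
  exact hx z hz

omit [Fintype F] in
theorem restrict_pow {U : Submodule F V} (hU : ∀ x ∈ U, g x ∈ U) (n : ℕ) (x : U) :
    (((g.restrict hU) ^ n) x : V) = (g ^ n) (x : V) := by
  induction n with
  | zero => rfl
  | succ n ih =>
    rw [pow_succ', pow_succ', Module.End.mul_apply, Module.End.mul_apply, LinearMap.restrict_coe_apply, ih]

omit [Fintype F] in
/-- Restriction to an invariant subspace. -/
theorem IsFree.restrict (hg : IsFree B g r) {U : Submodule F V} (hU : ∀ x ∈ U, g x ∈ U) :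
    IsFree (B.restrict U) (g.restrict hU) r where
  prime := hg.prime
  odd := hg.odd
  ne_zero := hg.ne_zero
  pow_eq := LinearMap.ext fun x => Subtype.ext (by rw [restrict_pow hU, hg.pow_eq]; rfl)
  fixfree x h := Subtype.ext (hg.fixfree _ (congrArg Subtype.val h))
  isometry x y := hg.isometry x.1 y.1

omit [Fintype F] in
theorem refl_restrict (hB : Refl B) {U : Submodule F V} (hU : U ⊓ B.orthogonal U = ⊥) :
    Refl (B.restrict U) where
  swap := by
    obtain ⟨ε, hε⟩ := hB.swap
    exact ⟨ε, fun u v => hε u.1 v.1⟩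
  nondeg v hv := Subtype.ext <| by
    have : (v : V) ∈ U ⊓ B.orthogonal U := ⟨v.2, fun w hw => hB.zero_swap (hv ⟨w, hw⟩)⟩
    rwa [hU, Submodule.mem_bot] at this

omit [Fintype F] in
theorem orth_inf_of_compl (hB : Refl B) {U : Submodule F V} (hU : U ⊓ B.orthogonal U = ⊥) :
    B.orthogonal U ⊓ B.orthogonal (B.orthogonal U) = ⊥ ∧
      finrank F U + finrank F (B.orthogonal U) = finrank F V := by
  rw [LinearMap.BilinForm.orthogonal_orthogonal hB.nondegenerate hB.isRefl, inf_comm]
  refine ⟨hU, ?_⟩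
  have h := LinearMap.BilinForm.finrank_orthogonal hB.nondegenerate U
  have := U.finrank_le
  omega

/-- Invariant subspaces have dimension divisible by the order of `q`, and non-zero ones contain irreducible ones. -/
theorem IsFree.exists_irred (hg : IsFree B g r) {U : Submodule F V} (hU : ∀ x ∈ U, g x ∈ U) :
    orderOf (Fintype.card F : ZMod r) ∣ finrank F U ∧
      (U ≠ ⊥ → ∃ W ≤ U, (∀ x ∈ W, g x ∈ W) ∧ finrank F W = orderOf (Fintype.card F : ZMod r)) := by
  classical
  haveI : Fact r.Prime := ⟨hg.prime⟩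
  have h' := hg.restrict hU
  obtain ⟨k, qs, ⟨Bl⟩, hch, hqs⟩ := Elusive.exists_blocks (finrank F U) (g.restrict hU) le_rfl h'.semisimple
    (X ^ r - 1) (by rw [map_sub, map_pow, aeval_X, map_one, h'.pow_eq, sub_self])
  have hdeg : ∀ j, (qs j).natDegree = orderOf (Fintype.card F : ZMod r) := fun j =>
    Elusive.natDegree_factor (hqs j).1 (hqs j).2.1 (hqs j).2.2 fun h => by
      obtain ⟨v, hv, hqv⟩ := Cfsg.Agent.Small.Semisimple.exists_ker (g.restrict hU) (hqs j).1
        (hch ▸ Finset.dvd_prod_of_mem _ (Finset.mem_univ j))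
      rw [h, map_sub, aeval_X, aeval_C, map_one, LinearMap.sub_apply, Module.End.one_apply, sub_eq_zero] at hqv
      exact hv (h'.fixfree v hqv)
  refine ⟨?_, fun hne => ?_⟩
  · rw [← Bl.sum_eq, Finset.sum_congr rfl fun j _ => hdeg j, Finset.sum_const, smul_eq_mul]
    exact dvd_mul_left _ _
  · obtain ⟨j⟩ : Nonempty (Fin k) := by
      by_contra h
      rw [not_nonempty_iff] at h
      have := Bl.sum_eq
      rw [Finset.univ_eq_empty, Finset.sum_empty] at this
      exact hne (Submodule.finrank_eq_zero.mp this.symm)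
    refine ⟨(Bl.sub {j}).map U.subtype, Submodule.map_subtype_le _ _, ?_, ?_⟩
    · rintro _ ⟨x, hx, rfl⟩
      exact ⟨g.restrict hU x, Bl.inv _ ⟨x, hx, rfl⟩, rfl⟩
    · rw [Submodule.finrank_map_subtype_eq, Bl.dim]
      simp [hdeg]

theorem IsFree.order_pos (hg : IsFree B g r) : 0 < orderOf (Fintype.card F : ZMod r) := by
  haveI : Fact r.Prime := ⟨hg.prime⟩
  refine orderOf_pos_iff.mpr (isOfFinOrder_iff_pow_eq_one.mpr ⟨r - 1, by have := hg.prime.two_le; omega,
    ZMod.pow_card_sub_one_eq_one ?_⟩)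
  rw [ne_eq, ZMod.natCast_eq_zero_iff]
  intro h
  refine hg.ne_zero ?_
  obtain ⟨p, hp⟩ := CharP.exists F
  obtain ⟨n, hpp, hn⟩ := FiniteField.card F p
  rw [hn] at h
  rw [(Nat.prime_dvd_prime_iff_eq hg.prime hpp).mp (hg.prime.dvd_of_dvd_pow h)]
  exact CharP.cast_eq_zero F p

/-- An invariant subspace of minimal dimension has no proper invariant subspaces. -/
theorem IsFree.minimal (hg : IsFree B g r) {W : Submodule F V}
    (hd : finrank F W = orderOf (Fintype.card F : ZMod r)) {U : Submodule F V} (hU : ∀ x ∈ U, g x ∈ U)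
    (hle : U ≤ W) : U = ⊥ ∨ U = W := by
  rcases Nat.eq_zero_or_pos (finrank F U) with h | h
  · exact Or.inl (Submodule.finrank_eq_zero.mp h)
  · exact Or.inr (Submodule.eq_of_le_of_finrank_le hle
      (hd ▸ Nat.le_of_dvd h (hg.exists_irred hU).1))

/-- An irreducible invariant subspace is totally isotropic or non-degenerate. -/
theorem IsFree.ts_or_nondeg (hg : IsFree B g r) {W : Submodule F V} (hW : ∀ x ∈ W, g x ∈ W)
    (hd : finrank F W = orderOf (Fintype.card F : ZMod r)) :
    (∀ x ∈ W, ∀ y ∈ W, B x y = 0) ∨ W ⊓ B.orthogonal W = ⊥ := by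
  rcases hg.minimal hd (U := W ⊓ B.orthogonal W) (fun x hx => ⟨hW x hx.1, hg.orth_invariant hW hx.2⟩)
    inf_le_left with h | h
  · exact Or.inr h
  · exact Or.inl fun x hx y hy => (h.ge hy).2 x hx

/-! ### An irreducible space -/

section Irreducible

variable (hB : Refl B) (hg : IsFree B g r) (hd : finrank F V = orderOf (Fintype.card F : ZMod r))

include hg hd

theorem exists_cyclic (T : Module.End F V) (hT : ∀ x, T (g x) = g (T x)) (h0 : T ≠ 0) : Function.Bijective T := by
  have hker : ∀ x ∈ LinearMap.ker T, g x ∈ LinearMap.ker T := fun x hx => by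
    rw [LinearMap.mem_ker] at hx ⊢
    rw [hT, hx, map_zero]
  have hinj : LinearMap.ker T = ⊥ :=
    (hg.minimal (W := ⊤) (by rw [finrank_top, hd]) hker le_top).resolve_right fun h =>
      h0 (LinearMap.ker_eq_top.mp h)
  exact ⟨LinearMap.ker_eq_bot.mp hinj, LinearMap.injective_iff_surjective.mp (LinearMap.ker_eq_bot.mp hinj)⟩

omit hd in
theorem adjoin_comm {T : Module.End F V} (hT : T ∈ Algebra.adjoin F ({g} : Set (Module.End F V))) (x : V) :
    T (g x) = g (T x) := by
  induction hT using Algebra.adjoin_induction generalizing x with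
  | mem S hS => rw [Set.mem_singleton_iff.mp hS]
  | algebraMap c => simp
  | add S S' _ _ h h' => simp [h x, h' x]
  | mul S S' _ _ h h' => simp only [Module.End.mul_apply]; rw [h' x, h]

theorem adjoin_isField : IsField ↥(Algebra.adjoin F ({g} : Set (Module.End F V))) := by
  haveI : Finite V := Module.finite_of_finite F
  haveI : Finite (Module.End F V) := Finite.of_injective (fun T : Module.End F V => (T : V → V)) DFunLike.coe_injective
  haveI : Nontrivial V := Module.nontrivial_of_finrank_pos (R := F) (by rw [hd]; exact hg.order_pos)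
  haveI : NoZeroDivisors ↥(Algebra.adjoin F ({g} : Set (Module.End F V))) := ⟨fun {S T} h => by
    by_contra hc
    rw [not_or] at hc
    have hS := exists_cyclic hg hd S.1 (adjoin_comm hg S.2) fun e => hc.1 (Subtype.ext e)
    have hT := exists_cyclic hg hd T.1 (adjoin_comm hg T.2) fun e => hc.2 (Subtype.ext e)
    obtain ⟨x, hx⟩ := exists_ne (0 : V)
    refine hx ((hS.1.comp hT.1) ?_)
    have e : (S.1 * T.1) x = 0 := by rw [show S.1 * T.1 = 0 from congrArg Subtype.val h]; rfl
    simpa using e⟩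
  haveI := NoZeroDivisors.to_isDomain ↥(Algebra.adjoin F ({g} : Set (Module.End F V)))
  exact Finite.isDomain_to_isField _

/-- The centraliser of an irreducible element is the field it generates, of degree equal to the dimension. -/
theorem centraliser_adjoin {T : Module.End F V} (hT : ∀ x, T (g x) = g (T x)) :
    T ∈ Algebra.adjoin F ({g} : Set (Module.End F V)) ∧
      finrank F ↥(Algebra.adjoin F ({g} : Set (Module.End F V))) = finrank F V := by
  classical
  haveI : Nontrivial V := Module.nontrivial_of_finrank_pos (R := F) (by rw [hd]; exact hg.order_pos)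
  obtain ⟨x, hx⟩ := exists_ne (0 : V)
  let ev : ↥(Algebra.adjoin F ({g} : Set (Module.End F V))) →ₗ[F] V :=
    { toFun := fun S => S.1 x, map_add' := fun _ _ => rfl, map_smul' := fun _ _ => rfl }
  have hinj : Function.Injective ev := by
    rw [← LinearMap.ker_eq_bot, LinearMap.ker_eq_bot']
    intro S hS
    by_contra hne
    exact hx ((exists_cyclic hg hd S.1 (adjoin_comm hg S.2) fun e => hne (Subtype.ext e)).1
      ((show S.1 x = 0 from hS).trans (map_zero S.1).symm))
  have hinv : ∀ y ∈ LinearMap.range ev, g y ∈ LinearMap.range ev := by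
    rintro _ ⟨S, rfl⟩
    exact ⟨⟨g, Algebra.subset_adjoin (Set.mem_singleton g)⟩ * S, rfl⟩
  have hsurj : LinearMap.range ev = ⊤ :=
    (hg.minimal (W := ⊤) (by rw [finrank_top, hd]) hinv le_top).resolve_left fun h =>
      hx ((Submodule.mem_bot F).mp (h ▸ ⟨1, rfl⟩ : x ∈ (⊥ : Submodule F V)))
  refine ⟨?_, by rw [← finrank_top (R := F) (M := V), ← hsurj, LinearMap.finrank_range_of_inj hinj]⟩
  obtain ⟨S, hS⟩ : T x ∈ LinearMap.range ev := hsurj ▸ Submodule.mem_top
  suffices T = S.1 by rw [this]; exact S.2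
  by_contra hne
  refine hx ((exists_cyclic hg hd (T - S.1) (fun y => ?_) (sub_ne_zero.mpr hne)).1 ?_)
  · simp [hT, adjoin_comm hg S.2]
  · rw [map_zero, LinearMap.sub_apply, show S.1 x = T x from hS, sub_self]

/-- An automorphism of the generated field inverting `g` exists, given by the adjoint. -/
theorem exists_adjoint (hB : Refl B) :
    ∃ σ : ↥(Algebra.adjoin F ({g} : Set (Module.End F V))) →ₐ[F] ↥(Algebra.adjoin F ({g} : Set (Module.End F V))),
      (∀ S u v, B (S.1 u) v = B u ((σ S).1 v)) ∧ (σ ⟨g, Algebra.subset_adjoin (Set.mem_singleton g)⟩).1 = g ^ (r - 1) := by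
  classical
  set K := Algebra.adjoin F ({g} : Set (Module.End F V))
  have hex : ∀ S : K, ∃ S' : K, ∀ u v, B (S.1 u) v = B u (S'.1 v) := by
    rintro ⟨S, hS⟩
    induction hS using Algebra.adjoin_induction with
    | mem T hT =>
      refine ⟨⟨g ^ (r - 1), pow_mem (Algebra.subset_adjoin (Set.mem_singleton g)) _⟩, fun u v => ?_⟩
      show B (T u) v = B u ((g ^ (r - 1)) v)
      rw [Set.mem_singleton_iff.mp hT, ← hg.isometry u, ← Module.End.mul_apply, ← pow_succ',
        Nat.sub_add_cancel hg.prime.one_le, hg.pow_eq, Module.End.one_apply]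
    | algebraMap c =>
      refine ⟨⟨algebraMap F (Module.End F V) c, Subalgebra.algebraMap_mem _ c⟩, fun u v => ?_⟩
      simp only [Module.algebraMap_end_apply, map_smul, LinearMap.smul_apply]
    | add T T' hT hT' h h' =>
      obtain ⟨S₁, h₁⟩ := h
      obtain ⟨S₂, h₂⟩ := h'
      refine ⟨S₁ + S₂, fun u v => ?_⟩
      show B (T u + T' u) v = B u (S₁.1 v + S₂.1 v)
      rw [map_add, LinearMap.add_apply, map_add]
      exact congrArg₂ (· + ·) (h₁ u v) (h₂ u v)
    | mul T T' hT hT' h h' =>
      obtain ⟨S₁, h₁⟩ := h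
      obtain ⟨S₂, h₂⟩ := h'
      refine ⟨S₂ * S₁, fun u v => ?_⟩
      show B (T (T' u)) v = B u (S₂.1 (S₁.1 v))
      rw [h₁, h₂]
  choose s hs using hex
  have huniq : ∀ S T : K, (∀ u v, B u (S.1 v) = B u (T.1 v)) → S = T := fun S T h =>
    Subtype.ext (LinearMap.ext fun v => sub_eq_zero.mp (hB.nondeg _ fun w => hB.zero_swap (by
      rw [map_sub, h, sub_self])))
  have hcomm : ∀ S T : K, S * T = T * S := fun S T => by
    haveI := adjoin_isField hg hd
    exact this.mul_comm S T
  refine ⟨{ toFun := s, map_one' := ?_, map_mul' := ?_, map_zero' := ?_, map_add' := ?_, commutes' := ?_ },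
    hs, ?_⟩
  · exact huniq _ _ fun u v => by rw [← hs]; rfl
  · intro S T
    refine huniq _ _ fun u v => ?_
    rw [← hs, hcomm (s S) (s T)]
    show B (S.1 (T.1 u)) v = B u ((s T).1 ((s S).1 v))
    rw [hs, hs]
  · refine huniq _ _ fun u v => ?_
    rw [← hs]
    show B 0 v = B u 0
    rw [map_zero, map_zero, LinearMap.zero_apply]
  · intro S T
    refine huniq _ _ fun u v => ?_
    rw [← hs]
    show B (S.1 u + T.1 u) v = B u ((s S).1 v + (s T).1 v)
    rw [map_add, LinearMap.add_apply, map_add, hs, hs]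
  · intro c
    refine huniq _ _ fun u v => ?_
    rw [← hs]
    show B (algebraMap F (Module.End F V) c u) v = B u (algebraMap F (Module.End F V) c v)
    simp only [Module.algebraMap_end_apply, map_smul, LinearMap.smul_apply]
  · refine congrArg Subtype.val (huniq _ ⟨g ^ (r - 1), pow_mem (Algebra.subset_adjoin (Set.mem_singleton g)) _⟩ fun u v => ?_)
    show B u ((s ⟨g, _⟩).1 v) = B u ((g ^ (r - 1)) v)
    rw [← hs, ← hg.isometry u, ← Module.End.mul_apply (g) (g ^ (r - 1)), ← pow_succ',
      Nat.sub_add_cancel hg.prime.one_le, hg.pow_eq, Module.End.one_apply]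

/-- Non-degenerate irreducible spaces have even dimension, and any invariant form of the same symmetry is a
scaled norm. -/
theorem irreducible_norm (hB : Refl B) : Even (finrank F V) ∧
    ∀ B' : LinearMap.BilinForm F V, (∀ u v, B' (g u) (g v) = B' u v) →
      (∀ ε : F, (∀ u v, B v u = ε * B u v) → ∀ u v, B' v u = ε * B' u v) → Refl B' →
      ∃ C : Module.End F V, (∀ x, C (g x) = g (C x)) ∧ ∀ u v, B u v + B' (C u) (C v) = 0 := by
  classical
  haveI : Fact r.Prime := ⟨hg.prime⟩
  haveI : Finite V := Module.finite_of_finite F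
  haveI : Finite (Module.End F V) := Finite.of_injective (fun T : Module.End F V => (T : V → V)) DFunLike.coe_injective
  haveI : Nontrivial V := Module.nontrivial_of_finrank_pos (R := F) (by rw [hd]; exact hg.order_pos)
  set K := Algebra.adjoin F ({g} : Set (Module.End F V))
  obtain ⟨σ, hσ, hσg⟩ := exists_adjoint hg hd hB
  letI : Field K := (adjoin_isField hg hd).toField
  letI := Fintype.ofFinite K
  set γ : K := ⟨g, Algebra.subset_adjoin (Set.mem_singleton g)⟩ with hγ
  have hγr : γ ^ r = 1 := Subtype.ext hg.pow_eq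
  have hγ1 : γ ≠ 1 := fun h => by
    obtain ⟨x, hx⟩ := exists_ne (0 : V)
    exact hx (hg.fixfree x (by rw [show g = 1 from congrArg Subtype.val h]; rfl))
  have hord : orderOf γ = r := orderOf_eq_prime hγr hγ1
  have hσγ : σ γ = γ ^ (r - 1) := Subtype.ext hσg
  have hrank : finrank F K = orderOf (Fintype.card F : ZMod r) :=
    ((centraliser_adjoin hg hd (T := 1) fun _ => rfl).2).trans hd
  have heven : Even (orderOf (Fintype.card F : ZMod r)) := by
    obtain ⟨n, hn⟩ : ∃ n : ℕ, σ = (FiniteField.frobeniusAlgHom F K) ^ n := by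
      obtain ⟨n, hn⟩ := (FiniteField.bijective_frobeniusAlgHom_pow F K).2 σ
      exact ⟨n, hn.symm⟩
    have hpow : γ ^ (r - 1) = γ ^ (Fintype.card F ^ n) := by
      rw [← hσγ, hn, AlgHom.coe_pow, FiniteField.coe_frobeniusAlgHom, pow_iterate]
    rw [(isOfFinOrder_iff_pow_eq_one.mpr ⟨r, hg.prime.pos, hγr⟩).pow_eq_pow_iff_modEq, hord] at hpow
    have he : (Fintype.card F : ZMod r) ^ n = -1 := by
      have := (ZMod.natCast_eq_natCast_iff _ _ _).mpr hpow
      rw [Nat.cast_pow, Nat.cast_sub hg.prime.one_le, ZMod.natCast_self, Nat.cast_one, zero_sub] at this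
      exact this.symm
    by_contra ho
    rw [Nat.not_even_iff_odd] at ho
    obtain ⟨j, hj⟩ := ho
    have h2 : (-1 : ZMod r) ^ (2 * j + 1) = 1 := by
      rw [← he, ← pow_mul, mul_comm, pow_mul, ← hj, pow_orderOf_eq_one, one_pow]
    rw [Odd.neg_one_pow ⟨j, rfl⟩] at h2
    haveI : Fact (2 < r) := ⟨lt_of_le_of_ne hg.prime.two_le (Ne.symm hg.odd)⟩
    exact ZMod.neg_one_ne_one h2
  obtain ⟨j, hj⟩ := id heven
  refine ⟨by rw [hd]; exact heven, fun B' hB'g hsym hB'R => ?_⟩
  have hpe : (Fintype.card F : ZMod r) ^ j = -1 := by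
    have h1 : ((Fintype.card F : ZMod r) ^ j) ^ 2 = 1 := by
      rw [← pow_mul, mul_two, ← hj, pow_orderOf_eq_one]
    rcases sq_eq_one_iff.mp h1 with h | h
    · exfalso
      have hpos := hg.order_pos
      have := Nat.le_of_dvd (by omega) (orderOf_dvd_of_pow_eq_one h)
      omega
    · exact h
  have hσpow : ∀ x : K, σ x = x ^ (Fintype.card F ^ j) := by
    have hfrob : σ = (FiniteField.frobeniusAlgHom F K) ^ j := by
      refine AlgHom.ext fun x => ?_
      obtain ⟨T, hT⟩ := x
      induction hT using Algebra.adjoin_induction with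
      | mem S hS =>
        obtain rfl := Set.mem_singleton_iff.mp hS
        rw [AlgHom.coe_pow, FiniteField.coe_frobeniusAlgHom, pow_iterate]
        show σ γ = γ ^ (Fintype.card F ^ j)
        rw [hσγ, (isOfFinOrder_iff_pow_eq_one.mpr ⟨r, hg.prime.pos, hγr⟩).pow_eq_pow_iff_modEq, hord,
          ← ZMod.natCast_eq_natCast_iff, Nat.cast_pow, hpe, Nat.cast_sub hg.prime.one_le, ZMod.natCast_self,
          Nat.cast_one, zero_sub]
      | algebraMap c =>
        exact (σ.commutes c).trans (AlgHom.commutes _ c).symm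
      | add S S' hS hS' h h' =>
        rw [show (⟨S + S', add_mem hS hS'⟩ : K) = ⟨S, hS⟩ + ⟨S', hS'⟩ from rfl, map_add, map_add, h, h']
      | mul S S' hS hS' h h' =>
        rw [show (⟨S * S', mul_mem hS hS'⟩ : K) = ⟨S, hS⟩ * ⟨S', hS'⟩ from rfl, map_mul, map_mul, h, h']
    intro x
    rw [hfrob, AlgHom.coe_pow, FiniteField.coe_frobeniusAlgHom, pow_iterate]
  set Q₀ := Fintype.card F ^ j with hQ₀
  have hcard : Fintype.card K = Q₀ * Q₀ := by
    rw [Module.card_eq_pow_finrank (K := F), hrank, hQ₀, ← pow_add, hj]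
  -- the second form through the first
  let l : V → Module.Dual F V := fun u => B' u
  have hrep : ∀ u, ∃ w, ∀ v, B w v = B' u v := fun u => by
    refine ⟨(LinearMap.BilinForm.toDual B hB.nondegenerate).symm (l u), fun v => ?_⟩
    exact LinearMap.BilinForm.apply_toDual_symm_apply (hB := hB.nondegenerate) (l u) v
  choose k hk using hrep
  have hu : ∀ a b : V, (∀ v, B a v = B b v) → a = b := fun a b h =>
    sub_eq_zero.mp (hB.nondeg _ fun v => by rw [map_sub, LinearMap.sub_apply, h, sub_self])
  let kl : Module.End F V :=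
    { toFun := k
      map_add' := fun a b => hu _ _ fun v => by simp [hk]
      map_smul' := fun c a => hu _ _ fun v => by simp [hk] }
  have hkg : ∀ x, kl (g x) = g (kl x) := fun x => hu _ _ fun v => by
    obtain ⟨w, -, rfl⟩ := hg.map_eq (U := ⊤) (fun _ _ => Submodule.mem_top) (Submodule.mem_top (x := v))
    show B (k (g x)) (g w) = B (g (k x)) (g w)
    rw [hk, hB'g, hg.isometry, hk]
  let κ : K := ⟨kl, (centraliser_adjoin hg hd hkg).1⟩
  have hκ : σ κ = κ := by
    obtain ⟨ε, hε⟩ := hB.swap
    have hε' := hsym ε hε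
    refine Subtype.ext (LinearMap.ext fun v => hu _ _ fun u => ?_)
    show B ((σ κ).1 v) u = B (k v) u
    rw [hk, hε', hε, ← hσ]
    congr 1
    exact hk u v
  have hκ0 : κ ≠ 0 := fun h => by
    obtain ⟨x, hx⟩ := exists_ne (0 : V)
    exact hx (hB'R.nondeg x fun v => by
      rw [← hk, show k x = 0 from LinearMap.congr_fun (congrArg Subtype.val h) x, map_zero, LinearMap.zero_apply])
  set a : K := -κ⁻¹ with ha
  have ha0 : a ≠ 0 := neg_ne_zero.mpr (inv_ne_zero hκ0)
  have haσ : a ^ Q₀ = a := by rw [← hσpow, ha, map_neg, map_inv₀, hκ]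
  obtain ⟨γ₀, hγ₀⟩ := IsCyclic.exists_generator (α := Kˣ)
  obtain ⟨e, he⟩ := Submonoid.mem_powers_iff _ _ |>.mp (mem_powers_iff_mem_zpowers.mpr (hγ₀ (Units.mk0 a ha0)))
  have hQ1 : 2 ≤ Q₀ := by
    rcases Nat.lt_or_ge Q₀ 2 with h | h
    · have := Fintype.one_lt_card (α := K)
      rw [hcard] at this
      interval_cases Q₀ <;> omega
    · exact h
  have hordγ : orderOf γ₀ = (Q₀ + 1) * (Q₀ - 1) := by
    rw [orderOf_eq_card_of_forall_mem_zpowers hγ₀, Nat.card_units, Nat.card_eq_fintype_card, hcard,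
      ← Nat.mul_self_sub_mul_self_eq, one_mul]
  have hdvd : (Q₀ + 1) * (Q₀ - 1) ∣ e * (Q₀ - 1) := by
    rw [← hordγ, orderOf_dvd_iff_pow_eq_one, pow_mul, he]
    refine Units.ext ?_
    rw [Units.val_pow_eq_pow_val, Units.val_mk0, Units.val_one]
    refine mul_right_cancel₀ ha0 ?_
    rw [one_mul, ← pow_succ, show Q₀ - 1 + 1 = Q₀ by omega, haσ]
  obtain ⟨b, hb⟩ := Nat.dvd_of_mul_dvd_mul_right (by omega) hdvd
  set c : K := ((γ₀ ^ b : Kˣ) : K) with hc
  have hnorm : σ c * c = a := by
    rw [hσpow, ← pow_succ, hc, ← Units.val_pow_eq_pow_val, ← pow_mul, mul_comm, ← hb, he, Units.val_mk0]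
  refine ⟨c.1, adjoin_comm hg c.2, fun u v => ?_⟩
  have hone : κ * (σ c * c) = -1 := by rw [hnorm, ha, mul_neg, mul_inv_cancel₀ hκ0]
  have e1 : B' (c.1 u) (c.1 v) = B u ((σ c * κ * c).1 v) := by
    rw [← hk]
    show B ((κ * c).1 u) (c.1 v) = _
    rw [hσ, map_mul, hκ]
    congr 1
    show ((κ * σ c) * c).1 v = _
    rw [mul_comm κ (σ c)]
  rw [e1, show σ c * κ * c = κ * (σ c * c) by ring, hone]
  simp

end Irreducible

/-- Two isomorphic orthogonal non-degenerate irreducible pieces give a totally isotropic one. -/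
theorem IsFree.combine (hg : IsFree B g r) (hB : Refl B) {W₁ W₂ : Submodule F V} (h₁ : ∀ x ∈ W₁, g x ∈ W₁)
    (hd₁ : finrank F W₁ = orderOf (Fintype.card F : ZMod r)) (hd₂ : finrank F W₂ = orderOf (Fintype.card F : ZMod r))
    (hn₁ : W₁ ⊓ B.orthogonal W₁ = ⊥) (hn₂ : W₂ ⊓ B.orthogonal W₂ = ⊥) (hperp : ∀ x ∈ W₁, ∀ y ∈ W₂, B x y = 0)
    (φ : W₁ →ₗ[F] V) (hφ : ∀ x, φ x ∈ W₂) (hφi : Function.Injective φ)
    (hφg : ∀ x : W₁, φ ⟨g x, h₁ x x.2⟩ = g (φ x)) :
    ∃ W ≤ W₁ ⊔ W₂, (∀ x ∈ W, g x ∈ W) ∧ finrank F W = orderOf (Fintype.card F : ZMod r) ∧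
      ∀ x ∈ W, ∀ y ∈ W, B x y = 0 := by
  classical
  have hg₁ := hg.restrict h₁
  let φ₂ : W₁ →ₗ[F] W₂ := φ.codRestrict W₂ hφ
  have hbij : Function.Bijective φ₂ := by
    have hinj : Function.Injective φ₂ := fun a b h => hφi (congrArg Subtype.val h)
    exact ⟨hinj, (LinearMap.injective_iff_surjective_of_finrank_eq_finrank (hd₁.trans hd₂.symm)).mp hinj⟩
  let B' : LinearMap.BilinForm F W₁ := B.compl₁₂ φ φ
  have hB' : Refl B' := by
    refine ⟨by obtain ⟨ε, hε⟩ := hB.swap; exact ⟨ε, fun u v => hε _ _⟩, fun v hv => hφi ?_⟩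
    rw [map_zero]
    refine congrArg Subtype.val ((refl_restrict hB hn₂).nondeg (φ₂ v) fun w => ?_)
    obtain ⟨y, rfl⟩ := hbij.2 w
    exact hv y
  obtain ⟨C, hCg, hC⟩ := (irreducible_norm hg₁ (by rw [hd₁]) (refl_restrict hB hn₁)).2 B'
    (fun u v => by
      show B (φ (g.restrict h₁ u)) (φ (g.restrict h₁ v)) = B (φ u) (φ v)
      rw [← hg.isometry (φ u), ← hφg, ← hφg]; rfl)
    (fun ε hε u v => by
      obtain ⟨ε', hε'⟩ := hB.swap
      rcases eq_or_ne (B (φ u) (φ v)) 0 with h0 | h0
      · show B (φ v) (φ u) = ε * B (φ u) (φ v)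
        rw [hB.zero_swap h0, h0, mul_zero]
      · show B (φ v) (φ u) = ε * B (φ u) (φ v)
        obtain ⟨a, ha⟩ : ∃ a : W₁, a ≠ 0 := by
          refine Submodule.nonzero_mem_of_bot_lt (bot_lt_iff_ne_bot.mpr fun h => ?_)
          rw [h, finrank_bot] at hd₁
          exact hg.order_pos.ne hd₁
        obtain ⟨b, hb⟩ : ∃ b : W₁, B (a : V) b ≠ 0 := by
          by_contra hc
          push Not at hc
          exact ha ((refl_restrict hB hn₁).nondeg a hc)
        have e1 : B (b : V) a = ε * B (a : V) b := hε a b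
        rw [hε'] at e1
        rw [hε', mul_right_cancel₀ hb e1])
    hB'
  let ψ : W₁ →ₗ[F] V := W₁.subtype + φ.comp C
  have hψ : ∀ x, ψ x = (x : V) + φ (C x) := fun _ => rfl
  have hψi : Function.Injective ψ := by
    rw [← LinearMap.ker_eq_bot, LinearMap.ker_eq_bot']
    intro x hx
    refine (refl_restrict hB hn₁).nondeg x fun y => ?_
    have e : B (ψ x) (y : V) = B (x : V) (y : V) := by
      rw [hψ, map_add, LinearMap.add_apply, hB.zero_swap (hperp _ y.2 _ (hφ (C x))), add_zero]
    show B (x : V) (y : V) = 0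
    rw [← e, hx, map_zero, LinearMap.zero_apply]
  refine ⟨LinearMap.range ψ, ?_, ?_, ?_, ?_⟩
  · rintro _ ⟨x, rfl⟩
    exact Submodule.add_mem_sup x.2 (hφ _)
  · rintro _ ⟨x, rfl⟩
    refine ⟨g.restrict h₁ x, ?_⟩
    rw [hψ, hψ, map_add, hCg x, LinearMap.restrict_coe_apply]
    exact congrArg _ (hφg (C x))
  · rw [LinearMap.finrank_range_of_inj hψi, hd₁]
  · rintro _ ⟨x, rfl⟩ _ ⟨y, rfl⟩
    rw [hψ, hψ]
    simp only [map_add, LinearMap.add_apply]
    rw [hperp _ x.2 _ (hφ (C y)), hB.zero_swap (hperp _ y.2 _ (hφ (C x)))]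
    have := hC x y
    simpa [B'] using this

/-- A totally isotropic irreducible subspace has a partner. -/
theorem IsFree.exists_partner (hg : IsFree B g r) (hB : Refl B) {W : Submodule F V} (hW : ∀ x ∈ W, g x ∈ W)
    (hd : finrank F W = orderOf (Fintype.card F : ZMod r)) (hts : ∀ x ∈ W, ∀ y ∈ W, B x y = 0) :
    ∃ W' : Submodule F V, (∀ x ∈ W', g x ∈ W') ∧ finrank F W' = orderOf (Fintype.card F : ZMod r) ∧
      W ⊓ W' = ⊥ ∧ (W ⊔ W') ⊓ B.orthogonal (W ⊔ W') = ⊥ := by
  classical
  obtain ⟨W', hW', hc⟩ := Module.End.isSemisimple_iff.1 hg.semisimple (B.orthogonal W)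
    (fun x hx => hg.orth_invariant hW hx)
  have hW'i : ∀ x ∈ W', g x ∈ W' := fun x hx => hW' hx
  have hd' : finrank F W' = orderOf (Fintype.card F : ZMod r) := by
    have h1 := Submodule.finrank_add_eq_of_isCompl hc
    have h2 := LinearMap.BilinForm.finrank_orthogonal hB.nondegenerate W
    have := W.finrank_le
    omega
  have hWperp : W ≤ B.orthogonal W := fun x hx y hy => hts y hy x hx
  have hdisj : W ⊓ W' = ⊥ := eq_bot_iff.mpr fun x hx =>
    hc.disjoint.le_bot ⟨hWperp hx.1, hx.2⟩
  refine ⟨W', hW'i, hd', hdisj, ?_⟩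
  rw [eq_bot_iff]
  rintro z ⟨hz, hzo⟩
  obtain ⟨w, hw, w', hw', rfl⟩ := Submodule.mem_sup.mp hz
  have hw'0 : w' = 0 := (Submodule.mem_bot F).mp (hc.disjoint.le_bot ⟨fun y hy => by
    have e := hzo y (Submodule.mem_sup_left hy)
    show B y w' = 0
    change B y (w + w') = 0 at e
    rw [map_add] at e
    rwa [hts y hy w hw, zero_add] at e, hw'⟩)
  subst hw'0
  rw [add_zero] at hzo ⊢
  refine (Submodule.mem_bot F).mpr (hB.nondeg w fun v => hB.zero_swap ?_)
  obtain ⟨a, ha, b, hb, rfl⟩ := Submodule.mem_sup.mp (hc.sup_eq_top.symm ▸ Submodule.mem_top : v ∈ B.orthogonal W ⊔ W')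
  rw [map_add, LinearMap.add_apply, hB.zero_swap (ha w hw), zero_add]
  exact hzo b (Submodule.mem_sup_right hb)

/-- The polynomial classes of nontrivial factors of `Xʳ - 1`. -/
theorem card_factors (hr : r.Prime) (hr0 : (r : F) ≠ 0) (S : Finset F[X])
    (hS : ∀ f ∈ S, Irreducible f ∧ f.Monic ∧ f ∣ X ^ r - 1 ∧ f ≠ X - C 1) :
    S.card * orderOf (Fintype.card F : ZMod r) ≤ r - 1 := by
  classical
  haveI : Fact r.Prime := ⟨hr⟩
  have hnot : (X - C (1 : F)) ∉ S := fun h => (hS _ h).2.2.2 rfl
  have hsub : ∀ f ∈ insert (X - C (1 : F)) S, Irreducible f ∧ f.Monic ∧ f ∣ X ^ r - 1 := by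
    intro f hf
    rcases Finset.mem_insert.mp hf with rfl | hf
    · exact ⟨irreducible_X_sub_C 1, monic_X_sub_C 1, dvd_iff_isRoot.mpr (by simp)⟩
    · exact ⟨(hS f hf).1, (hS f hf).2.1, (hS f hf).2.2.1⟩
  have hdvd : (∏ f ∈ insert (X - C (1 : F)) S, f) ∣ X ^ r - 1 := by
    refine Finset.prod_dvd_of_coprime (fun f hf g hg hne => ?_) fun f hf => (hsub f hf).2.2
    refine ((hsub f hf).1.coprime_iff_not_dvd).mpr fun h => hne ?_
    exact eq_of_monic_of_associated (hsub f hf).2.1 (hsub g hg).2.1 ((hsub f hf).1.associated_of_dvd (hsub g hg).1 h)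
  have hne : (X ^ r - 1 : F[X]) ≠ 0 := X_pow_sub_C_ne_zero hr.pos 1
  have hdeg := natDegree_le_of_dvd hdvd hne
  rw [natDegree_prod _ _ fun f hf => (hsub f hf).1.ne_zero, Finset.sum_insert hnot, natDegree_X_sub_C,
    Finset.sum_congr rfl fun f hf => Elusive.natDegree_factor (hS f hf).1 (hS f hf).2.1 (hS f hf).2.2.1 (hS f hf).2.2.2,
    Finset.sum_const, smul_eq_mul, ← C_1, natDegree_X_pow_sub_C] at hdeg
  omega

/-- With more non-degenerate pieces than polynomial classes, a totally isotropic piece exists. -/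
theorem exists_isotropic : ∀ (N : ℕ) {V : Type u} [AddCommGroup V] [Module F V] [FiniteDimensional F V]
    (B : LinearMap.BilinForm F V) (g : Module.End F V) {r : ℕ}, IsFree B g r → Refl B →
    ∀ (S : Finset F[X]), finrank F V ≤ N →
      (∀ f ∈ S, Irreducible f ∧ f.Monic ∧ f ∣ X ^ r - 1 ∧ f ≠ X - C 1) →
      (∀ (W : Submodule F V) (hW : ∀ x ∈ W, g x ∈ W), finrank F W = orderOf (Fintype.card F : ZMod r) →
        minpoly F (g.restrict hW) ∉ S) →
      (S.card + finrank F V / orderOf (Fintype.card F : ZMod r)) * orderOf (Fintype.card F : ZMod r) > r - 1 →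
      ∃ W : Submodule F V, (∀ x ∈ W, g x ∈ W) ∧ finrank F W = orderOf (Fintype.card F : ZMod r) ∧
        ∀ x ∈ W, ∀ y ∈ W, B x y = 0 := by
  intro N
  induction N with
  | zero =>
    intro V _ _ _ B g r hg hB S hN hS _ hgt
    have := card_factors hg.prime hg.ne_zero S hS
    rw [Nat.le_zero.mp hN, Nat.zero_div, add_zero] at hgt
    omega
  | succ N ih =>
    intro V _ _ _ B g r hg hB S hN hS hfree hgt
    classical
    haveI : Fact r.Prime := ⟨hg.prime⟩
    by_contra hcon
    push Not at hcon
    have hipos := hg.order_pos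
    have hne : (⊤ : Submodule F V) ≠ ⊥ := fun h => by
      have h0 : finrank F V = 0 := by rw [← finrank_top, h, finrank_bot]
      rw [h0, Nat.zero_div, add_zero] at hgt
      have := card_factors hg.prime hg.ne_zero S hS
      omega
    obtain ⟨W, -, hW, hd⟩ := (hg.exists_irred (U := ⊤) fun _ _ => Submodule.mem_top).2 hne
    have hnd : W ⊓ B.orthogonal W = ⊥ := (hg.ts_or_nondeg hW hd).resolve_left fun h => by
      obtain ⟨x, hx, y, hy, hxy⟩ := hcon W hW hd
      exact hxy (h x hx y hy)
    haveI : Nontrivial W := Module.nontrivial_of_finrank_pos (R := F) (by omega)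
    set f := minpoly F (g.restrict hW) with hf
    have hg' := hg.restrict hW
    have hfdvd : f ∣ X ^ r - 1 := minpoly.dvd _ _ (by rw [map_sub, map_pow, aeval_X, map_one, hg'.pow_eq, sub_self])
    have hfm : f.Monic := minpoly.monic (Algebra.IsIntegral.isIntegral _)
    have hfi : Irreducible f := by
      refine irreducible_of_monic hfm (fun e => minpoly.ne_one F (g.restrict hW) e) |>.mpr fun a b ha hb hab => ?_
      have h0 : aeval (g.restrict hW) a * aeval (g.restrict hW) b = 0 := by
        rw [← map_mul, hab]; exact minpoly.aeval F _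
      by_cases haz : aeval (g.restrict hW) a = 0
      · exact Or.inr (by
          have h1 := minpoly.dvd _ _ haz
          have h2 : f = a := eq_of_monic_of_associated hfm ha
            (associated_of_dvd_dvd h1 ⟨b, hab.symm⟩)
          have h3 := congrArg natDegree hab
          rw [natDegree_mul ha.ne_zero hb.ne_zero, h2] at h3
          exact eq_one_of_monic_natDegree_zero hb (by omega))
      · have hcomm : ∀ x, aeval (g.restrict hW) a (g.restrict hW x) = g.restrict hW (aeval (g.restrict hW) a x) :=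
          fun x => by
            have e : aeval (g.restrict hW) (a * X) x = aeval (g.restrict hW) (X * a) x := by rw [mul_comm]
            simpa [map_mul] using e
        have hbij := exists_cyclic hg' (by rw [hd]) _ hcomm haz
        have hb0 : aeval (g.restrict hW) b = 0 := LinearMap.ext fun x => hbij.1 (by
          rw [LinearMap.zero_apply, map_zero]
          exact LinearMap.congr_fun h0 x)
        have h1 := minpoly.dvd _ _ hb0
        have h2 : f = b := eq_of_monic_of_associated hfm hb
          (associated_of_dvd_dvd h1 ⟨a, by rw [mul_comm]; exact hab.symm⟩)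
        have h3 := congrArg natDegree hab
        rw [natDegree_mul ha.ne_zero hb.ne_zero, h2] at h3
        exact Or.inl (eq_one_of_monic_natDegree_zero ha (by omega))
    have hf1 : f ≠ X - C 1 := fun h => by
      obtain ⟨x, hx⟩ := exists_ne (0 : W)
      have := LinearMap.congr_fun (minpoly.aeval F (g.restrict hW)) x
      rw [← hf, h, map_sub, aeval_X, aeval_C, map_one, LinearMap.sub_apply, Module.End.one_apply,
        LinearMap.zero_apply, sub_eq_zero] at this
      exact hx (hg'.fixfree x this)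
    have hfS : f ∉ S := hfree W hW hd
    have hWo : ∀ x ∈ B.orthogonal W, g x ∈ B.orthogonal W := fun x hx => hg.orth_invariant hW hx
    obtain ⟨ho, hdim⟩ := orth_inf_of_compl hB hnd
    refine (ih (B.restrict (B.orthogonal W)) (g.restrict hWo) (hg.restrict hWo)
      (refl_restrict hB ho) (insert f S) (by omega)
      (fun h hh => by
        rcases Finset.mem_insert.mp hh with rfl | hh
        exacts [⟨hfi, hfm, hfdvd, hf1⟩, hS h hh])
      (fun U hU hUd hmem => ?_) ?_).elim ?_
    · -- no piece of the complement repeats a class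
      set W₂ := U.map (B.orthogonal W).subtype with hW₂
      have h₂ : ∀ x ∈ W₂, g x ∈ W₂ := by
        rintro _ ⟨x, hx, rfl⟩
        exact ⟨_, hU x hx, rfl⟩
      have hd₂ : finrank F W₂ = orderOf (Fintype.card F : ZMod r) := by
        rw [hW₂, Submodule.finrank_map_subtype_eq, hUd]
      let e : U ≃ₗ[F] W₂ := Submodule.equivMapOfInjective _ (Submodule.injective_subtype _) U
      have he : ∀ x, e ((g.restrict hWo).restrict hU x) = g.restrict h₂ (e x) := fun x => Subtype.ext rfl
      have hmin : minpoly F (g.restrict h₂) = minpoly F ((g.restrict hWo).restrict hU) := by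
        have : g.restrict h₂ = LinearEquiv.conjAlgEquiv F e ((g.restrict hWo).restrict hU) := LinearMap.ext fun y => by
          obtain ⟨x, rfl⟩ := e.surjective y
          simp [he]
        rw [this]
        exact minpoly.algEquiv_eq (A := F) (B := Module.End F U) (B' := Module.End F W₂) (LinearEquiv.conjAlgEquiv F e) _
      rcases Finset.mem_insert.mp hmem with hm | hm
      swap
      · exact hfree W₂ h₂ hd₂ (hmin ▸ hm)
      have hg₂ := hg.restrict h₂
      haveI : Nontrivial W₂ := Module.nontrivial_of_finrank_pos (R := F) (by omega)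
      obtain ⟨x₀, hx₀⟩ := exists_ne (0 : W)
      obtain ⟨y₀, hy₀⟩ := exists_ne (0 : W₂)
      let Φ : ∀ (U' : Submodule F V) (h' : ∀ x ∈ U', g x ∈ U'), U' → F[X] →ₗ[F] U' := fun U' h' z =>
        (LinearMap.applyₗ z).comp (aeval (g.restrict h')).toLinearMap
      have hΦ : ∀ U' h' z p, Φ U' h' z p = aeval (g.restrict h') p z := fun _ _ _ _ => rfl
      have hker : ∀ (U' : Submodule F V) (h' : ∀ x ∈ U', g x ∈ U'),
          finrank F U' = orderOf (Fintype.card F : ZMod r) → minpoly F (g.restrict h') = f → ∀ z : U', z ≠ 0 →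
            Function.Surjective (Φ U' h' z) ∧ ∀ p, Φ U' h' z p = 0 → f ∣ p := by
        intro U' h' hdU hmU z hz
        have hgU := hg.restrict h'
        constructor
        · intro y
          have hinv : ∀ w ∈ LinearMap.range (Φ U' h' z), g.restrict h' w ∈ LinearMap.range (Φ U' h' z) := by
            rintro _ ⟨p, rfl⟩
            exact ⟨X * p, by rw [hΦ, hΦ, map_mul, aeval_X, Module.End.mul_apply]⟩
          have htop : LinearMap.range (Φ U' h' z) = ⊤ :=
            (hgU.minimal (W := ⊤) (by rw [finrank_top, hdU]) hinv le_top).resolve_left fun h =>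
              hz ((Submodule.mem_bot F).mp (h ▸ ⟨1, by rw [hΦ, map_one, Module.End.one_apply]⟩ : z ∈ (⊥ : Submodule F U')))
          exact (htop.symm ▸ Submodule.mem_top : y ∈ LinearMap.range (Φ U' h' z))
        · intro p hp
          rw [← hmU]
          refine minpoly.dvd _ _ (by_contra fun hne' => hz ?_)
          refine (exists_cyclic hgU hdU _ (fun w => ?_) hne').1 ((show aeval (g.restrict h') p z = 0 from hp).trans
            (map_zero _).symm)
          have e1 : aeval (g.restrict h') (p * X) w = aeval (g.restrict h') (X * p) w := by rw [mul_comm]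
          simpa [map_mul] using e1
      have k₁ := hker W hW hd hf.symm x₀ hx₀
      have k₂ := hker W₂ h₂ hd₂ (hmin.trans hm) y₀ hy₀
      choose P hP using k₁.1
      have hcong : ∀ p p', Φ W hW x₀ p = Φ W hW x₀ p' → Φ W₂ h₂ y₀ p = Φ W₂ h₂ y₀ p' := fun p p' h => by
        obtain ⟨c, hc⟩ := k₁.2 (p - p') (by rw [map_sub, h, sub_self])
        rw [← sub_eq_zero, ← map_sub, hc, hΦ, map_mul, Module.End.mul_apply, ← hm, ← hmin]
        exact LinearMap.congr_fun (minpoly.aeval F (g.restrict h₂)) _
      let φ : W →ₗ[F] V :=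
        { toFun := fun x => ((Φ W₂ h₂ y₀ (P x) : W₂) : V)
          map_add' := fun a b => by
            rw [← Submodule.coe_add, ← map_add]
            exact congrArg Subtype.val (hcong _ _ (by rw [hP, map_add, hP, hP]))
          map_smul' := fun c a => by
            rw [RingHom.id_apply, ← Submodule.coe_smul, ← map_smul]
            exact congrArg Subtype.val (hcong _ _ (by rw [hP, map_smul, hP])) }
      obtain ⟨Z, -, hZ, hZd, hZts⟩ := hg.combine hB hW hd hd₂ hnd
        ((hg.ts_or_nondeg h₂ hd₂).resolve_left fun h => by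
          obtain ⟨x, hx, y, hy, hxy⟩ := hcon W₂ h₂ hd₂
          exact hxy (h x hx y hy))
        (fun x hx y hy => by
          obtain ⟨z, -, rfl⟩ := hy
          exact z.2 x hx)
        φ (fun x => (Φ W₂ h₂ y₀ (P x)).2)
        (fun a b h => by
          have e : Φ W₂ h₂ y₀ (P a - P b) = 0 := by rw [map_sub, sub_eq_zero]; exact Subtype.ext h
          obtain ⟨c, hc⟩ := k₂.2 _ e
          rw [← hP a, ← hP b, ← sub_eq_zero, ← map_sub, hc, hΦ, map_mul, Module.End.mul_apply, hf]
          exact LinearMap.congr_fun (minpoly.aeval F (g.restrict hW)) _)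
        (fun x => by
          show ((Φ W₂ h₂ y₀ (P ⟨g x, hW x x.2⟩) : W₂) : V) = g ((Φ W₂ h₂ y₀ (P x) : W₂) : V)
          rw [hcong (P ⟨g x, hW x x.2⟩) (X * P x) (by
            rw [hP, hΦ W hW x₀ (X * P x), map_mul, aeval_X, Module.End.mul_apply, ← hΦ, hP]; rfl)]
          rw [hΦ, map_mul, aeval_X, Module.End.mul_apply, ← hΦ]
          rfl)
      obtain ⟨x, hx, y, hy, hxy⟩ := hcon Z hZ hZd
      exact hxy (hZts x hx y hy)
    · rw [Finset.card_insert_of_notMem hfS]
      have e : finrank F V / orderOf (Fintype.card F : ZMod r) =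
          1 + finrank F (B.orthogonal W) / orderOf (Fintype.card F : ZMod r) := by
        rw [← hdim, hd, Nat.add_div_left _ hipos]; ring
      rw [e] at hgt
      refine lt_of_lt_of_le hgt (Nat.mul_le_mul_right _ (by omega))
    · rintro U ⟨hU, hUd, hUts⟩
      obtain ⟨x, hx, y, hy, hxy⟩ := hcon (U.map (B.orthogonal W).subtype) (by
        rintro _ ⟨x, hx, rfl⟩
        exact ⟨_, hU x hx, rfl⟩) (by rw [Submodule.finrank_map_subtype_eq, hUd])
      obtain ⟨x, hx, rfl⟩ := hx
      obtain ⟨y, hy, rfl⟩ := hy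
      exact hxy (hUts x hx y hy)

/-- The number of classes to allow for. -/
noncomputable def slack (F : Type u) [Fintype F] (r : ℕ) : ℕ :=
  if Even (orderOf (Fintype.card F : ZMod r)) then (r - 1) / orderOf (Fintype.card F : ZMod r) else 0

/-- Totally isotropic invariant subspaces of every allowed dimension. -/
theorem exists_ts : ∀ (l : ℕ) {V : Type u} [AddCommGroup V] [Module F V] [FiniteDimensional F V]
    (B : LinearMap.BilinForm F V) (g : Module.End F V) {r : ℕ}, IsFree B g r → Refl B →
    (l = 0 ∨ orderOf (Fintype.card F : ZMod r) * (slack F r + 2 * l) ≤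
      finrank F V + orderOf (Fintype.card F : ZMod r)) →
      ∃ U : Submodule F V, (∀ x ∈ U, g x ∈ U) ∧ finrank F U = orderOf (Fintype.card F : ZMod r) * l ∧
        ∀ x ∈ U, ∀ y ∈ U, B x y = 0 := by
  intro l
  induction l with
  | zero =>
    intro V _ _ _ B g r _ _ _
    exact ⟨⊥, fun x hx => by rw [(Submodule.mem_bot F).mp hx, map_zero]; exact zero_mem _, by simp,
      fun x hx y _ => by simp [(Submodule.mem_bot F).mp hx]⟩
  | succ l ih =>
    intro V _ _ _ B g r hg hB hle
    classical
    rcases hle with h | hle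
    · omega
    set i := orderOf (Fintype.card F : ZMod r) with hi
    have hipos : 0 < i := hg.order_pos
    have hex : ∃ W : Submodule F V, (∀ x ∈ W, g x ∈ W) ∧ finrank F W = i ∧ ∀ x ∈ W, ∀ y ∈ W, B x y = 0 := by
      by_cases he : Even i
      · refine exists_isotropic (finrank F V) B g hg hB ∅ le_rfl (fun f hf => by simp at hf)
          (fun _ _ _ => Finset.notMem_empty _) ?_
        rw [Finset.card_empty, zero_add]
        obtain ⟨s, hs⟩ := (hg.exists_irred (U := ⊤) fun _ _ => Submodule.mem_top).1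
        rw [finrank_top, ← hi] at hs
        rw [slack, if_pos (hi ▸ he), ← hi, hs] at hle
        rw [← hi, hs, Nat.mul_div_cancel_left _ hipos]
        have hle' : (r - 1) / i + 2 * (l + 1) ≤ s + 1 := by
          refine Nat.le_of_mul_le_mul_left (?_ : i * _ ≤ i * _) hipos
          rw [Nat.mul_add i s 1, mul_one]; exact hle
        calc r - 1 < i * ((r - 1) / i + 1) := Nat.lt_mul_div_succ _ hipos
          _ ≤ i * s := Nat.mul_le_mul_left _ (by omega)
          _ = s * i := mul_comm _ _
      · have hne : (⊤ : Submodule F V) ≠ ⊥ := fun h => by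
          have h0 : finrank F V = 0 := by rw [← finrank_top, h, finrank_bot]
          rw [h0, Nat.mul_add, Nat.mul_add] at hle
          nlinarith
        obtain ⟨W, -, hW, hd⟩ := (hg.exists_irred (U := ⊤) fun _ _ => Submodule.mem_top).2 hne
        refine ⟨W, hW, hd, (hg.ts_or_nondeg hW hd).resolve_right fun hn => he ?_⟩
        rw [hi, ← hd]
        exact (irreducible_norm (hg.restrict hW) hd (refl_restrict hB hn)).1
    obtain ⟨W, hW, hd, hts⟩ := hex
    obtain ⟨W', hW', hd', hdisj, hnd⟩ := hg.exists_partner hB hW (hd.trans hi) hts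
    set P := W ⊔ W' with hP
    have hPi : ∀ x ∈ P, g x ∈ P := by
      intro x hx
      obtain ⟨a, ha, b, hb, rfl⟩ := Submodule.mem_sup.mp hx
      rw [map_add]
      exact Submodule.add_mem_sup (hW a ha) (hW' b hb)
    have hPd : finrank F P = 2 * i := by
      have := Submodule.finrank_sup_add_finrank_inf_eq W W'
      rw [hdisj, finrank_bot] at this
      rw [← hi] at hd'
      rw [hd, hd'] at this
      rw [hP]
      omega
    have hPo : ∀ x ∈ B.orthogonal P, g x ∈ B.orthogonal P := fun x hx => hg.orth_invariant hPi hx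
    obtain ⟨ho, hdim⟩ := orth_inf_of_compl hB hnd
    obtain ⟨U, hU, hUd, hUts⟩ := ih (B.restrict (B.orthogonal P)) (g.restrict hPo) (hg.restrict hPo)
      (refl_restrict hB ho) (Or.inr (by rw [← hi]; nlinarith))
    refine ⟨W ⊔ U.map (B.orthogonal P).subtype, ?_, ?_, ?_⟩
    · intro x hx
      obtain ⟨a, ha, _, ⟨b, hb, rfl⟩, rfl⟩ := Submodule.mem_sup.mp hx
      rw [map_add]
      exact Submodule.add_mem_sup (hW a ha) ⟨_, hU b hb, rfl⟩
    · have hinf : W ⊓ U.map (B.orthogonal P).subtype = ⊥ := eq_bot_iff.mpr fun x hx => by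
        obtain ⟨b, -, rfl⟩ := hx.2
        have : ((b : B.orthogonal P) : V) ∈ P ⊓ B.orthogonal P := ⟨Submodule.mem_sup_left hx.1, b.2⟩
        rwa [hnd] at this
      have := Submodule.finrank_sup_add_finrank_inf_eq W (U.map (B.orthogonal P).subtype)
      rw [hinf, finrank_bot, Submodule.finrank_map_subtype_eq, hUd, hd] at this
      rw [Nat.mul_succ]
      simp only [← hi] at this
      omega
    · intro x hx y hy
      obtain ⟨a, ha, _, ⟨b, hb, rfl⟩, rfl⟩ := Submodule.mem_sup.mp hx
      obtain ⟨a', ha', _, ⟨b', hb', rfl⟩, rfl⟩ := Submodule.mem_sup.mp hy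
      have h1 : B a (b' : V) = 0 := b'.2 a (Submodule.mem_sup_left ha)
      have h2 : B (b : V) a' = 0 := hB.zero_swap (b.2 a' (Submodule.mem_sup_left ha'))
      have h3 : B (b : V) (b' : V) = 0 := hUts b hb b' hb'
      simp [hts a ha a' ha', h1, h2, h3]

end Cfsg.Agent.Classical.Elusive.Free
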