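import Mathlib
import Cfsg.Agent.Lib.Classical.Elusive.FreeIsometry
import Cfsg.Agent.Lib.Classical.SymplecticCount

/-!
# Fixed and moved parts of an isometry of order prime to the characteristic

The space is the orthogonal sum of the fixed space and the moved space, and an invariant subspace splits along it.
-/

set_option autoImplicit false
set_option linter.unusedSectionVars false

universe u

namespace Cfsg.Agent.Classical.Elusive.Free

open Module

variable {F : Type u} [Field F]

/-- An isometry with `g ^ r = 1` and `r` invertible in `F`. -/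
structure IsTame {V : Type u} [AddCommGroup V] [Module F V] (B : LinearMap.BilinForm F V) (g : Module.End F V)
    (r : ℕ) : Prop where
  ne_zero : (r : F) ≠ 0
  pow_eq : g ^ r = 1
  isometry : ∀ u v, B (g u) (g v) = B u v

variable {V : Type u} [AddCommGroup V] [Module F V] {B : LinearMap.BilinForm F V} {g : Module.End F V} {r : ℕ}

/-- The fixed space. -/
def fixSpace (g : Module.End F V) : Submodule F V := LinearMap.ker (g - 1)

/-- The moved space. -/
def moved (g : Module.End F V) : Submodule F V := LinearMap.range (g - 1)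

theorem mem_fixSpace {x : V} : x ∈ fixSpace g ↔ g x = x := by
  rw [fixSpace, LinearMap.mem_ker, LinearMap.sub_apply, Module.End.one_apply, sub_eq_zero]

theorem moved_invariant {x : V} (hx : x ∈ moved g) : g x ∈ moved g := by
  obtain ⟨y, rfl⟩ := hx
  exact ⟨g y, by simp⟩

/-- The projection onto the fixed space. -/
noncomputable def avg (g : Module.End F V) (r : ℕ) : Module.End F V := (r : F)⁻¹ • ∑ k ∈ Finset.range r, g ^ k

theorem IsTame.g_avg (hg : IsTame B g r) : g * avg g r = avg g r := by
  have e1 := Finset.sum_range_succ (fun k => g ^ k) r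
  have e2 := Finset.sum_range_succ' (fun k => g ^ k) r
  rw [hg.pow_eq] at e1
  simp only [pow_succ', pow_zero] at e1 e2
  rw [avg, mul_smul_comm, Finset.mul_sum]
  congr 1
  exact add_right_cancel (e2.symm.trans e1)

theorem IsTame.avg_fix (hg : IsTame B g r) {x : V} (hx : g x = x) : avg g r x = x := by
  have key : ∀ k : ℕ, (g ^ k) x = x := by
    intro k
    induction k with
    | zero => rfl
    | succ k ih => rw [pow_succ', Module.End.mul_apply, ih, hx]
  rw [avg, LinearMap.smul_apply, LinearMap.sum_apply, Finset.sum_congr rfl fun k _ => key k, Finset.sum_const,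
    Finset.card_range, ← Nat.cast_smul_eq_nsmul F, smul_smul, inv_mul_cancel₀ hg.ne_zero, one_smul]

theorem IsTame.avg_moved (hg : IsTame B g r) {x : V} (hx : x ∈ moved g) : avg g r x = 0 := by
  obtain ⟨y, rfl⟩ := hx
  have hcomm : avg g r * g = avg g r := by
    have : avg g r * g = g * avg g r := by
      rw [avg, mul_smul_comm, smul_mul_assoc, Finset.mul_sum, Finset.sum_mul]
      exact congrArg _ (Finset.sum_congr rfl fun k _ => by rw [← pow_succ, ← pow_succ'])
    rw [this, hg.g_avg]
  rw [LinearMap.sub_apply, Module.End.one_apply, map_sub, ← Module.End.mul_apply, hcomm, sub_self]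

theorem IsTame.avg_mem (hg : IsTame B g r) (x : V) : avg g r x ∈ fixSpace g :=
  mem_fixSpace.mpr (by rw [← Module.End.mul_apply, hg.g_avg])

theorem IsTame.sub_avg_mem (hg : IsTame B g r) (x : V) : x - avg g r x ∈ moved g := by
  have key : ∀ k : ℕ, x - (g ^ k) x ∈ moved g := by
    intro k
    induction k with
    | zero => simp
    | succ k ih =>
      have h : (g ^ k) x - (g ^ (k + 1)) x ∈ moved g := ⟨-((g ^ k) x), by
        rw [LinearMap.sub_apply, Module.End.one_apply, map_neg, pow_succ', Module.End.mul_apply]; abel⟩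
      simpa using add_mem ih h
  have e : x - avg g r x = (r : F)⁻¹ • ∑ k ∈ Finset.range r, (x - (g ^ k) x) := by
    rw [avg, LinearMap.smul_apply, LinearMap.sum_apply, Finset.sum_sub_distrib, Finset.sum_const, Finset.card_range,
      ← Nat.cast_smul_eq_nsmul F, smul_sub, smul_smul, inv_mul_cancel₀ hg.ne_zero, one_smul]
  rw [e]
  exact Submodule.smul_mem _ _ (Submodule.sum_mem _ fun k _ => key k)

theorem IsTame.isCompl (hg : IsTame B g r) : IsCompl (fixSpace g) (moved g) := by
  refine ⟨disjoint_iff.mpr (eq_bot_iff.mpr fun x hx => ?_), codisjoint_iff.mpr (eq_top_iff.mpr fun x _ => ?_)⟩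
  · rw [Submodule.mem_bot, ← hg.avg_fix (mem_fixSpace.mp hx.1), hg.avg_moved hx.2]
  · rw [← add_sub_cancel (avg g r x) x]
    exact Submodule.add_mem_sup (hg.avg_mem x) (hg.sub_avg_mem x)

theorem IsTame.perp (hg : IsTame B g r) {x y : V} (hx : x ∈ fixSpace g) (hy : y ∈ moved g) : B x y = 0 := by
  obtain ⟨w, rfl⟩ := hy
  rw [LinearMap.sub_apply, Module.End.one_apply, map_sub]
  nth_rewrite 1 [← mem_fixSpace.mp hx]
  rw [hg.isometry, sub_self]

theorem IsTame.fix_nondeg (hg : IsTame B g r) (hB : Refl B) : fixSpace g ⊓ B.orthogonal (fixSpace g) = ⊥ := by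
  refine eq_bot_iff.mpr fun x hx => (Submodule.mem_bot F).mpr (hB.nondeg x fun v => ?_)
  rw [← add_sub_cancel (avg g r v) v, map_add, hg.perp hx.1 (hg.sub_avg_mem v), add_zero]
  exact hB.zero_swap (hx.2 _ (hg.avg_mem v))

theorem IsTame.moved_nondeg (hg : IsTame B g r) (hB : Refl B) : moved g ⊓ B.orthogonal (moved g) = ⊥ := by
  refine eq_bot_iff.mpr fun x hx => (Submodule.mem_bot F).mpr (hB.nondeg x fun v => ?_)
  rw [← add_sub_cancel (avg g r v) v, map_add, hB.zero_swap (hg.perp (hg.avg_mem v) hx.1), zero_add]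
  exact hB.zero_swap (hx.2 _ (hg.sub_avg_mem v))

theorem IsTame.free_moved [FiniteDimensional F V] (hg : IsTame B g r) (hr : r.Prime) (h2 : r ≠ 2) :
    IsFree (B.restrict (moved g)) (g.restrict fun _ hx => moved_invariant hx) r where
  prime := hr
  odd := h2
  ne_zero := hg.ne_zero
  pow_eq := LinearMap.ext fun x => Subtype.ext (by
    rw [restrict_pow (fun _ hx => moved_invariant hx), hg.pow_eq]; rfl)
  fixfree x h := Subtype.ext (by
    have h1 : (x : V) ∈ fixSpace g ⊓ moved g := ⟨mem_fixSpace.mpr (congrArg Subtype.val h), x.2⟩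
    rwa [hg.isCompl.inf_eq_bot, Submodule.mem_bot] at h1)
  isometry x y := hg.isometry x.1 y.1

/-- An invariant subspace is the sum of its fixed and moved parts. -/
theorem IsTame.finrank_split [FiniteDimensional F V] (hg : IsTame B g r) {U : Submodule F V}
    (hU : ∀ x ∈ U, g x ∈ U) :
    finrank F U = finrank F ↥(U ⊓ fixSpace g) + finrank F ↥(U ⊓ moved g) := by
  have havg : ∀ x ∈ U, avg g r x ∈ U := by
    intro x hx
    have key : ∀ k : ℕ, (g ^ k) x ∈ U := by
      intro k
      induction k with
      | zero => simpa using hx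
      | succ k ih => rw [pow_succ', Module.End.mul_apply]; exact hU _ ih
    rw [avg, LinearMap.smul_apply, LinearMap.sum_apply]
    exact U.smul_mem _ (U.sum_mem fun k _ => key k)
  have e : (U ⊓ fixSpace g) ⊔ (U ⊓ moved g) = U := le_antisymm (sup_le inf_le_left inf_le_left) fun x hx => by
    rw [← add_sub_cancel (avg g r x) x]
    exact Submodule.add_mem_sup ⟨havg x hx, hg.avg_mem x⟩ ⟨sub_mem hx (havg x hx), hg.sub_avg_mem x⟩
  have h0 : (U ⊓ fixSpace g) ⊓ (U ⊓ moved g) = ⊥ := eq_bot_iff.mpr fun x hx =>
    hg.isCompl.disjoint.le_bot ⟨hx.1.2, hx.2.2⟩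
  have := Submodule.finrank_sup_add_finrank_inf_eq (U ⊓ fixSpace g) (U ⊓ moved g)
  rw [e, h0, finrank_bot, add_zero] at this
  exact this

/-- Totally isotropic subspaces have at most half the dimension. -/
theorem two_mul_finrank_le [FiniteDimensional F V] (hB : Refl B) {U : Submodule F V}
    (hU : ∀ x ∈ U, ∀ y ∈ U, B x y = 0) : 2 * finrank F U ≤ finrank F V := by
  have hle : U ≤ B.orthogonal U := fun x hx y hy => hU y hy x hx
  have h1 := Submodule.finrank_mono hle
  rw [LinearMap.BilinForm.finrank_orthogonal hB.nondegenerate] at h1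
  have := U.finrank_le
  omega

/-- Totally isotropic subspaces inside a non-degenerate subspace. -/
theorem two_mul_finrank_le' [FiniteDimensional F V] (hB : Refl B) {W U : Submodule F V}
    (hW : W ⊓ B.orthogonal W = ⊥) (hUW : U ≤ W) (hU : ∀ x ∈ U, ∀ y ∈ U, B x y = 0) :
    2 * finrank F U ≤ finrank F W := by
  have hd : finrank F (U.comap W.subtype) = finrank F U :=
    (Submodule.comapSubtypeEquivOfLe hUW).finrank_eq
  rw [← hd]
  refine two_mul_finrank_le (B := B.restrict W) ⟨?_, fun v hv => Subtype.ext ?_⟩ fun x hx y hy => hU _ hx _ hy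
  · obtain ⟨ε, hε⟩ := hB.swap
    exact ⟨ε, fun a b => hε a.1 b.1⟩
  · have h1 : (v : V) ∈ W ⊓ B.orthogonal W := ⟨v.2, fun w hw => hB.zero_swap (hv ⟨w, hw⟩)⟩
    rwa [hW, Submodule.mem_bot] at h1

/-- A non-degenerate alternating space has totally isotropic subspaces of every dimension up to half. -/
theorem exists_ts_alt [FiniteDimensional F V] (halt : SpCount.IsAltND B) {k : ℕ} (hk : 2 * k ≤ finrank F V)
    {D : ℕ} (hD : finrank F V = 2 * D) :
    ∃ U : Submodule F V, finrank F U = k ∧ ∀ x ∈ U, ∀ y ∈ U, B x y = 0 := by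
  obtain ⟨f⟩ := SpCount.exists_fam D halt hD
  have hli := SpCount.fam_linearIndependent halt f
  let e : Fin k → Fin D ⊕ Fin D := fun j => .inl ⟨j, by omega⟩
  have he : Function.Injective e := fun a b h => by
    simp only [e, Sum.inl.injEq, Fin.mk.injEq] at h
    exact Fin.ext h
  refine ⟨Submodule.span F (Set.range (f.1 ∘ e)), ?_, ?_⟩
  · rw [finrank_span_eq_card (hli.comp e he), Fintype.card_fin]
  · intro x hx y hy
    have h1 : Submodule.span F (Set.range (f.1 ∘ e)) ≤ LinearMap.ker (B.flip y) := by
      rw [Submodule.span_le]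
      rintro _ ⟨a, rfl⟩
      have h2 : Submodule.span F (Set.range (f.1 ∘ e)) ≤ LinearMap.ker (B (f.1 (e a))) := by
        rw [Submodule.span_le]
        rintro _ ⟨b, rfl⟩
        exact (f.2 (e a) (e b)).trans (SpCount.J_apply _ _).1
      exact h2 hy
    exact h1 hx

end Cfsg.Agent.Classical.Elusive.Free
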