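import Mathlib
import Cfsg.Agent.Lib.Classical.Elusive.FreeSplit

/-!
# Models of isometries of prime order with few invariant totally isotropic subspaces

Alternating or symmetric spaces built from the field with `q ^ i` elements, `i` the order of `q` modulo `r`.
-/

set_option autoImplicit false
set_option linter.unusedSectionVars false

universe u

namespace Cfsg.Agent.Classical.Elusive.Free

open Module Polynomial

variable {F : Type u} [Field F] [Fintype F] {r : ℕ}

/-- A field of degree the order of `q` modulo `r`, with elements of order `r` in enough conjugacy classes. -/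
theorem exists_field (hr : r.Prime) (hr0 : (r : F) ≠ 0) {t : ℕ}
    (ht : t * orderOf (Fintype.card F : ZMod r) ≤ r - 1) :
    ∃ (K : Type u) (_ : Field K) (_ : Algebra F K) (_ : Fintype K) (ζ : Fin t → K),
      finrank F K = orderOf (Fintype.card F : ZMod r) ∧ (∀ a, ζ a ^ r = 1 ∧ ζ a ≠ 1) ∧
      (∀ a b, minpoly F (ζ a) = minpoly F (ζ b) → a = b) ∧ ∃ z : K, z ^ r = 1 ∧ z ≠ 1 := by
  classical
  haveI : Fact r.Prime := ⟨hr⟩
  obtain ⟨p, hp⟩ := CharP.exists F
  haveI := hp
  haveI : Fact p.Prime := ⟨CharP.char_is_prime F p⟩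
  set i := orderOf (Fintype.card F : ZMod r) with hi
  have hq0 : (Fintype.card F : ZMod r) ≠ 0 := by
    rw [ne_eq, ZMod.natCast_eq_zero_iff]
    intro h
    obtain ⟨n, hpp, hn⟩ := FiniteField.card F p
    rw [hn] at h
    refine hr0 ?_
    rw [(Nat.prime_dvd_prime_iff_eq hr hpp).mp (hr.dvd_of_dvd_pow h)]
    exact CharP.cast_eq_zero F p
  have hipos : 0 < i := orderOf_pos_iff.mpr (isOfFinOrder_iff_pow_eq_one.mpr
    ⟨r - 1, by have := hr.two_le; omega, ZMod.pow_card_sub_one_eq_one hq0⟩)
  haveI : NeZero i := ⟨hipos.ne'⟩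
  let K := ULift.{u} (FiniteField.Extension F p i)
  have hK : finrank F K = i :=
    (ULift.moduleEquiv : ULift.{u} (FiniteField.Extension F p i) ≃ₗ[F] _).finrank_eq.trans
      (FiniteField.finrank_extension F p i)
  haveI : Module.Finite F K := Module.finite_of_finrank_eq_succ (n := i - 1) (by omega)
  haveI : Finite K := Module.finite_of_finite F
  letI := Fintype.ofFinite K
  have hdvd : r ∣ Nat.card Kˣ := by
    rw [Nat.card_units, Module.natCard_eq_pow_finrank (K := F) (V := K), hK, Nat.card_eq_fintype_card]
    rw [← ZMod.natCast_eq_zero_iff, Nat.cast_sub (Nat.one_le_pow _ _ Fintype.card_pos), Nat.cast_pow, Nat.cast_one,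
      sub_eq_zero, hi, pow_orderOf_eq_one]
  obtain ⟨z, hz⟩ := exists_prime_orderOf_dvd_card' r hdvd
  have hzr : (z : K) ^ r = 1 := by rw [← Units.val_pow_eq_pow_val, ← hz, pow_orderOf_eq_one, Units.val_one]
  have hzord : orderOf (z : K) = r := by rw [orderOf_units, hz]
  let E : Finset K := (Finset.Icc 1 (r - 1)).image fun k => (z : K) ^ k
  have hEc : E.card = r - 1 := by
    rw [Finset.card_image_of_injOn, Nat.card_Icc, Nat.add_sub_cancel]
    intro a ha b hb hab
    simp only [Finset.coe_Icc, Set.mem_Icc] at ha hb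
    exact pow_injOn_Iio_orderOf (by rw [Set.mem_Iio, hzord]; omega) (by rw [Set.mem_Iio, hzord]; omega) hab
  have hEp : ∀ x ∈ E, x ^ r = 1 ∧ x ≠ 1 := by
    intro x hx
    obtain ⟨k, hk, rfl⟩ := Finset.mem_image.mp hx
    rw [Finset.mem_Icc] at hk
    refine ⟨by rw [← pow_mul, mul_comm, pow_mul, hzr, one_pow], fun h => ?_⟩
    have := Nat.le_of_dvd (by omega) (orderOf_dvd_of_pow_eq_one h)
    rw [hzord] at this
    omega
  have hcard : t ≤ (E.image (minpoly F)).card := by
    have h1 : E.card ≤ i * (E.image (minpoly F)).card := by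
      refine Finset.card_le_mul_card_image E i fun f hf => ?_
      obtain ⟨y, hy, rfl⟩ := Finset.mem_image.mp hf
      have hint := Algebra.IsIntegral.isIntegral (R := F) y
      refine le_trans (Finset.card_le_card (t := ((minpoly F y).map (algebraMap F K)).roots.toFinset) fun x hx => ?_)
        ((Multiset.toFinset_card_le _).trans ((card_roots' _).trans ?_))
      · rw [Finset.mem_filter] at hx
        rw [Multiset.mem_toFinset, mem_roots (Polynomial.map_ne_zero (minpoly.ne_zero hint)), IsRoot.def,
          eval_map_algebraMap, ← hx.2, minpoly.aeval]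
      · rw [natDegree_map]
        exact (minpoly.natDegree_le y).trans_eq hK
    rw [hEc] at h1
    by_contra hlt
    push Not at hlt
    have h2 := Nat.mul_le_mul_left i (Nat.succ_le_of_lt hlt)
    rw [Nat.mul_succ, mul_comm i t] at h2
    omega
  obtain ⟨S, hS, hSc⟩ := Finset.exists_subset_card_eq hcard
  let φ : Fin t → S := (S.equivFinOfCardEq hSc).symm
  have hpre : ∀ a : Fin t, ∃ x ∈ E, minpoly F x = (φ a : F[X]) := fun a => Finset.mem_image.mp (hS (φ a).2)
  choose ζ hζE hζ using hpre
  refine ⟨K, inferInstance, inferInstance, inferInstance, ζ, hK, fun a => hEp _ (hζE a), fun a b h => ?_, z, hzr,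
    fun h => ?_⟩
  · rw [hζ, hζ] at h
    exact (S.equivFinOfCardEq hSc).symm.injective (Subtype.ext h)
  · rw [h, orderOf_one] at hzord
    exact hr.one_lt.ne hzord

/-- A model with many invariant forms: pairs of dual spaces. -/
theorem exists_paired (hr : r.Prime) (h2 : r ≠ 2) (hr0 : (r : F) ≠ 0) (s : ℕ) :
    ∃ (M : Type u) (_ : AddCommGroup M) (_ : Module F M) (_ : FiniteDimensional F M)
      (B : LinearMap.BilinForm F M) (g : Module.End F M),
      IsFree B g r ∧ SpCount.IsAltND B ∧ finrank F M = 2 * (orderOf (Fintype.card F : ZMod r) * s) := by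
  classical
  obtain ⟨K, _, _, _, -, hK, -, -, z, hzr, hz1⟩ := exists_field (F := F) hr hr0 (t := 0) (by simp)
  haveI : Module.Finite F K := Module.Finite.of_finite
  have hz0 : z ≠ 0 := fun h => by rw [h, zero_pow hr.ne_zero] at hzr; exact zero_ne_one hzr
  let β : (Fin s → K) →ₗ[F] (Fin s → K) →ₗ[F] F := LinearMap.mk₂ F
    (fun a b => ∑ k, Algebra.trace F K (a k * b k))
    (fun a a' b => by simp [add_mul, Finset.sum_add_distrib])
    (fun c a b => by simp [Finset.mul_sum])
    (fun a b b' => by simp [mul_add, Finset.sum_add_distrib])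
    (fun c a b => by simp [Finset.mul_sum])
  have hβ : ∀ a b, β a b = ∑ k, Algebra.trace F K (a k * b k) := fun _ _ => rfl
  have hβnd : ∀ a, (∀ b, β a b = 0) → a = 0 := fun a ha => funext fun k => by
    refine (traceForm_nondegenerate F K).1 _ fun y => ?_
    have := ha (Pi.single k y)
    rw [hβ, Finset.sum_eq_single k (fun j _ hj => by simp [hj]) (by simp)] at this
    simpa using this
  have hβs : ∀ a b, β a b = β b a := fun a b => by
    rw [hβ, hβ]; exact Finset.sum_congr rfl fun k _ => by rw [mul_comm]
  let B : LinearMap.BilinForm F ((Fin s → K) × (Fin s → K)) := LinearMap.mk₂ F (fun u v => β u.1 v.2 - β v.1 u.2)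
    (fun u u' v => by simp only [Prod.fst_add, Prod.snd_add, map_add, LinearMap.add_apply]; ring)
    (fun c u v => by simp only [Prod.smul_fst, Prod.smul_snd, map_smul, LinearMap.smul_apply, smul_eq_mul]; ring)
    (fun u v v' => by simp only [Prod.fst_add, Prod.snd_add, map_add, LinearMap.add_apply]; ring)
    (fun c u v => by simp only [Prod.smul_fst, Prod.smul_snd, map_smul, LinearMap.smul_apply, smul_eq_mul]; ring)
  have hB : ∀ u v, B u v = β u.1 v.2 - β v.1 u.2 := fun _ _ => rfl
  let g : Module.End F ((Fin s → K) × (Fin s → K)) := LinearMap.prodMap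
    (LinearMap.pi fun k => (LinearMap.mulLeft F z).comp (LinearMap.proj k))
    (LinearMap.pi fun k => (LinearMap.mulLeft F z⁻¹).comp (LinearMap.proj k))
  have hg : ∀ u : ((Fin s → K) × (Fin s → K)), g u = (fun k => z * u.1 k, fun k => z⁻¹ * u.2 k) := fun _ => rfl
  have hβg : ∀ a b, β (fun k => z * a k) (fun k => z⁻¹ * b k) = β a b := fun a b => by
    rw [hβ, hβ]
    exact Finset.sum_congr rfl fun k _ => by
      rw [mul_mul_mul_comm, mul_inv_cancel₀ hz0, one_mul]
  refine ⟨((Fin s → K) × (Fin s → K)), inferInstance, inferInstance, inferInstance, B, g, ⟨hr, h2, hr0, ?_, ?_, ?_⟩, ⟨?_, ?_⟩, ?_⟩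
  · have hit : ∀ (n : ℕ) (u : ((Fin s → K) × (Fin s → K))), (g ^ n) u = (fun k => z ^ n * u.1 k, fun k => z⁻¹ ^ n * u.2 k) := by
      intro n
      induction n with
      | zero => intro u; simp
      | succ n ih => intro u; rw [pow_succ', Module.End.mul_apply, ih, hg]; simp [pow_succ', mul_assoc]
    refine LinearMap.ext fun u => ?_
    rw [hit, inv_pow, hzr, inv_one]
    simp
  · intro u hu
    rw [hg] at hu
    have h1 : ∀ k, u.1 k = 0 := fun k => by
      have e := congrFun (congrArg Prod.fst hu) k
      by_contra h0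
      exact hz1 (mul_right_cancel₀ h0 (e.trans (one_mul _).symm))
    have h2' : ∀ k, u.2 k = 0 := fun k => by
      have e := congrFun (congrArg Prod.snd hu) k
      by_contra h0
      exact hz1 (inv_eq_one.mp (mul_right_cancel₀ h0 (e.trans (one_mul _).symm)))
    exact Prod.ext (funext h1) (funext h2')
  · intro u v
    rw [hB, hB, hg, hg, hβg, hβg]
  · intro u; rw [hB, sub_self]
  · intro u hu
    refine Prod.ext (hβnd _ fun b => ?_) (hβnd _ fun b => ?_)
    · have := hu (0, b); simpa [hB] using this
    · have := hu (b, 0)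
      rw [hβs]
      simpa [hB] using this
  · rw [Module.finrank_prod, Module.finrank_pi_fintype, Finset.sum_const, Finset.card_univ, Fintype.card_fin, hK,
      smul_eq_mul]
    ring

/-- A model of `s` irreducible non-degenerate blocks in the most spread-out classes. -/
theorem exists_spread (hr : r.Prime) (h2 : r ≠ 2) (hr0 : (r : F) ≠ 0)
    (he : Even (orderOf (Fintype.card F : ZMod r))) (s : ℕ) :
    ∃ (M : Type u) (_ : AddCommGroup M) (_ : Module F M) (_ : FiniteDimensional F M)
      (B : LinearMap.BilinForm F M) (g : Module.End F M),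
      IsFree B g r ∧ SpCount.IsAltND B ∧ finrank F M = orderOf (Fintype.card F : ZMod r) * s ∧
      ∀ U : Submodule F M, (∀ x ∈ U, g x ∈ U) → (∀ x ∈ U, ∀ y ∈ U, B x y = 0) →
        finrank F U ≤ orderOf (Fintype.card F : ZMod r) *
          ((s + 1 - (r - 1) / orderOf (Fintype.card F : ZMod r)) / 2) := by
  classical
  haveI : Fact r.Prime := ⟨hr⟩
  set i := orderOf (Fintype.card F : ZMod r) with hi
  set t := (r - 1) / i with ht
  obtain ⟨K, _, _, _, ζ, hK, hζ, hinj, -⟩ := exists_field (F := F) hr hr0 (t := t) (Nat.div_mul_le_self _ _)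
  haveI : Module.Finite F K := Module.Finite.of_finite
  rw [← hi] at hK
  obtain ⟨j, hj⟩ := he
  have hipos : 0 < i := by rw [← hK]; exact Module.finrank_pos
  set q := Fintype.card F with hq
  have hpe : (q : ZMod r) ^ j = -1 := by
    have h1 : ((q : ZMod r) ^ j) ^ 2 = 1 := by rw [← pow_mul, mul_two, ← hj, hi, pow_orderOf_eq_one]
    rcases sq_eq_one_iff.mp h1 with h | h
    · exfalso
      have := Nat.le_of_dvd (by omega) (orderOf_dvd_of_pow_eq_one h)
      omega
    · exact h
  have hcard : Fintype.card K = q ^ j * q ^ j := by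
    rw [Module.card_eq_pow_finrank (K := F) (V := K), hK, hj, pow_add]
  set σ := (FiniteField.frobeniusAlgHom F K) ^ j with hσdef
  have hσ : ∀ x, σ x = x ^ (q ^ j) := fun x => by
    rw [hσdef, AlgHom.coe_pow, FiniteField.coe_frobeniusAlgHom, pow_iterate]
  have hσσ : ∀ x, σ (σ x) = x := fun x => by rw [hσ, hσ, ← pow_mul, ← hcard, FiniteField.pow_card]
  have hζσ : ∀ a, ζ a * σ (ζ a) = 1 := fun a => by
    rw [hσ, ← pow_succ']
    obtain ⟨c, hc⟩ : r ∣ q ^ j + 1 := by
      rw [← ZMod.natCast_eq_zero_iff]; push_cast; rw [hpe]; ring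
    rw [hc, pow_mul, (hζ a).1, one_pow]
  have hrt : t ≠ 0 := by
    intro h0
    rw [ht, Nat.div_eq_zero_iff] at h0
    rcases h0 with h0 | h0
    · omega
    · have hdvd : i ∣ r - 1 := by
        rw [hi]
        refine orderOf_dvd_of_pow_eq_one (ZMod.pow_card_sub_one_eq_one ?_)
        intro e
        rw [e, zero_pow (by omega)] at hpe
        exact one_ne_zero (neg_eq_zero.mp hpe.symm)
      have := Nat.le_of_dvd (by have := hr.two_le; omega) hdvd
      omega
  haveI : NeZero t := ⟨hrt⟩
  have ht1 : 1 ≤ t := Nat.one_le_iff_ne_zero.mpr hrt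
  obtain ⟨θ, hθ0, hθ⟩ : ∃ θ : K, θ ≠ 0 ∧ σ θ = -θ := by
    obtain ⟨y, hy⟩ : ∃ y, σ y ≠ y := by
      by_contra hc
      push Not at hc
      have := hζσ 0
      rw [hc, ← pow_two] at this
      exact (hζ 0).2 (by
        have e := (hζ 0).1
        obtain ⟨k, hk⟩ := hr.odd_of_ne_two h2
        rwa [hk, pow_succ, pow_mul, this, one_pow, one_mul] at e)
    exact ⟨y - σ y, sub_ne_zero.mpr (Ne.symm hy), by rw [map_sub, hσσ]; ring⟩
  -- the classes of the blocks
  let cls : Fin s → Fin t := fun k => ⟨min k.1 (t - 1), by omega⟩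
  let B : LinearMap.BilinForm F (Fin s → K) := LinearMap.mk₂ F
    (fun u v => ∑ k, Algebra.trace F K (θ * (u k * σ (v k))))
    (fun a a' b => by simp [add_mul, mul_add, Finset.sum_add_distrib])
    (fun c a b => by simp [Finset.mul_sum])
    (fun a b b' => by simp [mul_add, Finset.sum_add_distrib])
    (fun c a b => by simp [Finset.mul_sum])
  have hB : ∀ u v, B u v = ∑ k, Algebra.trace F K (θ * (u k * σ (v k))) := fun _ _ => rfl
  let g : Module.End F (Fin s → K) :=
    LinearMap.pi fun k => (LinearMap.mulLeft F (ζ (cls k))).comp (LinearMap.proj k)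
  have hg : ∀ u k, g u k = ζ (cls k) * u k := fun _ _ => rfl
  have hit : ∀ (n : ℕ) u k, (g ^ n) u k = ζ (cls k) ^ n * u k := by
    intro n
    induction n with
    | zero => intro u k; simp
    | succ n ih => intro u k; rw [pow_succ', Module.End.mul_apply, hg, ih, pow_succ', mul_assoc]
  have haev : ∀ (P : F[X]) u k, aeval g P u k = aeval (ζ (cls k)) P * u k := by
    intro P u k
    induction P using Polynomial.induction_on' with
    | add a b ha hb => simp [ha, hb, add_mul]
    | monomial n a =>
      simp only [aeval_monomial, Module.End.mul_apply, Module.algebraMap_end_apply, Pi.smul_apply, hit,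
        Algebra.smul_def, mul_assoc]
  have hfree : IsFree B g r := by
    refine ⟨hr, h2, hr0, LinearMap.ext fun u => funext fun k => ?_, fun u hu => funext fun k => ?_, fun u v => ?_⟩
    · rw [hit, (hζ _).1, one_mul]; rfl
    · have e := congrFun hu k
      rw [hg] at e
      by_contra h0
      exact (hζ _).2 (mul_right_cancel₀ h0 (e.trans (one_mul _).symm))
    · rw [hB, hB]
      refine Finset.sum_congr rfl fun k _ => ?_
      rw [hg, hg, map_mul σ]
      congr 1
      linear_combination (θ * (u k * σ (v k))) * hζσ (cls k)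
  have htr0 : ∀ w : K, σ w = -w → Algebra.trace F K w = 0 := fun w hw => by
    refine (algebraMap F K).injective ?_
    have e2d : Finset.range (finrank F K) = Finset.range (j + j) := by rw [hK, hj]
    rw [map_zero, FiniteField.algebraMap_trace_eq_sum_pow, e2d, Finset.sum_range_add, Nat.card_eq_fintype_card,
      ← Finset.sum_add_distrib]
    refine Finset.sum_eq_zero fun k _ => ?_
    rw [pow_add (Fintype.card F) j k, pow_mul, ← hq, ← hσ, hw]
    have hfr : ((FiniteField.frobeniusAlgHom F K) ^ k) (-w) = -(((FiniteField.frobeniusAlgHom F K) ^ k) w) :=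
      map_neg _ _
    rw [AlgHom.coe_pow, FiniteField.coe_frobeniusAlgHom, pow_iterate] at hfr
    simp only at hfr
    rw [← hq] at hfr
    rw [hfr, add_neg_cancel]
  have halt : SpCount.IsAltND B := by
    refine ⟨fun u => ?_, fun u hu => funext fun k => ?_⟩
    · rw [hB]
      refine Finset.sum_eq_zero fun k _ => htr0 _ ?_
      rw [map_mul, map_mul, hθ, hσσ]; ring
    · have hz : θ * u k = 0 := (traceForm_nondegenerate F K).1 _ fun y => by
        have := hu (Pi.single k (σ y))
        rw [hB, Finset.sum_eq_single k (fun l _ hl => by simp [hl]) (by simp), Pi.single_eq_same, hσσ,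
          ← mul_assoc] at this
        simpa using this
      exact (mul_eq_zero.mp hz).resolve_left hθ0
  have hrefl : Refl B := ⟨⟨-1, fun u v => by
    have h := halt.self (u + v)
    simp only [map_add, LinearMap.add_apply, halt.self, zero_add, add_zero] at h
    linear_combination h⟩, halt.nondeg⟩
  refine ⟨Fin s → K, inferInstance, inferInstance, inferInstance, B, g, hfree, halt, ?_, fun U hU hts => ?_⟩
  · rw [Module.finrank_pi_fintype, Finset.sum_const, Finset.card_univ, Fintype.card_fin, hK, smul_eq_mul, mul_comm]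
  -- class projections
  have hproj : ∀ a : Fin t, ∃ P : F[X], ∀ b, aeval (ζ b) P = if b = a then 1 else 0 := by
    intro a
    have hco : IsCoprime (minpoly F (ζ a)) (∏ b ∈ Finset.univ.erase a, minpoly F (ζ b)) := by
      refine IsCoprime.prod_right fun b hb => ?_
      have ha := Algebra.IsIntegral.isIntegral (R := F) (ζ a)
      have hb' := Algebra.IsIntegral.isIntegral (R := F) (ζ b)
      refine ((minpoly.irreducible ha).coprime_iff_not_dvd).mpr fun h => Finset.ne_of_mem_erase hb (hinj a b ?_).symm
      exact eq_of_monic_of_associated (minpoly.monic ha) (minpoly.monic hb')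
        ((minpoly.irreducible ha).associated_of_dvd (minpoly.irreducible hb') h)
    obtain ⟨c, d, hcd⟩ := hco
    refine ⟨d * ∏ b ∈ Finset.univ.erase a, minpoly F (ζ b), fun b => ?_⟩
    split_ifs with hb
    · have e := congrArg (aeval (ζ b)) hcd
      subst hb
      rwa [map_add, map_mul, minpoly.aeval, mul_zero, zero_add, map_one] at e
    · rw [map_mul, map_prod, Finset.prod_eq_zero (Finset.mem_erase.mpr ⟨hb, Finset.mem_univ b⟩) (minpoly.aeval F _),
        mul_zero]
  choose P hP using hproj
  let E : Fin t → Submodule F (Fin s → K) := fun a =>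
    { carrier := {u | ∀ k, cls k ≠ a → u k = 0}
      add_mem' := fun {u v} hu hv k hk => by simp [hu k hk, hv k hk]
      zero_mem' := fun _ _ => rfl
      smul_mem' := fun c u hu k hk => by simp [hu k hk] }
  have haevU : ∀ a, ∀ x ∈ U, aeval g (P a) x ∈ U := fun a x hx => by
    have key : ∀ n : ℕ, (g ^ n) x ∈ U := by
      intro n
      induction n with
      | zero => simpa using hx
      | succ n ih => rw [pow_succ', Module.End.mul_apply]; exact hU _ ih
    generalize P a = Q
    induction Q using Polynomial.induction_on' with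
    | add a b ha hb => rw [map_add, LinearMap.add_apply]; exact U.add_mem ha hb
    | monomial n c =>
      rw [aeval_monomial, Module.End.mul_apply, Module.algebraMap_end_apply]
      exact U.smul_mem _ (key n)
  have hle : U ≤ ⨆ a, U ⊓ E a := fun x hx => by
    have hsum : x = ∑ a, aeval g (P a) x := funext fun k => by
      rw [Finset.sum_apply, Finset.sum_congr rfl fun a _ => haev (P a) x k,
        Finset.sum_eq_single (cls k) (fun a _ ha => by rw [hP, if_neg (Ne.symm ha), zero_mul]) (by simp),
        hP, if_pos rfl, one_mul]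
    rw [hsum]
    refine Submodule.sum_mem _ fun a _ => Submodule.mem_iSup_of_mem a ⟨haevU a x hx, fun k hk => ?_⟩
    rw [haev, hP, if_neg hk, zero_mul]
  have hbound : ∀ a : Fin t,
      finrank F ↥(U ⊓ E a) ≤ i * ((Finset.univ.filter fun k => cls k = a).card / 2) := by
    intro a
    obtain ⟨c, hc⟩ := (hfree.exists_irred (U := U ⊓ E a) fun x hx =>
      ⟨hU x hx.1, fun k hk => by rw [hg, hx.2 k hk, mul_zero]⟩).1
    rw [← hi] at hc
    rw [hc]
    refine Nat.mul_le_mul_left i ((Nat.le_div_iff_mul_le two_pos).mpr ?_)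
    have hnd : E a ⊓ B.orthogonal (E a) = ⊥ := eq_bot_iff.mpr fun x hx => by
      refine (Submodule.mem_bot F).mpr (hrefl.nondeg x fun v => ?_)
      have h1 : B (fun k => if cls k = a then v k else 0) x = 0 := hx.2 _ fun k hk => if_neg hk
      have e : B x v = B x (fun k => if cls k = a then v k else 0) := by
        rw [hB, hB]
        refine Finset.sum_congr rfl fun k _ => ?_
        by_cases hk : cls k = a
        · rw [if_pos hk]
        · rw [hx.1 k hk, zero_mul, zero_mul]
      rw [e]
      exact hrefl.zero_swap h1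
    have h1 := two_mul_finrank_le' hrefl hnd inf_le_right fun x hx y hy => hts x hx.1 y hy.1
    have h2' : finrank F (E a) = (Finset.univ.filter fun k => cls k = a).card * i := by
      let e : E a ≃ₗ[F] ({k // cls k = a} → K) :=
        { toFun := fun u k => u.1 k.1
          map_add' := fun _ _ => rfl
          map_smul' := fun _ _ => rfl
          invFun := fun w => ⟨fun k => if h : cls k = a then w ⟨k, h⟩ else 0, fun k hk => dif_neg hk⟩
          left_inv := fun u => Subtype.ext (funext fun k => by
            by_cases hk : cls k = a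
            · simp [hk]
            · simp [hk, u.2 k hk])
          right_inv := fun w => funext fun k => by simp [k.2] }
      rw [e.finrank_eq, Module.finrank_pi_fintype, Finset.sum_const, Finset.card_univ, Fintype.card_subtype, hK,
        smul_eq_mul]
    rw [hc, h2'] at h1
    exact Nat.le_of_mul_le_mul_right (show c * 2 * i ≤ (Finset.univ.filter fun k => cls k = a).card * i by linarith) hipos
  have hsup : finrank F ↥(⨆ a, U ⊓ E a) ≤ ∑ a, finrank F ↥(U ⊓ E a) := by
    rw [← Finset.sup_univ_eq_iSup]
    induction (Finset.univ : Finset (Fin t)) using Finset.induction with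
    | empty => simp
    | insert a T ha ih =>
      rw [Finset.sup_insert, Finset.sum_insert ha]
      exact (Submodule.finrank_add_le_finrank_add_finrank _ _).trans (Nat.add_le_add_left ih _)
  refine (Submodule.finrank_mono hle).trans (hsup.trans ((Finset.sum_le_sum fun a _ => hbound a).trans ?_))
  rw [← Finset.mul_sum]
  refine Nat.mul_le_mul_left i ?_
  rw [← Finset.sum_erase_add _ _ (Finset.mem_univ (⟨t - 1, by omega⟩ : Fin t))]
  have hone : ∀ a ∈ Finset.univ.erase (⟨t - 1, by omega⟩ : Fin t),
      (Finset.univ.filter fun k => cls k = a).card / 2 = 0 := fun a ha => by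
    have hne : a.1 ≠ t - 1 := fun h => Finset.ne_of_mem_erase ha (Fin.ext h)
    refine Nat.div_eq_of_lt (Nat.lt_succ_of_le (Finset.card_le_one.mpr fun k hk l hl => ?_))
    simp only [Finset.mem_filter, Finset.mem_univ, true_and, cls, Fin.ext_iff] at hk hl
    ext
    omega
  rw [Finset.sum_eq_zero hone, zero_add]
  refine Nat.div_le_div_right ?_
  refine le_trans (Finset.card_le_card_of_injOn (fun k : Fin s => k.1) (t := Finset.Ico (t - 1) s) ?_ ?_) ?_
  · intro k hk
    simp only [Finset.coe_filter, Finset.mem_univ, true_and, Set.mem_setOf_eq, cls, Fin.ext_iff] at hk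
    simp only [Finset.coe_Ico, Set.mem_Ico]
    exact ⟨by omega, k.2⟩
  · intro a _ b _ h
    exact Fin.ext h
  · rw [Nat.card_Ico]
    omega

end Cfsg.Agent.Classical.Elusive.Free
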