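import Cfsg.Prelude.Def_GeometricClasses
import Mathlib

/-!
# The normalizer of an extraspecial group 3^{1+2} in three dimensions and elements of prime order

Everything is stated for an ambient subgroup `U` of `GL₃` (the general linear or the general unitary
group), with the diagonal values and determinants of `U` in a group `N` of field units.
-/

set_option autoImplicit false

namespace Cfsg.Agent.Classical.HeisThree

open Matrix

variable {F : Type*} [Field F]

local notation "G3" => GL (Fin 3) F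
local notation "M3" => Matrix (Fin 3) (Fin 3) F

/-- Diagonal matrices. -/
def dg : (Fin 3 → Fˣ) →* G3 :=
  (Units.map (Matrix.diagonalRingHom (Fin 3) F).toMonoidHom).comp MulEquiv.piUnits.symm.toMonoidHom

theorem dg_val (d : Fin 3 → Fˣ) : (dg d : M3) = Matrix.diagonal fun i => (d i : F) := rfl

/-- The cyclic permutation matrix. -/
def pc : G3 :=
  ⟨!![0, 0, 1; 1, 0, 0; 0, 1, 0], !![0, 1, 0; 0, 0, 1; 1, 0, 0],
    by ext i j; fin_cases i <;> fin_cases j <;> simp [Matrix.mul_apply, Fin.sum_univ_three],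
    by ext i j; fin_cases i <;> fin_cases j <;> simp [Matrix.mul_apply, Fin.sum_univ_three]⟩

theorem pc_val : ((pc : G3) : M3) = !![0, 0, 1; 1, 0, 0; 0, 1, 0] := rfl

/-- An involution inverting the standard generators. -/
def negJ : G3 :=
  ⟨!![-1, 0, 0; 0, 0, -1; 0, -1, 0], !![-1, 0, 0; 0, 0, -1; 0, -1, 0],
    by ext i j; fin_cases i <;> fin_cases j <;> simp [Matrix.mul_apply, Fin.sum_univ_three],
    by ext i j; fin_cases i <;> fin_cases j <;> simp [Matrix.mul_apply, Fin.sum_univ_three]⟩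

theorem negJ_val : ((negJ : G3) : M3) = !![-1, 0, 0; 0, 0, -1; 0, -1, 0] := rfl

/-- The scalar matrices. -/
def sc (z : Fˣ) : G3 := dg fun _ => z

theorem sc_val (z : Fˣ) : (sc z : M3) = (z : F) • 1 := by
  rw [sc, dg_val, Matrix.smul_one_eq_diagonal]

theorem sc_comm (z : Fˣ) (g : G3) : sc z * g = g * sc z := by
  apply Units.ext
  rw [Units.val_mul, Units.val_mul, sc_val, smul_mul_assoc, one_mul, mul_smul_comm, mul_one]

theorem scalar_conj {g x : G3} {z : F} (h : ((g⁻¹ * x * g : G3) : M3) = z • 1) : (x : M3) = z • 1 := by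
  have e : x = g * (g⁻¹ * x * g) * g⁻¹ := by group
  rw [e, Units.val_mul, Units.val_mul, h, mul_smul_comm, mul_one, smul_mul_assoc, Units.mul_inv]

theorem pc_dg (d : Fin 3 → Fˣ) : dg d * pc = pc * dg fun i => d (i + 1) := by
  apply Units.ext
  rw [Units.val_mul, Units.val_mul, dg_val, dg_val, pc_val]
  ext i j
  fin_cases i <;> fin_cases j <;> simp [Matrix.mul_apply, Fin.sum_univ_three]

theorem det_pc : ((pc : G3) : M3).det = 1 := by rw [pc_val]; simp [Matrix.det_fin_three]

theorem det_negJ : ((negJ : G3) : M3).det = 1 := by rw [negJ_val]; simp [Matrix.det_fin_three]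

theorem det_dg (d : Fin 3 → Fˣ) : (dg d : M3).det = d 0 * d 1 * d 2 := by
  rw [dg_val, Matrix.det_diagonal, Fin.prod_univ_three]

theorem conj_of_cols {x g : G3} {d : Fin 3 → Fˣ}
    (h : ∀ j, (x : M3) *ᵥ (fun i => (g : M3) i j) = (d j : F) • fun i => (g : M3) i j) :
    g⁻¹ * x * g = dg d := by
  have e : x * g = g * dg d := by
    apply Units.ext
    rw [Units.val_mul, Units.val_mul, dg_val]
    ext i j
    rw [Matrix.mul_diagonal, show ((x : M3) * (g : M3)) i j = ((x : M3) *ᵥ fun i => (g : M3) i j) i from rfl, h j,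
      Pi.smul_apply, smul_eq_mul, mul_comm]
  rw [mul_assoc, e, inv_mul_cancel_left]

/-- What is used of the ambient group. -/
structure Amb (U : Subgroup G3) (N : Subgroup Fˣ) : Prop where
  cube_mem : ∀ z : Fˣ, z ^ 3 = 1 → z ∈ N
  neg_mem : (-1 : Fˣ) ∈ N
  det_mem : ∀ g ∈ U, Matrix.GeneralLinearGroup.det g ∈ N
  dg_mem : ∀ d : Fin 3 → Fˣ, (∀ i, d i ∈ N) → dg d ∈ U
  pc_mem : pc ∈ U
  negJ_mem : negJ ∈ U
  diag_conj : ∀ x ∈ U, ∀ S : Fˣ → Prop, (∀ a, S a → a ∈ N) →
    Submodule.span F {v | ∃ a, S a ∧ (x : M3) *ᵥ v = (a : F) • v} = ⊤ →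
    ∃ g ∈ U, ∃ d : Fin 3 → Fˣ, (∀ i, S (d i)) ∧ g⁻¹ * x * g = dg d
  frame : ∀ a ∈ U, ∀ b ∈ U, ∀ (w : Fˣ) (v : Fin 3 → Fin 3 → F), w ^ 3 = 1 → w ≠ 1 → LinearIndependent F v →
    (∀ i : Fin 3, (a : M3) *ᵥ v i = (w : F) ^ (i : ℕ) • v i) → (∀ i : Fin 3, (b : M3) *ᵥ v i = v (i + 1)) →
    ∃ T ∈ U, ∃ l : F, ∀ i j, (T : M3) i j = l * v j i

variable {U : Subgroup (GL (Fin 3) F)} {N : Subgroup Fˣ} (h : Amb U N) (w : Fˣ)

local notation "SL3" => Cfsg.Geo.specialLinear (Fin 3) F

/-- The standard diagonal generator. -/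
def dw : G3 := dg fun i => w ^ (i : ℕ)

/-- The standard extraspecial group. -/
def R0 : Subgroup G3 := Subgroup.closure {dw w, pc}

theorem dw_mem : dw w ∈ R0 w := Subgroup.subset_closure (Or.inl rfl)

theorem pc_mem_R0 : pc ∈ R0 w := Subgroup.subset_closure (Or.inr rfl)

theorem mem_SL_iff {g : G3} : g ∈ SL3 ↔ (g : M3).det = 1 := by
  rw [Cfsg.Geo.specialLinear, MonoidHom.mem_ker, Units.ext_iff, Matrix.GeneralLinearGroup.val_det_apply,
    Units.val_one]

variable {w} (hw : w ^ 3 = 1) (hw1 : w ≠ 1)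

include hw

theorem R0_le_SL : R0 w ≤ SL3 := by
  rw [R0, Subgroup.closure_le]
  rintro g (rfl | rfl)
  · refine mem_SL_iff.mpr ?_
    rw [dw, det_dg, ← Units.val_mul, ← Units.val_mul, Units.val_eq_one]
    simpa [← pow_succ, ← pow_succ'] using hw
  · exact mem_SL_iff.mpr det_pc

theorem dw_pc : dw w * pc = sc w * (pc * dw w) := by
  rw [dw, pc_dg, ← mul_assoc, sc_comm, mul_assoc, sc, ← map_mul]
  congr 2
  funext i
  fin_cases i
  · simp
  · simp [pow_succ]
  · simp [← pow_succ', hw]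

theorem sc_mem_R0 : sc w ∈ R0 w := by
  have e : sc w = dw w * pc * (pc * dw w)⁻¹ := by rw [dw_pc hw, mul_inv_cancel_right]
  rw [e]
  exact mul_mem (mul_mem (dw_mem w) (pc_mem_R0 w)) (inv_mem (mul_mem (pc_mem_R0 w) (dw_mem w)))

include hw1

omit hw hw1 in
theorem mu_cases (hw : w ^ 3 = 1) (hw1 : w ≠ 1) {a : Fˣ} (ha : a ^ 3 = 1) : ∃ k : ℕ, a = w ^ k := by
  have h1 : ((a : F) - 1) * ((a : F) - w) * ((a : F) - w ^ 2) = 0 := by
    have hw' : (w : F) ^ 3 = 1 := by rw [← Units.val_pow_eq_pow_val, hw, Units.val_one]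
    have ha' : (a : F) ^ 3 = 1 := by rw [← Units.val_pow_eq_pow_val, ha, Units.val_one]
    have hs : 1 + (w : F) + (w : F) ^ 2 = 0 := by
      have : ((w : F) - 1) * (1 + (w : F) + (w : F) ^ 2) = 0 := by linear_combination hw'
      exact (mul_eq_zero.mp this).resolve_left (sub_ne_zero.mpr fun e => hw1 (Units.ext e))
    linear_combination ha' - hw' + ((a : F) * (w : F) - (a : F) ^ 2) * hs
  rcases mul_eq_zero.mp h1 with h2 | h2
  · rcases mul_eq_zero.mp h2 with h3 | h3
    · exact ⟨0, Units.ext (by simpa using sub_eq_zero.mp h3)⟩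
    · exact ⟨1, Units.ext (by simpa using sub_eq_zero.mp h3)⟩
  · exact ⟨2, Units.ext (by simpa using sub_eq_zero.mp h2)⟩

theorem sc_cube_mem {a : Fˣ} (ha : a ^ 3 = 1) : sc a ∈ R0 w := by
  obtain ⟨k, rfl⟩ := mu_cases hw hw1 ha
  rw [show sc (w ^ k) = (sc w : G3) ^ k by rw [sc, sc, ← map_pow]; rfl]
  exact pow_mem (sc_mem_R0 hw) k

omit hw hw1 in
theorem mem_normalizer_R0 [Finite F] {g : G3} (h1 : g * dw w * g⁻¹ ∈ R0 w) (h2 : g * pc * g⁻¹ ∈ R0 w) :
    g ∈ Cfsg.Geo.subgroupNormalizer (R0 w) := by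
  have hsub : (R0 w).map (MulAut.conj g).toMonoidHom ≤ R0 w := by
    rw [R0, MonoidHom.map_closure, Subgroup.closure_le]
    rintro _ ⟨y, (rfl | rfl), rfl⟩
    · exact h1
    · exact h2
  have he := Subgroup.eq_of_le_of_card_ge hsub
    (by rw [Subgroup.card_map_of_injective (MulAut.conj g).injective])
  refine Subgroup.mem_normalizer_iff.mpr fun k => ⟨fun hk => ?_, fun hk => ?_⟩
  · exact he.le ⟨k, hk, rfl⟩
  · obtain ⟨y, hy, e⟩ := he.ge hk
    have : y = k := (MulAut.conj g).injective (by simpa using e)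
    exact this ▸ hy

theorem dg_mem_normalizer [Finite F] {e : Fin 3 → Fˣ} (he : ∀ i, e i ^ 3 = 1) :
    dg e ∈ Cfsg.Geo.subgroupNormalizer (R0 w) := by
  refine mem_normalizer_R0 ?_ ?_
  · rw [dw, ← map_inv, ← map_mul, ← map_mul, mul_inv_cancel_comm]
    exact dw_mem w
  · obtain ⟨f, hf⟩ : ∃ f : Fin 3 → Fˣ, f = fun i => e (i + 1) * (e i)⁻¹ := ⟨_, rfl⟩
    have hf3 : ∀ i, f i ^ 3 = 1 := fun i => by rw [hf, mul_pow, inv_pow, he, he, inv_one, one_mul]
    have hconj : dg e * pc * (dg e)⁻¹ = pc * dg f := by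
      rw [pc_dg, mul_assoc, ← map_inv, ← map_mul, hf]
      rfl
    obtain ⟨k, hk⟩ := mu_cases hw hw1 (a := (f 0)⁻¹ * f 1) (by rw [mul_pow, inv_pow, hf3, hf3, inv_one, one_mul])
    have hk1 : f 1 = f 0 * w ^ k := by rw [← hk, mul_inv_cancel_left]
    have hk2 : f 2 = f 0 * (w ^ k) ^ 2 := by
      rw [← hk, hf]
      have h3 : ∀ i, (e i : F) ^ 3 = 1 := fun i => by rw [← Units.val_pow_eq_pow_val, he, Units.val_one]
      apply Units.ext
      simp only [show (0 : Fin 3) + 1 = 1 from rfl, show (1 : Fin 3) + 1 = 2 from rfl,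
        show (2 : Fin 3) + 1 = 0 from rfl, Units.val_mul, Units.val_pow_eq_pow_val, Units.val_inv_eq_inv_val]
      field_simp [Units.ne_zero]
      linear_combination h3 1 - h3 2
    have hfd : dg f = sc (f 0) * dw w ^ k := by
      rw [sc, dw, ← map_pow, ← map_mul]
      congr 1
      funext i
      fin_cases i
      · simp
      · simpa using hk1
      · simpa [← pow_mul, mul_comm k 2] using hk2
    rw [hconj, hfd]
    exact mul_mem (pc_mem_R0 w) (mul_mem (sc_cube_mem hw hw1 (hf3 0)) (pow_mem (dw_mem w) k))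

omit hw1 in
theorem negJ_mem_normalizer [Finite F] : negJ ∈ Cfsg.Geo.subgroupNormalizer (R0 w) := by
  refine mem_normalizer_R0 ?_ ?_
  · have e : negJ * dw w * negJ⁻¹ = dw w ^ 2 := by
      rw [mul_inv_eq_iff_eq_mul, dw, ← map_pow]
      apply Units.ext
      rw [Units.val_mul, Units.val_mul, dg_val, dg_val, negJ_val]
      have hw' : (w : F) ^ 4 = (w : F) := by
        rw [pow_succ, ← Units.val_pow_eq_pow_val, hw, Units.val_one, one_mul]
      ext i j
      fin_cases i <;> fin_cases j <;> simp [Matrix.mul_apply, Fin.sum_univ_three, ← pow_mul, hw']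
    rw [e]
    exact pow_mem (dw_mem w) 2
  · have e : negJ * pc * negJ⁻¹ = (pc : G3)⁻¹ := by
      rw [mul_inv_eq_iff_eq_mul, eq_inv_mul_iff_mul_eq]
      apply Units.ext
      rw [Units.val_mul, Units.val_mul, pc_val, negJ_val]
      ext i j
      fin_cases i <;> fin_cases j <;> simp [Matrix.mul_apply, Fin.sum_univ_three]
    rw [e]
    exact inv_mem (pc_mem_R0 w)

theorem scalar_of_pow [Finite F] (hcard : Nat.card (R0 w) = 27) {r : ℕ} [Fact r.Prime] (hr2 : r ≠ 2) (hr3 : r ≠ 3)
    {y : G3} (hy : y ∈ Cfsg.Geo.subgroupNormalizer (R0 w)) (hyr : y ^ r = 1) :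
    ∃ z : F, (y : M3) = z • 1 := by
  classical
  let := Fintype.ofFinite (R0 w)
  have hyk := fun k => Subgroup.mem_normalizer_iff.mp hy k
  let f : Function.End (R0 w) := fun k => ⟨y * k * y⁻¹, (hyk k).mp k.2⟩
  have hfk : ∀ n (k : R0 w), ((f ^ n) k : G3) = y ^ n * k * (y ^ n)⁻¹ := by
    intro n
    induction n with
    | zero => intro k; simp [show (1 : Function.End (R0 w)) k = k from rfl]
    | succ n ih =>
      intro k
      rw [pow_succ']
      change y * _ * y⁻¹ = _
      rw [ih, pow_succ']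
      group
  have hf : f ^ r ^ 1 = 1 := by
    funext k
    refine Subtype.ext ?_
    rw [pow_one, hfk, hyr, show (1 : Function.End (R0 w)) k = k from rfl]
    simp
  have hmod := Equiv.Perm.card_fixedPoints_modEq hf
  obtain ⟨C, hC⟩ : ∃ C : Subgroup G3, C = R0 w ⊓ Subgroup.centralizer {y} := ⟨_, rfl⟩
  have hfix : Fintype.card f.fixedPoints = Nat.card C := by
    rw [← Nat.card_eq_fintype_card]
    refine Nat.card_congr
      { toFun := fun k => ⟨k.1.1, by
          rw [hC]
          refine ⟨k.1.2, Subgroup.mem_centralizer_singleton_iff.mpr ?_⟩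
          have := congrArg Subtype.val k.2
          change y * k.1.1 * y⁻¹ = k.1.1 at this
          exact (mul_inv_eq_iff_eq_mul.mp this).symm⟩
        invFun := fun k => ⟨⟨k.1, (hC.le k.2).1⟩, Subtype.ext (by
          change y * k.1 * y⁻¹ = k.1
          rw [← Subgroup.mem_centralizer_singleton_iff.mp (hC.le k.2).2, mul_inv_cancel_right])⟩
        left_inv := fun k => rfl
        right_inv := fun k => rfl }
  rw [hfix, ← Nat.card_eq_fintype_card, hcard] at hmod
  have hscC : sc w ∈ C := by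
    rw [hC]
    exact ⟨sc_mem_R0 hw, Subgroup.mem_centralizer_singleton_iff.mpr (sc_comm w y)⟩
  have hC1 : Nat.card C ≠ 1 := fun e => by
    have := Subgroup.eq_bot_of_card_eq C e ▸ hscC
    have h00 := congrArg (fun g : G3 => (g : M3) 0 0) (Subgroup.mem_bot.mp this)
    simp [sc, dg_val] at h00
    exact hw1 h00
  have hdvd : Nat.card C ∣ 3 ^ 3 := by
    have := Subgroup.card_dvd_of_le (hC.le.trans inf_le_left)
    rw [hcard] at this
    simpa using this
  have hC27 : Nat.card C = 27 := by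
    obtain ⟨i, hi, hci⟩ := (Nat.dvd_prime_pow Nat.prime_three).mp hdvd
    have hr : r.Prime := Fact.out
    interval_cases i
    · exact absurd (by simpa using hci) hC1
    · exfalso
      rw [hci] at hmod
      have hd : r ∣ 3 * 2 ^ 3 := by
        have := (Nat.modEq_iff_dvd' (by norm_num)).mp hmod.symm
        norm_num at this ⊢
        exact this
      rcases (Nat.Prime.dvd_mul hr).mp hd with h1 | h1
      · exact hr3 ((Nat.prime_dvd_prime_iff_eq hr Nat.prime_three).mp h1)
      · exact hr2 ((Nat.prime_dvd_prime_iff_eq hr Nat.prime_two).mp (hr.dvd_of_dvd_pow h1))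
    · exfalso
      rw [hci] at hmod
      have hd : r ∣ 3 ^ 2 * 2 := by
        have := (Nat.modEq_iff_dvd' (by norm_num)).mp hmod.symm
        norm_num at this ⊢
        exact this
      rcases (Nat.Prime.dvd_mul hr).mp hd with h1 | h1
      · exact hr3 ((Nat.prime_dvd_prime_iff_eq hr Nat.prime_three).mp (hr.dvd_of_dvd_pow h1))
      · exact hr2 ((Nat.prime_dvd_prime_iff_eq hr Nat.prime_two).mp h1)
    · simpa using hci
  have hle : R0 w ≤ Subgroup.centralizer {y} := by
    have he := Subgroup.eq_of_le_of_card_ge (hC.le.trans inf_le_left) (by rw [hcard, hC27])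
    exact fun k hk => (hC.le (he.ge hk)).2
  have hD := congrArg (Units.val : G3 → M3) (Subgroup.mem_centralizer_singleton_iff.mp (hle (dw_mem w)))
  have hP := congrArg (Units.val : G3 → M3) (Subgroup.mem_centralizer_singleton_iff.mp (hle (pc_mem_R0 w)))
  rw [Units.val_mul, Units.val_mul] at hD hP
  have hoff : ∀ i j : Fin 3, i ≠ j → (y : M3) i j = 0 := by
    intro i j hij
    have e := congrFun (congrFun hD i) j
    rw [dw, dg_val, Matrix.diagonal_mul, Matrix.mul_diagonal] at e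
    by_contra hne
    have e' : w ^ (i : ℕ) = w ^ (j : ℕ) := Units.ext (mul_right_cancel₀ hne (e.trans (mul_comm _ _)))
    have ho : orderOf w = 3 := orderOf_eq_prime hw hw1
    exact hij (Fin.ext (pow_injOn_Iio_orderOf (by simp [ho, i.isLt]) (by simp [ho, j.isLt]) e'))
  refine ⟨(y : M3) 0 0, ?_⟩
  have h10 := congrFun (congrFun hP 1) 0
  have h21 := congrFun (congrFun hP 2) 1
  simp [pc_val, Matrix.mul_apply, Fin.sum_univ_three] at h10 h21
  ext i j
  fin_cases i <;> fin_cases j <;> simp [hoff, h10, h21]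

end Cfsg.Agent.Classical.HeisThree
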