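import Cfsg.Agent.Lib.Classical.Elusive.HeisenbergThreeCore
import Cfsg.Agent.Lib.Classical.UnitaryOrders

/-!
# The two ambient groups: general linear and general unitary
-/

set_option autoImplicit false
set_option linter.unusedSectionVars false

namespace Cfsg.Agent.Classical.HeisThree

open Matrix

variable {F : Type*} [Field F]

local notation "G3" => GL (Fin 3) F
local notation "M3" => Matrix (Fin 3) (Fin 3) F

theorem exists_cols (v : Fin 3 → Fin 3 → F) (hv : LinearIndependent F v) :
    ∃ T : G3, ∀ i j, (T : M3) i j = v j i := by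
  have hu : IsUnit (Matrix.of fun i j => v j i : M3) := Matrix.linearIndependent_cols_iff_isUnit.mp hv
  exact ⟨hu.unit, fun i j => rfl⟩

/-- The general linear group. -/
theorem amb_top [Finite F] : Amb (⊤ : Subgroup (GL (Fin 3) F)) (⊤ : Subgroup Fˣ) where
  cube_mem _ _ := Subgroup.mem_top _
  neg_mem := Subgroup.mem_top _
  det_mem _ _ := Subgroup.mem_top _
  dg_mem _ _ := Subgroup.mem_top _
  pc_mem := Subgroup.mem_top _
  negJ_mem := Subgroup.mem_top _
  diag_conj x _ S _ hspan := by
    obtain ⟨b, hbE, hbspan, hli⟩ := exists_linearIndependent F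
      {v : Fin 3 → F | ∃ a, S a ∧ (x : M3) *ᵥ v = (a : F) • v}
    rw [hspan] at hbspan
    let B := Module.Basis.mk hli (by rw [Subtype.range_coe, hbspan])
    have : Fintype b := hli.setFinite.fintype
    have hc : Fintype.card b = 3 := by
      rw [← Module.finrank_eq_card_basis B, Module.finrank_fintype_fun_eq_card, Fintype.card_fin]
    let e := (Fintype.equivFinOfCardEq hc).symm
    obtain ⟨T, hT⟩ := exists_cols (fun i => ((e i : b) : Fin 3 → F)) (hli.comp e e.injective)
    choose d hdS hd using fun i => hbE (e i).2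
    refine ⟨T, Subgroup.mem_top _, d, hdS, conj_of_cols fun j => ?_⟩
    rw [show (fun i => (T : M3) i j) = ((e j : b) : Fin 3 → F) from funext fun i => hT i j]
    exact hd j
  frame a _ b _ w v _ _ hli _ _ := by
    obtain ⟨T, hT⟩ := exists_cols v hli
    exact ⟨T, Subgroup.mem_top _, 1, fun i j => by rw [hT, one_mul]⟩

variable [Fintype F] {q : ℕ} {σ : F ≃+* F}

theorem mem_GU_of_gram (hσ : IsUSigma q σ) {g : G3}
    (hg : ∀ i j, Cfsg.hermForm 3 F q (fun k => (g : M3) k i) (fun k => (g : M3) k j) = if i = j then 1 else 0) :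
    g ∈ Cfsg.GU 3 F q := by
  refine mem_GU_iff.mpr fun u v => ?_
  rw [hσ.hermForm_eq, hσ.hermForm_eq]
  simp only [hσ.hermForm_eq, Fin.sum_univ_three] at hg
  have a00 := hg 0 0
  have a01 := hg 0 1
  have a02 := hg 0 2
  have a10 := hg 1 0
  have a11 := hg 1 1
  have a12 := hg 1 2
  have a20 := hg 2 0
  have a21 := hg 2 1
  have a22 := hg 2 2
  simp only [Fin.reduceEq, if_true, if_false] at a00 a01 a02 a10 a11 a12 a20 a21 a22
  simp only [Fin.sum_univ_three, Matrix.mulVec, dotProduct, map_add, map_mul]
  linear_combination (u 0 * σ (v 0)) * a00 + (u 0 * σ (v 1)) * a01 + (u 0 * σ (v 2)) * a02 +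
    (u 1 * σ (v 0)) * a10 + (u 1 * σ (v 1)) * a11 + (u 1 * σ (v 2)) * a12 +
    (u 2 * σ (v 0)) * a20 + (u 2 * σ (v 1)) * a21 + (u 2 * σ (v 2)) * a22

/-- The general unitary group. -/
theorem amb_GU (hσ : IsUSigma q σ) (h2 : (2 : F) ≠ 0) (h3 : 3 ∣ q + 1) :
    Amb (Cfsg.GU 3 F q) (powMonoidHom (q + 1) : Fˣ →* Fˣ).ker where
  cube_mem z hz := by
    obtain ⟨m, hm⟩ := h3
    rw [MonoidHom.mem_ker, powMonoidHom_apply, hm, pow_mul, hz, one_pow]
  neg_mem := by
    refine MonoidHom.mem_ker.mpr (UCount.pow_eq_one_of_norm hσ ?_)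
    simp
  det_mem g hg := MonoidHom.mem_ker.mpr (UCount.pow_eq_one_of_norm hσ (by
    rw [Matrix.GeneralLinearGroup.val_det_apply]; exact UCount.det_norm hσ hg))
  dg_mem d hd := by
    refine mem_GU_of_gram hσ fun i j => ?_
    have hn := fun i => UCount.norm_of_pow_eq_one hσ (MonoidHom.mem_ker.mp (hd i))
    rw [hσ.hermForm_eq, dg_val]
    fin_cases i <;> fin_cases j <;> simp [Fin.sum_univ_three, hn]
  pc_mem := by
    refine mem_GU_of_gram hσ fun i j => ?_
    rw [hσ.hermForm_eq, pc_val]
    fin_cases i <;> fin_cases j <;> simp [Fin.sum_univ_three]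
  negJ_mem := by
    refine mem_GU_of_gram hσ fun i j => ?_
    rw [hσ.hermForm_eq, negJ_val]
    fin_cases i <;> fin_cases j <;> simp [Fin.sum_univ_three]
  diag_conj x hx S hS hspan := by
    have hf := hσ.isUnitaryForm (n := 3)
    have hsf := semiForm_of_unitary hf
    let f := Cfsg.hermForm 3 F q
    have hzl : ∀ v, f 0 v = 0 := fun v => by simp [f, hσ.hermForm_eq]
    have hzr : ∀ v, f v 0 = 0 := fun v => by simp [f, hσ.hermForm_eq]
    have hnorm : ∀ a, S a → (a : F) * σ a = 1 := fun a ha =>
      UCount.norm_of_pow_eq_one hσ (MonoidHom.mem_ker.mp (hS a ha))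
    -- eigenvectors with different values are orthogonal
    have horth : ∀ (a a' : Fˣ) (v w : Fin 3 → F), S a' → a ≠ a' → (x : M3) *ᵥ v = (a : F) • v →
        (x : M3) *ᵥ w = (a' : F) • w → f v w = 0 := by
      intro a a' v w ha' hne hv hw
      have e := mem_GU_iff.mp hx v w
      rw [hv, hw, hsf.smul_left, hsf.smul_right] at e
      have hn := hnorm a' ha'
      have : ((a : F) - a') * f v w = 0 := by
        linear_combination (a' : F) * e - (a : F) * f v w * hn
      exact (mul_eq_zero.mp this).resolve_left (sub_ne_zero.mpr fun e => hne (Units.ext e))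
    suffices H : ∀ k ≤ 3, ∃ b : Fin k → Fin 3 → F, ∃ d : Fin k → Fˣ,
        (∀ i j, f (b i) (b j) = if i = j then 1 else 0) ∧ (∀ i, S (d i) ∧ (x : M3) *ᵥ b i = (d i : F) • b i) by
      obtain ⟨b, d, hb, hd⟩ := H 3 le_rfl
      have hu : IsUnit (Matrix.of fun i j => b j i : M3) := by
        rw [← Matrix.linearIndependent_cols_iff_isUnit, Fintype.linearIndependent_iff]
        intro c hc i
        have h := congrArg (fun v => f v (b i)) hc
        change f (∑ j, c j • b j) (b i) = f 0 (b i) at h
        simp only [f] at hb h hzl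
        simp only [Fin.sum_univ_three, hsf.add_left, hsf.smul_left, hb, hzl] at h
        fin_cases i <;> simpa using h
      refine ⟨hu.unit, mem_GU_of_gram hσ fun i j => hb i j, d, fun i => (hd i).1,
        conj_of_cols fun j => (hd j).2⟩
    intro k hk
    induction k with
    | zero => exact ⟨Fin.elim0, Fin.elim0, fun i => i.elim0, fun i => i.elim0⟩
    | succ k ih =>
      obtain ⟨b, d, hb, hd⟩ := ih (by omega)
      by_cases hex : ∃ (a : Fˣ) (u : Fin 3 → F), S a ∧ (x : M3) *ᵥ u = (a : F) • u ∧ (∀ i, f u (b i) = 0) ∧ f u u ≠ 0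
      · obtain ⟨a, u, ha, hu, hub, huu⟩ := hex
        obtain ⟨l, -, hl⟩ := hσ.norm_surjective (t := (f u u)⁻¹) (inv_ne_zero huu)
          (by rw [map_inv₀]; exact congrArg _ (hf.herm u u).symm)
        have hlu : f (l • u) (l • u) = 1 := by
          simp only [f, hsf.smul_left, hsf.smul_right]
          rw [← mul_assoc, hl]
          exact inv_mul_cancel₀ huu
        refine ⟨Fin.cons (l • u) b, Fin.cons a d, fun i j => ?_, fun i => ?_⟩
        · refine Fin.cases (Fin.cases ?_ (fun j => ?_) j) (fun i => Fin.cases ?_ (fun j => ?_) j) i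
          · simpa using hlu
          · simpa [(Fin.succ_ne_zero j).symm, f, hsf.smul_left] using Or.inr (hub j)
          · simp only [Fin.cons_succ, Fin.cons_zero, Fin.succ_ne_zero i, if_false]
            simp only [f, hsf.smul_right]
            rw [hf.herm, show Cfsg.hermForm 3 F q u (b i) = 0 from hub i, map_zero, mul_zero]
          · simpa using hb i j
        · refine Fin.cases ?_ (fun i => ?_) i
          · exact ⟨by simpa using ha, by simp [Matrix.mulVec_smul, hu, smul_comm l]⟩
          · simpa using hd i
      exfalso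
      push Not at hex
      -- projections of eigenvectors vanish, so the family spans
      have hiso : ∀ (a : Fˣ) (u : Fin 3 → F), S a → (x : M3) *ᵥ u = (a : F) • u → (∀ i, f u (b i) = 0) →
          ∀ (a' : Fˣ) (u' : Fin 3 → F), S a' → (x : M3) *ᵥ u' = (a' : F) • u' → (∀ i, f u' (b i) = 0) →
          f u u' = 0 := by
        intro a u ha hu hub a' u' ha' hu' hub'
        by_cases haa : a = a'
        · subst haa
          by_contra hne
          have h := hex a ((f u u')⁻¹ • u + u') ha
            (by rw [Matrix.mulVec_add, Matrix.mulVec_smul, hu, hu', smul_add, smul_comm])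
            (fun i => by simp only [f, hsf.add_left, hsf.smul_left] at *; rw [hub, hub', mul_zero, add_zero])
          simp only [f, hsf.add_left, hsf.add_right, hsf.smul_left, hsf.smul_right] at h hne
          rw [show Cfsg.hermForm 3 F q u u = 0 from hex a u ha hu hub,
            show Cfsg.hermForm 3 F q u' u' = 0 from hex a u' ha hu' hub', hf.herm u' u] at h
          have hne' : σ (Cfsg.hermForm 3 F q u u') ≠ 0 := (map_ne_zero σ).mpr hne
          refine h2 ?_
          rw [inv_mul_cancel₀ hne, map_inv₀, inv_mul_cancel₀ hne'] at h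
          linear_combination h
        · exact horth a a' u u' ha' haa hu hu'
      have hspanb : ∀ w, (∃ a, S a ∧ (x : M3) *ᵥ w = (a : F) • w) → w ∈ Submodule.span F (Set.range b) := by
        rintro w ⟨a, ha, hw⟩
        obtain ⟨p, hp⟩ : ∃ p : (Fin 3 → F) → (Fin 3 → F), ∀ w, p w = w - ∑ i, f w (b i) • b i := ⟨_, fun _ => rfl⟩
        have hproj : ∀ (a : Fˣ) w, S a → (x : M3) *ᵥ w = (a : F) • w →
            (x : M3) *ᵥ p w = (a : F) • p w ∧ ∀ i, f (p w) (b i) = 0 := by
          intro a w ha hw
          refine ⟨?_, fun j => ?_⟩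
          · rw [hp, Matrix.mulVec_sub, hw, smul_sub, Finset.smul_sum, Matrix.mulVec_sum]
            congr 1
            refine Finset.sum_congr rfl fun i _ => ?_
            rw [Matrix.mulVec_smul, (hd i).2, smul_comm]
            by_cases hai : a = d i
            · rw [hai]
            · rw [horth a (d i) w (b i) (hd i).1 hai hw (hd i).2, zero_smul, smul_zero, smul_zero]
          · let L : (Fin 3 → F) →ₗ[F] F :=
              { toFun := fun v => f v (b j)
                map_add' := fun u v => hsf.add_left u v _
                map_smul' := fun c v => hsf.smul_left c v _ }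
            change L (p w) = 0
            rw [hp, map_sub, map_sum]
            simp only [map_smul, smul_eq_mul]
            change f w (b j) - ∑ i, f w (b i) * f (b i) (b j) = 0
            simp [hb]
        suffices h0 : p w = 0 by
          rw [hp, sub_eq_zero] at h0
          rw [h0]
          exact Submodule.sum_mem _ fun i _ => Submodule.smul_mem _ _ (Submodule.subset_span ⟨i, rfl⟩)
        by_contra hne
        obtain ⟨⟨y, hy⟩, -⟩ := hf.nondegenerate _ hne
        refine hy ?_
        have hy' : y ∈ Submodule.span F {v : Fin 3 → F | ∃ a, S a ∧ (x : M3) *ᵥ v = (a : F) • v} :=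
          hspan ▸ Submodule.mem_top
        clear hy
        obtain ⟨h1, h2'⟩ := hproj a w ha hw
        induction hy' using Submodule.span_induction with
        | mem v hv =>
          obtain ⟨a', ha', hv⟩ := hv
          obtain ⟨h3', h4⟩ := hproj a' v ha' hv
          let L : (Fin 3 → F) →ₗ[F] F :=
            { toFun := fun u => f u (p w)
              map_add' := fun u v => hsf.add_left u v _
              map_smul' := fun c v => hsf.smul_left c v _ }
          change L v = 0
          rw [show v = p v + ∑ i, f v (b i) • b i by rw [hp, sub_add_cancel], map_add, map_sum]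
          simp only [map_smul, smul_eq_mul]
          change f (p v) (p w) + ∑ i, f v (b i) * f (b i) (p w) = 0
          have hbw : ∀ i, f (b i) (p w) = 0 := fun i => (hf.herm (b i) (p w)).trans (by
            rw [show Cfsg.hermForm 3 F q (p w) (b i) = 0 from h2' i, map_zero])
          simp [hbw, hiso a' _ ha' h3' h4 a _ ha h1 h2']
        | zero => exact hzl _
        | add u v _ _ hu hv => rw [hsf.add_left, hu, hv, add_zero]
        | smul c u _ hu => rw [hsf.smul_left, hu, mul_zero]
      have htop : Submodule.span F (Set.range b) = ⊤ :=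
        top_le_iff.mp (hspan.ge.trans (Submodule.span_le.mpr fun w hw => hspanb w hw))
      have h := finrank_range_le_card (R := F) b
      rw [Set.finrank, htop, finrank_top, Module.finrank_fintype_fun_eq_card, Fintype.card_fin,
        Fintype.card_fin] at h
      omega
  frame a ha b hb w v hw hw1 hli hva hvb := by
    have hf := hσ.isUnitaryForm (n := 3)
    have hsf := semiForm_of_unitary hf
    let f := Cfsg.hermForm 3 F q
    have ho : orderOf w = 3 := by
      have : Fact (Nat.Prime 3) := ⟨Nat.prime_three⟩
      exact orderOf_eq_prime hw hw1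
    have hwn : (w : F) * σ w = 1 := by
      obtain ⟨m, hm⟩ := h3
      exact UCount.norm_of_pow_eq_one hσ (by rw [hm, pow_mul, hw, one_pow])
    have horth : ∀ i j : Fin 3, i ≠ j → f (v i) (v j) = 0 := by
      intro i j hij
      have e := mem_GU_iff.mp ha (v i) (v j)
      rw [hva, hva, hsf.smul_left, hsf.smul_right, map_pow] at e
      have hne : (w : F) ^ (i : ℕ) ≠ (w : F) ^ (j : ℕ) := fun e => hij (Fin.ext
        (pow_injOn_Iio_orderOf (by simp [ho, i.isLt]) (by simp [ho, j.isLt])
          (Units.ext (by simpa using e) : w ^ (i : ℕ) = w ^ (j : ℕ))))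
      have hn : (w : F) ^ (j : ℕ) * σ w ^ (j : ℕ) = 1 := by rw [← mul_pow, hwn, one_pow]
      have : ((w : F) ^ (i : ℕ) - (w : F) ^ (j : ℕ)) * f (v i) (v j) = 0 := by
        linear_combination (w : F) ^ (j : ℕ) * e - (w : F) ^ (i : ℕ) * f (v i) (v j) * hn
      exact (mul_eq_zero.mp this).resolve_left (sub_ne_zero.mpr hne)
    have hstep : ∀ i : Fin 3, f (v (i + 1)) (v (i + 1)) = f (v i) (v i) := fun i => by
      rw [← hvb]; exact mem_GU_iff.mp hb _ _
    have hdiag : ∀ i : Fin 3, f (v i) (v i) = f (v 0) (v 0) := by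
      intro i
      fin_cases i
      · rfl
      · exact hstep 0
      · exact (hstep 1).trans (hstep 0)
    have ht : f (v 0) (v 0) ≠ 0 := by
      intro h0
      obtain ⟨⟨y, hy⟩, -⟩ := hf.nondegenerate (v 0) (hli.ne_zero 0)
      refine hy ?_
      have htop : Submodule.span F (Set.range v) = ⊤ := hli.span_eq_top_of_card_eq_finrank (by simp)
      have hy' : y ∈ Submodule.span F (Set.range v) := htop ▸ Submodule.mem_top
      clear hy
      induction hy' using Submodule.span_induction with
      | mem u hu =>
        obtain ⟨i, rfl⟩ := hu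
        by_cases hi : i = 0
        · rw [hi]; exact h0
        · exact horth i 0 hi
      | zero => simp [hσ.hermForm_eq]
      | add u v _ _ hu hv => rw [hsf.add_left, hu, hv, add_zero]
      | smul c u _ hu => rw [hsf.smul_left, hu, mul_zero]
    obtain ⟨l, hl0, hl⟩ := hσ.norm_surjective (t := (f (v 0) (v 0))⁻¹) (inv_ne_zero ht)
      (by rw [map_inv₀]; exact congrArg _ (hf.herm _ _).symm)
    obtain ⟨T, hT⟩ := exists_cols (fun i => l • v i)
      (hli.units_smul (fun _ => Units.mk0 l hl0))
    refine ⟨T, mem_GU_of_gram hσ fun i j => ?_, l, fun i j => by rw [hT, Pi.smul_apply, smul_eq_mul]⟩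
    rw [show (fun k => (T : M3) k i) = l • v i from funext fun k => hT k i,
      show (fun k => (T : M3) k j) = l • v j from funext fun k => hT k j, hsf.smul_left, hsf.smul_right,
      ← mul_assoc, hl]
    split_ifs with hij
    · rw [hij, show Cfsg.hermForm 3 F q (v j) (v j) = f (v 0) (v 0) from hdiag j, inv_mul_cancel₀ ht]
    · rw [show Cfsg.hermForm 3 F q (v i) (v j) = 0 from horth i j hij, mul_zero]

end Cfsg.Agent.Classical.HeisThree
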