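import Cfsg.Agent.Lib.Classical.Elusive.HeisenbergThreeMain

/-!
# Elements of prime order with a conjugate normalizing an extraspecial subgroup 3^{1+2}
-/

set_option autoImplicit false
set_option linter.unusedSectionVars false

namespace Cfsg.Agent.Classical.HeisThree

open Matrix

variable {F : Type*} [Field F] [Finite F]

local notation "G3" => GL (Fin 3) F
local notation "M3" => Matrix (Fin 3) (Fin 3) F

variable {U : Subgroup (GL (Fin 3) F)} {N : Subgroup Fˣ} (h : Amb U N)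

include h

theorem sc_mem {z : Fˣ} (hz : z ∈ N) : sc z ∈ U := h.dg_mem _ fun _ => hz

/-- A diagonalisable element of the special ambient group is diagonalisable by one of determinant one. -/
theorem exists_diag {x : G3} (hx : x ∈ U ⊓ Cfsg.Geo.specialLinear (Fin 3) F) (S : Fˣ → Prop)
    (hS : ∀ a, S a → a ∈ N)
    (hspan : Submodule.span F {v | ∃ a, S a ∧ (x : M3) *ᵥ v = (a : F) • v} = ⊤) :
    ∃ g ∈ U ⊓ Cfsg.Geo.specialLinear (Fin 3) F, ∃ d : Fin 3 → Fˣ, (∀ i, S (d i)) ∧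
      (d 0 : F) * d 1 * d 2 = 1 ∧ g⁻¹ * x * g = dg d := by
  obtain ⟨g, hg, d, hd, hgd⟩ := h.diag_conj x hx.1 S hS hspan
  obtain ⟨e, he⟩ : ∃ e : Fin 3 → Fˣ, e = Function.update (1 : Fin 3 → Fˣ) 0 (Matrix.GeneralLinearGroup.det g)⁻¹ := ⟨_, rfl⟩
  have heN : ∀ i, e i ∈ N := fun i => by
    rw [he]
    fin_cases i
    · simpa using h.det_mem g hg
    all_goals simp
  refine ⟨g * dg e, ⟨mul_mem hg (h.dg_mem _ heN), mem_SL_iff.mpr ?_⟩, d, hd, ?_, ?_⟩
  · rw [Units.val_mul, Matrix.det_mul, det_dg, he]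
    simp [← Matrix.GeneralLinearGroup.val_det_apply]
  · rw [← det_dg, ← hgd, Units.val_mul, Units.val_mul, Matrix.det_mul_right_comm, ← Units.val_mul, inv_mul_cancel,
      Units.val_one, one_mul, mem_SL_iff.mp hx.2]
  · calc (g * dg e)⁻¹ * x * (g * dg e) = (dg e)⁻¹ * (g⁻¹ * x * g) * dg e := by group
      _ = dg d := by rw [hgd, ← map_inv, ← map_mul, ← map_mul, mul_comm e⁻¹ d, inv_mul_cancel_right]

omit h [Finite F] in
theorem span_two (h2 : (2 : F) ≠ 0) {y : M3} (hy : y * y = 1) :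
    Submodule.span F {v : Fin 3 → F | y *ᵥ v = v ∨ y *ᵥ v = -v} = ⊤ := by
  refine Submodule.eq_top_iff'.mpr fun v => ?_
  have e : v = (2 : F)⁻¹ • ((v + y *ᵥ v) + (v - y *ᵥ v)) := by
    rw [show (v + y *ᵥ v) + (v - y *ᵥ v) = (2 : F) • v by rw [two_smul]; abel, smul_smul, inv_mul_cancel₀ h2, one_smul]
  have hyy : y *ᵥ (y *ᵥ v) = v := by rw [Matrix.mulVec_mulVec, hy, Matrix.one_mulVec]
  rw [e]
  refine Submodule.smul_mem _ _ (Submodule.add_mem _ (Submodule.subset_span (Or.inl ?_))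
    (Submodule.subset_span (Or.inr ?_)))
  · rw [Matrix.mulVec_add, hyy, add_comm]
  · rw [Matrix.mulVec_sub, hyy, neg_sub]

omit h [Finite F] in
theorem span_three (h3 : (3 : F) ≠ 0) {w : Fˣ} (hw : w ^ 3 = 1) (hw1 : w ≠ 1) {y : M3} (hy : y * y * y = 1) :
    Submodule.span F {v : Fin 3 → F | ∃ a : Fˣ, a ^ 3 = 1 ∧ y *ᵥ v = (a : F) • v} = ⊤ := by
  refine Submodule.eq_top_iff'.mpr fun v => ?_
  have hyy : y *ᵥ (y *ᵥ (y *ᵥ v)) = v := by rw [Matrix.mulVec_mulVec, Matrix.mulVec_mulVec, hy, Matrix.one_mulVec]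
  have hw' : (w : F) ^ 3 = 1 := by rw [← Units.val_pow_eq_pow_val, hw, Units.val_one]
  have hs : 1 + (w : F) + (w : F) ^ 2 = 0 := by
    have : ((w : F) - 1) * (1 + (w : F) + (w : F) ^ 2) = 0 := by linear_combination hw'
    exact (mul_eq_zero.mp this).resolve_left (sub_ne_zero.mpr fun e => hw1 (Units.ext e))
  obtain ⟨u, hu⟩ : ∃ u : Fˣ → Fin 3 → F, ∀ a, u a = v + ((a : F) ^ 2) • (y *ᵥ v) + (a : F) • (y *ᵥ (y *ᵥ v)) :=
    ⟨_, fun a => rfl⟩
  have hmem : ∀ a : Fˣ, a ^ 3 = 1 → u a ∈ Submodule.span F {v : Fin 3 → F | ∃ a : Fˣ, a ^ 3 = 1 ∧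
      y *ᵥ v = (a : F) • v} := by
    intro a ha
    refine Submodule.subset_span ⟨a, ha, ?_⟩
    have ha' : (a : F) ^ 3 = 1 := by rw [← Units.val_pow_eq_pow_val, ha, Units.val_one]
    rw [hu, Matrix.mulVec_add, Matrix.mulVec_add, Matrix.mulVec_smul, Matrix.mulVec_smul, hyy, smul_add, smul_add,
      smul_smul, smul_smul, ← pow_succ' (a : F) 2, ha', one_smul, ← sq]
    abel
  have e : v = (3 : F)⁻¹ • (u 1 + u w + u (w ^ 2)) := by
    rw [eq_inv_smul_iff₀ h3, hu, hu, hu, Units.val_one, Units.val_pow_eq_pow_val]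
    match_scalars
    · ring
    · linear_combination -hs - ((w : F) * hw')
    · linear_combination -hs
  rw [e]
  exact Submodule.smul_mem _ _ (Submodule.add_mem _ (Submodule.add_mem _ (hmem 1 (one_pow 3)) (hmem w hw))
    (hmem _ (by rw [← pow_mul, mul_comm, pow_mul, hw, one_pow])))

theorem conj_rotate {x : G3} {d : Fin 3 → Fˣ}
    (hx : ∃ g ∈ U ⊓ Cfsg.Geo.specialLinear (Fin 3) F, g⁻¹ * x * g = dg d) :
    ∃ g ∈ U ⊓ Cfsg.Geo.specialLinear (Fin 3) F, g⁻¹ * x * g = dg fun i => d (i + 1) := by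
  obtain ⟨g, hg, hgd⟩ := hx
  refine ⟨g * pc, mul_mem hg ⟨h.pc_mem, mem_SL_iff.mpr det_pc⟩, ?_⟩
  calc (g * pc)⁻¹ * x * (g * pc) = (pc : G3)⁻¹ * (g⁻¹ * x * g * pc) := by group
    _ = _ := by rw [hgd, pc_dg, inv_mul_cancel_left]

/-- All non-scalar involutions are conjugate. -/
theorem invol_conj (h2 : (2 : F) ≠ 0) {x : G3} (hx : x ∈ U ⊓ Cfsg.Geo.specialLinear (Fin 3) F)
    (hxx : (x : M3) * x = 1) (hns : ∀ z : F, (x : M3) ≠ z • 1) :
    ∃ g ∈ U ⊓ Cfsg.Geo.specialLinear (Fin 3) F, g⁻¹ * x * g = dg (![1, -1, -1] : Fin 3 → Fˣ) := by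
  obtain ⟨g, hg, d, hd, hprod, hgd⟩ := exists_diag h hx (fun a => a = 1 ∨ a = -1)
    (fun a ha => ha.elim (fun e => e ▸ one_mem N) (fun e => e ▸ h.neg_mem)) (by
      refine le_antisymm le_top ((span_two h2 hxx).ge.trans (Submodule.span_mono fun v hv => ?_))
      rcases hv with e | e
      · exact ⟨1, Or.inl rfl, by simpa using e⟩
      · exact ⟨-1, Or.inr rfl, by simpa using e⟩)
  have hne : ¬ (d 0 = d 1 ∧ d 1 = d 2) := fun ⟨e1, e2⟩ => hns (d 0) (scalar_conj (g := g) (by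
    rw [hgd, dg_val, Matrix.smul_one_eq_diagonal]
    congr 1
    funext i
    fin_cases i <;> simp [e1, e2]))
  have hp : d 0 * d 1 * d 2 = 1 := Units.ext (by simpa using hprod)
  have hm1 : (-1 : Fˣ) ≠ 1 := fun e => h2 (by
    have := congrArg (fun z : Fˣ => (z : F)) e
    simp only [Units.val_neg, Units.val_one] at this
    linear_combination -this)
  have h0 : ∃ g ∈ U ⊓ Cfsg.Geo.specialLinear (Fin 3) F, g⁻¹ * x * g = dg d := ⟨g, hg, hgd⟩
  have h1 := conj_rotate h h0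
  have h1' := conj_rotate h h1
  have f1 : (1 : Fin 3) + 1 = 2 := rfl
  have f2 : (2 : Fin 3) + 1 = 0 := rfl
  rcases hd 0 with a | a <;> rcases hd 1 with b | b <;> rcases hd 2 with c | c <;> rw [a, b, c] at hne hp <;>
    first
      | exact absurd ⟨rfl, rfl⟩ hne
      | (simp [hm1] at hp; done)
      | ((suffices e : (![1, -1, -1] : Fin 3 → Fˣ) = d by (rw [e]; exact h0)); (funext i; fin_cases i <;> simp [a, b, c, f1, f2]); done)
      | ((suffices e : (![1, -1, -1] : Fin 3 → Fˣ) = (fun i => d (i + 1)) by (rw [e]; exact h1)); (funext i; fin_cases i <;> simp [a, b, c, f1, f2]); done)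
      | ((suffices e : (![1, -1, -1] : Fin 3 → Fˣ) = (fun i => d (i + 1 + 1)) by (rw [e]; exact h1')); (funext i; fin_cases i <;> simp [a, b, c, f1, f2]); done)

theorem meet_two (h2 : (2 : F) ≠ 0) {w : Fˣ} (hw : w ^ 3 = 1) (hw1 : w ≠ 1) {x : G3}
    (hx : x ∈ U ⊓ Cfsg.Geo.specialLinear (Fin 3) F) (hxz : ∃ z : F, ((x ^ 2 : G3) : M3) = z • 1)
    (hns : ∀ z : F, (x : M3) ≠ z • 1) :
    ∃ g ∈ U ⊓ Cfsg.Geo.specialLinear (Fin 3) F, g⁻¹ * x * g ∈ Cfsg.Geo.subgroupNormalizer (R0 w) := by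
  obtain ⟨z, hz⟩ := hxz
  have hz3 : z ^ 3 = 1 := by
    have := congrArg Matrix.det hz
    rw [Units.val_pow_eq_pow_val, Matrix.det_pow, mem_SL_iff.mp hx.2, one_pow, Matrix.det_smul, Matrix.det_one,
      mul_one, Fintype.card_fin] at this
    exact this.symm
  have hz0 : z ≠ 0 := fun e => by simp [e] at hz3
  obtain ⟨u, hu⟩ : ∃ u : Fˣ, u = (Units.mk0 z hz0) := ⟨_, rfl⟩
  have hu3 : u ^ 3 = 1 := Units.ext (by simpa [hu] using hz3)
  obtain ⟨y, hy⟩ : ∃ y : G3, y = sc u * x := ⟨_, rfl⟩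
  have hyK : y ∈ U ⊓ Cfsg.Geo.specialLinear (Fin 3) F := by
    refine hy ▸ mul_mem ⟨sc_mem h (h.cube_mem u hu3), mem_SL_iff.mpr ?_⟩ hx
    rw [sc, det_dg, ← Units.val_mul, ← Units.val_mul, ← pow_three', hu3, Units.val_one]
  have hyy : (y : M3) * y = 1 := by
    rw [hy, Units.val_mul, sc_val, smul_mul_assoc, one_mul, smul_mul_smul_comm, ← Units.val_mul x x, ← sq x, hz,
      smul_smul, hu, Units.val_mk0, ← pow_three', hz3, one_smul]
  have hyns : ∀ t : F, (y : M3) ≠ t • 1 := fun t e => hns ((u : F)⁻¹ * t) (by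
    rw [mul_smul, ← e, hy, Units.val_mul, sc_val, smul_mul_assoc, one_mul, smul_smul,
      inv_mul_cancel₀ u.ne_zero, one_smul])
  obtain ⟨g, hg, hgd⟩ := invol_conj h h2 hyK hyy hyns
  have hJ : ((negJ : G3) : M3) * (negJ : G3) = 1 := by
    rw [negJ_val]
    ext i j
    fin_cases i <;> fin_cases j <;> simp [Matrix.mul_apply, Fin.sum_univ_three]
  obtain ⟨k, hk, hkd⟩ := invol_conj h h2 (x := negJ) ⟨h.negJ_mem, mem_SL_iff.mpr det_negJ⟩ hJ (fun t e => by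
    have := congrFun (congrFun e 1) 2
    simp [negJ_val] at this)
  refine ⟨g * k⁻¹, mul_mem hg (inv_mem hk), ?_⟩
  have e : (g * k⁻¹)⁻¹ * x * (g * k⁻¹) = (sc u)⁻¹ * negJ := by
    have hxy : x = (sc u)⁻¹ * y := by rw [hy, inv_mul_cancel_left]
    have hcomm : ∀ t : G3, t * (sc u)⁻¹ = (sc u)⁻¹ * t := fun t => (Commute.inv_left (sc_comm u t)).eq.symm
    calc (g * k⁻¹)⁻¹ * x * (g * k⁻¹) = k * g⁻¹ * (sc u)⁻¹ * (y * (g * k⁻¹)) := by rw [hxy]; group
      _ = (sc u)⁻¹ * (k * (g⁻¹ * y * g) * k⁻¹) := by rw [hcomm]; group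
      _ = _ := by
        rw [hgd, ← hkd]
        group
  rw [e, sc, ← map_inv]
  exact mul_mem (dg_mem_normalizer hw hw1 fun i => by simp [hu3]) (negJ_mem_normalizer hw)

theorem meet_three (h3 : (3 : F) ≠ 0) {w : Fˣ} (hw : w ^ 3 = 1) (hw1 : w ≠ 1)
    (hyes : ∀ c : Fˣ, c ^ 3 = 1 → ∃ l ∈ N, l ^ 3 = c) {x : G3}
    (hx : x ∈ U ⊓ Cfsg.Geo.specialLinear (Fin 3) F) (hxz : ∃ z : F, ((x ^ 3 : G3) : M3) = z • 1) :
    ∃ g ∈ U ⊓ Cfsg.Geo.specialLinear (Fin 3) F, g⁻¹ * x * g ∈ Cfsg.Geo.subgroupNormalizer (R0 w) := by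
  obtain ⟨z, hz⟩ := hxz
  have hz3 : z ^ 3 = 1 := by
    have := congrArg Matrix.det hz
    rw [Units.val_pow_eq_pow_val, Matrix.det_pow, mem_SL_iff.mp hx.2, one_pow, Matrix.det_smul, Matrix.det_one,
      mul_one, Fintype.card_fin] at this
    exact this.symm
  have hz0 : z ≠ 0 := fun e => by simp [e] at hz3
  obtain ⟨l, hl, hlc⟩ := hyes (Units.mk0 z hz0) (Units.ext (by simpa using hz3))
  have hlz : (l : F) ^ 3 = z := by simpa using congrArg (fun t : Fˣ => (t : F)) hlc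
  have hyy : ((l : F)⁻¹ • (x : M3)) * ((l : F)⁻¹ • (x : M3)) * ((l : F)⁻¹ • (x : M3)) = 1 := by
    rw [smul_mul_smul_comm, smul_mul_smul_comm, ← Units.val_mul, ← Units.val_mul, ← pow_three' x, hz, smul_smul,
      ← hlz, pow_three']
    rw [show (l : F)⁻¹ * (l : F)⁻¹ * (l : F)⁻¹ * ((l : F) * l * l) = 1 by
      field_simp [l.ne_zero], one_smul]
  obtain ⟨g, hg, d, hd, -, hgd⟩ := exists_diag h hx (fun a => ∃ e : Fˣ, e ^ 3 = 1 ∧ a = l * e)
    (fun a ⟨e, he, ha⟩ => ha ▸ mul_mem hl (h.cube_mem e he)) (by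
      refine le_antisymm le_top ((span_three h3 hw hw1 hyy).ge.trans (Submodule.span_mono fun v ⟨e, he, hv⟩ => ?_))
      refine ⟨l * e, ⟨e, he, rfl⟩, ?_⟩
      rw [Matrix.smul_mulVec] at hv
      rw [Units.val_mul, mul_smul, ← hv, smul_smul, mul_inv_cancel₀ l.ne_zero, one_smul])
  refine ⟨g, hg, ?_⟩
  choose e he hde using hd
  rw [hgd, show d = (fun _ => l) * e from funext fun i => hde i, map_mul]
  refine mul_mem (Subgroup.mem_normalizer_iff.mpr fun t => ?_) (dg_mem_normalizer hw hw1 he)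
  rw [show dg (fun _ => l) = sc l from rfl, sc_comm, mul_inv_cancel_right]

/-- The criterion for the standard group. -/
theorem core (h2 : (2 : F) ≠ 0) (h3 : (3 : F) ≠ 0) {w : Fˣ} (hw : w ^ 3 = 1) (hw1 : w ≠ 1)
    (hcard : Nat.card (R0 w) = 27) (hR0U : R0 w ≤ U) (cond : Prop)
    (hyes : cond → ∀ c : Fˣ, c ^ 3 = 1 → ∃ l ∈ N, l ^ 3 = c)
    (hno : ¬ cond → ¬ 81 ∣ Nat.card ↥(U ⊓ Cfsg.Geo.specialLinear (Fin 3) F))
    (r : ℕ) [Fact r.Prime]
    (hr : r ∣ (Cfsg.Geo.subgroupNormalizer (R0 w)).relIndex (U ⊓ Cfsg.Geo.specialLinear (Fin 3) F)) :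
    (∀ x ∈ U ⊓ Cfsg.Geo.specialLinear (Fin 3) F, (∃ z : F, ((x ^ r : G3) : M3) = z • 1) →
      (∀ z : F, (x : M3) ≠ z • 1) →
      ∃ g ∈ U ⊓ Cfsg.Geo.specialLinear (Fin 3) F, g⁻¹ * x * g ∈ Cfsg.Geo.subgroupNormalizer (R0 w)) ↔
    (r = 2 ∨ (r = 3 ∧ cond)) := by
  constructor
  · intro hall
    by_cases hr2 : r = 2
    · exact Or.inl hr2
    have hle : R0 w ≤ U ⊓ Cfsg.Geo.specialLinear (Fin 3) F := le_inf hR0U (R0_le_SL hw)
    have hdvd : r * 27 ∣ Nat.card ↥(U ⊓ Cfsg.Geo.specialLinear (Fin 3) F) := by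
      rw [← Subgroup.card_mul_index ((R0 w).subgroupOf (U ⊓ Cfsg.Geo.specialLinear (Fin 3) F)),
        Nat.card_congr (Subgroup.subgroupOfEquivOfLe hle).toEquiv, hcard, mul_comm r]
      exact mul_dvd_mul_left _ (hr.trans (Subgroup.relIndex_dvd_of_le_left _ Subgroup.le_normalizer))
    by_cases hr3 : r = 3
    · refine Or.inr ⟨hr3, ?_⟩
      by_contra hc
      exact hno hc (by subst hr3; exact hdvd)
    exfalso
    obtain ⟨x, hxo⟩ := exists_prime_orderOf_dvd_card' (G := ↥(U ⊓ Cfsg.Geo.specialLinear (Fin 3) F)) r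
      ((dvd_mul_right r 27).trans hdvd)
    have hxr : (x : G3) ^ r = 1 := congrArg Subtype.val (hxo ▸ pow_orderOf_eq_one x)
    have hns : ∀ z : F, ((x : G3) : M3) ≠ z • 1 := by
      intro z e
      have hd := mem_SL_iff.mp x.2.2
      rw [e, Matrix.det_smul, Matrix.det_one, mul_one, Fintype.card_fin] at hd
      have hzr : z ^ r = 1 := by
        have := congrArg (fun g : G3 => (g : M3) 0 0) hxr
        simpa [e, smul_pow] using this
      have hz1 : z = 1 := by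
        have := pow_gcd_eq_one.mpr ⟨hzr, hd⟩
        rwa [show Nat.gcd r 3 = 1 from (Nat.coprime_primes Fact.out Nat.prime_three).mpr hr3, pow_one] at this
      have hx1 : x = 1 := Subtype.ext (Units.ext (by rw [e, hz1, one_smul]; rfl))
      rw [hx1, orderOf_one] at hxo
      exact (Fact.out : r.Prime).ne_one hxo.symm
    obtain ⟨g, hg, hgN⟩ := hall x x.2 ⟨1, by rw [hxr, Units.val_one, one_smul]⟩ hns
    obtain ⟨z, hz⟩ := scalar_of_pow hw hw1 hcard hr2 hr3 hgN (by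
      rw [show g⁻¹ * (x : G3) * g = MulAut.conj g⁻¹ (x : G3) by simp, ← map_pow, hxr, map_one])
    exact hns z (scalar_conj hz)
  · rintro (rfl | ⟨rfl, hc⟩) x hx hxz hns
    · exact meet_two h h2 hw hw1 hx hxz hns
    · exact meet_three h h3 hw hw1 (hyes hc) hx hxz

/-- The criterion. -/
theorem criterion (h2 : (2 : F) ≠ 0) (h3 : (3 : F) ≠ 0) {w : Fˣ} (hw : w ^ 3 = 1) (hw1 : w ≠ 1)
    (R : Subgroup G3) (hRU : R ≤ U) (hR : Nat.card R = 27) (hRe : Monoid.exponent R = 3)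
    (hRna : ¬ IsMulCommutative R) (cond : Prop)
    (hyes : cond → ∀ c : Fˣ, c ^ 3 = 1 → ∃ l ∈ N, l ^ 3 = c)
    (hno : ¬ cond → ¬ 81 ∣ Nat.card ↥(U ⊓ Cfsg.Geo.specialLinear (Fin 3) F))
    (r : ℕ) [Fact r.Prime]
    (hr : r ∣ (Cfsg.Geo.subgroupNormalizer R).relIndex (U ⊓ Cfsg.Geo.specialLinear (Fin 3) F)) :
    (∀ x ∈ U ⊓ Cfsg.Geo.specialLinear (Fin 3) F, (∃ z : F, ((x ^ r : G3) : M3) = z • 1) →
      (∀ z : F, (x : M3) ≠ z • 1) →
      ∃ g ∈ U ⊓ Cfsg.Geo.specialLinear (Fin 3) F, g⁻¹ * x * g ∈ Cfsg.Geo.subgroupNormalizer R) ↔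
    (r = 2 ∨ (r = 3 ∧ cond)) := by
  obtain ⟨z, hz, hz1, T, hT, hcard, rfl⟩ := exists_frame h R hRU hR hRe hRna hw hw1
  obtain ⟨c, hc⟩ : ∃ c : G3 ≃* G3, c = MulAut.conj T := ⟨_, rfl⟩
  rw [← hc] at hRU hr ⊢
  have hcK : ∀ x, c x ∈ U ⊓ Cfsg.Geo.specialLinear (Fin 3) F ↔ x ∈ U ⊓ Cfsg.Geo.specialLinear (Fin 3) F := by
    intro x
    rw [hc, Subgroup.mem_inf, Subgroup.mem_inf, MulAut.conj_apply]
    refine and_congr ⟨fun hx => ?_, fun hx => mul_mem (mul_mem hT hx) (inv_mem hT)⟩ ?_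
    · have := mul_mem (mul_mem (inv_mem hT) hx) hT
      simpa [mul_assoc] using this
    · rw [mem_SL_iff, mem_SL_iff, Units.val_mul, Units.val_mul, Matrix.det_mul_right_comm, ← Units.val_mul,
        mul_inv_cancel, Units.val_one, one_mul]
  have hKmap : (U ⊓ Cfsg.Geo.specialLinear (Fin 3) F).map c.toMonoidHom = U ⊓ Cfsg.Geo.specialLinear (Fin 3) F := by
    ext x
    refine ⟨fun ⟨y, hy, e⟩ => e ▸ (hcK y).mpr hy, fun hx => ⟨c.symm x, (hcK _).mp ?_, c.apply_symm_apply x⟩⟩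
    rwa [c.apply_symm_apply]
  have hN : Cfsg.Geo.subgroupNormalizer ((R0 z).map c.toMonoidHom) =
      (Cfsg.Geo.subgroupNormalizer (R0 z)).map c.toMonoidHom :=
    (Subgroup.map_equiv_normalizer_eq (R0 z) c).symm
  have hR0U : R0 z ≤ U := fun x hx => by
    have := (hRU ⟨x, hx, rfl⟩ : c x ∈ U)
    rw [hc, MulAut.conj_apply] at this
    simpa [mul_assoc] using mul_mem (mul_mem (inv_mem hT) this) hT
  have hr' : r ∣ (Cfsg.Geo.subgroupNormalizer (R0 z)).relIndex (U ⊓ Cfsg.Geo.specialLinear (Fin 3) F) := by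
    rw [hN] at hr
    rw [← hKmap] at hr
    rwa [Subgroup.relIndex_map_map_of_injective _ _ c.injective] at hr
  rw [← core h h2 h3 hz hz1 hcard hR0U cond hyes hno r hr', hN]
  have hmat : ∀ (x : G3) (t : F), ((c x : G3) : M3) = t • 1 ↔ (x : M3) = t • 1 := fun x t => by
    rw [hc, MulAut.conj_apply]
    refine ⟨fun e => scalar_conj (g := T⁻¹) (by rwa [inv_inv]), fun e => ?_⟩
    rw [Units.val_mul, Units.val_mul, e, mul_smul_comm, mul_one, smul_mul_assoc, Units.mul_inv]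
  constructor
  · intro hall x hx ⟨t, ht⟩ hns
    obtain ⟨g, hg, y, hy, hgy⟩ := hall (c x) ((hcK x).mpr hx) ⟨t, by rw [← map_pow]; exact (hmat _ t).mpr ht⟩
      fun s e => hns s ((hmat x s).mp e)
    refine ⟨c.symm g, (hcK _).mp (by rwa [c.apply_symm_apply]), ?_⟩
    have : c (c.symm g⁻¹ * x * c.symm g) = c y := by
      rw [map_mul, map_mul, c.apply_symm_apply, c.apply_symm_apply]
      exact hgy.symm
    rw [← map_inv, c.injective this]
    exact hy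
  · intro hall x hx ⟨t, ht⟩ hns
    obtain ⟨g, hg, hgy⟩ := hall (c.symm x) ((hcK _).mp (by rwa [c.apply_symm_apply]))
      ⟨t, (hmat _ t).mp (by rw [map_pow, c.apply_symm_apply]; exact ht)⟩
      fun s e => hns s (by rw [← c.apply_symm_apply x]; exact (hmat _ s).mpr e)
    refine ⟨c g, (hcK g).mpr hg, _, hgy, ?_⟩
    change c (g⁻¹ * c.symm x * g) = _
    rw [map_mul, map_mul, map_inv, c.apply_symm_apply]

end Cfsg.Agent.Classical.HeisThree
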