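import Cfsg.Agent.Lib.Classical.Elusive.HeisenbergThree

/-!
# Extraspecial subgroups 3^{1+2} of three-dimensional groups and elements of prime order

A non-abelian subgroup of order 27 and exponent 3 is conjugate in the ambient group to the standard one, and
the elements of prime order with a conjugate normalising it are determined.
-/

set_option autoImplicit false
set_option linter.unusedSectionVars false

namespace Cfsg.Agent.Classical.HeisThree

open Matrix

variable {F : Type*} [Field F] [Finite F]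

local notation "G3" => GL (Fin 3) F
local notation "M3" => Matrix (Fin 3) (Fin 3) F
local notation "SL3" => Cfsg.Geo.specialLinear (Fin 3) F

variable {U : Subgroup (GL (Fin 3) F)} {N : Subgroup Fˣ} (h : Amb U N)

omit [Finite F] in
theorem comm_of_card_dvd_nine {Q : Type*} [Group Q] [Finite Q] (hQ : Nat.card Q ∣ 3 ^ 2) (a b : Q) :
    a * b = b * a := by
  obtain ⟨i, hi, hci⟩ := (Nat.dvd_prime_pow Nat.prime_three).mp hQ
  interval_cases i
  · have := (Nat.card_eq_one_iff_unique.mp (by simpa using hci)).1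
    exact Subsingleton.elim _ _
  · have : Fact (Nat.Prime 3) := ⟨Nat.prime_three⟩
    have := isCyclic_of_prime_card (α := Q) (by simpa using hci)
    let := IsCyclic.commGroup (α := Q)
    exact mul_comm a b
  · have : Fact (Nat.Prime 3) := ⟨Nat.prime_three⟩
    exact IsPGroup.commutative_of_card_eq_prime_sq hci a b

omit [Finite F] in
theorem commutator_central {R : Type*} [Group R] [Finite R] (hR : Nat.card R = 27) (a b : R) :
    a * b * a⁻¹ * b⁻¹ ∈ Subgroup.center R := by
  have : Fact (Nat.Prime 3) := ⟨Nat.prime_three⟩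
  have hp : IsPGroup 3 R := IsPGroup.of_card (n := 3) (by rw [hR]; norm_num)
  have hnt : Nontrivial R := Finite.one_lt_card_iff_nontrivial.mp (by rw [hR]; norm_num)
  have hz := hp.center_nontrivial
  have h1 : 1 < Nat.card (Subgroup.center R) := Finite.one_lt_card_iff_nontrivial.mpr hz
  have h2 := (Subgroup.center R).card_mul_index
  obtain ⟨i, hi, hci⟩ := (Nat.dvd_prime_pow Nat.prime_three).mp
    (show Nat.card (Subgroup.center R) ∣ 3 ^ 3 by
      have := Subgroup.card_subgroup_dvd_card (Subgroup.center R)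
      rw [hR] at this
      simpa using this)
  have hd : Nat.card (R ⧸ Subgroup.center R) ∣ 3 ^ 2 := by
    rw [← Subgroup.index_eq_card]
    interval_cases i
    · simp [hci] at h1
    all_goals (rw [hci, hR] at h2; norm_num1 at h2 ⊢)
    all_goals
      first
        | rw [show (Subgroup.center R).index = 9 by omega]
        | exact ⟨3, by omega⟩
        | exact ⟨9, by omega⟩
  rw [← QuotientGroup.eq_one_iff, QuotientGroup.mk_mul, QuotientGroup.mk_mul, QuotientGroup.mk_mul,
    QuotientGroup.mk_inv, QuotientGroup.mk_inv, comm_of_card_dvd_nine hd (a : R ⧸ Subgroup.center R)]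
  group

/-- A matrix of order three commuting with a non-commuting pair, and equal to its commutator, is scalar. -/
theorem scalar_commutator {a b c : G3} {z : Fˣ} (hc : a * b = c * (b * a)) (hca : c * a = a * c)
    (hcb : c * b = b * c) (hz : z ^ 3 = 1) (hz1 : z ≠ 1)
    (v : Fin 3 → F) (hv : v ≠ 0) (hcv : (c : M3) *ᵥ v = (z : F) • v) : c = sc z := by
  obtain ⟨f, hf⟩ : ∃ f : G3 → Module.End F (Fin 3 → F), ∀ g v, f g v = (g : M3) *ᵥ v :=
    ⟨fun g => Matrix.mulVecLin (g : M3), fun g v => rfl⟩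
  obtain ⟨W, hW⟩ : ∃ W : Submodule F (Fin 3 → F), ∀ v, v ∈ W ↔ f c v = (z : F) • v :=
    ⟨LinearMap.ker (f c - (z : F) • (1 : Module.End F (Fin 3 → F))), fun v => by
      rw [LinearMap.mem_ker, LinearMap.sub_apply, LinearMap.smul_apply, Module.End.one_apply, sub_eq_zero]⟩
  have hmem : ∀ g : G3, c * g = g * c → ∀ v ∈ W, f g v ∈ W := fun g hg v hv => by
    rw [hW] at hv ⊢
    rw [hf, hf, Matrix.mulVec_mulVec, ← Units.val_mul, hg, Units.val_mul, ← Matrix.mulVec_mulVec, ← hf c v, hv,
      Matrix.mulVec_smul]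
  let A : Module.End F W := (f a).restrict (hmem a hca)
  let B : Module.End F W := (f b).restrict (hmem b hcb)
  have hAB : A * B = (z : F) • (B * A) := by
    refine LinearMap.ext fun u => Subtype.ext ?_
    change f a (f b u) = (z : F) • f b (f a u)
    rw [hf, hf, Matrix.mulVec_mulVec, ← Units.val_mul, hc, Units.val_mul, ← Matrix.mulVec_mulVec, ← hf c]
    have hu : f b (f a u) ∈ W := hmem b hcb _ (hmem a hca _ u.2)
    rw [Units.val_mul, ← Matrix.mulVec_mulVec, ← hf a, ← hf b]
    exact (hW _).mp hu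
  have hdet : ∀ g : G3, ∀ hg : c * g = g * c, LinearMap.det ((f g).restrict (hmem g hg)) ≠ 0 := by
    intro g hg
    refine IsUnit.ne_zero (LinearEquiv.isUnit_det' (LinearEquiv.ofBijective ((f g).restrict (hmem g hg)) ?_))
    have hinj : Function.Injective ((f g).restrict (hmem g hg)) := fun u u' e => Subtype.ext (by
      have e' := congrArg Subtype.val e
      simp only [LinearMap.restrict_coe_apply, hf] at e'
      exact Matrix.mulVec_injective_iff_isUnit.mpr g.isUnit e')
    exact ⟨hinj, LinearMap.injective_iff_surjective.mp hinj⟩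
  have hd := congrArg LinearMap.det hAB
  rw [map_mul, LinearMap.det_smul, map_mul, mul_comm (LinearMap.det B)] at hd
  have hz3 : (z : F) ^ Module.finrank F W = 1 :=
    (mul_right_cancel₀ (mul_ne_zero (hdet a hca) (hdet b hcb)) ((one_mul _).trans hd)).symm
  have ho : orderOf z = 3 := by
    have : Fact (Nat.Prime 3) := ⟨Nat.prime_three⟩
    exact orderOf_eq_prime hz hz1
  have hdvd : 3 ∣ Module.finrank F W := by
    have := orderOf_dvd_of_pow_eq_one (x := z) (n := Module.finrank F W) (Units.ext (by simpa using hz3))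
    rwa [ho] at this
  have hpos : 0 < Module.finrank F W := Module.finrank_pos_iff_exists_ne_zero.mpr
    ⟨⟨v, (hW v).mpr (by rw [hf]; exact hcv)⟩, fun e => hv (congrArg Subtype.val e)⟩
  have hle := W.finrank_le
  rw [Module.finrank_fintype_fun_eq_card, Fintype.card_fin] at hle
  have htop : W = ⊤ := Submodule.eq_top_of_finrank_eq
    (by rw [Module.finrank_fintype_fun_eq_card, Fintype.card_fin]; obtain ⟨m, hm⟩ := hdvd; omega)
  apply Units.ext
  rw [sc_val]
  refine Matrix.ext_of_mulVec_single fun i => ?_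
  rw [← hf, (hW _).mp (htop ▸ Submodule.mem_top), Matrix.smul_mulVec, Matrix.one_mulVec]

omit [Finite F] in
/-- A root of `T² + T + 1` from a null vector. -/
theorem exists_root (M : Matrix (Fin 3) (Fin 3) F) {v : Fin 3 → F} (hv : v ≠ 0)
    (h0 : (M ^ 2 + M + 1) *ᵥ v = 0)
    {w : Fˣ} (hw : w ^ 3 = 1) (hw1 : w ≠ 1) :
    ∃ z : Fˣ, z ^ 3 = 1 ∧ z ≠ 1 ∧ ∃ u : Fin 3 → F, u ≠ 0 ∧ M *ᵥ u = (z : F) • u := by
  have hw' : (w : F) ^ 3 = 1 := by rw [← Units.val_pow_eq_pow_val, hw, Units.val_one]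
  have hs : 1 + (w : F) + (w : F) ^ 2 = 0 := by
    have : ((w : F) - 1) * (1 + (w : F) + (w : F) ^ 2) = 0 := by linear_combination hw'
    exact (mul_eq_zero.mp this).resolve_left (sub_ne_zero.mpr fun e => hw1 (Units.ext e))
  obtain ⟨u, hu⟩ : ∃ u, u = M *ᵥ v - ((w : F) ^ 2) • v := ⟨_, rfl⟩
  by_cases hu0 : u = 0
  · refine ⟨w ^ 2, by rw [← pow_mul, mul_comm, pow_mul, hw, one_pow], fun e => hw1 ?_, v, hv, ?_⟩
    · rw [← hw, pow_succ, e, one_mul]
    · rw [hu, sub_eq_zero] at hu0
      rw [hu0, Units.val_pow_eq_pow_val]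
  · refine ⟨w, hw, hw1, u, hu0, ?_⟩
    rw [Matrix.add_mulVec, Matrix.add_mulVec, Matrix.one_mulVec, sq M, ← Matrix.mulVec_mulVec] at h0
    rw [← sub_eq_zero, ← h0, hu, Matrix.mulVec_sub, Matrix.mulVec_smul]
    match_scalars
    all_goals
      first
        | ring1
        | linear_combination hs
        | linear_combination -hs
        | linear_combination hw' - hs
        | linear_combination hw'

theorem exists_eigen {g : G3} (hg : g ^ 3 = 1) {w : Fˣ} (hw : w ^ 3 = 1) (hw1 : w ≠ 1) :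
    ∃ k : ℕ, ∃ v : Fin 3 → F, v ≠ 0 ∧ (g : M3) *ᵥ v = ((w : F) ^ k) • v := by
  by_contra hcon
  push Not at hcon
  have hw' : (w : F) ^ 3 = 1 := by rw [← Units.val_pow_eq_pow_val, hw, Units.val_one]
  have hs : 1 + (w : F) + (w : F) ^ 2 = 0 := by
    have : ((w : F) - 1) * (1 + (w : F) + (w : F) ^ 2) = 0 := by linear_combination hw'
    exact (mul_eq_zero.mp this).resolve_left (sub_ne_zero.mpr fun e => hw1 (Units.ext e))
  have hu : ∀ k : ℕ, IsUnit ((g : M3) - ((w : F) ^ k) • 1) := by
    intro k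
    rw [Matrix.isUnit_iff_isUnit_det, isUnit_iff_ne_zero]
    intro h0
    obtain ⟨v, hv0, hv⟩ := Matrix.exists_mulVec_eq_zero_iff.mpr h0
    refine hcon k v hv0 ?_
    rwa [Matrix.sub_mulVec, Matrix.smul_mulVec, Matrix.one_mulVec, sub_eq_zero] at hv
  have hg' : (g : M3) ^ 3 = 1 := by rw [← Units.val_pow_eq_pow_val, hg, Units.val_one]
  have e : ((g : M3) - ((w : F) ^ 0) • 1) * ((g : M3) - ((w : F) ^ 1) • 1) * ((g : M3) - ((w : F) ^ 2) • 1) = 0 := by
    have h1 : (g : M3) ^ 3 = (g : M3) * (g : M3) * (g : M3) := by noncomm_ring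
    have h2 : (1 : F) + w + w ^ 2 = 0 := hs
    simp only [pow_zero, one_smul, pow_one, sub_mul, mul_sub, one_mul, mul_one, smul_mul_assoc, mul_smul_comm,
      smul_sub, smul_smul, ← h1, hg']
    rw [← sub_eq_zero]
    match_scalars <;>
      first
        | linear_combination hs
        | linear_combination -hs
        | linear_combination hw' - (w : F) * hs
        | linear_combination (w : F) * hs - hw'
        | linear_combination hw'
        | linear_combination -hw'
        | linear_combination (w : F) * hs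
        | linear_combination -(w : F) * hs
  have := ((hu 0).mul (hu 1)).mul (hu 2)
  rw [e] at this
  exact not_isUnit_zero this

include h

theorem exists_frame (R : Subgroup G3) (hRU : R ≤ U) (hR : Nat.card R = 27) (hRe : Monoid.exponent R = 3)
    (hRna : ¬ IsMulCommutative R) {w : Fˣ} (hw : w ^ 3 = 1) (hw1 : w ≠ 1) :
    ∃ z : Fˣ, z ^ 3 = 1 ∧ z ≠ 1 ∧ ∃ T ∈ U, Nat.card (R0 z) = 27 ∧ R = (R0 z).map (MulAut.conj T).toMonoidHom := by
  have hex : ∀ g ∈ R, g ^ 3 = 1 := fun g hg => by
    have := Monoid.pow_exponent_eq_one (⟨g, hg⟩ : R)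
    rw [hRe] at this
    exact congrArg Subtype.val this
  obtain ⟨a, b, hab⟩ : ∃ a b : R, a * b ≠ b * a := by
    by_contra hcon
    push Not at hcon
    exact hRna ⟨⟨hcon⟩⟩
  obtain ⟨c, hc⟩ : ∃ c : G3, c = (a : G3) * b * (a : G3)⁻¹ * (b : G3)⁻¹ := ⟨_, rfl⟩
  have hcR : c ∈ R := by
    rw [hc]
    exact mul_mem (mul_mem (mul_mem a.2 b.2) (inv_mem a.2)) (inv_mem b.2)
  have hcc := Subgroup.mem_center_iff.mp (commutator_central hR a b)
  have hce : ∀ g : R, c * g = g * c := fun g => by
    rw [hc]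
    exact (congrArg Subtype.val (hcc g)).symm
  have hc1 : c ≠ 1 := fun e => hab <| Subtype.ext <| by
    have : (a : G3) * b = c * (b * a) := by rw [hc]; group
    rw [e, one_mul] at this
    exact this
  -- a cube root of unity other than one
  obtain ⟨z, hz, hz1, v, hv, hcv⟩ : ∃ z : Fˣ, z ^ 3 = 1 ∧ z ≠ 1 ∧ ∃ v : Fin 3 → F, v ≠ 0 ∧
      (c : M3) *ᵥ v = (z : F) • v := by
    by_contra hcon
    push Not at hcon
    have hc3 : (c : M3) ^ 3 = 1 := by rw [← Units.val_pow_eq_pow_val, hex c hcR, Units.val_one]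
    have hu : IsUnit ((c : M3) ^ 2 + (c : M3) + 1) := by
      rw [Matrix.isUnit_iff_isUnit_det, isUnit_iff_ne_zero]
      intro h0
      obtain ⟨v, hv0, hv⟩ := Matrix.exists_mulVec_eq_zero_iff.mpr h0
      obtain ⟨z, hz, hz1, u, hu0, hu⟩ := exists_root (c : M3) hv0 hv hw hw1
      exact hcon z hz hz1 u hu0 hu
    have e : ((c : M3) - 1) * ((c : M3) ^ 2 + (c : M3) + 1) = 0 := by
      rw [← sub_eq_zero.mpr hc3]; noncomm_ring
    exact hc1 (Units.ext (sub_eq_zero.mp (hu.mul_left_eq_zero.mp e)))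
  have hab' : (a : G3) * b = c * ((b : G3) * a) := by rw [hc]; group
  have hcs : c = sc z := scalar_commutator hab' (hce a) (hce b) hz hz1 v hv hcv
  -- eigenvectors of `a`, permuted by `b`
  obtain ⟨k, u, hu0, hu⟩ := exists_eigen (hex a a.2) hz hz1
  have hshift : ∀ {μ : F} {x : Fin 3 → F}, ((a : G3) : M3) *ᵥ x = μ • x →
      ((a : G3) : M3) *ᵥ (((b : G3) : M3) *ᵥ x) = ((z : F) * μ) • (((b : G3) : M3) *ᵥ x) := by
    intro μ x hx
    rw [Matrix.mulVec_mulVec, ← Units.val_mul, hab', hcs, Units.val_mul, sc_val, smul_mul_assoc, one_mul,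
      Matrix.smul_mulVec, Units.val_mul, ← Matrix.mulVec_mulVec, hx, Matrix.mulVec_smul, smul_smul]
  have hpow : ∀ (n : ℕ) (μ : F) (x : Fin 3 → F), ((a : G3) : M3) *ᵥ x = μ • x →
      ((a : G3) : M3) *ᵥ ((((b : G3) ^ n : G3) : M3) *ᵥ x) = ((z : F) ^ n * μ) • ((((b : G3) ^ n : G3) : M3) *ᵥ x) := by
    intro n
    induction n with
    | zero => intro μ x hx; simpa using hx
    | succ n ih =>
      intro μ x hx
      rw [pow_succ' (b : G3), Units.val_mul, ← Matrix.mulVec_mulVec, hshift (ih μ x hx), pow_succ', mul_assoc]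
  have hzk : (z : F) ^ 3 = 1 := by rw [← Units.val_pow_eq_pow_val, hz, Units.val_one]
  obtain ⟨v0, hv00, hv0⟩ : ∃ v0 : Fin 3 → F, v0 ≠ 0 ∧ ((a : G3) : M3) *ᵥ v0 = v0 := by
    refine ⟨((((b : G3) ^ (2 * k)) : G3) : M3) *ᵥ u, ?_, ?_⟩
    · intro e
      exact hu0 (Matrix.mulVec_injective_iff_isUnit.mpr ((b : G3) ^ (2 * k)).isUnit (e.trans (Matrix.mulVec_zero _).symm))
    · rw [hpow _ _ _ hu, ← pow_add, show 2 * k + k = 3 * k by omega, pow_mul, hzk, one_pow, one_smul]
  obtain ⟨vs, hvs⟩ : ∃ vs : Fin 3 → Fin 3 → F, ∀ i : Fin 3, vs i = ((((b : G3) ^ (i : ℕ)) : G3) : M3) *ᵥ v0 :=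
    ⟨_, fun i => rfl⟩
  have hva : ∀ i : Fin 3, ((a : G3) : M3) *ᵥ vs i = (z : F) ^ (i : ℕ) • vs i := fun i => by
    rw [hvs, hpow _ 1 _ (by rw [hv0, one_smul]), mul_one]
  have hvb : ∀ i : Fin 3, ((b : G3) : M3) *ᵥ vs i = vs (i + 1) := fun i => by
    rw [hvs, hvs, Matrix.mulVec_mulVec, ← Units.val_mul, ← pow_succ']
    have hb3 := hex b b.2
    fin_cases i
    · rfl
    · rfl
    · simp [hb3]
  have ho : orderOf z = 3 := by
    have : Fact (Nat.Prime 3) := ⟨Nat.prime_three⟩
    exact orderOf_eq_prime hz hz1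
  have hli : LinearIndependent F vs := by
    refine Module.End.eigenvectors_linearIndependent' (Matrix.mulVecLin ((a : G3) : M3))
      (fun i : Fin 3 => (z : F) ^ (i : ℕ)) (fun i j e => ?_) vs fun i => ⟨?_, ?_⟩
    · exact Fin.ext (pow_injOn_Iio_orderOf (by simp [ho, i.isLt]) (by simp [ho, j.isLt])
        (Units.ext (by simpa using e) : z ^ (i : ℕ) = z ^ (j : ℕ)))
    · exact Module.End.mem_eigenspace_iff.mpr (hva i)
    · intro e
      rw [hvs] at e
      exact hv00 (Matrix.mulVec_injective_iff_isUnit.mpr ((b : G3) ^ (i : ℕ)).isUnit (e.trans (Matrix.mulVec_zero _).symm))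
  obtain ⟨T, hT, l, hTl⟩ := h.frame a (hRU a.2) b (hRU b.2) z vs hz hz1 hli hva hvb
  have hcol : ∀ j, (fun i => (T : M3) i j) = l • vs j := fun j => funext fun i => by simp [hTl]
  have hTa : T⁻¹ * (a : G3) * T = dw z := conj_of_cols fun j => by
    rw [hcol, Matrix.mulVec_smul, hva, smul_comm, Units.val_pow_eq_pow_val]
  have hTb : T⁻¹ * (b : G3) * T = pc := by
    have e : (b : G3) * T = T * pc := by
      apply Units.ext
      rw [Units.val_mul, Units.val_mul]
      ext i j
      rw [show (((b : G3) : M3) * (T : M3)) i j = (((b : G3) : M3) *ᵥ fun i => (T : M3) i j) i from rfl, hcol,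
        Matrix.mulVec_smul, hvb, pc_val]
      fin_cases j <;> simp [Matrix.mul_apply, Fin.sum_univ_three, hTl]
    rw [mul_assoc, e, inv_mul_cancel_left]
  have hgen : Subgroup.closure {(a : G3), (b : G3)} = R := by
    have hle : Subgroup.closure {(a : G3), (b : G3)} ≤ R := by
      rw [Subgroup.closure_le]
      rintro g (rfl | rfl)
      · exact a.2
      · exact b.2
    refine Subgroup.eq_of_le_of_card_ge hle ?_
    obtain ⟨i, hi, hci⟩ := (Nat.dvd_prime_pow Nat.prime_three).mp (show Nat.card (Subgroup.closure {(a : G3), (b : G3)}) ∣ 3 ^ 3 by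
      have := Subgroup.card_dvd_of_le hle
      rw [hR] at this
      simpa using this)
    rcases Nat.lt_or_ge i 3 with hlt | hge
    · refine absurd (Subtype.ext ?_) hab
      have := comm_of_card_dvd_nine (Q := Subgroup.closure {(a : G3), (b : G3)})
        (by rw [hci]; exact pow_dvd_pow 3 (by omega)) ⟨a, Subgroup.subset_closure (Or.inl rfl)⟩
        ⟨b, Subgroup.subset_closure (Or.inr rfl)⟩
      exact congrArg (fun x : Subgroup.closure {(a : G3), (b : G3)} => (x : G3)) this
    · rw [hR, hci, show i = 3 by omega]; norm_num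
  have hmap : R = (R0 z).map (MulAut.conj T).toMonoidHom := by
    rw [R0, ← hgen, MonoidHom.map_closure, Set.image_pair]
    congr 2
    · rw [← hTa]; simp; group
    · rw [← hTb]; simp; group
  refine ⟨z, hz, hz1, T, hT, ?_, hmap⟩
  rw [← Subgroup.card_map_of_injective (f := (MulAut.conj T).toMonoidHom) (MulAut.conj T).injective, ← hmap, hR]

end Cfsg.Agent.Classical.HeisThree
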