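import Cfsg.Agent.Lib.Classical.Elusive.HeisenbergThreeAmb

/-!
# Orders of the special groups in dimension three, and cube roots of unity
-/

set_option autoImplicit false

namespace Cfsg.Agent.Classical.HeisThree

open Matrix

variable {F : Type*} [Field F] [Fintype F]

theorem exists_omega (h : 3 ∣ Fintype.card F - 1) : ∃ w : Fˣ, w ^ 3 = 1 ∧ w ≠ 1 := by
  classical
  have : Fact (Nat.Prime 3) := ⟨Nat.prime_three⟩
  obtain ⟨w, hw⟩ := exists_prime_orderOf_dvd_card' (G := Fˣ) 3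
    (by rwa [Nat.card_units, Nat.card_eq_fintype_card])
  refine ⟨w, hw ▸ pow_orderOf_eq_one w, fun e => ?_⟩
  rw [e, orderOf_one] at hw
  omega

/-- If 9 divides the multiplicative order, the cube roots of unity are cubes of ninth roots. -/
theorem exists_ninth (h : 9 ∣ Fintype.card F - 1) {c : Fˣ} (hc : c ^ 3 = 1) : ∃ l : Fˣ, l ^ 9 = 1 ∧ l ^ 3 = c := by
  classical
  obtain ⟨g, hg⟩ := IsCyclic.exists_generator (α := Fˣ)
  obtain ⟨k, hk⟩ := Submonoid.mem_powers_iff _ _ |>.mp (mem_powers_iff_mem_zpowers.mpr (hg c))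
  have hd : orderOf g ∣ k * 3 := orderOf_dvd_of_pow_eq_one (by rw [pow_mul, hk, hc])
  have h9 : 9 ∣ orderOf g := by
    rwa [orderOf_eq_card_of_forall_mem_zpowers hg, Nat.card_units, Nat.card_eq_fintype_card]
  obtain ⟨m, hm⟩ : 3 ∣ k := by
    have := h9.trans hd
    omega
  have hl : (g ^ m) ^ 3 = c := by rw [← pow_mul, mul_comm, ← hm, hk]
  exact ⟨g ^ m, by rw [show (9 : ℕ) = 3 * 3 by norm_num, pow_mul, hl, hc], hl⟩

theorem card_top_inf :
    Nat.card ↥((⊤ : Subgroup (GL (Fin 3) F)) ⊓ Cfsg.Geo.specialLinear (Fin 3) F) * (Fintype.card F - 1) =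
      (Fintype.card F ^ 3 - 1) * (Fintype.card F ^ 3 - Fintype.card F) * (Fintype.card F ^ 3 - Fintype.card F ^ 2) := by
  classical
  have hsurj : Function.Surjective (Matrix.GeneralLinearGroup.det : GL (Fin 3) F →* Fˣ) := fun u => by
    refine ⟨dg (Function.update (1 : Fin 3 → Fˣ) 0 u), Units.ext ?_⟩
    rw [Matrix.GeneralLinearGroup.val_det_apply, det_dg]
    simp
  rw [top_inf_eq, Cfsg.Geo.specialLinear, ← Nat.card_eq_fintype_card (α := F)]
  have hq : Nat.card F - 1 = (Matrix.GeneralLinearGroup.det : GL (Fin 3) F →* Fˣ).ker.index := by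
    rw [Subgroup.index_ker, MonoidHom.range_eq_top.mpr hsurj, Subgroup.card_top, Nat.card_units]
  rw [hq, Subgroup.card_mul_index, Matrix.card_GL_field, Fin.prod_univ_three]
  simp [Nat.card_eq_fintype_card]

theorem card_GU_inf {q : ℕ} {σ : F ≃+* F} (hσ : IsUSigma q σ) :
    Nat.card ↥(Cfsg.GU 3 F q ⊓ Cfsg.Geo.specialLinear (Fin 3) F) * (q + 1) =
      q ^ 3 * ((q + 1) * ((q ^ 2 - 1) * (q ^ 3 + 1))) := by
  classical
  have e : ↥(Cfsg.GU 3 F q ⊓ Cfsg.Geo.specialLinear (Fin 3) F) ≃ ↥(UCount.detU hσ 3).ker :=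
    { toFun := fun g => ⟨⟨g.1, g.2.1⟩, MonoidHom.mem_ker.mpr (Subtype.ext (MonoidHom.mem_ker.mp g.2.2))⟩
      invFun := fun g => ⟨g.1.1, g.1.2, MonoidHom.mem_ker.mpr (congrArg Subtype.val (MonoidHom.mem_ker.mp g.2))⟩
      left_inv := fun g => rfl
      right_inv := fun g => rfl }
  rw [Nat.card_congr (e.trans (UCount.suEquiv hσ 3).toEquiv), mul_comm, UCount.card_SU hσ (by norm_num),
    UCount.card_GU hσ 3]
  simp [Finset.prod_range_succ, Nat.even_iff]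
  left; ring

theorem not_dvd_linear {p n : ℕ} (hp : p % 3 = 1) (hp9 : p % 9 ≠ 1)
    (hn : n * (p - 1) = (p ^ 3 - 1) * (p ^ 3 - p) * (p ^ 3 - p ^ 2)) : ¬ 81 ∣ n := by
  obtain ⟨m, rfl⟩ : ∃ m, p = m + 1 := ⟨p - 1, by omega⟩
  obtain ⟨a, rfl⟩ : 3 ∣ m := by omega
  have e1 : (3 * a + 1) ^ 3 - 1 = 3 * a * (3 * (3 * a ^ 2 + 3 * a + 1)) := by
    rw [Nat.sub_eq_of_eq_add]; ring
  have e2 : (3 * a + 1) ^ 3 - (3 * a + 1) = 3 * a * ((3 * a + 1) * (3 * a + 2)) := by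
    rw [Nat.sub_eq_of_eq_add]; ring
  have e3 : (3 * a + 1) ^ 3 - (3 * a + 1) ^ 2 = 3 * a * (3 * a + 1) ^ 2 := by
    rw [Nat.sub_eq_of_eq_add]; ring
  rw [e1, e2, e3, Nat.add_sub_cancel] at hn
  intro hd
  have ha : ¬ 3 ∣ a := by omega
  have hn' : n = 27 * (a * a * ((3 * a ^ 2 + 3 * a + 1) * (3 * a + 2) * (3 * a + 1) ^ 3)) :=
    Nat.eq_of_mul_eq_mul_right (show 0 < 3 * a by omega) (hn.trans (by ring))
  rw [hn', show (81 : ℕ) = 27 * 3 by norm_num] at hd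
  have h3 := Nat.dvd_of_mul_dvd_mul_left (by norm_num) hd
  have hp3 : Nat.Prime 3 := Nat.prime_three
  simp only [hp3.dvd_mul, ha, false_or] at h3
  rcases h3 with (h | h) | h
  · omega
  · omega
  · have := hp3.dvd_of_dvd_pow h; omega

theorem not_dvd_unitary {p n : ℕ} (hp : p % 3 = 2) (hp9 : p % 9 ≠ 8)
    (hn : n * (p + 1) = p ^ 3 * ((p + 1) * ((p ^ 2 - 1) * (p ^ 3 + 1)))) : ¬ 81 ∣ n := by
  obtain ⟨a, rfl⟩ : ∃ a, p = 3 * a + 2 := ⟨p / 3, by omega⟩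
  have e1 : (3 * a + 2) ^ 2 - 1 = 3 * (a + 1) * (3 * a + 1) := by
    rw [Nat.sub_eq_of_eq_add]; ring
  have e2 : (3 * a + 2) ^ 3 + 1 = 3 * (a + 1) * (3 * (3 * a ^ 2 + 3 * a + 1)) := by ring
  rw [e1, e2] at hn
  intro hd
  have ha : ¬ 3 ∣ a + 1 := by omega
  have hn' : n = 27 * ((a + 1) * (a + 1) * ((3 * a ^ 2 + 3 * a + 1) * (3 * a + 1) * (3 * a + 2) ^ 3)) :=
    Nat.eq_of_mul_eq_mul_right (show 0 < 3 * a + 2 + 1 by omega) (hn.trans (by ring))
  rw [hn', show (81 : ℕ) = 27 * 3 by norm_num] at hd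
  have h3 := Nat.dvd_of_mul_dvd_mul_left (by norm_num) hd
  have hp3 : Nat.Prime 3 := Nat.prime_three
  simp only [hp3.dvd_mul, ha, false_or] at h3
  rcases h3 with (h | h) | h
  · omega
  · omega
  · have := hp3.dvd_of_dvd_pow h; omega

end Cfsg.Agent.Classical.HeisThree
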