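import Cfsg.Agent.Lib.Classical.UnitaryOrders

/-!
# Nondegenerate invariant subspaces of isometries of Hermitian spaces
-/

set_option autoImplicit false
set_option linter.unusedSectionVars false
set_option linter.style.haveILetI false
set_option maxHeartbeats 400000

universe u v

namespace Cfsg.Agent.Classical.Elusive.HermEl

open Module

variable {F : Type u} [Field F] {σ : F ≃+* F} {V : Type v} [AddCommGroup V] [Module F V] {h : V → V → F}

/-- The restriction of the form to the subspace is nondegenerate. -/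
def ND (h : V → V → F) (W : Submodule F V) : Prop := ∀ x ∈ W, (∀ y ∈ W, h x y = 0) → x = 0

/-- The form restricted to a subspace. -/
def rf (h : V → V → F) (W : Submodule F V) : W → W → F := fun a b => h (a : V) (b : V)

/-- The totally isotropic subspaces. -/
def TI (h : V → V → F) (W : Submodule F V) : Prop := ∀ x ∈ W, ∀ y ∈ W, h x y = 0

theorem nd_top (H : UCount.IsHermND σ h) : ND h ⊤ := fun x _ hx => H.nondeg x fun w => hx w trivial

theorem nd_bot : ND h (⊥ : Submodule F V) := fun x hx _ => (Submodule.mem_bot F).mp hx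

theorem herm_sub (H : UCount.IsHermND σ h) {W : Submodule F V} (hW : ND h W) : UCount.IsHermND σ (rf h W) :=
  H.res hW

theorem zero_swap (H : UCount.IsHermND σ h) {x y : V} (e : h x y = 0) : h y x = 0 := by
  rw [← H.symm x y, e, map_zero]

/-- The orthogonal subspace. -/
def orth (H : UCount.IsHermND σ h) (P : Submodule F V) : Submodule F V where
  carrier := {x | ∀ y ∈ P, h x y = 0}
  add_mem' {a b} ha hb y hy := by rw [H.add_left, ha y hy, hb y hy, add_zero]
  zero_mem' y _ := H.zero_left y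
  smul_mem' c x hx y hy := by rw [H.smul_left, hx y hy, mul_zero]

theorem mem_orth (H : UCount.IsHermND σ h) {P : Submodule F V} {x : V} : x ∈ orth H P ↔ ∀ y ∈ P, h x y = 0 :=
  Iff.rfl

theorem nd_map_subtype {Y : Submodule F V} {U : Submodule F Y} (hU : ND (rf h Y) U) :
    ND h (U.map Y.subtype) := by
  rintro _ ⟨x, hx, rfl⟩ h0
  rw [hU x hx fun y hy => h0 _ ⟨y, hy, rfl⟩, map_zero]

theorem inv_map_subtype {Y : Submodule F V} {g : End F V} (hYi : ∀ x ∈ Y, g x ∈ Y) {U : Submodule F Y}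
    (hU : ∀ x ∈ U, g.restrict hYi x ∈ U) : ∀ x ∈ U.map Y.subtype, g x ∈ U.map Y.subtype := by
  rintro _ ⟨x, hx, rfl⟩
  exact ⟨_, hU x hx, rfl⟩

variable [Fintype F] [FiniteDimensional F V]

theorem isometry_injective (H : UCount.IsHermND σ h) {g : End F V} (hg : ∀ u v, h (g u) (g v) = h u v) :
    Function.Injective g :=
  (injective_iff_map_eq_zero g).mpr fun u hu => H.nondeg u fun v => by rw [← hg, hu, H.zero_left]

theorem isometry_preimage (H : UCount.IsHermND σ h) {g : End F V} (hg : ∀ u v, h (g u) (g v) = h u v)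
    {P : Submodule F V} (hP : ∀ x ∈ P, g x ∈ P) {y : V} (hy : y ∈ P) : ∃ w ∈ P, g w = y := by
  have hs : Function.Surjective (g.restrict hP) := LinearMap.injective_iff_surjective.mp fun a b hab =>
    Subtype.ext (isometry_injective H hg (congrArg Subtype.val hab))
  obtain ⟨w, hw⟩ := hs ⟨y, hy⟩
  exact ⟨w.1, w.2, congrArg Subtype.val hw⟩

theorem orth_inv (H : UCount.IsHermND σ h) {g : End F V} (hg : ∀ u v, h (g u) (g v) = h u v)
    {P : Submodule F V} (hP : ∀ x ∈ P, g x ∈ P) : ∀ x ∈ orth H P, g x ∈ orth H P := by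
  intro x hx y hy
  obtain ⟨w, hw, rfl⟩ := isometry_preimage H hg hP hy
  rw [hg]
  exact hx w hw

/-- Riesz representation inside a nondegenerate subspace. -/
theorem exists_proj (H : UCount.IsHermND σ h) {P : Submodule F V} (hP : ND h P) (x : V) :
    ∃ a ∈ P, x - a ∈ orth H P := by
  classical
  haveI : Finite V := Module.finite_of_finite F
  haveI : Finite (Module.Dual F P) := Module.finite_of_finite F
  let T : P → Module.Dual F P := fun a => (H.func (a : V)).comp P.subtype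
  have hT : Function.Injective T := fun a b e => by
    refine Subtype.ext (sub_eq_zero.mp (hP _ (P.sub_mem a.2 b.2) fun y hy => zero_swap H ?_))
    have h1 : h y (a : V) = h y (b : V) := LinearMap.congr_fun e ⟨y, hy⟩
    rw [H.sub_right, h1, sub_self]
  have hcard : Nat.card P = Nat.card (Module.Dual F P) := by
    rw [Module.natCard_eq_pow_finrank (K := F), Module.natCard_eq_pow_finrank (K := F) (V := Module.Dual F P),
      Subspace.dual_finrank_eq]
  obtain ⟨a, ha⟩ := ((Nat.bijective_iff_injective_and_card T).mpr ⟨hT, hcard⟩).2 ((H.func x).comp P.subtype)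
  refine ⟨a, a.2, fun y hy => zero_swap H ?_⟩
  have h1 : h y (a : V) = h y x := LinearMap.congr_fun ha ⟨y, hy⟩
  rw [H.sub_right, h1, sub_self]

theorem isCompl_orth (H : UCount.IsHermND σ h) {P : Submodule F V} (hP : ND h P) : IsCompl P (orth H P) := by
  refine ⟨disjoint_iff.mpr (eq_bot_iff.mpr fun x hx => (Submodule.mem_bot F).mpr (hP x hx.1 fun y hy => hx.2 y hy)),
    codisjoint_iff.mpr (eq_top_iff.mpr fun x _ => ?_)⟩
  obtain ⟨a, ha, hxa⟩ := exists_proj H hP x
  exact Submodule.mem_sup.mpr ⟨a, ha, x - a, hxa, add_sub_cancel a x⟩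

theorem nd_orth (H : UCount.IsHermND σ h) {P : Submodule F V} (hP : ND h P) : ND h (orth H P) := by
  refine fun x hx h0 => H.nondeg x fun v => ?_
  obtain ⟨a, ha, hva⟩ := exists_proj H hP v
  rw [← add_sub_cancel a v, H.add_right, hx a ha, h0 _ hva, add_zero]

/-- Splitting off a nondegenerate invariant piece inside a nondegenerate invariant subspace. -/
theorem glue (H : UCount.IsHermND σ h) {g : End F V} (hg : ∀ u v, h (g u) (g v) = h u v) {Y P : Submodule F V}
    (hY : ND h Y) (hYi : ∀ x ∈ Y, g x ∈ Y) (hPY : P ≤ Y) (hP : ND h P) (hPi : ∀ x ∈ P, g x ∈ P) :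
    ND h (Y ⊓ orth H P) ∧ (∀ x ∈ Y ⊓ orth H P, g x ∈ Y ⊓ orth H P) ∧
      finrank F P + finrank F ↥(Y ⊓ orth H P) = finrank F Y ∧
      ∀ W ≤ Y ⊓ orth H P, ND h W → (∀ x ∈ W, g x ∈ W) →
        ND h (P ⊔ W) ∧ (∀ x ∈ P ⊔ W, g x ∈ P ⊔ W) ∧ finrank F ↥(P ⊔ W) = finrank F P + finrank F W := by
  have hc := isCompl_orth H hP
  have hsplit : ∀ y ∈ Y, ∃ a ∈ P, ∃ b ∈ Y ⊓ orth H P, y = a + b := by
    intro y hy
    obtain ⟨a, ha, hya⟩ := exists_proj H hP y
    exact ⟨a, ha, y - a, ⟨Y.sub_mem hy (hPY ha), hya⟩, (add_sub_cancel a y).symm⟩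
  refine ⟨fun x hx h0 => hY x hx.1 fun y hy => ?_, fun x hx => ⟨hYi x hx.1, orth_inv H hg hPi x hx.2⟩, ?_, ?_⟩
  · obtain ⟨a, ha, b, hb, rfl⟩ := hsplit y hy
    rw [H.add_right, hx.2 a ha, h0 b hb, add_zero]
  · have he : P ⊔ (Y ⊓ orth H P) = Y := le_antisymm (sup_le hPY inf_le_left) fun y hy => by
      obtain ⟨a, ha, b, hb, rfl⟩ := hsplit y hy
      exact Submodule.add_mem_sup ha hb
    have h1 := Submodule.finrank_sup_add_finrank_inf_eq P (Y ⊓ orth H P)
    rw [he, show P ⊓ (Y ⊓ orth H P) = ⊥ from eq_bot_iff.mpr fun x hx => hc.inf_eq_bot.le ⟨hx.1, hx.2.2⟩,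
      finrank_bot] at h1
    omega
  · intro W hW hWn hWi
    refine ⟨fun x hx h0 => ?_, ?_, ?_⟩
    · obtain ⟨a, ha, b, hb, rfl⟩ := Submodule.mem_sup.mp hx
      have ha0 : a = 0 := hP a ha fun y hy => by
        have := h0 y (Submodule.mem_sup_left hy)
        rwa [H.add_left, (hW hb).2 y hy, add_zero] at this
      have hb0 : b = 0 := hWn b hb fun y hy => by
        have := h0 y (Submodule.mem_sup_right hy)
        rwa [H.add_left, zero_swap H ((hW hy).2 a ha), zero_add] at this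
      rw [ha0, hb0, add_zero]
    · intro x hx
      obtain ⟨a, ha, b, hb, rfl⟩ := Submodule.mem_sup.mp hx
      rw [map_add]
      exact Submodule.add_mem_sup (hPi a ha) (hWi b hb)
    · have h1 := Submodule.finrank_sup_add_finrank_inf_eq P W
      rw [show P ⊓ W = ⊥ from eq_bot_iff.mpr fun x hx => hc.inf_eq_bot.le ⟨hx.1, (hW hx.2).2⟩, finrank_bot] at h1
      omega

/-- Repeated splitting. -/
theorem exists_pieces (H : UCount.IsHermND σ h) {g : End F V} (hg : ∀ u v, h (g u) (g v) = h u v) (OK : ℕ → Prop)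
    (hpos : ∀ a, OK a → 0 < a) (Y : Submodule F V) (hY : ND h Y) (hYi : ∀ x ∈ Y, g x ∈ Y)
    (step : ∀ Z ≤ Y, ND h Z → (∀ x ∈ Z, g x ∈ Z) → Z ≠ ⊥ →
      ∃ P ≤ Z, ND h P ∧ (∀ x ∈ P, g x ∈ P) ∧ OK (finrank F P)) :
    ∃ A : Multiset ℕ, (∀ a ∈ A, OK a) ∧ A.sum = finrank F Y ∧
      ∀ A' ≤ A, ∃ W ≤ Y, ND h W ∧ (∀ x ∈ W, g x ∈ W) ∧ finrank F W = A'.sum := by
  classical
  suffices key : ∀ (N : ℕ) (Z : Submodule F V), finrank F Z ≤ N → Z ≤ Y → ND h Z → (∀ x ∈ Z, g x ∈ Z) →
      ∃ A : Multiset ℕ, (∀ a ∈ A, OK a) ∧ A.sum = finrank F Z ∧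
        ∀ A' ≤ A, ∃ W ≤ Z, ND h W ∧ (∀ x ∈ W, g x ∈ W) ∧ finrank F W = A'.sum from
    key _ Y le_rfl le_rfl hY hYi
  intro N
  induction N using Nat.strong_induction_on with
  | _ N ih =>
    intro Z hN hZY hZ hZi
    rcases eq_or_ne Z ⊥ with rfl | hne
    · refine ⟨0, by simp, by simp, fun A' hA' => ?_⟩
      rw [Multiset.le_zero.mp hA']
      exact ⟨⊥, le_rfl, nd_bot, hZi, by simp⟩
    obtain ⟨P, hPZ, hP, hPi, ha⟩ := step Z hZY hZ hZi hne
    obtain ⟨hn, hi, hd, hsup⟩ := glue H hg hZ hZi hPZ hP hPi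
    have hapos := hpos _ ha
    obtain ⟨A, hA, hAs, hAW⟩ := ih (finrank F ↥(Z ⊓ orth H P)) (by omega) _ le_rfl (inf_le_left.trans hZY) hn hi
    refine ⟨finrank F P ::ₘ A, fun b hb => (Multiset.mem_cons.mp hb).elim (fun e => e ▸ ha) (hA b),
      by rw [Multiset.sum_cons, hAs]; omega, fun A' hA' => ?_⟩
    by_cases hm : finrank F P ∈ A'
    · obtain ⟨A₁, rfl⟩ := Multiset.exists_cons_of_mem hm
      obtain ⟨W, hW, hWn, hWi, hWd⟩ := hAW A₁ ((Multiset.cons_le_cons_iff _).mp hA')
      obtain ⟨h1, h2, h3⟩ := hsup W hW hWn hWi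
      exact ⟨P ⊔ W, sup_le hPZ (hW.trans inf_le_left), h1, h2, by rw [h3, hWd, Multiset.sum_cons]⟩
    · obtain ⟨W, hW, hWn, hWi, hWd⟩ := hAW A' ((Multiset.le_cons_of_notMem hm).mp hA')
      exact ⟨W, hW.trans inf_le_left, hWn, hWi, hWd⟩

/-- Pieces of a fixed size. -/
theorem exists_multiples (H : UCount.IsHermND σ h) {g : End F V} (hg : ∀ u v, h (g u) (g v) = h u v) {c : ℕ}
    (hc : 0 < c) (Y : Submodule F V) (hY : ND h Y) (hYi : ∀ x ∈ Y, g x ∈ Y)
    (step : ∀ Z ≤ Y, ND h Z → (∀ x ∈ Z, g x ∈ Z) → Z ≠ ⊥ →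
      ∃ P ≤ Z, ND h P ∧ (∀ x ∈ P, g x ∈ P) ∧ finrank F P = c) :
    c ∣ finrank F Y ∧ ∀ j, c * j ≤ finrank F Y → ∃ W ≤ Y, ND h W ∧ (∀ x ∈ W, g x ∈ W) ∧ finrank F W = c * j := by
  obtain ⟨A, hA, hAs, hAW⟩ := exists_pieces H hg (fun a => a = c) (fun a ha => ha ▸ hc) Y hY hYi step
  have hrep : A = Multiset.replicate A.card c := Multiset.eq_replicate_card.mpr hA
  rw [hrep, Multiset.sum_replicate, smul_eq_mul] at hAs
  refine ⟨⟨A.card, by rw [← hAs, mul_comm]⟩, fun j hj => ?_⟩
  have hle : j ≤ A.card := Nat.le_of_mul_le_mul_left (by rw [← hAs] at hj; rwa [mul_comm A.card] at hj) hc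
  obtain ⟨W, hW, h1, h2, h3⟩ := hAW (Multiset.replicate j c)
    (hrep ▸ (Multiset.replicate_le_replicate c).mpr hle)
  exact ⟨W, hW, h1, h2, by rw [h3, Multiset.sum_replicate, smul_eq_mul, mul_comm]⟩

end Cfsg.Agent.Classical.Elusive.HermEl

namespace Cfsg.Agent.Classical.Elusive.HermEl

open Module

variable {F : Type u} [Field F] [Fintype F] {σ : F ≃+* F} {q : ℕ} (hσ : IsUSigma q σ)
  {V : Type v} [AddCommGroup V] [Module F V] [FiniteDimensional F V] {h : V → V → F}

include hσ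

theorem exists_anisotropic_in (H : UCount.IsHermND σ h) {Y : Submodule F V} (hY : ND h Y) (hne : Y ≠ ⊥) :
    ∃ a ∈ Y, h a a ≠ 0 := by
  haveI : Nontrivial Y := Submodule.nontrivial_iff_ne_bot.mpr hne
  obtain ⟨a, ha⟩ := UCount.exists_anisotropic hσ (herm_sub H hY)
  exact ⟨a, a.2, ha⟩

omit hσ in
theorem nd_span_singleton (H : UCount.IsHermND σ h) {a : V} (ha : h a a ≠ 0) :
    ND h (Submodule.span F {a}) ∧ finrank F (Submodule.span F {a}) = 1 := by
  refine ⟨fun x hx h0 => ?_, finrank_span_singleton fun e => ha (by rw [e, H.zero_left])⟩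
  obtain ⟨c, rfl⟩ := Submodule.mem_span_singleton.mp hx
  have h1 := h0 a (Submodule.mem_span_singleton_self a)
  rw [H.smul_left] at h1
  rw [(mul_eq_zero.mp h1).resolve_right ha, zero_smul]

/-- A scalar map leaves nondegenerate subspaces of every dimension invariant. -/
theorem exists_sub (H : UCount.IsHermND σ h) {g : End F V} (hg : ∀ u v, h (g u) (g v) = h u v) {Y : Submodule F V}
    (hY : ND h Y) {t : F} (ht : ∀ x ∈ Y, g x = t • x) {j : ℕ} (hj : j ≤ finrank F Y) :
    ∃ W ≤ Y, ND h W ∧ (∀ x ∈ W, g x ∈ W) ∧ finrank F W = j := by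
  obtain ⟨-, hall⟩ := exists_multiples H hg one_pos Y hY (fun x hx => by rw [ht x hx]; exact Y.smul_mem t hx)
    fun Z hZY hZ hZi hne => by
      obtain ⟨a, ha, ha0⟩ := exists_anisotropic_in hσ H hZ hne
      obtain ⟨h1, h2⟩ := nd_span_singleton H ha0
      exact ⟨_, (Submodule.span_singleton_le_iff_mem _ _).mpr ha, h1,
        fun x hx => by
          rw [ht x (hZY ((Submodule.span_singleton_le_iff_mem _ _).mpr ha hx))]
          exact Submodule.smul_mem _ t hx, h2⟩
  obtain ⟨W, hW, h1, h2, h3⟩ := hall j (by rw [one_mul]; exact hj)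
  exact ⟨W, hW, h1, h2, by rw [h3, one_mul]⟩

/-- Orthonormal bases exist. -/
theorem exists_fam (H : UCount.IsHermND σ h) {n : ℕ} (hV : finrank F V = n) :
    Nonempty (UCount.UFam h n) ∧ ∀ f : UCount.UFam h n, ∃ b : Basis (Fin n) F V, ⇑b = f.1 := by
  haveI : Finite V := Module.finite_of_finite F
  haveI : Finite (UCount.UFam h n) := Subtype.finite
  refine ⟨?_, fun f => ?_⟩
  · have hc := UCount.card_fam hσ n H hV
    refine not_isEmpty_iff.mp fun he => ?_
    rw [Nat.card_of_isEmpty, UCount.card_fam_closed hσ] at hc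
    have hq := hσ.two_le
    have hpos : 0 < q ^ (n * (n - 1) / 2) *
        ∏ i ∈ Finset.range n, (if Even i then q ^ (i + 1) + 1 else q ^ (i + 1) - 1) := by
      refine Nat.mul_pos (by positivity) (Finset.prod_pos fun i _ => ?_)
      split_ifs
      · positivity
      · exact Nat.sub_pos_of_lt (Nat.one_lt_pow (by omega) (by omega))
    omega
  · have hli : LinearIndependent F f.1 := by
      refine Fintype.linearIndependent_iff.mpr fun c hc i => ?_
      have h1 := congrArg (fun v => h v (f.1 i)) hc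
      simp only [H.sum_left, H.smul_left, f.2, H.zero_left] at h1
      simpa using h1
    exact ⟨basisOfLinearIndependentOfCardEqFinrank' f.1 hli (by simp [hV]), by simp⟩

/-- A Hermitian space is isometric to the standard one. -/
theorem exists_isometry (H : UCount.IsHermND σ h) {n : ℕ} (hV : finrank F V = n) :
    ∃ φ : V ≃ₗ[F] (Fin n → F), ∀ u v, Cfsg.hermForm n F q (φ u) (φ v) = h u v := by
  classical
  obtain ⟨⟨f⟩, hb⟩ := exists_fam hσ H hV
  obtain ⟨b, hbf⟩ := hb f
  refine ⟨b.equivFun, fun u v => ?_⟩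
  rw [hσ.hermForm_eq]
  conv_rhs => rw [← b.sum_equivFun u, H.sum_left]
  refine Finset.sum_congr rfl fun i _ => ?_
  rw [H.smul_left]
  congr 1
  conv_rhs => rw [← b.sum_equivFun v, ← H.symm, H.sum_left, map_sum]
  rw [Finset.sum_eq_single i (fun j _ hj => by rw [H.smul_left, hbf, f.2, if_neg hj, mul_zero, map_zero])
    (fun hi => absurd (Finset.mem_univ i) hi), H.smul_left, hbf, f.2, if_pos rfl, mul_one]

/-- An isometry of prime order without fixed vectors acts freely on the orthonormal bases. -/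
theorem prime_dvd_of_free (H : UCount.IsHermND σ h) {g : End F V} (hg : ∀ u v, h (g u) (g v) = h u v) {r : ℕ}
    (hr : r.Prime) (hgr : g ^ r = 1) (hfix : ∀ v, g v = v → v = 0) (hpos : 0 < finrank F V) :
    ∃ j, 1 ≤ j ∧ j ≤ finrank F V ∧ r ∣ q * (if Odd j then q ^ j + 1 else q ^ j - 1) := by
  classical
  obtain ⟨n, hn⟩ : ∃ n, finrank F V = n := ⟨_, rfl⟩
  obtain ⟨⟨f₀⟩, hb⟩ := exists_fam hσ H hn
  haveI : Finite V := Module.finite_of_finite F
  haveI : Finite (UCount.UFam h n) := Subtype.finite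
  letI := Fintype.ofFinite (UCount.UFam h n)
  haveI : Fact r.Prime := ⟨hr⟩
  let e : Function.End (UCount.UFam h n) := fun f => ⟨fun i => g (f.1 i), fun i j => by rw [hg, f.2]⟩
  have hpow : ∀ (k : ℕ) f i, ((e ^ k) f).1 i = (g ^ k) (f.1 i) := by
    intro k
    induction k with
    | zero => intro f i; rfl
    | succ k ih =>
      intro f i
      rw [pow_succ', pow_succ', Module.End.mul_apply, ← ih]
      rfl
  have hper : ∀ f : UCount.UFam h n, e f ≠ f := by
    intro f hf
    obtain ⟨b, hbf⟩ := hb f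
    have h0 : ∀ i, b i = 0 := fun i => hfix _ (by
      rw [hbf]
      exact congrFun (congrArg Subtype.val hf) i)
    exact b.ne_zero ⟨0, hn ▸ hpos⟩ (h0 _)
  have her : e ^ r = 1 := funext fun f => Subtype.ext (funext fun i => by rw [hpow, hgr]; rfl)
  let E : Equiv.Perm (UCount.UFam h n) :=
    ⟨e, e ^ (r - 1), fun f => by
        show (e ^ (r - 1) * e) f = f
        rw [← pow_succ, Nat.sub_add_cancel hr.one_le, her]; rfl,
      fun f => by
        show (e * e ^ (r - 1)) f = f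
        rw [← pow_succ', Nat.sub_add_cancel hr.one_le, her]; rfl⟩
  have hE : E ^ r = 1 := Equiv.ext fun f => by
    have : ∀ k : ℕ, ⇑(E ^ k) f = (e ^ k) f := by
      intro k
      induction k with
      | zero => rfl
      | succ k ih => rw [pow_succ', pow_succ', Equiv.Perm.mul_apply, ih]; rfl
    rw [this, her]; rfl
  have hdvd : r ∣ Nat.card (UCount.UFam h n) := by
    rw [Nat.card_eq_fintype_card]
    by_contra hnd
    obtain ⟨f, hf⟩ := Equiv.Perm.exists_fixed_point_of_prime (p := r) (n := 1) hnd (by rw [pow_one]; exact hE)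
    exact hper f hf
  rw [UCount.card_fam hσ n H hn, UCount.card_fam_closed hσ] at hdvd
  rcases hr.dvd_mul.mp hdvd with h1 | h1
  · exact ⟨1, le_rfl, hpos, dvd_mul_of_dvd_left (hr.dvd_of_dvd_pow h1) _⟩
  · obtain ⟨i, hi, h2⟩ := hr.prime.exists_mem_finset_dvd h1
    refine ⟨i + 1, by omega, by have := Finset.mem_range.mp hi; omega, ?_⟩
    rcases Nat.even_or_odd i with he | ho
    · rw [if_pos he] at h2
      rw [if_pos he.add_one]
      exact dvd_mul_of_dvd_right h2 _
    · rw [if_neg (Nat.not_even_iff_odd.mpr ho)] at h2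
      rw [if_neg (Nat.not_odd_iff_even.mpr ho.add_one)]
      exact dvd_mul_of_dvd_right h2 _

end Cfsg.Agent.Classical.Elusive.HermEl
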