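import Cfsg.Agent.Lib.Classical.Elusive.HermOther

/-!
# Models of elements of prime order of unitary groups, and counts of nondegenerate subspaces
-/

set_option autoImplicit false
set_option linter.unusedSectionVars false
set_option linter.style.haveILetI false
set_option maxHeartbeats 400000

universe u

namespace Cfsg.Agent.Classical.Elusive.HermEl

open Module
open Cfsg.Agent.Small.JordanType (IsChain parts exists_chain parts_eq_of_ranks)

variable {F : Type u} [Field F] [Fintype F] {σ : F ≃+* F} {q : ℕ} (hσ : IsUSigma q σ)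

include hσ

theorem herm_std (n : ℕ) : UCount.IsHermND σ (Cfsg.hermForm n F q) := by
  have hf := hσ.isUnitaryForm (n := n)
  refine ⟨hf.add_left, hf.smul_left, fun x y => (hf.herm y x).symm, fun v hv => ?_⟩
  by_contra hne
  obtain ⟨⟨w, hw⟩, -⟩ := hf.nondegenerate v hne
  exact hw (by rw [hf.herm w v, hv w, map_zero])

/-- An isometry of determinant one as an element of the special unitary group. -/
theorem exists_element {M : Type u} [AddCommGroup M] [Module F M] [FiniteDimensional F M] {h : M → M → F}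
    (H : UCount.IsHermND σ h) {n : ℕ} (hM : finrank F M = n) {g : End F M} (hg : ∀ u v, h (g u) (g v) = h u v)
    (hdet : LinearMap.det g = 1) :
    ∃ (x : Matrix.SpecialLinearGroup (Fin n) F) (φ : M ≃ₗ[F] (Fin n → F)), x ∈ Cfsg.SU n F q ∧
      (∀ (k : ℕ) u, Matrix.toLin' ((x ^ k : Matrix.SpecialLinearGroup (Fin n) F) : Matrix (Fin n) (Fin n) F) (φ u) =
        φ ((g ^ k) u)) ∧
      (∀ u v, Cfsg.hermForm n F q (φ u) (φ v) = h u v) := by
  obtain ⟨φ, hφ⟩ := exists_isometry hσ H hM
  let X : End F (Fin n → F) := φ.conj g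
  have hX : ∀ u, X (φ u) = φ (g u) := fun u => by simp [X, LinearEquiv.conj_apply_apply]
  have hd : (LinearMap.toMatrix' X).det = 1 := by
    rw [LinearMap.det_toMatrix']
    show LinearMap.det (φ.conj g) = 1
    rw [LinearEquiv.conj_apply, LinearMap.comp_assoc, LinearMap.det_conj, hdet]
  obtain ⟨x, hxv⟩ : ∃ x : Matrix.SpecialLinearGroup (Fin n) F, (x : Matrix (Fin n) (Fin n) F) = LinearMap.toMatrix' X :=
    ⟨⟨LinearMap.toMatrix' X, hd⟩, rfl⟩
  refine ⟨x, φ, fun u v => ?_, fun k => ?_, hφ⟩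
  · show Cfsg.hermForm n F q (Matrix.mulVec (x : Matrix (Fin n) (Fin n) F) u)
      (Matrix.mulVec (x : Matrix (Fin n) (Fin n) F) v) = _
    rw [hxv]
    obtain ⟨a, rfl⟩ := φ.surjective u
    obtain ⟨b, rfl⟩ := φ.surjective v
    rw [LinearMap.toMatrix'_mulVec, LinearMap.toMatrix'_mulVec, hX, hX, hφ, hφ, hg]
  · induction k with
    | zero => intro u; simp
    | succ k ih =>
      intro u
      rw [pow_succ', Matrix.SpecialLinearGroup.coe_mul, Matrix.toLin'_mul, LinearMap.comp_apply, ih, pow_succ',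
        Module.End.mul_apply]
      rw [hxv, Matrix.toLin'_toMatrix', hX]

/-- The element of a model, with invariant nondegenerate subspaces pulled back. -/
theorem exists_witness {M : Type u} [AddCommGroup M] [Module F M] [FiniteDimensional F M] {h : M → M → F}
    (H : UCount.IsHermND σ h) {n : ℕ} (hM : finrank F M = n) {g : End F M} (hg : ∀ u v, h (g u) (g v) = h u v)
    (hdet : LinearMap.det g = 1) {r : ℕ} {z : F} (hgr : g ^ r = z • 1) (hns : ∀ t : F, g ≠ t • 1) :
    ∃ x : Matrix.SpecialLinearGroup (Fin n) F, x ∈ Cfsg.SU n F q ∧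
      (∃ z : F, ((x ^ r : Matrix.SpecialLinearGroup (Fin n) F) : Matrix (Fin n) (Fin n) F) = z • (1 : Matrix (Fin n) (Fin n) F)) ∧
      (∀ t : F, (x : Matrix (Fin n) (Fin n) F) ≠ t • (1 : Matrix (Fin n) (Fin n) F)) ∧
      ∀ W : Submodule F (Fin n → F), ND (Cfsg.hermForm n F q) W →
        W.map (Matrix.toLin' (x : Matrix (Fin n) (Fin n) F)) ≤ W →
        ∃ W₀ : Submodule F M, ND h W₀ ∧ (∀ v ∈ W₀, g v ∈ W₀) ∧ finrank F W₀ = finrank F W := by
  obtain ⟨x, φ, hx, hpow, hφ⟩ := exists_element hσ H hM hg hdet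
  have h1 : ∀ u, Matrix.toLin' (x : Matrix (Fin n) (Fin n) F) (φ u) = φ (g u) := fun u => by
    simpa using hpow 1 u
  refine ⟨x, hx, ⟨z, ?_⟩, fun t ht => hns t (LinearMap.ext fun u => φ.injective ?_), fun W hW hWx => ?_⟩
  · refine Matrix.toLin'.injective (LinearMap.ext fun w => ?_)
    obtain ⟨u, rfl⟩ := φ.surjective w
    rw [hpow, hgr, map_smul, Matrix.toLin'_one, LinearMap.smul_apply, LinearMap.smul_apply, Module.End.one_apply,
      LinearMap.id_apply, map_smul]
  · rw [← h1, ht, map_smul, Matrix.toLin'_one, LinearMap.smul_apply, LinearMap.smul_apply, Module.End.one_apply,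
      LinearMap.id_apply, map_smul]
  · refine ⟨W.comap φ.toLinearMap, fun u hu h0 => φ.map_eq_zero_iff.mp (hW _ hu fun y hy => ?_), fun u hu => ?_, ?_⟩
    · obtain ⟨v, rfl⟩ := φ.surjective y
      rw [hφ]
      exact h0 v hy
    · show φ (g u) ∈ W
      rw [← h1]
      exact hWx ⟨φ u, hu, rfl⟩
    · rw [Submodule.comap_equiv_eq_map_symm, LinearEquiv.finrank_map_eq]

/-- The orthogonal sum of copies. -/
theorem herm_pi {M : Type u} [AddCommGroup M] [Module F M] {h : M → M → F} (H : UCount.IsHermND σ h) (N : ℕ) :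
    UCount.IsHermND σ (fun u v : Fin N → M => ∑ a, h (u a) (v a)) := by
  refine ⟨fun x y z => ?_, fun c x z => ?_, fun x y => ?_, fun v hv => funext fun a => H.nondeg _ fun w => ?_⟩
  · simp [H.add_left, Finset.sum_add_distrib]
  · simp [H.smul_left, Finset.mul_sum]
  · simp [map_sum, H.symm]
  · have h1 := hv (Pi.single a w)
    rw [Finset.sum_eq_single a (fun b _ hb => by rw [Pi.single_eq_of_ne hb, H.zero_right]) (by simp)] at h1
    simpa using h1

omit hσ in
theorem herm_prod {M N : Type u} [AddCommGroup M] [Module F M] [AddCommGroup N] [Module F N] {h : M → M → F}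
    {h' : N → N → F} (H : UCount.IsHermND σ h) (H' : UCount.IsHermND σ h') :
    UCount.IsHermND σ (fun u v : M × N => h u.1 v.1 + h' u.2 v.2) := by
  refine ⟨fun x y z => ?_, fun c x z => ?_, fun x y => ?_, fun v hv => Prod.ext ?_ ?_⟩
  · simp [H.add_left, H'.add_left]; ring
  · simp [H.smul_left, H'.smul_left, mul_add]
  · simp [H.symm, H'.symm]
  · exact H.nondeg _ fun w => by simpa [H'.zero_right] using hv (w, 0)
  · exact H'.nondeg _ fun w => by simpa [H.zero_right] using hv (0, w)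

/-- An isometry without fixed vectors of the smallest possible dimension. -/
theorem exists_free {r : ℕ} (hr : r.Prime) (hr2 : r ≠ 2) (hrq : ¬ r ∣ q) :
    ∃ g : End F (Fin (unit q r) → F), (∀ u v, Cfsg.hermForm _ F q (g u) (g v) = Cfsg.hermForm _ F q u v) ∧
      g ^ r = 1 ∧ ∀ v, g v = v → v = 0 := by
  haveI : Fact r.Prime := ⟨hr⟩
  obtain ⟨C, hC⟩ : ∃ C, unit q r = C := ⟨_, rfl⟩
  rw [hC]
  have hq := hσ.two_le
  have hCpos : 0 < C := by
    obtain ⟨hd, hcases⟩ := unit_cases hr hr2 hrq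
    rcases hcases with ⟨h1, -⟩ | h1 <;> omega
  have hdvd : r ∣ Nat.card (Cfsg.GU C F q) := by
    rw [UCount.card_GU hσ C]
    refine dvd_mul_of_dvd_right (dvd_trans ?_ (Finset.dvd_prod_of_mem _ (Finset.mem_range.mpr (show C - 1 < C by omega)))) _
    rw [Nat.sub_add_cancel hCpos]
    have e : (-(q : ZMod r)) ^ C = 1 := by rw [← hC, unit, pow_orderOf_eq_one]
    rw [← ZMod.natCast_eq_zero_iff]
    split_ifs with he
    · have ho : Odd C := by rw [← Nat.sub_add_cancel hCpos]; exact he.add_one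
      rw [ho.neg_pow] at e
      push_cast
      linear_combination -e
    · have hev : Even C := by
        rw [← Nat.sub_add_cancel hCpos]; exact (Nat.not_even_iff_odd.mp he).add_one
      rw [hev.neg_pow] at e
      rw [Nat.cast_sub (Nat.one_le_pow _ _ (by omega)), Nat.cast_pow, Nat.cast_one, e, sub_self]
  obtain ⟨A, hA⟩ := exists_prime_orderOf_dvd_card' r hdvd
  have hA' : orderOf (A : GL (Fin C) F) = r := by rw [Subgroup.orderOf_coe, hA]
  have hAr : ((A : GL (Fin C) F) : Matrix (Fin C) (Fin C) F) ^ r = 1 := by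
    rw [← Units.val_pow_eq_pow_val, ← hA', pow_orderOf_eq_one, Units.val_one]
  refine ⟨Matrix.toLin' ((A : GL (Fin C) F) : Matrix (Fin C) (Fin C) F), fun u v => ?_, ?_, ?_⟩
  · rw [Matrix.toLin'_apply, Matrix.toLin'_apply]
    exact mem_GU_iff.mp A.2 u v
  · rw [← Matrix.toLin'_pow, hAr, Matrix.toLin'_one]; rfl
  set g : End F (Fin C → F) := Matrix.toLin' ((A : GL (Fin C) F) : Matrix (Fin C) (Fin C) F) with hgdef
  have hg : ∀ u v, Cfsg.hermForm C F q (g u) (g v) = Cfsg.hermForm C F q u v := fun u v => by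
    rw [hgdef, Matrix.toLin'_apply, Matrix.toLin'_apply]
    exact mem_GU_iff.mp A.2 u v
  have hgr : g ^ r = 1 := by rw [hgdef, ← Matrix.toLin'_pow, hAr, Matrix.toLin'_one]; rfl
  have hr0 : (r : F) ≠ 0 := (cast_ne hσ hr).mpr hrq
  obtain ⟨-, -, -, -, hcompl, -⟩ := tame_split (herm_std hσ C) hg hr0 hgr
  obtain ⟨-, ⟨j, hj⟩, -⟩ := moved_units hσ (herm_std hσ C) hg hr hr2 hr0 hgr
  have hsum := Submodule.finrank_add_eq_of_isCompl hcompl
  rw [hj, hC, Module.finrank_fin_fun] at hsum
  rcases Nat.eq_zero_or_pos j with rfl | hj0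
  · exfalso
    have hbot : Free.moved g = ⊥ := Submodule.finrank_eq_zero.mp (by rw [hj, mul_zero])
    have h1 : g = 1 := sub_eq_zero.mp (LinearMap.range_eq_bot.mp hbot)
    have h2 : (A : GL (Fin C) F) = 1 := Units.ext (Matrix.toLin'.injective (by
      rw [Units.val_one, Matrix.toLin'_one, ← hgdef, h1]; rfl))
    rw [h2, orderOf_one] at hA'
    exact hr.one_lt.ne hA'
  · intro v hv
    have hbot : Free.fixSpace g = ⊥ := Submodule.finrank_eq_zero.mp (by
      have : C * 1 ≤ C * j := Nat.mul_le_mul_left C hj0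
      omega)
    exact (Submodule.mem_bot F).mp (hbot.le (Free.mem_fixSpace.mpr hv))

/-- A tame element with largest moved space. -/
theorem exists_tame_model {r : ℕ} (hr : r.Prime) (hr2 : r ≠ 2) (hrq : ¬ r ∣ q) (hrq1 : ¬ r ∣ q + 1) {n N k : ℕ}
    (hn : n = unit q r * N + k) (hN : 0 < N) :
    ∃ x : Matrix.SpecialLinearGroup (Fin n) F, x ∈ Cfsg.SU n F q ∧
      (∃ z : F, ((x ^ r : Matrix.SpecialLinearGroup (Fin n) F) : Matrix (Fin n) (Fin n) F) = z • (1 : Matrix (Fin n) (Fin n) F)) ∧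
      (∀ t : F, (x : Matrix (Fin n) (Fin n) F) ≠ t • (1 : Matrix (Fin n) (Fin n) F)) ∧
      ∀ W : Submodule F (Fin n → F), ND (Cfsg.hermForm n F q) W →
        W.map (Matrix.toLin' (x : Matrix (Fin n) (Fin n) F)) ≤ W →
        ∃ j f, finrank F W = unit q r * j + f ∧ f ≤ k := by
  classical
  obtain ⟨g₁, hg₁, hg₁r, hg₁f⟩ := exists_free hσ hr hr2 hrq
  have hr0 : (r : F) ≠ 0 := (cast_ne hσ hr).mpr hrq
  let M := (Fin N → (Fin (unit q r) → F)) × (Fin k → F)
  let h : M → M → F := fun u v => (∑ a, Cfsg.hermForm _ F q (u.1 a) (v.1 a)) + Cfsg.hermForm k F q u.2 v.2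
  have H : UCount.IsHermND σ h := herm_prod (herm_pi hσ (herm_std hσ _) N) (herm_std hσ k)
  let g : End F M := (LinearMap.pi fun a => g₁ ∘ₗ LinearMap.proj a).prodMap 1
  have hgv : ∀ u : M, g u = (fun a => g₁ (u.1 a), u.2) := fun u => rfl
  have hg : ∀ u v, h (g u) (g v) = h u v := fun u v => by
    simp only [h, hgv, hg₁]
  have hpow : ∀ (j : ℕ) (u : M), (g ^ j) u = (fun a => (g₁ ^ j) (u.1 a), u.2) := by
    intro j
    induction j with
    | zero => intro u; rfl
    | succ j ih => intro u; rw [pow_succ', Module.End.mul_apply, ih, hgv]; simp only [pow_succ', Module.End.mul_apply]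
  have hgr : g ^ r = 1 := LinearMap.ext fun u => by rw [hpow, hg₁r]; rfl
  have hM : finrank F M = n := by
    rw [hn]; simp [M, Module.finrank_prod, Module.finrank_pi_fintype, mul_comm]
  have hupos : 0 < unit q r := by
    obtain ⟨hd, hcases⟩ := unit_cases hr hr2 hrq
    rcases hcases with ⟨h1, -⟩ | h1 <;> omega
  obtain ⟨φ, hφ⟩ := exists_isometry hσ H hM
  have hdet : LinearMap.det g = 1 := by
    obtain ⟨d, hd⟩ : ∃ d, d = LinearMap.det g := ⟨_, rfl⟩
    rw [← hd]
    have hdr : d ^ r = 1 := by rw [hd, ← map_pow, hgr, map_one]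
    have hd0 : d ≠ 0 := fun h0 => by rw [h0, zero_pow hr.ne_zero] at hdr; exact zero_ne_one hdr
    let X : End F (Fin n → F) := φ.conj g
    have hXd : (LinearMap.toMatrix' X).det = d := by
      rw [LinearMap.det_toMatrix']
      show LinearMap.det (φ.conj g) = d
      rw [LinearEquiv.conj_apply, LinearMap.comp_assoc, LinearMap.det_conj, hd]
    let x : GL (Fin n) F := Matrix.GeneralLinearGroup.mkOfDetNeZero (LinearMap.toMatrix' X) (by rw [hXd]; exact hd0)
    have hx : x ∈ Cfsg.GU n F q := mem_GU_iff.mpr fun u v => by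
      show Cfsg.hermForm n F q (Matrix.mulVec (LinearMap.toMatrix' X) u) (Matrix.mulVec (LinearMap.toMatrix' X) v) = _
      obtain ⟨a, rfl⟩ := φ.surjective u
      obtain ⟨b, rfl⟩ := φ.surjective v
      rw [LinearMap.toMatrix'_mulVec, LinearMap.toMatrix'_mulVec]
      simp [X, LinearEquiv.conj_apply_apply, hφ, hg]
    have hnorm : d * σ d = 1 := by rw [← hXd]; exact UCount.det_norm hσ hx
    have hg1 : d ^ Nat.gcd r (q + 1) = 1 := pow_gcd_eq_one.mpr ⟨hdr, (norm_one_pow hσ).mp hnorm⟩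
    rwa [(hr.coprime_iff_not_dvd.mpr hrq1).gcd_eq_one, pow_one] at hg1
  have hfix : ∀ u, u ∈ Free.fixSpace g ↔ u.1 = 0 := fun u => by
    rw [Free.mem_fixSpace, hgv]
    constructor
    · intro e
      funext a
      exact hg₁f _ (congrFun (congrArg Prod.fst e) a)
    · intro e
      refine Prod.ext (funext fun a => ?_) rfl
      simp [e]
  obtain ⟨x, hx, hz, hns, hW⟩ := exists_witness hσ H hM hg hdet (z := (1 : F)) (by rw [hgr, one_smul]) fun t ht => by
    obtain ⟨v, hv⟩ : ∃ v : Fin (unit q r) → F, v ≠ 0 := ⟨Pi.single ⟨0, hupos⟩ 1, by simp⟩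
    have e : ∀ j : ℕ, (g₁ ^ j) v = t ^ j • v := by
      intro j
      have h1 := congrArg (fun u : M => u.1 ⟨0, hN⟩) (hpow j (Pi.single ⟨0, hN⟩ v, 0))
      simp only [ht, smul_pow, one_pow, LinearMap.smul_apply, Module.End.one_apply, Prod.smul_fst, Pi.smul_apply,
        Pi.single_eq_same] at h1
      exact h1.symm
    have ht1 : t ^ r = 1 := by
      have h1 := e r
      rw [hg₁r, Module.End.one_apply] at h1
      by_contra hne
      exact hv ((smul_eq_zero.mp (show (t ^ r - 1) • v = 0 by rw [sub_smul, one_smul, ← h1, sub_self])).resolve_left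
        (sub_ne_zero.mpr hne))
    have ht0 : t ≠ 0 := fun h0 => by rw [h0, zero_pow hr.ne_zero] at ht1; exact zero_ne_one ht1
    have hnt : t * σ t = 1 := by
      obtain ⟨w, hw⟩ : ∃ w, h (Pi.single ⟨0, hN⟩ v, 0) w ≠ 0 := by
        by_contra hc
        push Not at hc
        have := congrArg (fun u : M => u.1 ⟨0, hN⟩) (H.nondeg _ hc)
        simp at this
        exact hv this
      have h1 := hg (Pi.single ⟨0, hN⟩ v, 0) w
      rw [ht, LinearMap.smul_apply, LinearMap.smul_apply, Module.End.one_apply, Module.End.one_apply, H.smul_left,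
        H.smul_right, ← mul_assoc] at h1
      exact mul_right_cancel₀ hw (h1.trans (one_mul _).symm)
    have hg1 : t ^ Nat.gcd r (q + 1) = 1 := pow_gcd_eq_one.mpr ⟨ht1, (norm_one_pow hσ).mp hnt⟩
    rw [(hr.coprime_iff_not_dvd.mpr hrq1).gcd_eq_one, pow_one] at hg1
    have h1 := e 1
    rw [pow_one, pow_one, hg1, one_smul] at h1
    exact hv (hg₁f v h1)
  refine ⟨x, hx, hz, hns, fun W hWn hWi => ?_⟩
  obtain ⟨W₀, hW₀, hW₀i, hW₀d⟩ := hW W hWn hWi
  obtain ⟨j, f, hd, hf⟩ := nd_dim_tame hσ H hg hr hr2 hr0 hgr hW₀ hW₀i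
  refine ⟨j, f, by rw [← hW₀d, hd], hf.trans ?_⟩
  have hle : Free.fixSpace g ≤ LinearMap.range (LinearMap.inr F (Fin N → (Fin (unit q r) → F)) (Fin k → F)) :=
    fun u hu => ⟨u.2, Prod.ext ((hfix u).mp hu).symm rfl⟩
  refine (Submodule.finrank_mono hle).trans ((LinearMap.finrank_range_le _).trans ?_)
  rw [Module.finrank_fin_fun]

open Fin.NatCast in
/-- A monomial isometry whose power is the given scalar. -/
theorem exists_monomial {r N : ℕ} (hr : 0 < r) {z : F} (hz : z * σ z = 1) :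
    ∃ g : End F (Fin N → Fin r → F),
      (∀ u v, (∑ a, Cfsg.hermForm r F q (g u a) (g v a)) = ∑ a, Cfsg.hermForm r F q (u a) (v a)) ∧
      g ^ r = z • 1 ∧ (2 ≤ r → 0 < N → ∀ t : F, g ≠ t • 1) := by
  classical
  obtain ⟨r, rfl⟩ : ∃ s, r = s + 1 := ⟨r - 1, (Nat.succ_pred_eq_of_pos hr).symm⟩
  let d : Fin (r + 1) → F := fun j => if j = 0 then z else 1
  let g₁ : End F (Fin (r + 1) → F) :=
    { toFun := fun u j => d j * u (j - 1)
      map_add' := fun u v => funext fun j => mul_add _ _ _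
      map_smul' := fun c u => funext fun j => by simp [mul_left_comm] }
  have hg₁ : ∀ u v, Cfsg.hermForm _ F q (g₁ u) (g₁ v) = Cfsg.hermForm _ F q u v := fun u v => by
    rw [hσ.hermForm_eq, hσ.hermForm_eq, ← Equiv.sum_comp (Equiv.subRight (1 : Fin (r + 1))) (fun j => u j * σ (v j))]
    refine Finset.sum_congr rfl fun j _ => ?_
    have hd : d j * σ (d j) = 1 := by
      simp only [d]; split_ifs <;> simp [hz]
    show d j * u (j - 1) * σ (d j * v (j - 1)) = u (j - 1) * σ (v (j - 1))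
    rw [map_mul, mul_mul_mul_comm, hd, one_mul]
  have hiter : ∀ (i : ℕ), i ≤ r + 1 → ∀ u (j : Fin (r + 1)),
      (g₁ ^ i) u j = (if (j : ℕ) < i then z else 1) * u (j - (i : Fin (r + 1))) := by
    intro i
    induction i with
    | zero => intro _ u j; simp
    | succ i ih =>
      intro hi u j
      rw [pow_succ', Module.End.mul_apply]
      show d j * (g₁ ^ i) u (j - 1) = _
      rw [ih (by omega), ← mul_assoc, sub_sub, Nat.cast_succ, add_comm (i : Fin (r + 1)) 1]
      congr 1
      by_cases h0 : j = 0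
      · subst h0
        rw [show (((0 : Fin (r + 1)) - 1 : Fin (r + 1)) : ℕ) = r by rw [zero_sub, Fin.coe_neg_one]]
        simp only [d, if_true, Fin.val_zero]
        simp [show ¬ r < i by omega]
      · rw [show (((j - 1 : Fin (r + 1))) : ℕ) = (j : ℕ) - 1 from Fin.val_sub_one_of_ne_zero h0]
        have : (j : ℕ) ≠ 0 := fun e => h0 (Fin.ext e)
        simp only [d, h0, if_false, one_mul]
        exact if_congr (by omega) rfl rfl
  let g : End F (Fin N → Fin (r + 1) → F) := LinearMap.pi fun a => g₁ ∘ₗ LinearMap.proj a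
  have hpow : ∀ (i : ℕ) u a, (g ^ i) u a = (g₁ ^ i) (u a) := by
    intro i
    induction i with
    | zero => intro u a; rfl
    | succ i ih =>
      intro u a
      rw [pow_succ', pow_succ', Module.End.mul_apply, Module.End.mul_apply, ← ih]
      rfl
  refine ⟨g, fun u v => Finset.sum_congr rfl fun a _ => hg₁ _ _, LinearMap.ext fun u => funext fun a => funext fun j => ?_,
    fun h2 hN t ht => ?_⟩
  · rw [hpow, hiter _ le_rfl, if_pos j.2, Fin.natCast_self, sub_zero]
    rfl
  · have h1 : (1 : Fin (r + 1)) ≠ 0 := by simp [Fin.ext_iff]; omega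
    have e := congrFun (congrFun (LinearMap.congr_fun ht (Pi.single ⟨0, hN⟩ (Pi.single 0 1))) ⟨0, hN⟩) 1
    simp [g, g₁, d, h1] at e

/-- The regular unipotent isometries. -/
theorem exists_unipotent_model {p : ℕ} [Fact p.Prime] [CharP F p] {n : ℕ} (μ : Multiset ℕ)
    (hμ : ∀ a ∈ μ, 0 < a ∧ a ≤ p) (hsum : μ.sum = n) (hbig : ∃ a ∈ μ, 2 ≤ a) :
    ∃ x : Matrix.SpecialLinearGroup (Fin n) F, x ∈ Cfsg.SU n F q ∧
      (∃ z : F, ((x ^ p : Matrix.SpecialLinearGroup (Fin n) F) : Matrix (Fin n) (Fin n) F) = z • (1 : Matrix (Fin n) (Fin n) F)) ∧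
      (∀ t : F, (x : Matrix (Fin n) (Fin n) F) ≠ t • (1 : Matrix (Fin n) (Fin n) F)) ∧
      ∀ W : Submodule F (Fin n → F), ND (Cfsg.hermForm n F q) W →
        W.map (Matrix.toLin' (x : Matrix (Fin n) (Fin n) F)) ≤ W →
        ∃ ν : Multiset ℕ, ν ≤ μ ∧ ν.sum = finrank F W := by
  classical
  obtain ⟨t, k, hk⟩ : ∃ (t : ℕ) (k : Fin t → ℕ), (Finset.univ.val.map k) = μ :=
    ⟨μ.toList.length, fun i => μ.toList.get i, by rw [Fin.univ_val_map, List.ofFn_get, Multiset.coe_toList]⟩
  have hparts : parts k = μ := by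
    unfold Cfsg.Agent.Small.JordanType.parts
    rw [hk]
    exact Multiset.filter_eq_self.mpr fun a ha => (hμ a ha).1.ne'
  have hkp : ∀ i, k i ≤ p := fun i => (hμ (k i) (by rw [← hk]; simp)).2
  obtain ⟨c, hc0, hc⟩ := hσ.exists_skew
  let ε : ℕ → F := fun m => if Odd m then 1 else c
  have hε : ∀ m, 1 ≤ m → σ (ε m) = ε m * (-1) ^ (m - 1) ∧ ε m ≠ 0 := by
    intro m hm
    rcases Nat.even_or_odd m with he | ho
    · simp only [ε, Nat.not_odd_iff_even.mpr he, if_false]
      obtain ⟨l, hl⟩ := he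
      rw [show m - 1 = 2 * (l - 1) + 1 by omega, pow_succ, pow_mul, neg_one_sq, one_pow, one_mul]
      exact ⟨by linear_combination hc, hc0⟩
    · simp only [ε, ho, if_true]
      obtain ⟨l, hl⟩ := ho
      rw [show m - 1 = 2 * l by omega, pow_mul, neg_one_sq, one_pow, map_one, one_mul]
      exact ⟨rfl, one_ne_zero⟩
  let ι := Σ i, Fin (k i)
  let coef : ι → F := fun x => ε (k x.1) * (-1) ^ (x.2 : ℕ)
  let rev : ι → ι := fun x => ⟨x.1, Fin.rev x.2⟩
  have hrev : ∀ x, rev (rev x) = x := fun x => by simp [rev]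
  have hcoef : ∀ x : ι, σ (coef x) = coef (rev x) ∧ coef x ≠ 0 := by
    rintro ⟨i, a⟩
    have ha := a.2
    obtain ⟨h1, h2⟩ := hε (k i) (by omega)
    refine ⟨?_, mul_ne_zero h2 (pow_ne_zero _ (by norm_num))⟩
    simp only [coef, rev, map_mul, map_pow, map_neg, map_one, h1, Fin.val_rev]
    rw [mul_assoc, ← pow_add, show k i - 1 + (a : ℕ) = (k i - ((a : ℕ) + 1)) + 2 * (a : ℕ) by omega, pow_add, pow_mul,
      neg_one_sq, one_pow, mul_one]
  let h : (ι → F) → (ι → F) → F := fun u v => ∑ x, coef x * (u x * σ (v (rev x)))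
  have H : UCount.IsHermND σ h := by
    refine ⟨fun u v w => ?_, fun a u w => ?_, fun u v => ?_, fun v hv => funext fun x => ?_⟩
    · simp [h, add_mul, mul_add, Finset.sum_add_distrib]
    · simp [h, Finset.mul_sum, mul_comm, mul_left_comm, mul_assoc]
    · simp only [h, map_sum, map_mul, hσ.involutive, (hcoef _).1]
      rw [← Equiv.sum_comp (Function.Involutive.toPerm rev hrev)]
      refine Finset.sum_congr rfl fun x _ => ?_
      show coef (rev (rev x)) * (σ (u (rev x)) * v (rev (rev x))) = _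
      rw [hrev]
      ring
    · have h1 := hv (Pi.single (rev x) 1)
      simp only [h] at h1
      rw [Finset.sum_eq_single x (fun y _ hy => by
        rw [Pi.single_eq_of_ne (fun e => hy (by rw [← hrev y, e, hrev]))]; simp) (by simp)] at h1
      simpa [(hcoef x).2] using h1
  let b : Basis ι F (ι → F) := Pi.basisFun F ι
  let N : End F (ι → F) := b.constr F fun x => if hx : (x.2 : ℕ) + 1 < k x.1 then b ⟨x.1, ⟨x.2 + 1, hx⟩⟩ else 0
  have hb : IsChain N b := fun x => b.constr_basis F _ x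
  have hbb : ∀ x y, h (b x) (b y) = if x = rev y then coef x else 0 := by
    intro x y
    simp only [h, b, Pi.basisFun_apply]
    rw [Finset.sum_eq_single x (fun z _ hz => by simp [Pi.single_eq_of_ne hz]) (by simp)]
    by_cases e : x = rev y
    · rw [if_pos e, show rev x = y by rw [e, hrev]]; simp
    · rw [if_neg e, Pi.single_eq_of_ne (show rev x ≠ y from fun e' => e (by rw [← e', hrev])), map_zero, mul_zero, mul_zero]
  have hbb' : ∀ (i : Fin t) (a : Fin (k i)) (j : Fin t) (a' : Fin (k j)),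
      h (b ⟨i, a⟩) (b ⟨j, a'⟩) = if i = j ∧ (a : ℕ) + a' + 1 = k i then coef ⟨i, a⟩ else 0 := by
    intro i a j a'
    rw [hbb]
    refine if_congr ⟨fun e => ?_, ?_⟩ rfl rfl
    · obtain rfl : i = j := congrArg Sigma.fst e
      have h1 : (a : ℕ) = (a'.rev : ℕ) := congrArg Fin.val (eq_of_heq (Sigma.mk.inj_iff.mp e).2)
      rw [Fin.val_rev] at h1
      have := a'.2
      exact ⟨rfl, by omega⟩
    · rintro ⟨rfl, e⟩
      exact congrArg (Sigma.mk i) (Fin.ext (show (a : ℕ) = (a'.rev : ℕ) by rw [Fin.val_rev]; omega))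
  have hskewb : ∀ x y, h (N (b x)) (b y) + h (b x) (N (b y)) = 0 := by
    rintro ⟨i, a⟩ ⟨j, a'⟩
    rw [hb, hb]
    dsimp only
    have ha := a.2
    have ha' := a'.2
    by_cases e : i = j ∧ (a : ℕ) + (a' : ℕ) + 2 = k i
    · obtain ⟨rfl, e⟩ := e
      rw [dif_pos (show (a : ℕ) + 1 < k i by omega), dif_pos (show (a' : ℕ) + 1 < k i by omega), hbb', hbb',
        if_pos ⟨rfl, show (a : ℕ) + 1 + a' + 1 = k i by omega⟩, if_pos ⟨rfl, show (a : ℕ) + (a' + 1) + 1 = k i by omega⟩]
      simp only [coef, pow_succ]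
      ring
    · have n1 : ∀ h1 : (a : ℕ) + 1 < k i, h (b ⟨i, ⟨a + 1, h1⟩⟩) (b ⟨j, a'⟩) = 0 := fun h1 => by
        rw [hbb', if_neg]
        rintro ⟨rfl, e'⟩
        exact e ⟨rfl, by simp only at e'; omega⟩
      have n2 : ∀ h1 : (a' : ℕ) + 1 < k j, h (b ⟨i, a⟩) (b ⟨j, ⟨a' + 1, h1⟩⟩) = 0 := fun h1 => by
        rw [hbb', if_neg]
        rintro ⟨rfl, e'⟩
        exact e ⟨rfl, by simp only at e'; omega⟩
      split_ifs <;> simp [n1, n2, H.zero_left, H.zero_right, *]
  have hskew : ∀ u v, h (N u) v + h u (N v) = 0 := by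
    intro u v
    have hu := b.sum_repr u
    have hv := b.sum_repr v
    rw [← hu, ← hv]
    simp only [map_sum, map_smul, H.sum_left, H.smul_left]
    rw [← Finset.sum_add_distrib]
    refine Finset.sum_eq_zero fun x _ => ?_
    rw [← mul_add]
    refine mul_eq_zero_of_right _ ?_
    rw [← H.symm, ← H.symm (∑ y, b.repr v y • N (b y)), H.sum_left, H.sum_left, map_sum, map_sum,
      ← Finset.sum_add_distrib]
    refine Finset.sum_eq_zero fun y _ => ?_
    rw [H.smul_left, H.smul_left, map_mul, map_mul, H.symm, H.symm, ← mul_add, hskewb, mul_zero]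
  have hNp : N ^ p = 0 := (hb.pow_eq_zero_iff p).mpr hkp
  have hM : finrank F (ι → F) = n := by
    rw [← hsum, ← hparts, Cfsg.Agent.Small.JordanType.sum_parts, hb.sum_eq]
  obtain ⟨i₀, hi₀⟩ : ∃ i, 2 ≤ k i := by
    obtain ⟨a, ha, ha2⟩ := hbig
    obtain ⟨i, -, rfl⟩ := Multiset.mem_map.mp (hk ▸ ha)
    exact ⟨i, ha2⟩
  -- the isometry
  obtain ⟨g, D, hD, hg, hDg⟩ : ∃ (g D : End F (ι → F)), IsUnit D ∧ (∀ u v, h (g u) (g v) = h u v) ∧
      (Commute N D ∧ g - 1 = N * D) := by
    by_cases hp2 : p = 2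
    · have hNN : ∀ v, N (N v) = 0 := fun v => by
        have := LinearMap.congr_fun (hp2 ▸ hNp) v
        rw [pow_two, Module.End.mul_apply] at this
        exact this
      refine ⟨1 + N, 1, isUnit_one, fun u v => ?_, Commute.one_right N, by rw [mul_one]; abel⟩
      have h1 := hskew u v
      have h2 := hskew u (N v)
      rw [hNN, H.zero_right, add_zero] at h2
      simp only [LinearMap.add_apply, Module.End.one_apply, H.add_left, H.add_right, h2]
      linear_combination h1
    · have h20 : (2 : F) ≠ 0 := fun h0 => hp2 ((Nat.prime_dvd_prime_iff_eq Fact.out Nat.prime_two).mp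
        ((CharP.cast_eq_zero_iff F p 2).mp (by exact_mod_cast h0)))
      have hu : IsUnit (1 - N) := IsNilpotent.isUnit_one_sub ⟨p, hNp⟩
      obtain ⟨U, hU⟩ := hu
      refine ⟨(1 + N) * (↑U⁻¹ : End F (ι → F)), (2 : F) • (↑U⁻¹ : End F (ι → F)), ?_, fun u v => ?_, ?_, ?_⟩
      · refine ⟨⟨(2 : F) • (↑U⁻¹ : End F (ι → F)), (2 : F)⁻¹ • (↑U : End F (ι → F)), ?_, ?_⟩, rfl⟩ <;>
          rw [smul_mul_smul_comm] <;> simp [h20]
      · obtain ⟨a, rfl⟩ : ∃ a, (↑U : End F (ι → F)) a = u :=
          ⟨(↑U⁻¹ : End F (ι → F)) u, by rw [← Module.End.mul_apply, U.mul_inv]; rfl⟩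
        obtain ⟨a', rfl⟩ : ∃ a, (↑U : End F (ι → F)) a = v :=
          ⟨(↑U⁻¹ : End F (ι → F)) v, by rw [← Module.End.mul_apply, U.mul_inv]; rfl⟩
        rw [Module.End.mul_apply, Module.End.mul_apply, ← Module.End.mul_apply (↑U⁻¹ : End F (ι → F)) (↑U : End F (ι → F)),
          ← Module.End.mul_apply (↑U⁻¹ : End F (ι → F)) (↑U : End F (ι → F)), U.inv_mul, hU]
        simp only [Module.End.one_apply, LinearMap.sub_apply, LinearMap.add_apply, H.add_left, H.add_right, H.sub_left,
          H.sub_right]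
        linear_combination 2 * hskew a a'
      · refine Commute.smul_right ?_ _
        exact Commute.units_inv_right (by rw [hU]; exact (Commute.one_right N).sub_right (Commute.refl N))
      · rw [mul_smul_comm, ← sub_eq_zero]
        have : (1 + N) * (↑U⁻¹ : End F (ι → F)) - 1 = ((1 + N) - ↑U) * (↑U⁻¹ : End F (ι → F)) := by
          rw [sub_mul, U.mul_inv]
        rw [this, hU, show (1 + N) - (1 - N) = (2 : F) • N by rw [two_smul]; abel, smul_mul_assoc, sub_self]
  obtain ⟨hcomm, hgD⟩ := hDg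
  have hgnil : (g - 1) ^ p = 0 := by rw [hgD, hcomm.mul_pow, hNp, zero_mul]
  have hgp : g ^ p = 1 := by
    have h1 := congrArg (Polynomial.aeval g) (sub_pow_char (R := Polynomial F) (p := p) Polynomial.X 1)
    simp only [map_sub, map_pow, Polynomial.aeval_X, map_one, one_pow] at h1
    rw [hgnil] at h1
    exact sub_eq_zero.mp h1.symm
  have hdet : LinearMap.det g = 1 := by
    haveI : ExpChar F p := ExpChar.prime Fact.out
    refine frobenius_inj F p ?_
    rw [frobenius_def, frobenius_def, one_pow, ← map_pow, hgp, map_one]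
  obtain ⟨t', k', b', hb'⟩ := exists_chain (g - 1) ⟨p, hgnil⟩
  have hparts' : parts k' = μ := by
    rw [← hparts]
    refine parts_eq_of_ranks _ _ fun m => ?_
    rw [← hb'.finrank_range m, ← hb.finrank_range m, hgD, hcomm.mul_pow]
    obtain ⟨U, hU⟩ := hD.pow m
    have he : LinearMap.range (N ^ m * D ^ m) = LinearMap.range (N ^ m) := by
      refine le_antisymm ?_ ?_
      · rintro _ ⟨u, rfl⟩; exact ⟨_, rfl⟩
      · rintro _ ⟨u, rfl⟩
        refine ⟨(↑U⁻¹ : End F (ι → F)) u, ?_⟩
        rw [Module.End.mul_apply, ← hU, ← Module.End.mul_apply (↑U : End F (ι → F)) (↑U⁻¹ : End F (ι → F)), U.mul_inv]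
        rfl
    rw [he]
  obtain ⟨x, hx, hz, hns, hW⟩ := exists_witness hσ H hM hg hdet (z := (1 : F)) (by rw [hgp, one_smul]) fun s hs => by
    have h1 : (g - 1) ^ 1 = 0 := by
      have h2 : ((s - 1) • (1 : End F (ι → F))) ^ p = 0 := by
        rw [show (s - 1) • (1 : End F (ι → F)) = g - 1 by rw [hs]; module]; exact hgnil
      rw [smul_pow, one_pow, smul_eq_zero] at h2
      have h3 : (s - 1) ^ p = 0 := h2.resolve_right fun e => by
        have := congrFun (LinearMap.congr_fun e (Pi.single ⟨i₀, ⟨0, by omega⟩⟩ 1)) ⟨i₀, ⟨0, by omega⟩⟩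
        simp at this
      rw [pow_one, hs, sub_eq_zero.mp (eq_zero_of_pow_eq_zero h3), one_smul, sub_self]
    rw [hgD, pow_one] at h1
    obtain ⟨U, hU⟩ := hD
    have hN0 : N = 0 := by
      have := congrArg (· * (↑U⁻¹ : End F (ι → F))) h1
      simpa [mul_assoc, ← hU] using this
    have e := (hb.pow_eq_zero_iff 1).mp (by rw [pow_one, hN0]) i₀
    omega
  refine ⟨x, hx, hz, hns, fun W hWn hWi => ?_⟩
  obtain ⟨W₀, hW₀, hW₀i, hW₀d⟩ := hW W hWn hWi
  obtain ⟨ν, hν1, hν2⟩ := sub_parts H hg hb' ⟨p, hgnil⟩ hW₀ hW₀i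
  exact ⟨ν, hparts' ▸ hν1, hν2.trans hW₀d⟩

/-- The number of orthonormal families of any length. -/
theorem card_fam_part (m : ℕ) : ∀ (n : ℕ) {V : Type u} [AddCommGroup V] [Module F V] [FiniteDimensional F V]
    {h : V → V → F}, UCount.IsHermND σ h → finrank F V = n → m ≤ n →
      Nat.card (UCount.UFam h m) = ∏ i ∈ Finset.range m, UCount.unitNum q (n - i) := by
  induction m with
  | zero =>
    intro n V _ _ _ h _ _ _
    have : Unique (UCount.UFam h 0) :=
      { default := ⟨fun i => Fin.elim0 i, fun i => Fin.elim0 i⟩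
        uniq := fun f => Subtype.ext (funext fun i => Fin.elim0 i) }
    simp
  | succ m ih =>
    intro n V _ _ _ h H hV hmn
    classical
    have : Finite V := Module.finite_of_finite F
    have : ∀ a : {a : V // h a a = 1}, Finite (UCount.UFam (fun x y : LinearMap.ker (H.func a.1) => h x y) m) :=
      fun a => Subtype.finite
    rw [Nat.card_congr (UCount.famEquiv H m)]
    have := Fintype.ofFinite {a : V // h a a = 1}
    rw [Nat.card_sigma, Finset.sum_congr rfl fun a _ => ih (n - 1) (H.res_ker a.1 (by rw [a.2]; exact one_ne_zero))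
        (by have := H.finrank_ker a.1 (by rw [a.2]; exact one_ne_zero); omega) (by omega),
      Finset.sum_const, Finset.card_univ, smul_eq_mul,
      ← Nat.card_eq_fintype_card (α := {a : V // h a a = 1}),
      UCount.card_norm hσ n H hV one_ne_zero (map_one σ), Finset.prod_range_succ']
    rw [mul_comm, Nat.sub_zero]
    congr 1
    exact Finset.prod_congr rfl fun i _ => by rw [show n - 1 - i = n - (i + 1) by omega]

/-- A prime dividing the number of nondegenerate subspaces divides a factor of the group order. -/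
theorem prime_dvd_nd {r n m : ℕ} (hr : r.Prime) (hmn : m ≤ n)
    (hdvd : r ∣ Nat.card {W : Submodule F (Fin n → F) // finrank F W = m ∧ ND (Cfsg.hermForm n F q) W}) :
    ∃ j, n - m < j ∧ j ≤ n ∧ r ∣ q * (if Odd j then q ^ j + 1 else q ^ j - 1) := by
  classical
  have H := herm_std hσ n
  haveI : Finite (Fin n → F) := inferInstance
  haveI : Finite (UCount.UFam (Cfsg.hermForm n F q) m) := Subtype.finite
  let e : UCount.UFam (Cfsg.hermForm n F q) m ≃
      Σ W : {W : Submodule F (Fin n → F) // finrank F W = m ∧ ND (Cfsg.hermForm n F q) W},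
        UCount.UFam (rf (Cfsg.hermForm n F q) W.1) m :=
    Equiv.symm <| Equiv.ofBijective (fun s => ⟨fun i => (s.2.1 i : Fin n → F), s.2.2⟩) ⟨fun s s' es => by
      obtain ⟨⟨W, hW⟩, f, hf⟩ := s
      obtain ⟨⟨W', hW'⟩, f', hf'⟩ := s'
      have e1 : (fun i => (f i : Fin n → F)) = fun i => (f' i : Fin n → F) := congrArg Subtype.val es
      have hspan : ∀ (U : Submodule F (Fin n → F)) (hU : finrank F U = m ∧ ND (Cfsg.hermForm n F q) U)
          (g : UCount.UFam (rf (Cfsg.hermForm n F q) U) m),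
          U = Submodule.span F (Set.range fun i => (g.1 i : Fin n → F)) := by
        intro U hU g
        obtain ⟨-, hb⟩ := exists_fam hσ (herm_sub H hU.2) hU.1
        obtain ⟨b, hb⟩ := hb g
        have : Set.range (fun i => (g.1 i : Fin n → F)) = U.subtype '' Set.range b := by
          rw [hb, ← Set.range_comp]; rfl
        rw [this, Submodule.span_image, b.span_eq, Submodule.map_top, Submodule.range_subtype]
      obtain rfl : W = W' := by rw [hspan W hW ⟨f, hf⟩, hspan W' hW' ⟨f', hf'⟩, e1]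
      obtain rfl : f = f' := funext fun i => Subtype.ext (congrFun e1 i)
      rfl, fun g => by
      have hli : LinearIndependent F g.1 := by
        refine Fintype.linearIndependent_iff.mpr fun c hc i => ?_
        have h1 := congrArg (fun v => Cfsg.hermForm n F q v (g.1 i)) hc
        simp only [H.sum_left, H.smul_left, g.2, H.zero_left] at h1
        simpa using h1
      refine ⟨⟨⟨Submodule.span F (Set.range g.1), by rw [finrank_span_eq_card hli, Fintype.card_fin], ?_⟩,
        ⟨fun i => ⟨g.1 i, Submodule.subset_span ⟨i, rfl⟩⟩, g.2⟩⟩, rfl⟩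
      intro x hx h0
      obtain ⟨c, rfl⟩ := (Submodule.mem_span_range_iff_exists_fun F).mp hx
      refine Finset.sum_eq_zero fun i _ => ?_
      have h1 := h0 (g.1 i) (Submodule.subset_span ⟨i, rfl⟩)
      simp only [H.sum_left, H.smul_left, g.2] at h1
      simp at h1
      rw [h1, zero_smul]⟩
  haveI : ∀ W : {W : Submodule F (Fin n → F) // finrank F W = m ∧ ND (Cfsg.hermForm n F q) W},
      Finite (UCount.UFam (rf (Cfsg.hermForm n F q) W.1) m) := fun W => Subtype.finite
  haveI : Fintype {W : Submodule F (Fin n → F) // finrank F W = m ∧ ND (Cfsg.hermForm n F q) W} := by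
    haveI : Finite (Submodule F (Fin n → F)) := Finite.of_injective (fun W => (W : Set (Fin n → F))) SetLike.coe_injective
    exact Fintype.ofFinite _
  have hcard := Nat.card_congr e
  rw [Nat.card_sigma, card_fam_part hσ m n H (Module.finrank_fin_fun F) hmn,
    Finset.sum_congr rfl fun W _ => UCount.card_fam hσ m (herm_sub H W.2.2) W.2.1, Finset.sum_const, Finset.card_univ,
    ← Nat.card_eq_fintype_card, smul_eq_mul] at hcard
  have h1 : r ∣ ∏ i ∈ Finset.range m, UCount.unitNum q (n - i) := hcard ▸ dvd_mul_of_dvd_left hdvd _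
  obtain ⟨i, hi, h2⟩ := hr.prime.exists_mem_finset_dvd h1
  have hi' := Finset.mem_range.mp hi
  obtain ⟨j, hj⟩ : ∃ j, n - i = j + 1 := ⟨n - i - 1, by omega⟩
  refine ⟨j + 1, by omega, by omega, ?_⟩
  have hu : UCount.unitNum q (j + 1) ∣ q ^ j * (if Even j then q ^ (j + 1) + 1 else q ^ (j + 1) - 1) := by
    refine dvd_of_eq ?_
    have hq := hσ.two_le
    have h := (UCount.unitNum_int hq (j + 1)).2
    have hq0 : (q : ℤ) ≠ 0 := by exact_mod_cast (show q ≠ 0 by omega)
    have hz : (UCount.unitNum q (j + 1) : ℤ) = (q : ℤ) ^ j * ((q : ℤ) ^ (j + 1) - (-1) ^ (j + 1)) := by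
      refine mul_left_cancel₀ hq0 (h.trans ?_)
      rw [show 2 * (j + 1) = j + 1 + (j + 1) by ring, pow_add, pow_succ (q : ℤ) j]
      ring
    have h1 : 1 ≤ q ^ (j + 1) := Nat.one_le_pow _ _ (by omega)
    split_ifs with he
    · rw [pow_succ (-1 : ℤ), he.neg_one_pow] at hz
      have : (UCount.unitNum q (j + 1) : ℤ) = ((q ^ j * (q ^ (j + 1) + 1) : ℕ) : ℤ) := by push_cast; linarith
      exact_mod_cast this
    · rw [pow_succ (-1 : ℤ), (Nat.not_even_iff_odd.mp he).neg_one_pow] at hz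
      have : (UCount.unitNum q (j + 1) : ℤ) = ((q ^ j * (q ^ (j + 1) - 1) : ℕ) : ℤ) := by
        push_cast [Nat.cast_sub h1]; linarith
      exact_mod_cast this
  rcases hr.dvd_mul.mp ((hj ▸ h2).trans hu) with h3 | h3
  · exact dvd_mul_of_dvd_left (hr.dvd_of_dvd_pow h3) _
  · refine dvd_mul_of_dvd_right ?_ _
    rcases Nat.even_or_odd j with he | ho
    · rw [if_pos he] at h3
      rwa [if_pos he.add_one]
    · rw [if_neg (Nat.not_even_iff_odd.mpr ho)] at h3
      rwa [if_neg (Nat.not_odd_iff_even.mpr ho.add_one)]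

end Cfsg.Agent.Classical.Elusive.HermEl
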