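import Cfsg.Agent.Lib.Classical.Elusive.HermModels

/-!
# Elements of prime order of unitary groups and nondegenerate subspaces
-/

set_option autoImplicit false
set_option linter.unusedSectionVars false
set_option linter.style.haveILetI false
set_option maxHeartbeats 400000

universe u

namespace Cfsg.Agent.Classical.Elusive.HermEl

open Module

variable {F : Type u} [Field F] [Fintype F] {σ : F ≃+* F} {q : ℕ} (hσ : IsUSigma q σ) {n m : ℕ}

/-- Every element of order `r` of the projective group fixes a nondegenerate `m`-space. -/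
def AllNd (F : Type u) [Field F] (q n m r : ℕ) : Prop :=
  ∀ x : Matrix.SpecialLinearGroup (Fin n) F, x ∈ Cfsg.SU n F q →
    (∃ z : F, ((x ^ r : Matrix.SpecialLinearGroup (Fin n) F) : Matrix (Fin n) (Fin n) F) = z • (1 : Matrix (Fin n) (Fin n) F)) →
    (∀ z : F, (x : Matrix (Fin n) (Fin n) F) ≠ z • (1 : Matrix (Fin n) (Fin n) F)) →
    ∃ W : Submodule F (Fin n → F), finrank F ↥W = m ∧ ND (Cfsg.hermForm n F q) W ∧
      W.map (Matrix.toLin' (x : Matrix (Fin n) (Fin n) F)) ≤ W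

include hσ

/-- The linear map of an element. -/
theorem linear_facts (hn : 0 < n) {r : ℕ} {x : Matrix.SpecialLinearGroup (Fin n) F} (hx : x ∈ Cfsg.SU n F q) {z : F}
    (hz : ((x ^ r : Matrix.SpecialLinearGroup (Fin n) F) : Matrix (Fin n) (Fin n) F) = z • (1 : Matrix (Fin n) (Fin n) F)) :
    ∃ g : End F (Fin n → F), (∀ u v, Cfsg.hermForm n F q (g u) (g v) = Cfsg.hermForm n F q u v) ∧
      g ^ r = z • 1 ∧ LinearMap.det g = 1 ∧ z * σ z = 1 ∧ g = Matrix.toLin' (x : Matrix (Fin n) (Fin n) F) := by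
  refine ⟨_, fun u v => by rw [Matrix.toLin'_apply, Matrix.toLin'_apply]; exact hx u v, ?_, ?_, ?_, rfl⟩
  · rw [← Matrix.toLin'_pow, ← Matrix.SpecialLinearGroup.coe_pow, hz, map_smul, Matrix.toLin'_one]; rfl
  · rw [LinearMap.det_toLin']; exact x.2
  · have hxr : x ^ r ∈ Cfsg.SU n F q := Subgroup.pow_mem _ hx r
    have h1 := hxr (Pi.single ⟨0, hn⟩ 1) (Pi.single ⟨0, hn⟩ 1)
    change Cfsg.hermForm n F q (Matrix.mulVec ((x ^ r : Matrix.SpecialLinearGroup (Fin n) F) : Matrix (Fin n) (Fin n) F) _)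
      (Matrix.mulVec ((x ^ r : Matrix.SpecialLinearGroup (Fin n) F) : Matrix (Fin n) (Fin n) F) _) = _ at h1
    have H := herm_std hσ n
    rw [hz, Matrix.smul_mulVec, Matrix.one_mulVec, H.smul_left, H.smul_right, hσ.hermForm_single] at h1
    simpa using h1

/-- Removing a root of the scalar. -/
theorem normalise {r : ℕ} {g : End F (Fin n → F)}
    (hg : ∀ u v, Cfsg.hermForm n F q (g u) (g v) = Cfsg.hermForm n F q u v) {z w : F} (hgr : g ^ r = z • 1)
    (hw : w * σ w = 1) (hwr : w ^ r = z) :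
    ∃ g' : End F (Fin n → F), (∀ u v, Cfsg.hermForm n F q (g' u) (g' v) = Cfsg.hermForm n F q u v) ∧ g' ^ r = 1 ∧
      ∀ W : Submodule F (Fin n → F), (∀ v ∈ W, g' v ∈ W) → W.map g ≤ W := by
  have hw0 : w ≠ 0 := left_ne_zero_of_mul_eq_one hw
  have H := herm_std hσ n
  refine ⟨w⁻¹ • g, fun u v => ?_, ?_, fun W hW => ?_⟩
  · rw [LinearMap.smul_apply, LinearMap.smul_apply, H.smul_left, H.smul_right, hg, ← mul_assoc, map_inv₀, ← mul_inv, hw,
      inv_one, one_mul]
  · rw [smul_pow, hgr, smul_smul, inv_pow, hwr, inv_mul_cancel₀ (hwr ▸ pow_ne_zero r hw0), one_smul]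
  · rintro _ ⟨v, hv, rfl⟩
    have := W.smul_mem w (hW v hv)
    rwa [LinearMap.smul_apply, smul_smul, mul_inv_cancel₀ hw0, one_smul] at this

/-- The criterion for the characteristic. -/
theorem all_nd_char {p : ℕ} [Fact p.Prime] [CharP F p] (hn : 0 < n) (hmn : m ≤ n) :
    AllNd F q n m p ↔ ∀ μ : Multiset ℕ, (∀ a ∈ μ, 0 < a ∧ a ≤ p) → μ.sum = n → ∃ ν : Multiset ℕ, ν ≤ μ ∧ ν.sum = m := by
  have hp : p.Prime := Fact.out
  constructor
  · intro Hall μ hμ hsum
    by_cases hb : ∃ a ∈ μ, 2 ≤ a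
    · obtain ⟨x, hx, hz, hns, hW⟩ := exists_unipotent_model hσ μ hμ hsum hb
      obtain ⟨W, hd, hWn, hWi⟩ := Hall x hx hz hns
      obtain ⟨ν, h1, h2⟩ := hW W hWn hWi
      exact ⟨ν, h1, h2.trans hd⟩
    · push Not at hb
      have hμ1 : μ = Multiset.replicate μ.card 1 := Multiset.eq_replicate_card.mpr fun a ha => by
        have := (hμ a ha).1; have := hb a ha; omega
      have hcard : μ.card = n := by
        rw [hμ1, Multiset.sum_replicate, smul_eq_mul, mul_one] at hsum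
        exact hsum
      exact ⟨Multiset.replicate m 1, by rw [hμ1, hcard, Multiset.replicate_le_replicate]; exact hmn, by simp⟩
  · intro hP x hx ⟨z, hz⟩ _
    obtain ⟨g, hg, hgr, -, hzn, rfl⟩ := linear_facts hσ hn hx hz
    have hpq : ¬ p ∣ q + 1 := by
      obtain ⟨p', e, σ', hp', hchar, hqe, he, -⟩ := exists_usigma (F := F) (q := q) hσ.card
      obtain rfl : p = p' := CharP.eq F ‹CharP F p› hchar
      intro hd
      have : p ∣ 1 := (Nat.dvd_add_right (hqe ▸ dvd_pow_self p he.ne')).mp hd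
      exact hp.one_lt.ne' (Nat.dvd_one.mp this)
    obtain ⟨w, hw, hwr⟩ := exists_root hσ hp hpq hzn
    obtain ⟨g', hg', hg'r, hinv⟩ := normalise hσ hg hgr hw hwr
    have H := herm_std hσ n
    have hnil : (g' - 1) ^ p = 0 := by
      have h1 := congrArg (Polynomial.aeval g') (sub_pow_char (R := Polynomial F) (p := p) Polynomial.X 1)
      simp only [map_sub, map_pow, Polynomial.aeval_X, map_one, one_pow] at h1
      rw [h1, hg'r, sub_self]
    obtain ⟨A, hA, hAs, hAW⟩ := exists_pieces H hg' (fun a => 1 ≤ a ∧ a ≤ p) (fun a ha => ha.1) ⊤ (nd_top H)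
      (fun _ _ => trivial) fun Z _ hZ hZi hne => step_unipotent hσ H hg' (g' := g' ^ (p - 1))
        (by rw [← pow_succ', Nat.sub_add_cancel hp.one_le, hg'r]) hnil Z hZ hZi hne
    rw [finrank_top, Module.finrank_fin_fun] at hAs
    obtain ⟨ν, hν, hνs⟩ := hP A (fun a ha => hA a ha) hAs
    obtain ⟨W, -, h1, h2, h3⟩ := hAW ν hν
    exact ⟨W, h3.trans hνs, h1, hinv W h2⟩

omit hσ in
/-- The condition on partitions into parts one and two. -/
theorem parts_two (hmn : m ≤ n) :
    (∀ μ : Multiset ℕ, (∀ a ∈ μ, 0 < a ∧ a ≤ 2) → μ.sum = n → ∃ ν : Multiset ℕ, ν ≤ μ ∧ ν.sum = m) ↔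
      (Odd n ∨ Even m) := by
  constructor
  · intro h
    by_contra hc
    rw [not_or, Nat.not_odd_iff_even] at hc
    obtain ⟨⟨k, hk⟩, hm⟩ := hc
    obtain ⟨ν, hν, hs⟩ := h (Multiset.replicate k 2) (fun a ha => by rw [Multiset.eq_of_mem_replicate ha]; omega)
      (by rw [Multiset.sum_replicate, smul_eq_mul]; omega)
    obtain ⟨j, -, rfl⟩ := Multiset.le_replicate_iff.mp hν
    exact hm ⟨j, by rw [← hs, Multiset.sum_replicate, smul_eq_mul]; ring⟩
  · intro h μ hμ hsum
    obtain ⟨a, b, rfl⟩ : ∃ a b, μ = Multiset.replicate a 1 + Multiset.replicate b 2 := by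
      refine ⟨(μ.filter (· = 1)).card, (μ.filter (¬ · = 1)).card, ?_⟩
      conv_lhs => rw [← Multiset.filter_add_not (· = 1) μ]
      congr 1
      · exact Multiset.eq_replicate_card.mpr fun x hx => (Multiset.mem_filter.mp hx).2
      · refine Multiset.eq_replicate_card.mpr fun x hx => ?_
        obtain ⟨h1, h2⟩ := Multiset.mem_filter.mp hx
        have := hμ x h1
        omega
    simp only [Multiset.sum_add, Multiset.sum_replicate, smul_eq_mul, mul_one] at hsum
    obtain ⟨j, hj, hrest, hjm⟩ : ∃ j, j ≤ b ∧ m - j * 2 ≤ a ∧ j * 2 ≤ m := by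
      refine ⟨min b (m / 2), min_le_left _ _, ?_, by omega⟩
      simp only [Nat.odd_iff, Nat.even_iff] at h
      omega
    exact ⟨Multiset.replicate (m - j * 2) 1 + Multiset.replicate j 2,
      add_le_add ((Multiset.replicate_le_replicate 1).mpr hrest) ((Multiset.replicate_le_replicate 2).mpr hj),
      by simp only [Multiset.sum_add, Multiset.sum_replicate, smul_eq_mul, mul_one]; omega⟩

/-- The criterion for two, odd characteristic. -/
theorem all_nd_two (h2 : (2 : F) ≠ 0) (hn : 0 < n) (hmn : m ≤ n) :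
    AllNd F q n m 2 ↔ (Odd n ∨ Even m ∨ (padicValNat 2 n ≤ padicValNat 2 (q + 1) ∧ q % 4 = 3)) := by
  haveI : Fact (Nat.Prime 2) := ⟨Nat.prime_two⟩
  have H := herm_std hσ n
  have hqodd : q % 2 = 1 := by
    have := (cast_ne hσ Nat.prime_two).mp (by exact_mod_cast h2)
    omega
  have hsq : ∀ z : F, z * σ z = 1 → (∀ w : F, w * σ w = 1 → w ^ 2 ≠ z) → ∃ w : F, w * σ w = -1 ∧ w * w = z := by
    intro z hz hnr
    have hc : ringChar F ≠ 2 := fun h => h2 (by
      have := (ringChar.spec F 2).mpr (h ▸ dvd_rfl); exact_mod_cast this)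
    obtain ⟨w, hw⟩ := (FiniteField.isSquare_iff hc (left_ne_zero_of_mul_eq_one hz)).mpr (by
      rw [hσ.card]
      obtain ⟨k, hk⟩ : ∃ k, q = 2 * k + 1 := ⟨q / 2, by omega⟩
      rw [show q ^ 2 / 2 = (q + 1) * k by
        rw [hk, show (2 * k + 1) ^ 2 = 1 + 2 * ((2 * k + 1 + 1) * k) by ring, Nat.add_mul_div_left _ _ two_pos]; simp]
      rw [pow_mul, (norm_one_pow hσ).mp hz, one_pow])
    refine ⟨w, ?_, hw.symm⟩
    have h1 : (w * σ w) * (w * σ w) = 1 := by rw [mul_mul_mul_comm, ← map_mul, ← hw, hz]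
    rcases mul_self_eq_one_iff.mp h1 with h | h
    · exact absurd (by rw [pow_two, hw]) (hnr w h)
    · exact h
  constructor
  · intro Hall
    by_contra hc
    rw [not_or, not_or, Nat.not_odd_iff_even] at hc
    obtain ⟨⟨k, hk⟩, hm, hcond⟩ := hc
    obtain ⟨z, hz, hnr, hzk⟩ : ∃ z : F, z * σ z = 1 ∧ (∀ w : F, w * σ w = 1 → w ^ 2 ≠ z) ∧ (-z) ^ k = 1 := by
      by_cases h3 : q % 4 = 3
      · obtain ⟨z, hz, hzo, hnr⟩ := exists_nonroot hσ Nat.prime_two (show 2 ∣ q + 1 by omega)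
        refine ⟨z, hz, hnr, ?_⟩
        have ha : padicValNat 2 (q + 1) < padicValNat 2 n := by
          by_contra hle
          exact hcond ⟨not_lt.mp hle, h3⟩
        have ha1 : 1 ≤ padicValNat 2 (q + 1) := one_le_padicValNat_of_dvd (by omega) (show 2 ∣ q + 1 by omega)
        have hd : 2 ^ padicValNat 2 (q + 1) * 2 ∣ n :=
          (pow_succ 2 (padicValNat 2 (q + 1)) ▸ (pow_dvd_pow 2 ha).trans pow_padicValNat_dvd :)
        rw [hk, ← two_mul, mul_comm 2 k] at hd
        obtain ⟨l, rfl⟩ := Nat.dvd_of_mul_dvd_mul_right two_pos hd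
        have hev : Even (2 ^ padicValNat 2 (q + 1) * l) := (Nat.even_pow.mpr ⟨even_two, by omega⟩).mul_right l
        rw [hev.neg_pow, pow_mul, hzo, one_pow]
      · refine ⟨-1, by simp, fun w hw he => ?_, by rw [neg_neg, one_pow]⟩
        have h1 := (norm_one_pow hσ).mp hw
        obtain ⟨l, hl⟩ : ∃ l, q + 1 = 2 * (2 * l + 1) := ⟨(q + 1) / 4, by omega⟩
        rw [hl, pow_mul, he, pow_succ, pow_mul, neg_one_sq, one_pow, one_mul] at h1
        exact h2 (by linear_combination -h1)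
    obtain ⟨w, hw, hwz⟩ := hsq z hz hnr
    obtain ⟨g, hg, hgr, hns⟩ := exists_monomial hσ (r := 2) (N := k) two_pos hz
    have HM := herm_pi hσ (herm_std hσ 2) k
    have hgg : ∀ v, g (g v) = (w * w) • v := fun v => by
      rw [hwz, ← Module.End.mul_apply, ← pow_two, hgr]; rfl
    obtain ⟨k', hk', hdet, -⟩ := skew_facts HM hg h2 hw hgg
    have hM : finrank F (Fin k → Fin 2 → F) = n := by
      rw [Module.finrank_pi_fintype]; simp; omega
    rw [show k' = k by omega, hwz, hzk] at hdet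
    obtain ⟨x, hx, hxz, hxs, hW⟩ := exists_witness hσ HM hM hg hdet hgr (hns le_rfl (by omega))
    obtain ⟨W, hd, hWn, hWi⟩ := Hall x hx hxz hxs
    obtain ⟨W₀, h1, h2', h3⟩ := hW W hWn hWi
    obtain ⟨j, hj, -, -⟩ := skew_facts (herm_sub HM h1) (g := g.restrict h2') (fun u v => hg u.1 v.1) h2 hw
      fun v => Subtype.ext (hgg v.1)
    exact hm ⟨j, by omega⟩
  · intro hcond x hx ⟨z, hz⟩ _
    obtain ⟨g, hg, hgr, hdet, hzn, rfl⟩ := linear_facts hσ hn hx hz
    by_cases hroot : ∃ w : F, w * σ w = 1 ∧ w ^ 2 = z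
    · obtain ⟨w, hw, hwr⟩ := hroot
      obtain ⟨g', hg', hg'r, hinv⟩ := normalise hσ hg hgr hw hwr
      obtain ⟨hX, hY, -, -, hcompl, hperp⟩ := tame_split H hg' (r := 2) (by exact_mod_cast h2) hg'r
      have hsum := Submodule.finrank_add_eq_of_isCompl hcompl
      rw [Module.finrank_fin_fun] at hsum
      have hneg : ∀ v ∈ Free.moved g', g' v = (-1 : F) • v := by
        rintro _ ⟨y, rfl⟩
        have e : g' (g' y) = y := LinearMap.congr_fun (show g' * g' = 1 by rw [← pow_two]; exact hg'r) y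
        rw [LinearMap.sub_apply, Module.End.one_apply, map_sub, e, neg_one_smul, neg_sub]
      obtain ⟨W₁, hW₁, a1, a2, a3⟩ := exists_sub hσ H hg' hX (t := 1)
        (fun v hv => by rw [one_smul]; exact Free.mem_fixSpace.mp hv) (j := min m (finrank F (Free.fixSpace g')))
        (min_le_right _ _)
      obtain ⟨W₂, hW₂, b1, b2, b3⟩ := exists_sub hσ H hg' hY hneg
        (j := m - min m (finrank F (Free.fixSpace g'))) (by omega)
      obtain ⟨-, -, -, hsup⟩ := glue H hg' (nd_top H) (fun _ _ => trivial) le_top a1 a2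
      obtain ⟨c1, c2, c3⟩ := hsup W₂
        (fun v hv => ⟨trivial, fun y hy => zero_swap H (hperp y (hW₁ hy) v (hW₂ hv))⟩) b1 b2
      exact ⟨_, by rw [c3, a3, b3]; omega, c1, hinv _ c2⟩
    · push Not at hroot
      obtain ⟨w, hw, hwz⟩ := hsq z hzn hroot
      have hgg : ∀ v, Matrix.toLin' (x : Matrix (Fin n) (Fin n) F) (Matrix.toLin' (x : Matrix (Fin n) (Fin n) F) v) =
          (w * w) • v := fun v => by
        rw [hwz, ← Module.End.mul_apply, ← pow_two, hgr]; rfl
      obtain ⟨k, hk, hdk, hstep⟩ := skew_facts H hg h2 hw hgg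
      rw [Module.finrank_fin_fun] at hk
      have hm : Even m := by
        rcases hcond with h | h | ⟨h1, h3⟩
        · exact absurd h (Nat.not_odd_iff_even.mpr ⟨k, by omega⟩)
        · exact h
        exfalso
        rw [hdet, hwz] at hdk
        rcases root_or_order hσ Nat.prime_two hzn with ⟨w', e1, e2⟩ | hord
        · exact hroot w' e1 e2
        have hdn : 2 ^ padicValNat 2 (q + 1) ∣ 2 * k := hord _ (by
          rw [pow_mul, ← neg_pow_two z, ← pow_mul, mul_comm, pow_mul, ← hdk, one_pow])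
        have ha2 : 2 ≤ padicValNat 2 (q + 1) :=
          (padicValNat_dvd_iff_le (show q + 1 ≠ 0 by omega)).mp (show 2 ^ 2 ∣ q + 1 by omega)
        have hke : Even k := by
          obtain ⟨l, hl⟩ := (pow_dvd_pow 2 ha2).trans hdn
          exact ⟨l, by omega⟩
        rw [hke.neg_pow] at hdk
        have hdk' : 2 ^ (padicValNat 2 (q + 1) + 1) ∣ n := by
          rw [hk, pow_succ']; exact Nat.mul_dvd_mul_left 2 (hord k hdk.symm)
        have := (padicValNat_dvd_iff_le (show n ≠ 0 by omega)).mp hdk'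
        omega
      obtain ⟨-, hall⟩ := exists_multiples H hg two_pos ⊤ (nd_top H) (fun _ _ => trivial) fun Z _ => hstep Z
      obtain ⟨l, hl⟩ := hm
      obtain ⟨W, -, c1, c2, c3⟩ := hall l (by rw [finrank_top, Module.finrank_fin_fun]; omega)
      refine ⟨W, by omega, c1, ?_⟩
      rintro _ ⟨v, hv, rfl⟩
      exact c2 v hv

/-- The criterion for odd primes dividing `q + 1`. -/
theorem all_nd_plus_one {r : ℕ} (hr : r.Prime) (hr2 : r ≠ 2) (hrq : r ∣ q + 1) (hn : 0 < n) (hmn : m ≤ n) :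
    AllNd F q n m r ↔ (r ∣ m ∨ padicValNat r n ≤ padicValNat r (q + 1)) := by
  haveI : Fact r.Prime := ⟨hr⟩
  have H := herm_std hσ n
  have hrq' : ¬ r ∣ q := fun h => hr.one_lt.ne' (Nat.dvd_one.mp ((Nat.dvd_add_right h).mp hrq))
  have hr0 : (r : F) ≠ 0 := (cast_ne hσ hr).mpr hrq'
  have hu : unit q r = 1 := by
    have e : -(q : ZMod r) = 1 := by
      have h1 := (ZMod.natCast_eq_zero_iff _ _).mpr hrq
      push_cast at h1
      linear_combination -h1
    rw [unit, e, orderOf_one]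
  constructor
  · intro Hall
    by_contra hc
    rw [not_or, not_le] at hc
    obtain ⟨hm, ha⟩ := hc
    obtain ⟨z, hz, hzo, hnr⟩ := exists_nonroot hσ hr hrq
    have hd : r ^ (padicValNat r (q + 1) + 1) ∣ n := (pow_dvd_pow r ha).trans pow_padicValNat_dvd
    obtain ⟨l, hl⟩ := hd
    have hirr := irreducible_sub hσ hr hr2 hrq hz hnr
    have hz0 : z ≠ 0 := left_ne_zero_of_mul_eq_one hz
    obtain ⟨g, hg, hgr, hns⟩ := exists_monomial hσ (r := r) (N := r ^ padicValNat r (q + 1) * l) hr.pos hz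
    have HM := herm_pi hσ (herm_std hσ r) (r ^ padicValNat r (q + 1) * l)
    have hM : finrank F (Fin (r ^ padicValNat r (q + 1) * l) → Fin r → F) = n := by
      rw [Module.finrank_pi_fintype, hl, pow_succ]; simp; ring
    obtain ⟨k, hk, hdet⟩ := irr_dim_det hr hr2 hz0 hr0 hirr hgr
    have hk' : k = r ^ padicValNat r (q + 1) * l := by
      refine Nat.eq_of_mul_eq_mul_left hr.pos ?_
      rw [← hk, hM, hl, pow_succ]; ring
    rw [hk', pow_mul, hzo, one_pow] at hdet
    obtain ⟨x, hx, hxz, hxs, hW⟩ := exists_witness hσ HM hM hg hdet hgr (hns hr.two_le (Nat.pos_of_ne_zero fun h0 => by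
      rw [pow_succ, mul_right_comm, h0, zero_mul] at hl; omega))
    obtain ⟨W, hd, hWn, hWi⟩ := Hall x hx hxz hxs
    obtain ⟨W₀, h1, h2', h3⟩ := hW W hWn hWi
    obtain ⟨j, hj, -⟩ := irr_dim_det hr hr2 hz0 hr0 hirr (g := g.restrict h2') (LinearMap.ext fun v => Subtype.ext (by
      rw [Free.restrict_pow h2', hgr]; rfl))
    exact hm ⟨j, by rw [← hd, ← h3, hj]⟩
  · intro hcond x hx ⟨z, hz⟩ _
    obtain ⟨g, hg, hgr, hdet, hzn, rfl⟩ := linear_facts hσ hn hx hz
    by_cases hroot : ∃ w : F, w * σ w = 1 ∧ w ^ r = z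
    · obtain ⟨w, hw, hwr⟩ := hroot
      obtain ⟨g', hg', hg'r, hinv⟩ := normalise hσ hg hgr hw hwr
      obtain ⟨W, h1, h2', h3⟩ := exists_nd_tame hσ H hg' hr hr2 hr0 hg'r (m := m)
        (by rwa [Module.finrank_fin_fun]) (by rw [hu, Nat.mod_one, Nat.mod_one])
      exact ⟨W, h3, h1, hinv W h2'⟩
    · push Not at hroot
      have hz0 : z ≠ 0 := left_ne_zero_of_mul_eq_one hzn
      have hirr := irreducible_sub hσ hr hr2 hrq hzn hroot
      obtain ⟨k, hk, hdk⟩ := irr_dim_det hr hr2 hz0 hr0 hirr hgr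
      rw [Module.finrank_fin_fun] at hk
      rcases root_or_order hσ hr hzn with ⟨w', e1, e2⟩ | hord
      · exact absurd e2 (hroot w' e1)
      have hrm : r ∣ m := hcond.resolve_right fun h1 => by
        have hdk' : r ^ (padicValNat r (q + 1) + 1) ∣ n := by
          rw [hk, pow_succ']; exact Nat.mul_dvd_mul_left r (hord k (hdk.symm.trans hdet))
        have := (padicValNat_dvd_iff_le (show n ≠ 0 by omega)).mp hdk'
        omega
      obtain ⟨W, h1, h2', h3⟩ := exists_nd_irr hσ H hg hr hr2 hz0 hr0 hirr hgr hrm (by rwa [Module.finrank_fin_fun])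
      refine ⟨W, h3, h1, ?_⟩
      rintro _ ⟨v, hv, rfl⟩
      exact h2' v hv

/-- The criterion for the other primes. -/
theorem all_nd_tame {r : ℕ} (hr : r.Prime) (hr2 : r ≠ 2) (hrq : ¬ r ∣ q) (hrq1 : ¬ r ∣ q + 1) (hn : 0 < n)
    (hmn : m ≤ n) (hdvd : r ∣ Nat.card {W : Submodule F (Fin n → F) // finrank F W = m ∧ ND (Cfsg.hermForm n F q) W}) :
    AllNd F q n m r ↔ (unit q r ≤ m ∧ m % unit q r ≤ n % unit q r) := by
  have H := herm_std hσ n
  have hr0 : (r : F) ≠ 0 := (cast_ne hσ hr).mpr hrq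
  have hupos : 0 < unit q r := by
    obtain ⟨hd, hcases⟩ := unit_cases hr hr2 hrq
    rcases hcases with ⟨h1, -⟩ | h1 <;> omega
  obtain ⟨j, hj1, hj2, hj3⟩ := prime_dvd_nd hσ hr hmn hdvd
  obtain ⟨w, hw⟩ := unit_dvd_of_dvd hr hrq hj3
  have hk : n % unit q r < m := by
    rw [show n = (n - j) + unit q r * w by omega, Nat.add_mul_mod_self_left]
    have := Nat.mod_le (n - j) (unit q r)
    omega
  have hcn : unit q r ≤ n := by
    have : unit q r * 1 ≤ unit q r * w := Nat.mul_le_mul_left _ (Nat.pos_of_ne_zero fun h0 => by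
      rw [h0, mul_zero] at hw; omega)
    omega
  constructor
  · intro Hall
    have hmod : m % unit q r ≤ n % unit q r := by
      by_contra hlt
      obtain ⟨x, hx, hxz, hxs, hW⟩ := exists_tame_model hσ hr hr2 hrq hrq1 (n := n) (N := n / unit q r)
        (k := n % unit q r) (Nat.div_add_mod n (unit q r)).symm (Nat.div_pos hcn hupos)
      obtain ⟨W, hd, hWn, hWi⟩ := Hall x hx hxz hxs
      obtain ⟨i, f, hif, hf⟩ := hW W hWn hWi
      rw [← hd, hif, Nat.mul_add_mod] at hlt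
      exact hlt ((Nat.mod_le f _).trans hf)
    refine ⟨?_, hmod⟩
    by_contra hlt
    rw [Nat.mod_eq_of_lt (not_le.mp hlt)] at hmod
    omega
  · rintro ⟨-, hmod⟩ x hx ⟨z, hz⟩ _
    obtain ⟨g, hg, hgr, -, hzn, rfl⟩ := linear_facts hσ hn hx hz
    obtain ⟨w, hw', hwr⟩ := exists_root hσ hr hrq1 hzn
    obtain ⟨g', hg', hg'r, hinv⟩ := normalise hσ hg hgr hw' hwr
    obtain ⟨W, h1, h2', h3⟩ := exists_nd_tame hσ H hg' hr hr2 hr0 hg'r (m := m)
      (by rwa [Module.finrank_fin_fun]) (by rw [Module.finrank_fin_fun]; exact hmod)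
    exact ⟨W, h3, h1, hinv W h2'⟩

end Cfsg.Agent.Classical.Elusive.HermEl
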