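import Cfsg.Agent.Lib.Classical.Elusive.Decomp
import Cfsg.Agent.Lib.Small.JordanType

/-!
# Invariant decompositions of elements of order equal to the characteristic
-/

set_option autoImplicit false

namespace Cfsg.Agent.Classical.Elusive

open Module
open Cfsg.Agent.Small.JordanType (IsChain parts exists_chain parts_eq_of_ranks exists_nilpotent sum_parts)

universe u v

variable {F : Type u} [Field F]

section

variable {V : Type v} [AddCommGroup V] [Module F V] [FiniteDimensional F V]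

theorem range_prodMap_pow {A B : Type*} [AddCommGroup A] [Module F A] [AddCommGroup B] [Module F B]
    (f : Module.End F A) (g : Module.End F B) (r : ℕ) :
    (f.prodMap g) ^ r = (f ^ r).prodMap (g ^ r) := by
  induction r with
  | zero => ext x <;> simp
  | succ r ih => rw [pow_succ, ih, pow_succ, pow_succ, LinearMap.prodMap_mul]

/-- The chains along an invariant decomposition. -/
theorem parts_add_chain {N : Module.End F V} {U W : Submodule F V} (h : IsCompl U W) (hU : U.map N ≤ U) (hW : W.map N ≤ W)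
    (hN : IsNilpotent N) {ι : Type*} [Fintype ι] {k : ι → ℕ} {b : Basis (Σ i, Fin (k i)) F V} (hb : IsChain N b) :
    ∃ (t : ℕ) (kU : Fin t → ℕ) (bU : Basis (Σ i, Fin (kU i)) F U) (ν' : Multiset ℕ),
      IsChain (N.restrict fun x hx => hU ⟨x, hx, rfl⟩) bU ∧ parts kU + ν' = parts k := by
  classical
  obtain ⟨c, hc⟩ := hN
  have hU' : ∀ x ∈ U, N x ∈ U := fun x hx => hU ⟨x, hx, rfl⟩
  have hW' : ∀ x ∈ W, N x ∈ W := fun x hx => hW ⟨x, hx, rfl⟩
  obtain ⟨e, he⟩ : ∃ e, e = Submodule.prodEquivOfIsCompl U W h := ⟨_, rfl⟩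
  have hcomm : ∀ z, N (e z) = e (((N.restrict hU').prodMap (N.restrict hW')) z) := by
    rintro ⟨a, b⟩
    subst he
    simp [Submodule.coe_prodEquivOfIsCompl']
  have hpow : ∀ (r : ℕ) z, (N ^ r) (e z) = e ((((N.restrict hU') ^ r).prodMap ((N.restrict hW') ^ r)) z) := by
    intro r z
    rw [← range_prodMap_pow]
    induction r generalizing z with
    | zero => simp
    | succ r ih => rw [pow_succ, Module.End.mul_apply, hcomm, ih, pow_succ, Module.End.mul_apply]
  have hnil : (N.restrict hU') ^ c = 0 ∧ (N.restrict hW') ^ c = 0 := by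
    refine ⟨LinearMap.ext fun x => ?_, LinearMap.ext fun x => ?_⟩
    · have h1 := hpow c (x, 0)
      rw [hc] at h1
      exact congrArg Prod.fst (e.map_eq_zero_iff.mp h1.symm)
    · have h1 := hpow c (0, x)
      rw [hc] at h1
      exact congrArg Prod.snd (e.map_eq_zero_iff.mp h1.symm)
  obtain ⟨t, kU, bU, hbU⟩ := exists_chain (N.restrict hU') ⟨c, hnil.1⟩
  obtain ⟨t', kW, bW, hbW⟩ := exists_chain (N.restrict hW') ⟨c, hnil.2⟩
  refine ⟨t, kU, bU, parts kW, hbU, ?_⟩
  have hsum : parts kU + parts kW = parts (Sum.elim kU kW) := by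
    unfold Cfsg.Agent.Small.JordanType.parts
    rw [← Finset.univ_disjSum_univ, Finset.val_disjSum, Multiset.disjSum, Multiset.map_add, Multiset.filter_add,
      Multiset.map_map, Multiset.map_map]
    rfl
  rw [hsum]
  refine parts_eq_of_ranks _ _ fun r => ?_
  rw [Fintype.sum_sum_type]
  simp only [Sum.elim_inl, Sum.elim_inr]
  rw [← hbU.finrank_range, ← hbW.finrank_range, ← hb.finrank_range, ← finrank_prod', ← LinearMap.range_prodMap,
    ← LinearEquiv.finrank_map_eq e]
  refine congrArg (fun S : Submodule F V => finrank F S) ?_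
  ext x
  constructor
  · rintro ⟨_, ⟨z, rfl⟩, rfl⟩; exact ⟨e z, hpow r z⟩
  · rintro ⟨y, rfl⟩
    obtain ⟨z, rfl⟩ := e.surjective y
    exact ⟨_, ⟨z, rfl⟩, (hpow r z).symm⟩

/-- The block sizes along an invariant decomposition. -/
theorem parts_add {N : Module.End F V} {U W : Submodule F V} (h : IsCompl U W) (hU : U.map N ≤ U) (hW : W.map N ≤ W)
    (hN : IsNilpotent N) {ι : Type*} [Fintype ι] {k : ι → ℕ} {b : Basis (Σ i, Fin (k i)) F V} (hb : IsChain N b) :
    ∃ ν ν' : Multiset ℕ, ν + ν' = parts k ∧ ν.sum = finrank F U := by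
  obtain ⟨t, kU, bU, ν', hbU, hsum⟩ := parts_add_chain h hU hW hN hb
  exact ⟨parts kU, ν', hsum, by rw [sum_parts, hbU.sum_eq]⟩

omit [FiniteDimensional F V] in
theorem exists_finset_of_le {ι : Type*} [DecidableEq ι] (k : ι → ℕ) :
    ∀ (ν : Multiset ℕ) (t : Finset ι), ν ≤ t.val.map k → ∃ s ⊆ t, ν = s.val.map k := by
  intro ν
  induction ν using Multiset.induction_on with
  | empty => exact fun t _ => ⟨∅, Finset.empty_subset t, by simp⟩
  | cons a ν ih =>
    intro t ht
    obtain ⟨i, hi, rfl⟩ := Multiset.mem_map.mp (Multiset.mem_of_le ht (Multiset.mem_cons_self a ν))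
    have hsplit : t.val.map k = k i ::ₘ (t.erase i).val.map k := by
      rw [← Multiset.map_cons, Finset.erase_val, Multiset.cons_erase hi]
    rw [hsplit, Multiset.cons_le_cons_iff] at ht
    obtain ⟨s, hs, rfl⟩ := ih _ ht
    have his : i ∉ s := fun h => (Finset.mem_erase.mp (hs h)).1 rfl
    refine ⟨insert i s, Finset.insert_subset hi (hs.trans (Finset.erase_subset _ _)), ?_⟩
    rw [Finset.insert_val_of_notMem his, Multiset.map_cons]

/-- A sub-multiset of block sizes gives an invariant decomposition. -/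
theorem exists_of_le_parts {N : Module.End F V} {ι : Type*} [Fintype ι] {k : ι → ℕ}
    {b : Basis (Σ i, Fin (k i)) F V} (hb : IsChain N b) {ν : Multiset ℕ} (hν : ν ≤ parts k) :
    ∃ U W : Submodule F V, IsCompl U W ∧ finrank F U = ν.sum ∧ U.map N ≤ U ∧ W.map N ≤ W := by
  classical
  obtain ⟨s, -, rfl⟩ := exists_finset_of_le k ν Finset.univ (hν.trans (Multiset.filter_le _ _))
  let S : Finset ι → Submodule F V := fun s => Submodule.span F (b '' {x | x.1 ∈ s})
  have hinv : ∀ s, (S s).map N ≤ S s := fun s => by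
    rw [Submodule.map_span_le]
    rintro _ ⟨x, hx, rfl⟩
    rw [hb]
    split_ifs with h
    · exact Submodule.subset_span ⟨⟨x.1, ⟨_, h⟩⟩, hx, rfl⟩
    · exact zero_mem _
  refine ⟨S s, S sᶜ, ⟨?_, codisjoint_iff.mpr ?_⟩, ?_, hinv _, hinv _⟩
  · exact b.linearIndependent.disjoint_span_image (Set.disjoint_left.mpr fun x h1 h2 => (Finset.mem_compl.mp h2) h1)
  · rw [← Submodule.span_union, ← Set.image_union,
      Set.eq_univ_of_forall (s := {x : Σ i, Fin (k i) | x.1 ∈ s} ∪ {x | x.1 ∈ sᶜ}) fun x => by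
        simp [Classical.em],
      Set.image_univ, b.span_eq]
  · show finrank F (Submodule.span F (b '' {x | x.1 ∈ s})) = _
    have hli : LinearIndependent F (fun x : Σ i : s, Fin (k i) => b ⟨x.1, x.2⟩) :=
      b.linearIndependent.comp _ (fun x y h => by
        obtain ⟨⟨i, hi⟩, a⟩ := x
        obtain ⟨⟨j, hj⟩, c⟩ := y
        obtain rfl : i = j := congrArg Sigma.fst h
        simpa using h)
    have hc := finrank_span_eq_card hli
    rw [Fintype.card_sigma] at hc
    refine Eq.trans ?_ (hc.trans (by simp only [Fintype.card_fin]; exact Finset.sum_coe_sort s k))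
    refine congrArg (fun S : Submodule F V => finrank F S) (congrArg _ ?_)
    ext v
    constructor
    · rintro ⟨⟨i, a⟩, hx, rfl⟩; exact ⟨⟨⟨i, hx⟩, a⟩, rfl⟩
    · rintro ⟨⟨⟨i, hi⟩, a⟩, rfl⟩; exact ⟨⟨i, a⟩, hi, rfl⟩

end

variable [Fintype F] {p : ℕ} [Fact p.Prime] [CharP F p] {n : ℕ}

theorem char_end (hn : n ≠ 0) : CharP (Module.End F (Fin n → F)) p := by
  haveI : Nonempty (Fin n) := ⟨⟨0, Nat.pos_of_ne_zero hn⟩⟩
  exact charP_of_injective_algebraMap (FaithfulSMul.algebraMap_injective F _) p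

/-- An element of order the characteristic, shifted to a nilpotent map. -/
theorem exists_nil_part (hn : n ≠ 0) (x : Matrix.SpecialLinearGroup (Fin n) F)
    (hx : ∃ c : F, ((x ^ p : Matrix.SpecialLinearGroup (Fin n) F) : Matrix (Fin n) (Fin n) F) = c • (1 : Matrix (Fin n) (Fin n) F)) :
    ∃ N : Module.End F (Fin n → F), N ^ p = 0 ∧
      ∀ U : Submodule F (Fin n → F), U.map N ≤ U → U.map (Matrix.toLin' (x : Matrix (Fin n) (Fin n) F)) ≤ U := by
  haveI := char_end (F := F) (p := p) hn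
  haveI : ExpChar F p := ExpChar.prime Fact.out
  obtain ⟨c, hc⟩ := hx
  obtain ⟨f, hf⟩ : ∃ f, f = Matrix.toLin' (x : Matrix (Fin n) (Fin n) F) := ⟨_, rfl⟩
  have hfp : f ^ p = c • 1 := by
    rw [hf, ← Matrix.toLin'_pow, ← Matrix.SpecialLinearGroup.coe_pow, hc, map_smul, Matrix.toLin'_one]
    rfl
  obtain ⟨l, hl⟩ := (Finite.injective_iff_bijective.mp (frobenius_inj F p)).2 c
  rw [frobenius_def] at hl
  have hl0 : l ≠ 0 := fun h => by
    haveI : Nonempty (Fin n) := ⟨⟨0, Nat.pos_of_ne_zero hn⟩⟩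
    rw [h, zero_pow (Fact.out : p.Prime).ne_zero] at hl
    have := congrArg Matrix.det hc
    rw [Matrix.SpecialLinearGroup.det_coe, ← hl, zero_smul, Matrix.det_zero] at this
    exact one_ne_zero this
  refine ⟨l⁻¹ • f - 1, ?_, fun U hU => ?_⟩
  · rw [sub_pow_char_of_commute p (Commute.one_right _), one_pow, _root_.smul_pow, hfp, smul_smul, inv_pow, hl,
      inv_mul_cancel₀ (hl ▸ pow_ne_zero _ hl0), one_smul, sub_self]
  · rw [← hf]
    rintro _ ⟨v, hv, rfl⟩
    have h1 := U.smul_mem l (U.add_mem (hU ⟨v, hv, rfl⟩) hv)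
    simpa [smul_smul, mul_inv_cancel₀ hl0] using h1

/-- A unipotent element with given block sizes. -/
theorem exists_unipotent (μ : Multiset ℕ) (hμ : ∀ a ∈ μ, 0 < a ∧ a ≤ p) (hsum : μ.sum = n) (hn : n ≠ 0) :
    ∃ (x : Matrix.SpecialLinearGroup (Fin n) F) (N : Module.End F (Fin n → F)) (t : ℕ) (k : Fin t → ℕ)
      (b : Basis (Σ i, Fin (k i)) F (Fin n → F)),
      IsChain N b ∧ parts k = μ ∧ IsNilpotent N ∧
      ((x ^ p : Matrix.SpecialLinearGroup (Fin n) F) : Matrix (Fin n) (Fin n) F) = (1 : F) • (1 : Matrix (Fin n) (Fin n) F) ∧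
      Matrix.toLin' (x : Matrix (Fin n) (Fin n) F) = 1 + N := by
  classical
  haveI := char_end (F := F) (p := p) hn
  haveI : ExpChar F p := ExpChar.prime Fact.out
  obtain ⟨t, k, hk⟩ : ∃ (t : ℕ) (k : Fin t → ℕ), (Finset.univ.val.map k) = μ :=
    ⟨μ.toList.length, fun i => μ.toList.get i, by rw [Fin.univ_val_map, List.ofFn_get, Multiset.coe_toList]⟩
  have hp : parts k = μ := by
    unfold Cfsg.Agent.Small.JordanType.parts
    rw [hk]
    exact Multiset.filter_eq_self.mpr fun a ha => (hμ a ha).1.ne'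
  obtain ⟨N, b, hN, hb⟩ := exists_nilpotent (F := F) (V := Fin n → F) k (by
    rw [← sum_parts, hp, hsum, Module.finrank_fin_fun])
  have hNp : N ^ p = 0 := (hb.pow_eq_zero_iff p).mpr fun i => (hμ (k i) (by rw [← hk]; simp)).2
  obtain ⟨A, hA⟩ := (Matrix.toLin' (R := F) (m := Fin n) (n := Fin n)).surjective (1 + N)
  have hAp : A ^ p = 1 := by
    apply Matrix.toLin'.injective
    rw [Matrix.toLin'_pow, hA, add_pow_char_of_commute p (Commute.one_left N), one_pow, hNp, add_zero,
      Matrix.toLin'_one]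
    rfl
  have hdet : A.det = 1 := frobenius_inj F p (by
    rw [frobenius_def, frobenius_def, one_pow, ← Matrix.det_pow, hAp, Matrix.det_one])
  obtain ⟨x, rfl⟩ : ∃ x : Matrix.SpecialLinearGroup (Fin n) F, x.1 = A := ⟨⟨A, hdet⟩, rfl⟩
  refine ⟨x, N, t, k, b, hb, hp, hN, ?_, hA⟩
  rw [Matrix.SpecialLinearGroup.coe_pow, one_smul]
  exact hAp

theorem card_hom_sub {V W : Type*} [AddCommGroup V] [Module F V] [Finite V] [AddCommGroup W] [Module F W] [Finite W]
    (Kr : Submodule F (V →ₗ[F] W)) : ∃ e, Nat.card Kr = Fintype.card F ^ e := by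
  haveI : Finite (V →ₗ[F] W) := DFunLike.finite _
  exact ⟨finrank F Kr, by rw [Module.natCard_eq_pow_finrank (K := F), Nat.card_eq_fintype_card]⟩

theorem card_complements (U : Submodule F (Fin n → F)) :
    ∃ e, Nat.card {W : Submodule F (Fin n → F) // IsCompl U W} = Fintype.card F ^ e := by
  classical
  let R : ((Fin n → F) →ₗ[F] U) →ₗ[F] (U →ₗ[F] U) := LinearMap.lcomp F U U.subtype
  obtain ⟨W0, hW0⟩ := exists_isCompl U
  obtain ⟨⟨f0, hf0⟩⟩ : Nonempty {f : (Fin n → F) →ₗ[F] U // ∀ x : U, f x = x} := ⟨U.isComplEquivProj ⟨W0, hW0⟩⟩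
  obtain ⟨Kr, hKr⟩ : ∃ Kr : Submodule F ((Fin n → F) →ₗ[F] U), ∀ h, h ∈ Kr ↔ ∀ x : U, h (x : Fin n → F) = 0 :=
    ⟨LinearMap.ker R, fun h => LinearMap.mem_ker.trans LinearMap.ext_iff⟩
  obtain ⟨e, he⟩ := card_hom_sub Kr
  refine ⟨e, ?_⟩
  rw [Nat.card_congr U.isComplEquivProj, Nat.card_congr (β := Kr)
    { toFun := fun f => ⟨f.1 - f0, (hKr _).mpr fun x => by
        show f.1 x - f0 x = 0
        rw [f.2, hf0, sub_self]⟩
      invFun := fun h => ⟨h.1 + f0, fun x => by
        have h1 : h.1 (x : Fin n → F) = 0 := (hKr _).mp h.2 x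
        rw [LinearMap.add_apply, h1, hf0, zero_add]⟩
      left_inv := fun f => Subtype.ext (sub_add_cancel f.1 f0)
      right_inv := fun h => Subtype.ext (add_sub_cancel_right h.1 f0) }]
  exact he

omit [Fintype F] in
/-- A map with a block of size at least two is not scalar. -/
theorem not_scalar_of_chain {x : Matrix.SpecialLinearGroup (Fin n) F} {N : Module.End F (Fin n → F)} {ι : Type*}
    {k : ι → ℕ} {b : Basis (Σ i, Fin (k i)) F (Fin n → F)} (hb : IsChain N b)
    (hxN : Matrix.toLin' (x : Matrix (Fin n) (Fin n) F) = 1 + N) {i : ι} (hki : 2 ≤ k i) (z : F) :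
    (x : Matrix (Fin n) (Fin n) F) ≠ z • (1 : Matrix (Fin n) (Fin n) F) := fun hz => by
  have h2 := hb ⟨i, ⟨0, by omega⟩⟩
  rw [dif_pos (show (0 : ℕ) + 1 < k i by omega)] at h2
  have h3 : N = (z - 1) • 1 := by
    have h4 : Matrix.toLin' (x : Matrix (Fin n) (Fin n) F) = z • 1 := by
      rw [hz, map_smul, Matrix.toLin'_one]; rfl
    rw [hxN] at h4
    rw [eq_sub_of_add_eq' h4]
    exact LinearMap.ext fun v => funext fun l => by simp [sub_mul]
  rw [h3, LinearMap.smul_apply, Module.End.one_apply] at h2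
  have h5 := congrArg (fun v => b.repr v ⟨i, ⟨0 + 1, by omega⟩⟩) h2
  simp [Finsupp.single_apply] at h5

end Cfsg.Agent.Classical.Elusive
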