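import Cfsg.Agent.Lib.Classical.Elusive.HermTame
import Cfsg.Agent.Lib.Classical.Elusive.Unipotent

/-!
# Hermitian isometries with scalar prime power, and unipotent isometries
-/

set_option autoImplicit false
set_option linter.unusedSectionVars false
set_option linter.style.haveILetI false
set_option maxHeartbeats 400000

universe u

namespace Cfsg.Agent.Classical.Elusive.HermEl

open Module Polynomial

variable {F : Type u} [Field F] [Fintype F] {σ : F ≃+* F} {q : ℕ} (hσ : IsUSigma q σ)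

include hσ

theorem norm_one_pow {z : F} : z * σ z = 1 ↔ z ^ (q + 1) = 1 := by rw [hσ.apply_eq, pow_succ']

/-- Roots of norm one scalars, for exponents prime to `q + 1`. -/
theorem exists_root {r : ℕ} (hr : r.Prime) (hrq : ¬ r ∣ q + 1) {z : F} (hz : z * σ z = 1) :
    ∃ w : F, w * σ w = 1 ∧ w ^ r = z := by
  have hq := hσ.two_le
  obtain ⟨k, -, hk⟩ := Nat.exists_mul_mod_eq_one_of_coprime (hr.coprime_iff_not_dvd.mpr hrq) (show 1 < q + 1 by omega)
  rw [norm_one_pow hσ] at hz
  refine ⟨z ^ k, (norm_one_pow hσ).mpr (by rw [← pow_mul, mul_comm, pow_mul, hz, one_pow]), ?_⟩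
  rw [← pow_mul, mul_comm k r]
  conv_lhs => rw [← Nat.mod_add_div (r * k) (q + 1), hk, pow_add, pow_one, pow_mul, hz, one_pow, mul_one]

/-- A norm one scalar is a power, or its order has the full part. -/
theorem root_or_order {r : ℕ} (hr : r.Prime) {z : F} (hz : z * σ z = 1) :
    (∃ w : F, w * σ w = 1 ∧ w ^ r = z) ∨ ∀ N : ℕ, z ^ N = 1 → r ^ padicValNat r (q + 1) ∣ N := by
  haveI : Fact r.Prime := ⟨hr⟩
  obtain ⟨g, hg, hord⟩ := hσ.exists_gen
  have hq := hσ.two_le
  have hz0 : z ≠ 0 := left_ne_zero_of_mul_eq_one hz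
  obtain ⟨a, ha⟩ := hg (Units.mk0 z hz0)
  have hfac : q ^ 2 - 1 = (q + 1) * (q - 1) := by rw [← Nat.sq_sub_sq, one_pow]
  have hdvd : q - 1 ∣ a := by
    have h1 : g ^ (a * (q + 1)) = 1 := by
      rw [pow_mul, ← ha]
      exact Units.ext ((norm_one_pow hσ).mp hz)
    rw [← orderOf_dvd_iff_pow_eq_one, hord, hfac, mul_comm a] at h1
    exact Nat.dvd_of_mul_dvd_mul_left (by omega) h1
  obtain ⟨k, rfl⟩ := hdvd
  set ζ : F := ((g ^ (q - 1) : Fˣ) : F) with hζ
  have hzk : z = ζ ^ k := by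
    rw [hζ, ← Units.val_pow_eq_pow_val, ← pow_mul, ← ha, Units.val_mk0]
  have hζN : ∀ N : ℕ, ζ ^ N = 1 ↔ q + 1 ∣ N := by
    intro N
    rw [hζ, ← Units.val_pow_eq_pow_val, Units.val_eq_one, ← pow_mul, ← orderOf_dvd_iff_pow_eq_one, hord, hfac,
      mul_comm (q + 1)]
    exact Nat.mul_dvd_mul_iff_left (by omega)
  by_cases hk : r ∣ k
  · obtain ⟨l, rfl⟩ := hk
    refine Or.inl ⟨ζ ^ l, (norm_one_pow hσ).mpr ?_, by rw [hzk, ← pow_mul, mul_comm]⟩
    rw [← pow_mul, hζN]
    exact dvd_mul_left _ _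
  · refine Or.inr fun N hN => ?_
    rw [hzk, ← pow_mul, hζN] at hN
    exact ((hr.coprime_iff_not_dvd.mpr hk).pow_left _).dvd_of_dvd_mul_left
      ((pow_padicValNat_dvd (p := r)).trans hN)

/-- A norm one scalar of full prime power order is not a power. -/
theorem exists_nonroot {r : ℕ} (hr : r.Prime) (hrq : r ∣ q + 1) :
    ∃ z : F, z * σ z = 1 ∧ z ^ r ^ padicValNat r (q + 1) = 1 ∧ ∀ w : F, w * σ w = 1 → w ^ r ≠ z := by
  haveI : Fact r.Prime := ⟨hr⟩
  obtain ⟨g, -, hord⟩ := hσ.exists_gen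
  have hfac : q ^ 2 - 1 = (q + 1) * (q - 1) := by rw [← Nat.sq_sub_sq, one_pow]
  have hq := hσ.two_le
  obtain ⟨a, ha⟩ : ∃ a, padicValNat r (q + 1) = a + 1 :=
    ⟨padicValNat r (q + 1) - 1, (Nat.sub_add_cancel (one_le_padicValNat_of_dvd (by omega) hrq)).symm⟩
  obtain ⟨M, hM⟩ : r ^ (a + 1) ∣ q + 1 := ha ▸ pow_padicValNat_dvd
  have hord' : ∀ N : ℕ, ((g ^ (M * (q - 1)) : Fˣ) : F) ^ N = 1 ↔ r ^ (a + 1) ∣ N := fun N => by
    rw [← Units.val_pow_eq_pow_val, Units.val_eq_one, ← pow_mul, ← orderOf_dvd_iff_pow_eq_one, hord, hfac, hM,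
      mul_assoc, mul_comm (M * (q - 1)) N]
    refine Nat.mul_dvd_mul_iff_right (Nat.mul_pos (Nat.pos_of_ne_zero fun h0 => ?_) (by omega))
    rw [h0, mul_zero] at hM
    omega
  refine ⟨((g ^ (M * (q - 1)) : Fˣ) : F), (norm_one_pow hσ).mpr ((hord' _).mpr (hM ▸ dvd_mul_right _ _)),
    ha ▸ (hord' _).mpr dvd_rfl, fun w hw he => ?_⟩
  obtain ⟨M', hM'⟩ := hrq
  have h1 : w ^ (r * M') = 1 := by rw [← hM']; exact (norm_one_pow hσ).mp hw
  rw [pow_mul, he, hord'] at h1
  obtain ⟨K, hK⟩ := h1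
  refine pow_succ_padicValNat_not_dvd (p := r) (show q + 1 ≠ 0 by omega) ⟨K, ?_⟩
  rw [ha, hM', hK]
  ring

variable {V : Type u} [AddCommGroup V] [Module F V] [FiniteDimensional F V] {h : V → V → F} {g : End F V}

/-- When `zσz = 1` and `z` is no power of a norm one scalar, `X ^ r - z` is irreducible. -/
theorem irreducible_sub {r : ℕ} (hr : r.Prime) (hr2 : r ≠ 2) (hrq : r ∣ q + 1) {z : F} (hz : z * σ z = 1)
    (hnr : ∀ w : F, w * σ w = 1 → w ^ r ≠ z) : Irreducible (X ^ r - C z) := by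
  refine X_pow_sub_C_irreducible_of_prime hr fun w hw => hnr w ?_ hw
  have hw0 : w ≠ 0 := fun h0 => left_ne_zero_of_mul_eq_one hz (by rw [← hw, h0, zero_pow hr.ne_zero])
  have ht : (w * σ w) ^ r = 1 := by rw [mul_pow, ← map_pow, hw, hz]
  have hq := hσ.two_le
  have hfix : (w * σ w) ^ (q - 1) = 1 := by
    refine mul_right_cancel₀ (mul_ne_zero hw0 ((map_ne_zero σ).mpr hw0)) ?_
    rw [one_mul, ← pow_succ, show q - 1 + 1 = q by omega, ← hσ.apply_eq, map_mul, hσ.involutive, mul_comm]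
  have hg : (w * σ w) ^ Nat.gcd r (q - 1) = 1 := pow_gcd_eq_one.mpr ⟨ht, hfix⟩
  rwa [(hr.coprime_iff_not_dvd.mpr fun hd => hr2 ((Nat.prime_dvd_prime_iff_eq hr Nat.prime_two).mp
    (by have := Nat.dvd_sub hrq hd; rwa [show q + 1 - (q - 1) = 2 by omega] at this))).gcd_eq_one, pow_one] at hg

omit hσ in
/-- The dimension and determinant when the minimal polynomial is `X ^ r - z`. -/
theorem irr_dim_det {r : ℕ} (hr : r.Prime) (hr2 : r ≠ 2) {z : F} (hz0 : z ≠ 0) (hr0 : (r : F) ≠ 0)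
    (hirr : Irreducible (X ^ r - C z)) (hgr : g ^ r = z • 1) :
    ∃ k, finrank F V = r * k ∧ LinearMap.det g = z ^ k := by
  classical
  obtain ⟨k, qs, ⟨Bl⟩, hch, hqs⟩ := Elusive.exists_blocks (finrank F V) g le_rfl
    (Elusive.isSemisimple_of_pow hr0 hz0 hgr) (X ^ r - C z)
    (by rw [map_sub, map_pow, aeval_X, aeval_C, hgr, Algebra.algebraMap_eq_smul_one, sub_self])
  have hq : ∀ j, qs j = X ^ r - C z := fun j => eq_of_monic_of_associated (hqs j).2.1 (monic_X_pow_sub_C z hr.ne_zero)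
    ((hqs j).1.associated_of_dvd hirr (hqs j).2.2)
  have hk : finrank F V = r * k := by
    rw [← Bl.sum_eq, Finset.sum_congr rfl fun j _ => by rw [hq j, natDegree_X_pow_sub_C]]
    simp [mul_comm]
  refine ⟨k, hk, ?_⟩
  rw [LinearMap.det_eq_sign_charpoly_coeff, hch, coeff_zero_prod, Finset.prod_congr rfl fun j _ => by rw [hq j],
    Finset.prod_const, Finset.card_univ, Fintype.card_fin, hk, pow_mul, (hr.odd_of_ne_two hr2).neg_one_pow,
    ← mul_pow]
  simp [coeff_C, hr.ne_zero, hr.ne_zero.symm]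

/-- Nondegenerate invariant subspaces when the minimal polynomial is `X ^ r - z`. -/
theorem exists_nd_irr (H : UCount.IsHermND σ h) (hg : ∀ u v, h (g u) (g v) = h u v) {r : ℕ} (hr : r.Prime)
    (hr2 : r ≠ 2) {z : F} (hz0 : z ≠ 0) (hr0 : (r : F) ≠ 0) (hirr : Irreducible (X ^ r - C z))
    (hgr : g ^ r = z • 1) {m : ℕ} (hrm : r ∣ m) (hm : m ≤ finrank F V) :
    ∃ W : Submodule F V, ND h W ∧ (∀ x ∈ W, g x ∈ W) ∧ finrank F W = m := by
  have hdiv : ∀ U : Submodule F V, ∀ hU : ∀ x ∈ U, g x ∈ U, r ∣ finrank F U := by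
    intro U hU
    obtain ⟨k, hk, -⟩ := irr_dim_det hr hr2 hz0 hr0 hirr (g := g.restrict hU) (LinearMap.ext fun x => Subtype.ext (by
      rw [Free.restrict_pow hU, hgr]; rfl))
    exact ⟨k, hk⟩
  obtain ⟨j, rfl⟩ := hrm
  obtain ⟨-, hall⟩ := exists_multiples H hg hr.pos ⊤ (nd_top H) (fun _ _ => trivial) fun Z _ hZ hZi hne => by
    obtain ⟨v, hv, hvv⟩ := exists_anisotropic_in hσ H hZ hne
    let ev : F[X] →ₗ[F] V := (LinearMap.applyₗ v).comp (aeval g).toLinearMap
    have hfm : (X ^ r - C z).Monic := monic_X_pow_sub_C z hr.ne_zero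
    have hrange : LinearMap.range ev = (Polynomial.degreeLT F r).map ev := by
      refine le_antisymm ?_ (LinearMap.map_le_range)
      rintro _ ⟨P, rfl⟩
      refine ⟨P %ₘ (X ^ r - C z), Polynomial.mem_degreeLT.mpr ?_, ?_⟩
      · refine (degree_modByMonic_lt P hfm).trans_eq ?_
        rw [degree_X_pow_sub_C hr.pos]
      · show aeval g (P %ₘ (X ^ r - C z)) v = aeval g P v
        conv_rhs => rw [← modByMonic_add_div P (X ^ r - C z), map_add, map_mul, LinearMap.add_apply,
          Module.End.mul_apply, map_sub, map_pow, aeval_X, aeval_C, hgr, Algebra.algebraMap_eq_smul_one, sub_self,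
          LinearMap.zero_apply, add_zero]
    have hUinv : ∀ x ∈ LinearMap.range ev, g x ∈ LinearMap.range ev := by
      rintro _ ⟨P, rfl⟩
      refine ⟨X * P, ?_⟩
      show aeval g (X * P) v = g (aeval g P v)
      rw [map_mul, aeval_X, Module.End.mul_apply]
    have hvU : v ∈ LinearMap.range ev := ⟨1, by show aeval g (1 : F[X]) v = v; rw [map_one]; rfl⟩
    have hUd : finrank F (LinearMap.range ev) = r := by
      have h1 : finrank F (LinearMap.range ev) ≤ r := by
        rw [hrange]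
        haveI : Module.Finite F (Polynomial.degreeLT F r) := Module.Finite.equiv (Polynomial.degreeLTEquiv F _).symm
        refine (Submodule.finrank_map_le _ _).trans ?_
        rw [(Polynomial.degreeLTEquiv F _).finrank_eq, Module.finrank_fin_fun]
      refine le_antisymm h1 (Nat.le_of_dvd ?_ (hdiv _ hUinv))
      refine Nat.pos_of_ne_zero fun h0 => hvv ?_
      rw [Submodule.finrank_eq_zero] at h0
      rw [show v = 0 from (Submodule.mem_bot F).mp (h0.le hvU), H.zero_left]
    refine ⟨_, ?_, fun x hx h0 => ?_, hUinv, hUd⟩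
    · rintro _ ⟨P, rfl⟩
      show aeval g P v ∈ Z
      induction P using Polynomial.induction_on' with
      | add a c ha hc => rw [map_add, LinearMap.add_apply]; exact Z.add_mem ha hc
      | monomial k a =>
        rw [aeval_monomial, Module.End.mul_apply, Module.algebraMap_end_apply, ← Free.restrict_pow hZi k ⟨v, hv⟩]
        exact Z.smul_mem _ (Subtype.coe_prop _)
    · by_contra hx0
      have hinv : ∀ y ∈ LinearMap.range ev ⊓ orth H (LinearMap.range ev), g y ∈ LinearMap.range ev ⊓ orth H (LinearMap.range ev) :=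
        fun y hy => ⟨hUinv y hy.1, orth_inv H hg hUinv y hy.2⟩
      have hfull : LinearMap.range ev ⊓ orth H (LinearMap.range ev) = LinearMap.range ev := by
        refine Submodule.eq_of_le_of_finrank_le inf_le_left (hUd.trans_le (Nat.le_of_dvd ?_ (hdiv _ hinv)))
        refine Nat.pos_of_ne_zero fun e => hx0 ?_
        rw [Submodule.finrank_eq_zero] at e
        exact (Submodule.mem_bot F).mp (e.le ⟨hx, h0⟩)
      exact hvv ((hfull.ge hvU).2 v hvU)
  obtain ⟨W, -, h1, h2, h3⟩ := hall j (by rwa [finrank_top])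
  exact ⟨W, h1, h2, h3⟩

/-! ### Square roots of scalars, odd characteristic -/

omit hσ in
theorem skew_facts (H : UCount.IsHermND σ h) (hg : ∀ u v, h (g u) (g v) = h u v) (h2 : (2 : F) ≠ 0) {w : F}
    (hw : w * σ w = -1) (hgg : ∀ v, g (g v) = (w * w) • v) :
    ∃ k, finrank F V = 2 * k ∧ LinearMap.det g = (-(w * w)) ^ k ∧
      ∀ Z : Submodule F V, ND h Z → (∀ x ∈ Z, g x ∈ Z) → Z ≠ ⊥ →
        ∃ P ≤ Z, ND h P ∧ (∀ x ∈ P, g x ∈ P) ∧ finrank F P = 2 := by
  have hw0 : w ≠ 0 := fun h0 => by simp [h0] at hw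
  let A : Submodule F V := LinearMap.ker (g - w • 1)
  let B : Submodule F V := LinearMap.ker (g + w • 1)
  have hA : ∀ {x}, x ∈ A ↔ g x = w • x := fun {x} => by
    simp [A, LinearMap.mem_ker, sub_eq_zero]
  have hB : ∀ {x}, x ∈ B ↔ g x = -(w • x) := fun {x} => by
    simp [B, LinearMap.mem_ker, add_eq_zero_iff_eq_neg]
  have htsA : TI h A := fun x hx y hy => by
    have := hg x y
    rw [hA.mp hx, hA.mp hy, H.smul_left, H.smul_right, ← mul_assoc, hw] at this
    exact (mul_eq_zero.mp (show (2 : F) * h x y = 0 by linear_combination -this)).resolve_left h2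
  have htsB : TI h B := fun x hx y hy => by
    have := hg x y
    rw [hB.mp hx, hB.mp hy, ← neg_smul, ← neg_smul, H.smul_left, H.smul_right, map_neg, ← mul_assoc, neg_mul_neg, hw] at this
    exact (mul_eq_zero.mp (show (2 : F) * h x y = 0 by linear_combination -this)).resolve_left h2
  have hsplit : ∀ x, (2 * w)⁻¹ • (w • x + g x) ∈ A ∧ (2 * w)⁻¹ • (w • x - g x) ∈ B ∧
      (2 * w)⁻¹ • (w • x + g x) + (2 * w)⁻¹ • (w • x - g x) = x := by
    intro x
    refine ⟨hA.mpr ?_, hB.mpr ?_, ?_⟩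
    · rw [map_smul, map_add, map_smul, hgg]; module
    · rw [map_smul, map_sub, map_smul, hgg]; module
    · rw [← smul_add, show w • x + g x + (w • x - g x) = (2 * w) • x by module, smul_smul,
        inv_mul_cancel₀ (mul_ne_zero h2 hw0), one_smul]
  have hc : IsCompl A B := by
    refine ⟨disjoint_iff.mpr (eq_bot_iff.mpr fun x hx => (Submodule.mem_bot F).mpr ?_),
      codisjoint_iff.mpr (eq_top_iff.mpr fun x _ => ?_)⟩
    · have e : w • x = -(w • x) := (hA.mp hx.1).symm.trans (hB.mp hx.2)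
      have e2 : ((2 : F) * w) • x = 0 := by
        rw [mul_smul, two_smul]; nth_rewrite 2 [e]; exact add_neg_cancel _
      exact (smul_eq_zero.mp e2).resolve_left (mul_ne_zero h2 hw0)
    · obtain ⟨a, b, c⟩ := hsplit x
      exact c ▸ Submodule.add_mem_sup a b
  have hsum := Submodule.finrank_add_eq_of_isCompl hc
  have hle : ∀ S : Submodule F V, TI h S → 2 * finrank F S ≤ finrank F V := fun S hS => by
    have h1 := Submodule.finrank_mono (show S ≤ orth H S from fun x hx y hy => hS x hx y hy)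
    have h2 := finrank_orth H S
    omega
  have hA2 := hle A htsA
  have hB2 := hle B htsB
  have hAi : A ∈ g.invtSubmodule := fun x hx => by
    show g x ∈ A
    rw [hA.mp hx]; exact A.smul_mem w hx
  have hBi : B ∈ g.invtSubmodule := fun x hx => by
    show g x ∈ B
    rw [hB.mp hx]; exact B.neg_mem (B.smul_mem w hx)
  refine ⟨finrank F A, by omega, ?_, fun Z hZ hZi hne => ?_⟩
  · have e : g = (Submodule.prodEquivOfIsCompl A B hc).conj ((w • (1 : End F A)).prodMap ((-w) • (1 : End F B))) := by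
      ext x
      obtain ⟨⟨a, b⟩, rfl⟩ := (Submodule.prodEquivOfIsCompl A B hc).surjective x
      rw [LinearEquiv.conj_apply_apply, LinearEquiv.symm_apply_apply]
      simp [Submodule.coe_prodEquivOfIsCompl', hA.mp a.2, hB.mp b.2]
    rw [e, LinearEquiv.conj_apply, LinearMap.comp_assoc, LinearMap.det_conj, LinearMap.det_prodMap, LinearMap.det_smul, LinearMap.det_smul, map_one, map_one,
      mul_one, mul_one, show finrank F B = finrank F A by omega, ← mul_pow, mul_neg]
  · obtain ⟨y, hy, hy0⟩ := Z.exists_mem_ne_zero_of_ne_bot hne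
    obtain ⟨e, he, he0, s, hs, hge⟩ : ∃ e ∈ Z, e ≠ 0 ∧ ∃ s : F, (s = w ∨ s = -w) ∧ g e = s • e := by
      by_cases hp : (2 * w)⁻¹ • (w • y + g y) = 0
      · obtain ⟨-, hb, hab⟩ := hsplit y
        rw [hp, zero_add] at hab
        rw [hab] at hb
        exact ⟨y, hy, hy0, -w, Or.inr rfl, by rw [hB.mp hb, neg_smul]⟩
      · exact ⟨_, Z.smul_mem _ (Z.add_mem (Z.smul_mem w hy) (hZi y hy)), hp, w, Or.inl rfl, hA.mp (hsplit y).1⟩
    obtain ⟨v, hv, hev⟩ : ∃ v ∈ Z, h e v ≠ 0 := by
      by_contra hcon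
      push Not at hcon
      exact he0 (hZ e he hcon)
    have hee : h e e = 0 := by
      rcases hs with rfl | rfl
      · exact htsA e (hA.mpr hge) e (hA.mpr hge)
      · exact htsB e (hB.mpr (by rw [hge, neg_smul])) e (hB.mpr (by rw [hge, neg_smul]))
    obtain ⟨f, hf, hgf, hef, hff⟩ : ∃ f ∈ Z, g f = (-s) • f ∧ h e f ≠ 0 ∧ h f f = 0 := by
      have ha : (2 * w)⁻¹ • (w • v + g v) ∈ Z := Z.smul_mem _ (Z.add_mem (Z.smul_mem w hv) (hZi v hv))
      have hb : (2 * w)⁻¹ • (w • v - g v) ∈ Z := Z.smul_mem _ (Z.sub_mem (Z.smul_mem w hv) (hZi v hv))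
      obtain ⟨h1, h2', h3⟩ := hsplit v
      rw [← h3, H.add_right] at hev
      rcases hs with rfl | rfl
      · rw [htsA e (hA.mpr hge) _ h1, zero_add] at hev
        exact ⟨_, hb, by rw [hB.mp h2', neg_smul], hev, htsB _ h2' _ h2'⟩
      · rw [htsB e (hB.mpr (by rw [hge, neg_smul])) _ h2', add_zero] at hev
        exact ⟨_, ha, by rw [hA.mp h1, neg_neg], hev, htsA _ h1 _ h1⟩
    let T : (F × F) →ₗ[F] V :=
      (LinearMap.id (R := F) (M := F)).smulRight e |>.coprod ((LinearMap.id (R := F) (M := F)).smulRight f)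
    have hTa : ∀ c : F × F, T c = c.1 • e + c.2 • f := fun c => rfl
    have hT : ∀ c, (∀ c', h (T c) (T c') = 0) → c = 0 := by
      intro c hc
      have e1 := hc (0, 1)
      have e2 := hc (1, 0)
      rw [hTa, hTa] at e1 e2
      simp [H.add_left, H.smul_left, hee, hff] at e1 e2
      exact Prod.ext (e1.resolve_right hef) (e2.resolve_right fun h0 => hef (zero_swap H h0))
    refine ⟨LinearMap.range T, ?_, ?_, ?_, ?_⟩
    · rintro _ ⟨c, rfl⟩
      rw [hTa]
      exact Z.add_mem (Z.smul_mem _ he) (Z.smul_mem _ hf)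
    · rintro _ ⟨c, rfl⟩ h0
      rw [hT c fun c' => h0 _ ⟨c', rfl⟩, map_zero]
    · rintro _ ⟨c, rfl⟩
      exact ⟨(c.1 * s, c.2 * -s), by rw [hTa, hTa, map_add, map_smul, map_smul, hge, hgf, smul_smul, smul_smul]⟩
    · rw [LinearMap.finrank_range_of_inj ((injective_iff_map_eq_zero T).mpr fun c hc => hT c fun c' => by
        rw [hc, H.zero_left])]
      simp

/-! ### Unipotent isometries -/

/-- A nondegenerate chain of maximal length. -/
theorem step_unipotent (H : UCount.IsHermND σ h) (hg : ∀ u v, h (g u) (g v) = h u v) {g' : End F V}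
    (hg' : g * g' = 1) {n : ℕ} (hN : (g - 1) ^ n = 0) (Y : Submodule F V) (hY : ND h Y)
    (hYi : ∀ x ∈ Y, g x ∈ Y) (hne : Y ≠ ⊥) :
    ∃ P ≤ Y, ND h P ∧ (∀ x ∈ P, g x ∈ P) ∧ (1 ≤ finrank F P ∧ finrank F P ≤ n) := by
  classical
  obtain ⟨N, hNdef⟩ : ∃ N : Module.End F V, N = g - 1 := ⟨_, rfl⟩
  rw [← hNdef] at hN
  have hgN : ∀ x, g x = x + N x := fun x => by rw [hNdef]; simp
  have hYN : ∀ x ∈ Y, N x ∈ Y := fun x hx => by rw [hNdef]; simpa using Y.sub_mem (hYi x hx) hx
  have hYNk : ∀ (k : ℕ), ∀ x ∈ Y, (N ^ k) x ∈ Y := by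
    intro k
    induction k with
    | zero => exact fun x hx => hx
    | succ k ih => intro x hx; rw [pow_succ, Module.End.mul_apply]; exact ih _ (hYN x hx)
  have hex : ∃ k, ∀ x ∈ Y, (N ^ k) x = 0 := ⟨n, fun x _ => by rw [hN]; rfl⟩
  obtain ⟨k, hk⟩ : ∃ k, k = Nat.find hex := ⟨_, rfl⟩
  have hk0 : ∀ x ∈ Y, (N ^ k) x = 0 := hk ▸ Nat.find_spec hex
  have hkn : k ≤ n := hk ▸ Nat.find_le fun x _ => by rw [hN]; rfl
  have hk1 : 1 ≤ k := by
    refine Nat.pos_of_ne_zero fun h0 => ?_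
    obtain ⟨y, hy, hy0⟩ := Y.exists_mem_ne_zero_of_ne_bot hne
    have := hk0 y hy
    rw [h0, pow_zero] at this
    exact hy0 this
  obtain ⟨z, hz, hz0⟩ : ∃ z ∈ Y, (N ^ (k - 1)) z ≠ 0 := by
    have hnot := Nat.find_min hex (m := k - 1) (by omega)
    push Not at hnot
    exact hnot
  have hg'g : g' * g = 1 := LinearMap.ext fun x => isometry_injective H hg (by
    rw [Module.End.mul_apply, ← Module.End.mul_apply g g', hg']; rfl)
  have hcomm : ∀ (j : ℕ) x, (N ^ j) (g' x) = g' ((N ^ j) x) := by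
    have hc : Commute N g' := by
      show N * g' = g' * N
      rw [hNdef, sub_mul, mul_sub, hg', hg'g, one_mul, mul_one]
    exact fun j x => LinearMap.congr_fun (hc.pow_left j).eq x
  have hYg' : ∀ x ∈ Y, g' x ∈ Y := fun x hx => by
    obtain ⟨w, hw, rfl⟩ := isometry_preimage H hg hYi hx
    rw [← Module.End.mul_apply, hg'g]
    exact hw
  have hadj : ∀ u v, h (N u) v = -h u (N (g' v)) := fun u v => by
    have e : h (g u) v = h u (g' v) := by
      conv_lhs => rw [show v = g (g' v) by rw [← Module.End.mul_apply, hg']; rfl]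
      rw [hg]
    have e2 : N (g' v) = v - g' v := by
      rw [hNdef, LinearMap.sub_apply, ← Module.End.mul_apply, hg']; rfl
    rw [e2, H.sub_right, hNdef, LinearMap.sub_apply, H.sub_left, e, Module.End.one_apply]
    ring
  have hzero : ∀ a b, k ≤ a + b → ∀ u v, v ∈ Y → h ((N ^ a) u) ((N ^ b) v) = 0 := by
    intro a
    induction a with
    | zero =>
      intro b hb u v hv
      rw [show b = (b - k) + k by omega, pow_add, Module.End.mul_apply, hk0 v hv, map_zero, H.zero_right]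
    | succ a ih =>
      intro b hb u v hv
      rw [pow_succ', Module.End.mul_apply, hadj, ← hcomm, ← Module.End.mul_apply, ← pow_succ',
        ih (b + 1) (by omega) u (g' v) (hYg' v hv), neg_zero]
  have hmain : ∀ a b, a + b + 1 = k → ∀ u v, v ∈ Y →
      h ((N ^ a) u) ((N ^ b) v) = (-1) ^ a * h u ((N ^ (k - 1)) v) := by
    intro a
    induction a with
    | zero => intro b hb u v _; rw [show b = k - 1 by omega, pow_zero, pow_zero, one_mul]; rfl
    | succ a ih =>
      intro b hb u v hv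
      have e1 : g' v = v - N (g' v) := by
        rw [hNdef, LinearMap.sub_apply, ← Module.End.mul_apply, hg']; simp
      have e2 : h ((N ^ a) u) ((N ^ (b + 1)) (g' v)) = h ((N ^ a) u) ((N ^ (b + 1)) v) := by
        conv_lhs => rw [e1]
        rw [map_sub, H.sub_right, ← Module.End.mul_apply, ← pow_succ, hzero a (b + 1 + 1) (by omega) u _ (hYg' v hv),
          sub_zero]
      rw [pow_succ', Module.End.mul_apply, hadj, ← hcomm, ← Module.End.mul_apply, ← pow_succ', e2,
        ih (b + 1) (by omega) u v hv, pow_succ]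
      ring
  have hswap : ∀ u v, v ∈ Y → h v ((N ^ (k - 1)) u) = (-1) ^ (k - 1) * σ (h u ((N ^ (k - 1)) v)) := by
    intro u v hv
    have h1 := congrArg σ (hmain (k - 1) 0 (by omega) u v hv)
    rw [pow_zero, Module.End.one_apply, H.symm, map_mul, map_pow, map_neg, map_one] at h1
    exact h1
  obtain ⟨y, hy, hy0⟩ : ∃ y ∈ Y, h y ((N ^ (k - 1)) y) ≠ 0 := by
    by_contra hc
    push Not at hc
    obtain ⟨u, hu, huz⟩ : ∃ u ∈ Y, h u ((N ^ (k - 1)) z) ≠ 0 := by
      by_contra hc'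
      push Not at hc'
      exact hz0 (hY _ (hYNk _ z hz) fun y hy => zero_swap H (hc' y hy))
    have key : ∀ d : F, d + (-1) ^ (k - 1) * σ d = 0 := by
      intro d
      have hc0 := hc ((d / h u ((N ^ (k - 1)) z)) • u + z) (Y.add_mem (Y.smul_mem _ hu) hz)
      simp only [map_add, map_smul, H.add_left, H.add_right, H.smul_left, H.smul_right, hc u hu, hc z hz, mul_zero,
        zero_add, add_zero, hswap u z hz, div_mul_cancel₀ _ huz] at hc0
      rw [mul_left_comm, ← map_mul, div_mul_cancel₀ _ huz] at hc0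
      exact hc0
    refine hσ.ne_refl (RingEquiv.ext fun d => ?_)
    have k1 := key 1
    have k2 := key d
    rw [map_one, mul_one] at k1
    show σ d = d
    linear_combination σ d * k1 - k2
  let T : (Fin k → F) →ₗ[F] V := Fintype.linearCombination F fun x => (N ^ (x : ℕ)) y
  have hTa : ∀ c, T c = ∑ x : Fin k, c x • (N ^ (x : ℕ)) y := fun c => Fintype.linearCombination_apply F _ c
  have hTs : ∀ x : Fin k, T (Pi.single x 1) = (N ^ (x : ℕ)) y := fun x => by
    rw [Fintype.linearCombination_apply_single, one_smul]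
  have hT : ∀ c, (∀ c', h (T c) (T c') = 0) → c = 0 := by
    intro c hc
    have key : ∀ (a : ℕ) (ha : a < k), c ⟨a, ha⟩ = 0 := by
      intro a
      induction a using Nat.strong_induction_on with
      | _ a iha =>
        intro ha
        have e := hc (Pi.single ⟨k - 1 - a, by omega⟩ 1)
        rw [hTs, hTa, H.sum_left, Finset.sum_eq_single (⟨a, ha⟩ : Fin k) ?_ (by simp)] at e
        · rw [H.smul_left, hmain a (k - 1 - a) (by omega) _ _ hy, ← mul_assoc] at e
          exact (mul_eq_zero.mp ((mul_eq_zero.mp e).resolve_right hy0)).resolve_right (pow_ne_zero _ (by norm_num))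
        · intro a' _ ha'
          rw [H.smul_left]
          rcases lt_or_gt_of_ne (fun e => ha' (Fin.ext e) : (a' : ℕ) ≠ a) with hlt | hgt
          · rw [iha a' hlt a'.2, zero_mul]
          · rw [hzero a' (k - 1 - a) (by omega) _ _ hy, mul_zero]
    exact funext fun x => key x x.2
  have hd : finrank F (LinearMap.range T) = k := by
    rw [LinearMap.finrank_range_of_inj ((injective_iff_map_eq_zero T).mpr fun c hc => hT c fun c' => by
      rw [hc, H.zero_left]), Module.finrank_fin_fun]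
  refine ⟨LinearMap.range T, ?_, ?_, ?_, by omega⟩
  · rintro _ ⟨c, rfl⟩
    rw [hTa]
    exact Y.sum_mem fun x _ => Y.smul_mem _ (hYNk _ _ hy)
  · rintro _ ⟨c, rfl⟩ h0
    rw [hT c fun c' => h0 _ ⟨c', rfl⟩, map_zero]
  · rintro _ ⟨c, rfl⟩
    rw [hTa, map_sum]
    refine Submodule.sum_mem _ fun x _ => ?_
    rw [map_smul, hgN, ← hTs]
    refine Submodule.smul_mem _ _ (add_mem ⟨_, rfl⟩ ?_)
    rw [hTs, ← Module.End.mul_apply, ← pow_succ']
    by_cases hlt : (x : ℕ) + 1 < k
    · exact ⟨Pi.single ⟨x + 1, hlt⟩ 1, hTs _⟩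
    · rw [show (x : ℕ) + 1 = k by omega, hk0 _ hy]
      exact zero_mem _

omit hσ in
/-- The block sizes on an invariant nondegenerate subspace. -/
theorem sub_parts (H : UCount.IsHermND σ h) (hg : ∀ u v, h (g u) (g v) = h u v) {ι : Type*} [Fintype ι] {k : ι → ℕ}
    {b : Basis (Σ i, Fin (k i)) F V} (hb : Small.JordanType.IsChain (g - 1) b) (hnil : IsNilpotent (g - 1))
    {W : Submodule F V} (hW : ND h W) (hWi : ∀ w ∈ W, g w ∈ W) :
    ∃ ν : Multiset ℕ, ν ≤ Small.JordanType.parts k ∧ ν.sum = finrank F W := by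
  have hWN : W.map (g - 1) ≤ W := by
    rintro _ ⟨w, hw, rfl⟩
    rw [LinearMap.sub_apply, Module.End.one_apply]
    exact W.sub_mem (hWi w hw) hw
  have hKN : (orth H W).map (g - 1) ≤ orth H W := by
    rintro _ ⟨v, hv, rfl⟩
    rw [LinearMap.sub_apply, Module.End.one_apply]
    exact Submodule.sub_mem _ (orth_inv H hg hWi v hv) hv
  obtain ⟨ν, ν', h1, h2⟩ := parts_add (isCompl_orth H hW) hWN hKN hnil hb
  exact ⟨ν, h1 ▸ Multiset.le_add_right _ _, h2⟩

end Cfsg.Agent.Classical.Elusive.HermEl
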