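import Cfsg.Agent.Lib.Classical.Elusive.HermBasic
import Cfsg.Agent.Lib.Classical.Elusive.FreeSplit

/-!
# Hermitian spaces with an isometry of odd prime order, prime to the characteristic
-/

set_option autoImplicit false
set_option linter.unusedSectionVars false
set_option linter.style.haveILetI false
set_option maxHeartbeats 400000

universe u

namespace Cfsg.Agent.Classical.Elusive.HermEl

open Module Polynomial

variable {F : Type u} [Field F] [Fintype F] {σ : F ≃+* F} {q : ℕ}

/-- The size of a minimal nondegenerate invariant subspace. -/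
noncomputable def unit (q r : ℕ) : ℕ := orderOf (-(q : ZMod r))

/-- The size of an irreducible invariant subspace. -/
noncomputable def deg (q r : ℕ) : ℕ := orderOf ((q : ZMod r) ^ 2)

theorem deg_card (hσ : IsUSigma q σ) (r : ℕ) : orderOf (Fintype.card F : ZMod r) = deg q r := by
  rw [hσ.card, Nat.cast_pow]; rfl

theorem cast_ne (hσ : IsUSigma q σ) {r : ℕ} (hr : r.Prime) : (r : F) ≠ 0 ↔ ¬ r ∣ q := by
  haveI : Fact r.Prime := ⟨hr⟩
  constructor
  · intro h0 hd
    have hq0 : (q : F) = 0 := by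
      have h := Nat.cast_card_eq_zero F
      rw [hσ.card, Nat.cast_pow] at h
      exact eq_zero_of_pow_eq_zero h
    obtain ⟨p, hp⟩ := CharP.exists F
    obtain ⟨a, hpp, ha⟩ := FiniteField.card F p
    rw [hσ.card] at ha
    have h2 : r ∣ p := hr.dvd_of_dvd_pow (n := (a : ℕ)) (ha ▸ dvd_pow hd two_ne_zero)
    rw [(Nat.prime_dvd_prime_iff_eq hr hpp).mp h2] at h0
    exact h0 (CharP.cast_eq_zero F p)
  · intro hd h0
    obtain ⟨p, hp⟩ := CharP.exists F
    obtain ⟨a, hpp, ha⟩ := FiniteField.card F p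
    rw [hσ.card] at ha
    have h1 : p ∣ r := (CharP.cast_eq_zero_iff F p r).mp h0
    rw [(Nat.prime_dvd_prime_iff_eq hpp hr).mp h1] at ha
    exact hd (hr.dvd_of_dvd_pow (n := 2) (ha ▸ dvd_pow_self r a.ne_zero))

/-- The order of `-q` for the three classes of the order of `q`. -/
theorem unit_eq {r : ℕ} (hr : r.Prime) (hr2 : r ≠ 2) (hrq : ¬ r ∣ q) {i b c : ℕ} (hi : i = orderOf (q : ZMod r))
    (hb : b = if Even i then i / 2 else i)
    (hc : c = if i % 4 = 0 then i else if i % 4 = 2 then i / 2 else 2 * i) :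
    unit q r = c ∧ deg q r = b ∧ 0 < i := by
  haveI : Fact r.Prime := ⟨hr⟩
  haveI : Fact (2 < r) := ⟨lt_of_le_of_ne hr.two_le (Ne.symm hr2)⟩
  have hq0 : (q : ZMod r) ≠ 0 := by rwa [ne_eq, ZMod.natCast_eq_zero_iff]
  have hfin : IsOfFinOrder (q : ZMod r) := isOfFinOrder_iff_pow_eq_one.mpr
    ⟨r - 1, by have := hr.two_le; omega, ZMod.pow_card_sub_one_eq_one hq0⟩
  have hipos : 0 < i := hi ▸ hfin.orderOf_pos
  refine ⟨?_, ?_, hipos⟩
  · rcases Nat.even_or_odd i with he | ho
    · obtain ⟨j, hj⟩ := he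
      have hneg : (q : ZMod r) ^ j = -1 := by
        have h1 : ((q : ZMod r) ^ j) ^ 2 = 1 := by
          rw [← pow_mul, show j * 2 = i by omega, hi, pow_orderOf_eq_one]
        refine (sq_eq_one_iff.mp h1).resolve_left fun h => ?_
        have := Nat.le_of_dvd (by omega) (orderOf_dvd_of_pow_eq_one h)
        omega
      have hu : unit q r = i / Nat.gcd i (j + 1) := by
        rw [unit, show -(q : ZMod r) = (q : ZMod r) ^ (j + 1) by rw [pow_succ, hneg, neg_one_mul],
          orderOf_pow' _ (by omega), ← hi]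
      rw [hu, hc]
      rcases Nat.even_or_odd j with ⟨t, ht⟩ | ⟨t, ht⟩
      · rw [if_pos (by omega)]
        have : Nat.gcd i (j + 1) = 1 := by
          have h1 := Nat.gcd_dvd_left i (j + 1)
          have h2 := Nat.gcd_dvd_right i (j + 1)
          have h3 : Nat.gcd i (j + 1) ∣ 2 := (Nat.dvd_add_right h1).mp (by
            rw [show i + 2 = 2 * (j + 1) by omega]; exact dvd_mul_of_dvd_right h2 2)
          rcases (Nat.dvd_prime Nat.prime_two).mp h3 with h | h
          · exact h
          · rw [h] at h2; omega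
        rw [this, Nat.div_one]
      · rw [if_neg (by omega), if_pos (by omega)]
        have : Nat.gcd i (j + 1) = 2 := by
          have h1 := Nat.gcd_dvd_left i (j + 1)
          have h2 := Nat.gcd_dvd_right i (j + 1)
          have h3 : Nat.gcd i (j + 1) ∣ 2 := (Nat.dvd_add_right h1).mp (by
            rw [show i + 2 = 2 * (j + 1) by omega]; exact dvd_mul_of_dvd_right h2 2)
          exact Nat.dvd_antisymm h3 (Nat.dvd_gcd ⟨j, by omega⟩ ⟨t + 1, by omega⟩)
        rw [this]
    · have h1 : orderOf (-1 : ZMod r) = 2 :=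
        orderOf_eq_prime (by ring) ZMod.neg_one_ne_one
      rw [unit, ← neg_one_mul, (Commute.all _ _).orderOf_mul_eq_mul_orderOf_of_coprime
        (by rw [h1, ← hi]; exact Nat.coprime_two_left.mpr ho), h1, ← hi, hc,
        if_neg (by obtain ⟨t, ht⟩ := ho; omega), if_neg (by obtain ⟨t, ht⟩ := ho; omega)]
  · rw [deg, orderOf_pow' _ two_ne_zero, ← hi, hb]
    split_ifs with he
    · rw [Nat.gcd_eq_right (even_iff_two_dvd.mp he)]
    · rw [(Nat.coprime_two_right.mpr (Nat.not_even_iff_odd.mp he)).gcd_eq_one, Nat.div_one]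

theorem unit_dvd_of_dvd {r j : ℕ} (hr : r.Prime) (hrq : ¬ r ∣ q)
    (h : r ∣ q * (if Odd j then q ^ j + 1 else q ^ j - 1)) : unit q r ∣ j := by
  haveI : Fact r.Prime := ⟨hr⟩
  have h' := (hr.dvd_mul.mp h).resolve_left hrq
  have hq1 : 1 ≤ q ^ j := Nat.one_le_pow _ _ (Nat.pos_of_ne_zero fun h0 => hrq (by simp [h0]))
  refine orderOf_dvd_of_pow_eq_one ?_
  split_ifs at h' with ho
  · have e := (ZMod.natCast_eq_zero_iff _ _).mpr h'
    push_cast at e
    rw [ho.neg_pow]
    linear_combination -e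
  · have e := (ZMod.natCast_eq_zero_iff _ _).mpr h'
    rw [Nat.cast_sub hq1, Nat.cast_pow, Nat.cast_one, sub_eq_zero] at e
    rw [(Nat.not_odd_iff_even.mp ho).neg_pow, e]

theorem unit_cases {r : ℕ} (hr : r.Prime) (hr2 : r ≠ 2) (hrq : ¬ r ∣ q) :
    0 < deg q r ∧ ((unit q r = deg q r ∧ Odd (deg q r) ∧ (q : ZMod r) ^ deg q r = -1) ∨ unit q r = 2 * deg q r) := by
  haveI : Fact r.Prime := ⟨hr⟩
  have hq0 : (q : ZMod r) ≠ 0 := by rwa [ne_eq, ZMod.natCast_eq_zero_iff]
  have hb : 0 < deg q r := (isOfFinOrder_iff_pow_eq_one.mpr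
    ⟨r - 1, by have := hr.two_le; omega, ZMod.pow_card_sub_one_eq_one (pow_ne_zero 2 hq0)⟩).orderOf_pos
  refine ⟨hb, ?_⟩
  have h1 : deg q r ∣ unit q r := orderOf_dvd_of_pow_eq_one (by
    rw [← neg_pow_two (q : ZMod r), ← pow_mul, mul_comm, pow_mul, unit, pow_orderOf_eq_one, one_pow])
  have h2 : unit q r ∣ 2 * deg q r := orderOf_dvd_of_pow_eq_one (by
    rw [pow_mul, neg_pow_two, deg, pow_orderOf_eq_one])
  obtain ⟨k, hk⟩ := h1
  have hk2 : k ∣ 2 := Nat.dvd_of_mul_dvd_mul_left hb (by rw [← hk, mul_comm (deg q r)]; exact h2)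
  rcases (Nat.dvd_prime Nat.prime_two).mp hk2 with rfl | rfl
  · rw [mul_one] at hk
    refine Or.inl ⟨hk, ?_, ?_⟩
    · rw [← Nat.not_even_iff_odd]
      rintro ⟨t, ht⟩
      have h3 : ((q : ZMod r) ^ 2) ^ t = 1 := by
        rw [← pow_mul, show 2 * t = deg q r by omega, ← (show Even (deg q r) from ⟨t, ht⟩).neg_pow, ← hk, unit,
          pow_orderOf_eq_one]
      have := Nat.le_of_dvd (by omega) (orderOf_dvd_of_pow_eq_one h3)
      rw [← deg] at this
      omega
    · have ho : Odd (deg q r) := by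
        rw [← Nat.not_even_iff_odd]
        rintro ⟨t, ht⟩
        have h3 : ((q : ZMod r) ^ 2) ^ t = 1 := by
          rw [← pow_mul, show 2 * t = deg q r by omega, ← (show Even (deg q r) from ⟨t, ht⟩).neg_pow, ← hk, unit,
            pow_orderOf_eq_one]
        have := Nat.le_of_dvd (by omega) (orderOf_dvd_of_pow_eq_one h3)
        rw [← deg] at this
        omega
      have h3 : (-(q : ZMod r)) ^ deg q r = 1 := by rw [← hk, unit, pow_orderOf_eq_one]
      rw [ho.neg_pow] at h3
      linear_combination -h3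
  · exact Or.inr (by rw [hk, mul_comm])

variable {V : Type u} [AddCommGroup V] [Module F V] [FiniteDimensional F V] {h : V → V → F}

theorem finrank_orth (H : UCount.IsHermND σ h) (W : Submodule F V) :
    finrank F W + finrank F (orth H W) = finrank F V := by
  classical
  haveI : Finite V := Module.finite_of_finite F
  haveI : Finite (Module.Dual F W) := Module.finite_of_finite F
  haveI : Finite (Module.Dual F V) := Module.finite_of_finite F
  let Φ : V →+ Module.Dual F W :=
    { toFun := fun x => (H.func x).comp W.subtype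
      map_zero' := LinearMap.ext fun y => H.zero_right _
      map_add' := fun a b => LinearMap.ext fun y => H.add_right _ _ _ }
  have hsurjV : Function.Surjective fun x : V => H.func x := by
    refine ((Nat.bijective_iff_injective_and_card _).mpr ⟨fun a b e => ?_, ?_⟩).2
    · refine sub_eq_zero.mp (H.nondeg _ fun y => zero_swap H ?_)
      rw [H.sub_right, show h y a = h y b from LinearMap.congr_fun e y, sub_self]
    · rw [Module.natCard_eq_pow_finrank (K := F), Module.natCard_eq_pow_finrank (K := F) (V := Module.Dual F V),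
        Subspace.dual_finrank_eq]
  have hΦ : Function.Surjective Φ := by
    intro φ
    obtain ⟨ψ, hψ⟩ := LinearMap.exists_extend φ
    obtain ⟨x, hx⟩ := hsurjV ψ
    exact ⟨x, by rw [← hψ, ← hx]; rfl⟩
  have hker : Nat.card Φ.ker = Nat.card (orth H W) := Nat.card_congr (Equiv.subtypeEquivRight fun x => by
    rw [AddMonoidHom.mem_ker, mem_orth]
    exact ⟨fun e y hy => zero_swap H (LinearMap.congr_fun e ⟨y, hy⟩),
      fun e => LinearMap.ext fun y => zero_swap H (e y y.2)⟩)
  have hcard := AddSubgroup.card_mul_index Φ.ker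
  rw [AddSubgroup.index_ker, AddMonoidHom.range_eq_top.mpr hΦ,
    Nat.card_congr (AddSubgroup.topEquiv (G := Module.Dual F W)).toEquiv, hker,
    Module.natCard_eq_pow_finrank (K := F) (V := orth H W), Module.natCard_eq_pow_finrank (K := F) (V := Module.Dual F W),
    Subspace.dual_finrank_eq, Module.natCard_eq_pow_finrank (K := F) (V := V), ← pow_add] at hcard
  rw [add_comm]
  exact Nat.pow_right_injective (Nat.one_lt_iff_ne_zero_and_ne_one.mpr ⟨Nat.card_ne_zero.mpr ⟨⟨0⟩, inferInstance⟩,
    fun e => by rw [Nat.card_eq_fintype_card] at e; exact (Fintype.one_lt_card (α := F)).ne' e⟩) hcard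

variable (hσ : IsUSigma q σ) {r : ℕ} {g : End F V}

include hσ

theorem poly_pow (b : ℕ) (hb : Odd b) (f : F[X]) : f ^ (q ^ b) = (f.map (σ : F →+* F)).comp (X ^ (q ^ b)) := by
  obtain ⟨p, e, σ', hp, hchar, hqe, -, -⟩ := exists_usigma (F := F) (q := q) hσ.card
  haveI := Fact.mk hp
  haveI : ExpChar F[X] p := ExpChar.prime hp
  have hσb : ∀ a : F, a ^ q ^ b = σ a := by
    obtain ⟨t, rfl⟩ := hb
    intro a
    induction t generalizing a with
    | zero => rw [mul_zero, zero_add, pow_one, hσ.apply_eq]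
    | succ t ih =>
      rw [show 2 * (t + 1) + 1 = 2 + (2 * t + 1) by ring, pow_add, pow_mul,
        show q ^ 2 = Fintype.card F from hσ.card.symm, FiniteField.pow_card, ih]
  induction f using Polynomial.induction_on' with
  | add a c ha hc =>
    rw [Polynomial.map_add, add_comp, ← ha, ← hc, hqe, ← pow_mul]
    exact add_pow_expChar_pow a c p (e * b)
  | monomial k a =>
    rw [← C_mul_X_pow_eq_monomial, mul_pow, ← C_pow, ← pow_mul, hσb, Polynomial.map_mul, Polynomial.map_pow,
      map_C, map_X, mul_comp, C_comp, pow_comp, X_comp, ← pow_mul, mul_comm k]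
    rfl

theorem aeval_adjoint (H : UCount.IsHermND σ h) {g' : End F V} (hadj : ∀ u v, h (g u) v = h u (g' v)) (f : F[X])
    (u v : V) : h (aeval g f u) v = h u (aeval g' (f.map (σ : F →+* F)) v) := by
  induction f using Polynomial.induction_on' generalizing u v with
  | add a c ha hc => simp [H.add_left, H.add_right, ha, hc]
  | monomial k a =>
    have hk : ∀ (k : ℕ) u v, h ((g ^ k) u) v = h u ((g' ^ k) v) := by
      intro k
      induction k with
      | zero => intro u v; rfl
      | succ k ih => intro u v; rw [pow_succ', pow_succ, Module.End.mul_apply, Module.End.mul_apply, hadj, ih]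
    simp [aeval_monomial, Module.algebraMap_end_apply, H.smul_left, H.smul_right, hk, hσ.involutive a]

omit hσ in
/-- An irreducible subspace is totally isotropic or nondegenerate. -/
theorem ts_or_nd (H : UCount.IsHermND σ h) (hg : ∀ u v, h (g u) (g v) = h u v) (hf : Free.IsFree (0 : LinearMap.BilinForm F V) g r)
    {W : Submodule F V} (hW : ∀ x ∈ W, g x ∈ W) (hd : finrank F W = orderOf (Fintype.card F : ZMod r)) :
    TI h W ∨ ND h W := by
  rcases hf.minimal hd (U := W ⊓ orth H W) (fun x hx => ⟨hW x hx.1, orth_inv H hg hW x hx.2⟩) inf_le_left with e | e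
  · exact Or.inr fun x hx h0 => (Submodule.mem_bot F).mp (e.le ⟨hx, h0⟩)
  · exact Or.inl fun x hx y hy => (e.ge hx).2 y hy

/-- An isometry without fixed vectors of a nonzero space has an invariant nondegenerate unit. -/
theorem exists_unit_free (H : UCount.IsHermND σ h) (hg : ∀ u v, h (g u) (g v) = h u v) (hr : r.Prime) (hr2 : r ≠ 2)
    (hr0 : (r : F) ≠ 0) (hgr : g ^ r = 1) (hfix : ∀ v, g v = v → v = 0) (hV : 0 < finrank F V) :
    ∃ U : Submodule F V, ND h U ∧ (∀ x ∈ U, g x ∈ U) ∧ finrank F U = unit q r := by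
  classical
  have hrq : ¬ r ∣ q := (cast_ne hσ hr).mp hr0
  obtain ⟨hb, hcases⟩ := unit_cases hr hr2 hrq
  have hf : Free.IsFree (0 : LinearMap.BilinForm F V) g r := ⟨hr, hr2, hr0, hgr, hfix, fun _ _ => rfl⟩
  have hne : (⊤ : Submodule F V) ≠ ⊥ := fun e => by rw [← finrank_top F V, e, finrank_bot] at hV; omega
  obtain ⟨W, -, hW, hWd⟩ := (hf.exists_irred (U := ⊤) fun _ _ => Submodule.mem_top).2 hne
  have hndcase : ∀ U : Submodule F V, (∀ x ∈ U, g x ∈ U) → ND h U → finrank F U = orderOf (Fintype.card F : ZMod r) →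
      unit q r = deg q r := by
    intro U hU hUn hUd
    rw [deg_card hσ] at hUd
    have hpow : (g.restrict hU) ^ r = 1 := LinearMap.ext fun x => Subtype.ext (by
      rw [Free.restrict_pow hU, hgr]; rfl)
    obtain ⟨j, hj1, hj2, hj⟩ := prime_dvd_of_free hσ (herm_sub H hUn) (g := g.restrict hU)
      (fun u v => hg u.1 v.1) hr hpow (fun v hv => Subtype.ext (hfix _ (congrArg Subtype.val hv))) (by omega)
    have := Nat.le_of_dvd hj1 (unit_dvd_of_dvd hr hrq hj)
    rcases hcases with ⟨h1, -⟩ | h1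
    · exact h1
    · omega
  rcases ts_or_nd H hg hf hW hWd with hts | hn
  swap
  · exact ⟨W, hn, hW, by rw [hWd, deg_card hσ, hndcase W hW hn hWd]⟩
  rcases hcases with ⟨hC, hodd, hneg⟩ | hC
  · -- a self-conjugate factor
    obtain ⟨f, hfdef⟩ : ∃ f, f = LinearMap.charpoly (g.restrict hW) := ⟨_, rfl⟩
    have hfm : f.Monic := hfdef ▸ LinearMap.charpoly_monic _
    have hfd : f.natDegree = deg q r := by rw [hfdef, LinearMap.charpoly_natDegree, hWd, deg_card hσ]
    have hkillW : ∀ x ∈ W, aeval g f x = 0 := by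
      intro x hx
      have hres : ∀ (P : F[X]) (y : W), ((aeval (g.restrict hW) P y : W) : V) = aeval g P (y : V) := by
        intro P y
        induction P using Polynomial.induction_on' with
        | add a c ha hc => simp [ha, hc]
        | monomial m a =>
          simp only [aeval_monomial, Module.End.mul_apply, Module.algebraMap_end_apply, SetLike.val_smul]
          rw [Free.restrict_pow hW m y]
      rw [← hres f ⟨x, hx⟩, hfdef, LinearMap.aeval_self_charpoly]
      rfl
    obtain ⟨T, hT⟩ : ∃ T, T = aeval g f := ⟨_, rfl⟩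
    have hTg : ∀ x, T (g x) = g (T x) := fun x => by
      have h1 : aeval g (f * X) = aeval g (X * f) := by rw [mul_comm]
      rw [map_mul, map_mul, aeval_X] at h1
      rw [hT]; exact LinearMap.congr_fun h1 x
    have hQ : g ^ (r - 1) = g ^ (q ^ deg q r) := by
      haveI : Fact r.Prime := ⟨hr⟩
      have e1 : ((q ^ deg q r : ℕ) : ZMod r) = ((r - 1 : ℕ) : ZMod r) := by
        rw [Nat.cast_pow, hneg, Nat.cast_sub hr.one_le, ZMod.natCast_self, Nat.cast_one, zero_sub]
      rw [pow_eq_pow_mod (q ^ deg q r) hgr, (ZMod.natCast_eq_natCast_iff' _ _ _).mp e1,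
        Nat.mod_eq_of_lt (by have := hr.one_le; omega)]
    have hadj : ∀ u v, h (g u) v = h u ((g ^ (r - 1)) v) := fun u v => by
      rw [← hg u ((g ^ (r - 1)) v), ← Module.End.mul_apply, ← pow_succ', Nat.sub_add_cancel hr.one_le, hgr,
        Module.End.one_apply]
    have hperp : ∀ u v, T v = 0 → h (T u) v = 0 := by
      intro u v hv
      have hQ1 : 1 ≤ q ^ deg q r := Nat.one_le_pow _ _ (by have := hσ.two_le; omega)
      have e : aeval (g ^ (r - 1)) (f.map (σ : F →+* F)) = T ^ (q ^ deg q r) := by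
        rw [hT, ← map_pow, poly_pow hσ _ hodd, aeval_comp, map_pow, aeval_X, hQ]
      rw [hT, aeval_adjoint hσ H hadj, e, ← Nat.sub_add_cancel hQ1, pow_succ, Module.End.mul_apply, hv, map_zero,
        H.zero_right]
    have hker : ∀ x ∈ LinearMap.ker T, g x ∈ LinearMap.ker T := fun x hx => by
      rw [LinearMap.mem_ker] at hx ⊢; rw [hTg, hx, map_zero]
    have hCn : ND h (LinearMap.ker T) := by
      intro x hx h0
      obtain ⟨U, hU, hc⟩ := Module.End.isSemisimple_iff.1 hf.semisimple (LinearMap.ker T) fun y hy => hker y hy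
      have hUT : ∀ u ∈ U, T u ∈ U := fun u hu => by
        have hUi : ∀ y ∈ U, g y ∈ U := fun y hy => hU hy
        have : ∀ P : F[X], aeval g P u ∈ U := by
          intro P
          induction P using Polynomial.induction_on' with
          | add a c ha hc => rw [map_add, LinearMap.add_apply]; exact U.add_mem ha hc
          | monomial m a =>
            rw [aeval_monomial, Module.End.mul_apply, Module.algebraMap_end_apply, ← Free.restrict_pow hUi m ⟨u, hu⟩]
            exact U.smul_mem _ (Subtype.coe_prop _)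
        have := this f
        rwa [hT]
      have hsurj : Function.Surjective (T.restrict hUT) := LinearMap.injective_iff_surjective.mp
        ((injective_iff_map_eq_zero _).mpr fun u hu => Subtype.ext ((Submodule.mem_bot F).mp
          (hc.inf_eq_bot.le ⟨congrArg Subtype.val hu, u.2⟩)))
      refine H.nondeg x fun v => ?_
      obtain ⟨a, ha, b, hb, rfl⟩ := Submodule.mem_sup.mp (hc.sup_eq_top.ge (Submodule.mem_top (x := v)))
      obtain ⟨w, hw⟩ := hsurj ⟨b, hb⟩
      have hb' : h x b = 0 := zero_swap H (by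
        rw [show b = T w.1 from (congrArg Subtype.val hw).symm]
        exact hperp _ _ hx)
      rw [H.add_right, h0 a ha, hb', add_zero]
    have hCne : LinearMap.ker T ≠ ⊥ := fun e => by
      obtain ⟨x, hx, hx0⟩ := Submodule.exists_mem_ne_zero_of_ne_bot (p := W) fun e => by
        rw [e, finrank_bot, deg_card hσ] at hWd; omega
      exact hx0 ((Submodule.mem_bot F).mp (e.le (LinearMap.mem_ker.mpr (hT ▸ hkillW x hx))))
    obtain ⟨v, hv, hvv⟩ := exists_anisotropic_in hσ H hCn hCne
    let ev : F[X] →ₗ[F] V := (LinearMap.applyₗ v).comp (aeval g).toLinearMap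
    have hrange : LinearMap.range ev = (Polynomial.degreeLT F (deg q r)).map ev := by
      refine le_antisymm ?_ (LinearMap.map_le_range)
      rintro _ ⟨P, rfl⟩
      refine ⟨P %ₘ f, Polynomial.mem_degreeLT.mpr ?_, ?_⟩
      · rw [← hfd, ← degree_eq_natDegree hfm.ne_zero]
        exact degree_modByMonic_lt P hfm
      · show aeval g (P %ₘ f) v = aeval g P v
        conv_rhs => rw [← modByMonic_add_div P f, mul_comm, map_add, map_mul, LinearMap.add_apply, Module.End.mul_apply]
        rw [← hT, LinearMap.mem_ker.mp hv, map_zero, add_zero]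
    have hUinv : ∀ x ∈ LinearMap.range ev, g x ∈ LinearMap.range ev := by
      rintro _ ⟨P, rfl⟩
      refine ⟨X * P, ?_⟩
      show aeval g (X * P) v = g (aeval g P v)
      rw [map_mul, aeval_X, Module.End.mul_apply]
    have hvU : v ∈ LinearMap.range ev := ⟨1, by show aeval g (1 : F[X]) v = v; rw [map_one]; rfl⟩
    have hUd : finrank F (LinearMap.range ev) = orderOf (Fintype.card F : ZMod r) := by
      have h1 : finrank F (LinearMap.range ev) ≤ orderOf (Fintype.card F : ZMod r) := by
        rw [hrange, deg_card hσ]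
        haveI : Module.Finite F (Polynomial.degreeLT F (deg q r)) :=
          Module.Finite.equiv (Polynomial.degreeLTEquiv F _).symm
        refine (Submodule.finrank_map_le _ _).trans ?_
        rw [(Polynomial.degreeLTEquiv F _).finrank_eq, Module.finrank_fin_fun]
      refine le_antisymm h1 (Nat.le_of_dvd ?_ (hf.exists_irred hUinv).1)
      refine Nat.pos_of_ne_zero fun h0 => hvv ?_
      rw [Submodule.finrank_eq_zero] at h0
      rw [show v = 0 from (Submodule.mem_bot F).mp (h0.le hvU), H.zero_left]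
    rcases ts_or_nd H hg hf hUinv hUd with h1 | h1
    · exact absurd (h1 v hvU v hvU) hvv
    · exact ⟨_, h1, hUinv, by rw [hUd, deg_card hσ, hC]⟩
  · -- a pair
    obtain ⟨W', hW', hc⟩ := Module.End.isSemisimple_iff.1 hf.semisimple (orth H W) fun y hy => orth_inv H hg hW y hy
    have hW'i : ∀ x ∈ W', g x ∈ W' := fun x hx => hW' hx
    have hd' : finrank F W' = orderOf (Fintype.card F : ZMod r) := by
      have h1 := Submodule.finrank_add_eq_of_isCompl hc
      have h2 := finrank_orth H W
      omega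
    have hts' : TI h W' := by
      rcases ts_or_nd H hg hf hW'i hd' with h1 | h1
      · exact h1
      · have := hndcase W' hW'i h1 hd'; omega
    have hWle : W ≤ orth H W := fun x hx y hy => hts x hx y hy
    refine ⟨W ⊔ W', fun x hx h0 => ?_, fun x hx => ?_, ?_⟩
    · obtain ⟨a, ha, b, hb, rfl⟩ := Submodule.mem_sup.mp hx
      have hb0 : b = 0 := (Submodule.mem_bot F).mp (hc.inf_eq_bot.le ⟨fun y hy => by
        have := h0 y (Submodule.mem_sup_left hy)
        rwa [H.add_left, hts a ha y hy, zero_add] at this, hb⟩)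
      subst hb0
      rw [add_zero] at h0 ⊢
      refine H.nondeg a fun v => ?_
      obtain ⟨c, hc', d, hd, rfl⟩ := Submodule.mem_sup.mp (hc.sup_eq_top.ge (Submodule.mem_top (x := v)))
      rw [H.add_right, zero_swap H (hc' a ha), h0 d (Submodule.mem_sup_right hd), add_zero]
    · obtain ⟨a, ha, b, hb, rfl⟩ := Submodule.mem_sup.mp hx
      rw [map_add]
      exact Submodule.add_mem_sup (hW a ha) (hW'i b hb)
    · have h1 := Submodule.finrank_sup_add_finrank_inf_eq W W'
      rw [show W ⊓ W' = ⊥ from eq_bot_iff.mpr fun x hx => hc.inf_eq_bot.le ⟨hWle hx.1, hx.2⟩, finrank_bot, hWd, hd',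
        deg_card hσ] at h1
      omega

omit hσ in
/-- The data of the decomposition into fixed and moved parts. -/
theorem tame_split (H : UCount.IsHermND σ h) (hg : ∀ u v, h (g u) (g v) = h u v)
    (hr0 : (r : F) ≠ 0) (hgr : g ^ r = 1) :
    ND h (Free.fixSpace g) ∧ ND h (Free.moved g) ∧ (∀ x ∈ Free.moved g, g x ∈ Free.moved g) ∧
      (∀ x ∈ Free.moved g, g x = x → x = 0) ∧ IsCompl (Free.fixSpace g) (Free.moved g) ∧
      ∀ x ∈ Free.fixSpace g, ∀ y ∈ Free.moved g, h x y = 0 := by
  have ht : Free.IsTame (0 : LinearMap.BilinForm F V) g r := ⟨hr0, hgr, fun _ _ => rfl⟩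
  have hperp : ∀ x ∈ Free.fixSpace g, ∀ y ∈ Free.moved g, h x y = 0 := by
    rintro x hx _ ⟨w, rfl⟩
    rw [LinearMap.sub_apply, Module.End.one_apply, H.sub_right]
    nth_rewrite 1 [← Free.mem_fixSpace.mp hx]
    rw [hg, sub_self]
  refine ⟨fun x hx h0 => H.nondeg x fun v => ?_, fun x hx h0 => H.nondeg x fun v => ?_,
    fun x hx => Free.moved_invariant hx, fun x hx e => ?_, ht.isCompl, hperp⟩
  · rw [← add_sub_cancel (Free.avg g r v) v, H.add_right, h0 _ (ht.avg_mem v), hperp x hx _ (ht.sub_avg_mem v),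
      add_zero]
  · rw [← add_sub_cancel (Free.avg g r v) v, H.add_right, h0 _ (ht.sub_avg_mem v),
      zero_swap H (hperp _ (ht.avg_mem v) x hx), add_zero]
  · exact (Submodule.mem_bot F).mp (ht.isCompl.inf_eq_bot.le ⟨Free.mem_fixSpace.mpr e, hx⟩)

/-- The moved space decomposes into units. -/
theorem moved_units (H : UCount.IsHermND σ h) (hg : ∀ u v, h (g u) (g v) = h u v) (hr : r.Prime) (hr2 : r ≠ 2)
    (hr0 : (r : F) ≠ 0) (hgr : g ^ r = 1) :
    0 < unit q r ∧ unit q r ∣ finrank F (Free.moved g) ∧ ∀ j, unit q r * j ≤ finrank F (Free.moved g) →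
      ∃ W ≤ Free.moved g, ND h W ∧ (∀ x ∈ W, g x ∈ W) ∧ finrank F W = unit q r * j := by
  obtain ⟨-, hM, hMi, hMfix, -, -⟩ := tame_split H hg hr0 hgr
  have hupos : 0 < unit q r := by
    obtain ⟨h1, h2⟩ := unit_cases hr hr2 ((cast_ne hσ hr).mp hr0)
    rcases h2 with ⟨h2, -⟩ | h2 <;> omega
  refine ⟨hupos, exists_multiples H hg hupos _ hM hMi fun Z hZ hZn hZi hne => ?_⟩
  obtain ⟨U, hU, hUi, hUd⟩ := exists_unit_free hσ (herm_sub H hZn) (g := g.restrict hZi) (fun u v => hg u.1 v.1)
    hr hr2 hr0 (LinearMap.ext fun x => Subtype.ext (by rw [Free.restrict_pow hZi, hgr]; rfl))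
    (fun v hv => Subtype.ext (hMfix _ (hZ v.2) (congrArg Subtype.val hv)))
    (Nat.pos_of_ne_zero fun e => hne (Submodule.finrank_eq_zero.mp e))
  exact ⟨U.map Z.subtype, Submodule.map_subtype_le _ _, nd_map_subtype hU, inv_map_subtype hZi hUi,
    by rw [Submodule.finrank_map_subtype_eq, hUd]⟩

/-- Invariant nondegenerate subspaces of dimension `m` exist when the remainders compare. -/
theorem exists_nd_tame (H : UCount.IsHermND σ h) (hg : ∀ u v, h (g u) (g v) = h u v) (hr : r.Prime) (hr2 : r ≠ 2)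
    (hr0 : (r : F) ≠ 0) (hgr : g ^ r = 1) {m : ℕ} (hm : m ≤ finrank F V)
    (hmod : m % unit q r ≤ finrank F V % unit q r) :
    ∃ W : Submodule F V, ND h W ∧ (∀ x ∈ W, g x ∈ W) ∧ finrank F W = m := by
  obtain ⟨hX, hM, hMi, -, hcompl, hperp⟩ := tame_split H hg hr0 hgr
  obtain ⟨hu, ⟨s, hs⟩, hall⟩ := moved_units hσ H hg hr hr2 hr0 hgr
  have hsum := Submodule.finrank_add_eq_of_isCompl hcompl
  have hfm : finrank F V % unit q r ≤ finrank F (Free.fixSpace g) := by
    rw [← hsum, hs, Nat.add_mul_mod_self_left]; exact Nat.mod_le _ _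
  have hdm := Nat.div_add_mod m (unit q r)
  obtain ⟨j, hj, hjm, hrest⟩ : ∃ j, unit q r * j ≤ finrank F (Free.moved g) ∧ unit q r * j ≤ m ∧
      m - unit q r * j ≤ finrank F (Free.fixSpace g) := by
    rcases le_total (m / unit q r) s with h1 | h1
    · exact ⟨m / unit q r, hs ▸ Nat.mul_le_mul_left _ h1, by omega, by omega⟩
    · exact ⟨s, hs.ge, (Nat.mul_le_mul_left _ h1).trans (Nat.mul_div_le m _), by omega⟩
  obtain ⟨W₁, hW₁, h11, h12, h13⟩ := hall j hj
  obtain ⟨W₂, hW₂, h21, h22, h23⟩ := exists_sub hσ H hg hX (t := 1)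
    (fun x hx => by rw [one_smul]; exact Free.mem_fixSpace.mp hx) (j := m - unit q r * j) hrest
  have hle : W₂ ≤ (⊤ : Submodule F V) ⊓ orth H W₁ :=
    fun x hx => ⟨trivial, fun y hy => hperp x (hW₂ hx) y (hW₁ hy)⟩
  obtain ⟨-, -, -, hsup⟩ := glue H hg (nd_top H) (fun _ _ => trivial) le_top h11 h12
  obtain ⟨a, b, c⟩ := hsup W₂ hle h21 h22
  exact ⟨_, a, b, by rw [c, h13, h23]; omega⟩

/-- The dimensions of invariant nondegenerate subspaces. -/
theorem nd_dim_tame (H : UCount.IsHermND σ h) (hg : ∀ u v, h (g u) (g v) = h u v) (hr : r.Prime) (hr2 : r ≠ 2)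
    (hr0 : (r : F) ≠ 0) (hgr : g ^ r = 1) {W : Submodule F V} (hW : ND h W) (hWi : ∀ x ∈ W, g x ∈ W) :
    ∃ j f : ℕ, finrank F W = unit q r * j + f ∧ f ≤ finrank F (Free.fixSpace g) := by
  have hpow : (g.restrict hWi) ^ r = 1 := LinearMap.ext fun x => Subtype.ext (by rw [Free.restrict_pow hWi, hgr]; rfl)
  obtain ⟨-, -, -, -, hcompl, -⟩ := tame_split (herm_sub H hW) (g := g.restrict hWi) (fun u v => hg u.1 v.1) hr0 hpow
  obtain ⟨-, ⟨j, hj⟩, -⟩ := moved_units hσ (herm_sub H hW) (g := g.restrict hWi) (fun u v => hg u.1 v.1) hr hr2 hr0 hpow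
  refine ⟨j, _, by rw [← Submodule.finrank_add_eq_of_isCompl hcompl, hj, add_comm], ?_⟩
  rw [← Submodule.finrank_map_subtype_eq]
  refine Submodule.finrank_mono ?_
  rintro _ ⟨x, hx, rfl⟩
  exact Free.mem_fixSpace.mpr (congrArg Subtype.val (Free.mem_fixSpace.mp hx))

end Cfsg.Agent.Classical.Elusive.HermEl
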