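import Cfsg.Agent.Lib.Classical.Elusive.HermOther
import Cfsg.Agent.Lib.Classical.UnitaryFrames

/-!
# Totally isotropic invariant subspaces of isometries of Hermitian spaces
-/

set_option autoImplicit false
set_option linter.unusedSectionVars false
set_option linter.style.haveILetI false
set_option maxHeartbeats 400000

universe u

namespace Cfsg.Agent.Classical.Elusive.HermEl

open Module Polynomial

variable {F : Type u} [Field F] [Fintype F] {σ : F ≃+* F} {q : ℕ}
  {V : Type u} [AddCommGroup V] [Module F V] [FiniteDimensional F V] {h : V → V → F}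

/-- An invariant nondegenerate subspace of dimension `2 b` with an invariant totally isotropic half. -/
def Pair (h : V → V → F) (g : End F V) (Z : Submodule F V) (b : ℕ) : Prop :=
  ∃ P ≤ Z, ND h P ∧ (∀ x ∈ P, g x ∈ P) ∧ finrank F P = 2 * b ∧
    ∃ W ≤ P, TI h W ∧ (∀ x ∈ W, g x ∈ W) ∧ finrank F W = b

theorem pair_of_top {g : End F V} {Y : Submodule F V} (hYi : ∀ x ∈ Y, g x ∈ Y) {Z : Submodule F Y} {b : ℕ}
    (hp : Pair (rf h Y) (g.restrict hYi) Z b) : Pair h g Y b := by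
  obtain ⟨P, -, hP, hPi, hPd, W, hW, hWt, hWi, hWd⟩ := hp
  refine ⟨P.map Y.subtype, Submodule.map_subtype_le _ _, nd_map_subtype hP, inv_map_subtype hYi hPi,
    by rw [Submodule.finrank_map_subtype_eq, hPd], W.map Y.subtype, Submodule.map_mono hW, ?_,
    inv_map_subtype hYi hWi, by rw [Submodule.finrank_map_subtype_eq, hWd]⟩
  rintro _ ⟨x, hx, rfl⟩ _ ⟨y, hy, rfl⟩
  exact hWt x hx y hy

/-- Sums of perpendicular totally isotropic subspaces. -/
theorem ti_sup (H : UCount.IsHermND σ h) {A B : Submodule F V} (hA : TI h A) (hB : TI h B)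
    (hperp : ∀ a ∈ A, ∀ b ∈ B, h a b = 0) : TI h (A ⊔ B) := by
  intro x hx y hy
  obtain ⟨a, ha, b, hb, rfl⟩ := Submodule.mem_sup.mp hx
  obtain ⟨c, hc, d, hd, rfl⟩ := Submodule.mem_sup.mp hy
  rw [H.add_left, H.add_right, H.add_right, hA a ha c hc, hperp a ha d hd, zero_swap H (hperp c hc b hb),
    hB b hb d hd]
  simp

/-- Repeated splitting off of pairs. -/
theorem exists_ts_multiples (H : UCount.IsHermND σ h) {g : End F V} (hg : ∀ u v, h (g u) (g v) = h u v) {b D : ℕ}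
    (step : ∀ Z : Submodule F V, ND h Z → (∀ x ∈ Z, g x ∈ Z) → D ≤ finrank F Z → Pair h g Z b) :
    ∀ (l : ℕ) (Y : Submodule F V), ND h Y → (∀ x ∈ Y, g x ∈ Y) → (l = 0 ∨ D + 2 * b * (l - 1) ≤ finrank F Y) →
      ∃ W ≤ Y, TI h W ∧ (∀ x ∈ W, g x ∈ W) ∧ finrank F W = b * l := by
  intro l
  induction l with
  | zero =>
    intro Y _ _ _
    refine ⟨⊥, bot_le, fun x hx y _ => ?_, fun x hx => ?_, by simp⟩
    · rw [(Submodule.mem_bot F).mp hx, H.zero_left]
    · rw [(Submodule.mem_bot F).mp hx, map_zero]; exact zero_mem _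
  | succ l ih =>
    intro Y hY hYi hl
    have hl' : D + 2 * b * l ≤ finrank F Y := hl.resolve_left (Nat.succ_ne_zero l)
    obtain ⟨P, hPY, hP, hPi, hPd, W, hWP, hWt, hWi, hWd⟩ := step Y hY hYi (by omega)
    obtain ⟨hn, hi, hd, -⟩ := glue H hg hY hYi hPY hP hPi
    obtain ⟨W', hW', hW't, hW'i, hW'd⟩ := ih _ hn hi (by
      rcases Nat.eq_zero_or_pos l with h0 | h0
      · exact Or.inl h0
      · refine Or.inr ?_
        obtain ⟨j, rfl⟩ : ∃ j, l = j + 1 := ⟨l - 1, by omega⟩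
        rw [Nat.mul_succ] at hl'
        rw [Nat.add_sub_cancel]
        omega)
    refine ⟨W ⊔ W', sup_le (hWP.trans hPY) (hW'.trans inf_le_left),
      ti_sup H hWt hW't fun a ha c hc => zero_swap H ((hW' hc).2 a (hWP ha)), fun x hx => ?_, ?_⟩
    · obtain ⟨a, ha, c, hc, rfl⟩ := Submodule.mem_sup.mp hx
      rw [map_add]
      exact Submodule.add_mem_sup (hWi a ha) (hW'i c hc)
    · have h1 := Submodule.finrank_sup_add_finrank_inf_eq W W'
      rw [show W ⊓ W' = ⊥ from eq_bot_iff.mpr fun x hx => (isCompl_orth H hP).inf_eq_bot.le ⟨hWP hx.1, (hW' hx.2).2⟩,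
        finrank_bot, hWd, hW'd] at h1
      rw [Nat.mul_succ]
      omega

variable (hσ : IsUSigma q σ)
include hσ

/-- A scalar map leaves totally isotropic subspaces of every possible dimension invariant. -/
theorem exists_ts_sub (H : UCount.IsHermND σ h) {g : End F V} {Y : Submodule F V} (hY : ND h Y) {t : F}
    (ht : ∀ x ∈ Y, g x = t • x) {k : ℕ} (hk : 2 * k ≤ finrank F Y) :
    ∃ W ≤ Y, TI h W ∧ (∀ x ∈ W, g x ∈ W) ∧ finrank F W = k := by
  haveI : Finite V := Module.finite_of_finite F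
  have HY := herm_sub H hY
  have hpos : 0 < Nat.card (TSFrames.Fr F (rf h Y) k) := by
    rw [UFrames.card_fr hσ k _ HY rfl]
    exact UFrames.fu_pos hσ.two_le k _ hk
  obtain ⟨⟨s, hs, hs0⟩⟩ := (Nat.card_pos_iff.mp hpos).1
  refine ⟨(Submodule.span F (Set.range s)).map Y.subtype, Submodule.map_subtype_le _ _, ?_, ?_, ?_⟩
  · rintro _ ⟨x, hx, rfl⟩ _ ⟨y, hy, rfl⟩
    exact (UFrames.sesq HY).span_zero hs0 hx hy
  · rintro x hx
    rw [ht x (Submodule.map_subtype_le _ _ hx)]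
    exact Submodule.smul_mem _ t hx
  · rw [Submodule.finrank_map_subtype_eq, finrank_span_eq_card hs, Fintype.card_fin]

/-- The kernel of a polynomial in an isometry whose inverse is an odd Frobenius power is nondegenerate. -/
theorem ker_nd (H : UCount.IsHermND σ h) {g : End F V} (hss : g.IsSemisimple) {b : ℕ} (hb : Odd b)
    (hadj : ∀ u v, h (g u) v = h u ((g ^ (q ^ b)) v)) (f : F[X]) : ND h (LinearMap.ker (aeval g f)) := by
  have hcomm : ∀ (P : F[X]) x, aeval g P (g x) = g (aeval g P x) := fun P x => by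
    have e : aeval g (P * X) = aeval g (X * P) := by rw [mul_comm]
    rw [map_mul, map_mul, aeval_X] at e
    exact LinearMap.congr_fun e x
  obtain ⟨T, hT⟩ : ∃ T, T = aeval g f := ⟨_, rfl⟩
  have hperp : ∀ u v, T v = 0 → h (T u) v = 0 := by
    intro u v hv
    have hQ1 : 1 ≤ q ^ b := Nat.one_le_pow _ _ (by have := hσ.two_le; omega)
    have e : aeval (g ^ (q ^ b)) (f.map (σ : F →+* F)) = T ^ (q ^ b) := by
      rw [hT, ← map_pow, poly_pow hσ _ hb, aeval_comp, map_pow, aeval_X]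
    rw [hT, aeval_adjoint hσ H hadj, e, ← Nat.sub_add_cancel hQ1, pow_succ, Module.End.mul_apply, hv, map_zero,
      H.zero_right]
  rw [← hT]
  intro x hx h0
  obtain ⟨U, hU, hc⟩ := Module.End.isSemisimple_iff.1 hss (LinearMap.ker T) fun y hy => by
    show T (g y) = 0
    rw [hT, hcomm, ← hT, LinearMap.mem_ker.mp hy, map_zero]
  have hUT : ∀ u ∈ U, T u ∈ U := fun u hu => by
    have hUi : ∀ y ∈ U, g y ∈ U := fun y hy => hU hy
    have : ∀ P : F[X], aeval g P u ∈ U := by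
      intro P
      induction P using Polynomial.induction_on' with
      | add a c ha hc => rw [map_add, LinearMap.add_apply]; exact U.add_mem ha hc
      | monomial m a =>
        rw [aeval_monomial, Module.End.mul_apply, Module.algebraMap_end_apply, ← Free.restrict_pow hUi m ⟨u, hu⟩]
        exact U.smul_mem _ (Subtype.coe_prop _)
    rw [hT]; exact this f
  have hsurj : Function.Surjective (T.restrict hUT) := LinearMap.injective_iff_surjective.mp
    ((injective_iff_map_eq_zero _).mpr fun u hu => Subtype.ext ((Submodule.mem_bot F).mp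
      (hc.inf_eq_bot.le ⟨congrArg Subtype.val hu, u.2⟩)))
  refine H.nondeg x fun v => ?_
  obtain ⟨a, ha, c, hc', rfl⟩ := Submodule.mem_sup.mp (hc.sup_eq_top.ge (Submodule.mem_top (x := v)))
  obtain ⟨w, hw⟩ := hsurj ⟨c, hc'⟩
  have hc0 : h x c = 0 := zero_swap H (by
    rw [show c = T w.1 from (congrArg Subtype.val hw).symm]
    exact hperp _ _ hx)
  rw [H.add_right, h0 a ha, hc0, add_zero]

/-- Two irreducible pieces with the same self-conjugate polynomial contain a totally isotropic one. -/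
theorem pair_cyclic (H : UCount.IsHermND σ h) {g : End F V} (hg : ∀ u v, h (g u) (g v) = h u v) {f : F[X]}
    (hfi : Irreducible f) (hfm : f.Monic) {b : ℕ} (hfd : f.natDegree = b) (hb : Odd b) (hkill : aeval g f = 0)
    (hadj : ∀ u v, h (g u) v = h u ((g ^ (q ^ b)) v)) (hV : 2 * b ≤ finrank F V) : Pair h g ⊤ b := by
  classical
  haveI : Fact (Irreducible f) := ⟨hfi⟩
  haveI : Module.Finite F (AdjoinRoot f) := (AdjoinRoot.powerBasis' hfm).finite
  haveI : Finite (AdjoinRoot f) := Module.finite_of_finite F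
  haveI : Fintype (AdjoinRoot f) := Fintype.ofFinite _
  have hEd : finrank F (AdjoinRoot f) = b := by
    rw [(AdjoinRoot.powerBasis' hfm).finrank, AdjoinRoot.powerBasis'_dim, hfd]
  have hbpos := hb.pos
  let ρ : AdjoinRoot f →ₗ[F] End F V := (aeval g).toLinearMap ∘ₗ AdjoinRoot.modByMonicHom hfm
  have hρ : ∀ P : F[X], ρ (AdjoinRoot.mk f P) = aeval g P := fun P => by
    show aeval g (P %ₘ f) = _
    conv_rhs => rw [← modByMonic_add_div P f, map_add, map_mul, hkill, zero_mul, add_zero]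
  have hmul : ∀ e e', ρ (e * e') = ρ e * ρ e' := fun e e' => by
    obtain ⟨P, rfl⟩ := AdjoinRoot.mk_surjective e
    obtain ⟨P', rfl⟩ := AdjoinRoot.mk_surjective e'
    rw [← map_mul, hρ, hρ, hρ, map_mul]
  have hone : ρ 1 = 1 := by rw [← map_one (AdjoinRoot.mk f), hρ, map_one]
  obtain ⟨Q, hQ⟩ : ∃ Q, Q = q ^ b := ⟨_, rfl⟩
  have hQ2 : 2 ≤ Q := hQ ▸ le_trans hσ.two_le (Nat.le_self_pow hbpos.ne' q)
  have hcardE : Fintype.card (AdjoinRoot f) = Q * Q := by
    rw [Module.card_eq_pow_finrank (K := F), hEd, hσ.card, hQ, ← pow_mul, ← pow_add, two_mul]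
  have hQQ : ∀ e : AdjoinRoot f, (e ^ Q) ^ Q = e := fun e => by rw [← pow_mul, ← hcardE, FiniteField.pow_card]
  have hadjρ : ∀ e u v, h (ρ e u) v = h u (ρ (e ^ Q) v) := by
    intro e u v
    obtain ⟨P, rfl⟩ := AdjoinRoot.mk_surjective e
    rw [← map_pow, hρ, hρ, aeval_adjoint hσ H hadj, hQ, poly_pow hσ _ hb, aeval_comp, map_pow, aeval_X]
  have hadjρ' : ∀ e u v, h u (ρ e v) = h (ρ (e ^ Q) u) v := fun e u v => by rw [hadjρ, hQQ]
  let L : V → (AdjoinRoot f →ₗ[F] V) := fun v => (LinearMap.applyₗ v).comp ρ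
  have hL : ∀ v e, L v e = ρ e v := fun _ _ => rfl
  have hLinj : ∀ v, v ≠ 0 → Function.Injective (L v) := fun v hv => (injective_iff_map_eq_zero _).mpr fun e he => by
    by_contra h0
    refine hv ?_
    have e1 : ρ (e⁻¹ * e) v = 0 := by rw [hmul, Module.End.mul_apply, ← hL v e, he, map_zero]
    rwa [inv_mul_cancel₀ h0, hone] at e1
  have hLd : ∀ v, v ≠ 0 → finrank F (LinearMap.range (L v)) = b := fun v hv => by
    rw [LinearMap.finrank_range_of_inj (hLinj v hv), hEd]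
  have hLi : ∀ v, ∀ x ∈ LinearMap.range (L v), g x ∈ LinearMap.range (L v) := by
    rintro v _ ⟨e, rfl⟩
    refine ⟨AdjoinRoot.mk f X * e, ?_⟩
    rw [hL, hmul, hρ, aeval_X]
    rfl
  have hLn : ∀ v, h v v ≠ 0 → ND h (LinearMap.range (L v)) := by
    rintro v hv _ ⟨e, rfl⟩ h0
    by_contra hne
    have he : e ≠ 0 := fun e0 => hne (by rw [e0, map_zero])
    have h1 := h0 _ ⟨(e ^ Q)⁻¹, rfl⟩
    rw [hL, hL, hadjρ, ← Module.End.mul_apply, ← hmul, mul_inv_cancel₀ (pow_ne_zero Q he), hone] at h1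
    exact hv h1
  let φ : V → (AdjoinRoot f →ₗ[F] F) := fun v => (H.func v).comp (L v)
  have hφ : ∀ v e, φ v e = h (ρ e v) v := fun _ _ => rfl
  have hconj : ∀ v e, φ v (e ^ Q) = σ (φ v e) := fun v e => by
    rw [hφ, hφ, H.symm, hadjρ, hQQ]
  obtain ⟨v₁, -, hv₁⟩ := exists_anisotropic_in hσ H (nd_top H) (fun e => by
    rw [← finrank_top F V, e, finrank_bot] at hV; omega)
  have hv₁0 : v₁ ≠ 0 := fun e => hv₁ (by rw [e, H.zero_left])
  obtain ⟨hn, hi, hd, hsup⟩ := glue H hg (nd_top H) (fun _ _ => trivial) le_top (hLn v₁ hv₁) (hLi v₁)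
  rw [hLd v₁ hv₁0, finrank_top] at hd
  obtain ⟨v₂, hv₂m, hv₂⟩ := exists_anisotropic_in hσ H hn (fun e => by rw [e, finrank_bot] at hd; omega)
  have hv₂0 : v₂ ≠ 0 := fun e => hv₂ (by rw [e, H.zero_left])
  have hU₂ : LinearMap.range (L v₂) ≤ ⊤ ⊓ orth H (LinearMap.range (L v₁)) := by
    rintro _ ⟨e, rfl⟩
    refine ⟨trivial, ?_⟩
    rintro _ ⟨e', rfl⟩
    rw [hL, hL, hadjρ, ← Module.End.mul_apply, ← hmul]
    exact hv₂m.2 _ ⟨_, rfl⟩
  let Ψ : AdjoinRoot f → Module.Dual F (AdjoinRoot f) := fun A => (φ v₂).comp (LinearMap.mulRight F A)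
  have hΨ : ∀ A e, Ψ A e = φ v₂ (e * A) := fun _ _ => rfl
  have hΨinj : Function.Injective Ψ := fun A A' e => by
    by_contra hne
    have h1 := LinearMap.congr_fun e (A - A')⁻¹
    rw [hΨ, hΨ, ← sub_eq_zero, ← map_sub, ← mul_sub, inv_mul_cancel₀ (sub_ne_zero.mpr hne), hφ, hone] at h1
    exact hv₂ h1
  haveI : Finite (Module.Dual F (AdjoinRoot f)) := Module.finite_of_finite F
  have hΨsurj : Function.Surjective Ψ := ((Nat.bijective_iff_injective_and_card Ψ).mpr ⟨hΨinj, by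
    rw [Module.natCard_eq_pow_finrank (K := F), Module.natCard_eq_pow_finrank (K := F) (V := Module.Dual F (AdjoinRoot f)),
      Subspace.dual_finrank_eq]⟩).2
  obtain ⟨A, hA⟩ := hΨsurj (-φ v₁)
  have hA' : ∀ e, φ v₂ (e * A) = -φ v₁ e := fun e => by rw [← hΨ, hA]; rfl
  have hA0 : A ≠ 0 := fun h0 => hv₁ (by
    have h1 := hA' 1
    rw [h0, mul_zero, map_zero, hφ, hone, eq_comm, neg_eq_zero] at h1
    exact h1)
  have hAQ : A ^ Q = A := hΨinj (LinearMap.ext fun e => by
    rw [hΨ, hΨ, ← hQQ e]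
    obtain ⟨e', he'⟩ : ∃ e', e' = e ^ Q := ⟨_, rfl⟩
    rw [← he', ← mul_pow, hconj, hA', hA', map_neg, ← hconj])
  obtain ⟨S, hS⟩ : ∃ S, S ^ (Q + 1) = A := by
    obtain ⟨γ, hγ⟩ := IsCyclic.exists_generator (α := (AdjoinRoot f)ˣ)
    have hord : orderOf γ = Q * Q - 1 := by
      rw [orderOf_eq_card_of_forall_mem_zpowers hγ, Nat.card_units, Nat.card_eq_fintype_card, hcardE]
    obtain ⟨a, ha⟩ := Submonoid.mem_powers_iff _ _ |>.mp (mem_powers_iff_mem_zpowers.mpr (hγ (Units.mk0 A hA0)))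
    have h1 : γ ^ (a * (Q - 1)) = 1 := by
      rw [pow_mul, ha]
      refine Units.ext (mul_right_cancel₀ hA0 ?_)
      rw [Units.val_pow_eq_pow_val, Units.val_mk0, Units.val_one, one_mul, ← pow_succ, Nat.sub_add_cancel (by omega), hAQ]
    rw [← orderOf_dvd_iff_pow_eq_one, hord, show Q * Q - 1 = (Q + 1) * (Q - 1) by
      rw [← Nat.sq_sub_sq, one_pow, pow_two]] at h1
    obtain ⟨c, hc⟩ := Nat.dvd_of_mul_dvd_mul_right (show 0 < Q - 1 by omega) h1
    refine ⟨((γ ^ c : (AdjoinRoot f)ˣ) : AdjoinRoot f), ?_⟩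
    rw [← Units.val_pow_eq_pow_val, ← pow_mul, mul_comm, ← hc, ha, Units.val_mk0]
  obtain ⟨w, hw⟩ : ∃ w, w = v₁ + ρ S v₂ := ⟨_, rfl⟩
  have hcross : ∀ e e', h (ρ e v₁) (ρ e' v₂) = 0 := fun e e' =>
    zero_swap H ((hU₂ ⟨e', rfl⟩).2 _ ⟨e, rfl⟩)
  have hwe : ∀ e, h (ρ e w) w = 0 := fun e => by
    have h1 : h (ρ e v₁) (ρ S v₂) = 0 := hcross e S
    have h2 : h (ρ e (ρ S v₂)) v₁ = 0 := by
      rw [← Module.End.mul_apply, ← hmul]
      have := zero_swap H (hcross 1 (e * S))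
      rwa [hone, Module.End.one_apply] at this
    have h3 : h (ρ e (ρ S v₂)) (ρ S v₂) = -h (ρ e v₁) v₁ := by
      rw [← Module.End.mul_apply, ← hmul, hadjρ', ← Module.End.mul_apply, ← hmul, ← hφ,
        show S ^ Q * (e * S) = e * S ^ (Q + 1) by rw [pow_succ]; ring, hS, hA', hφ]
    rw [hw, map_add, H.add_left, H.add_right, H.add_right, h1, h2, h3]
    ring
  have hw0 : w ≠ 0 := fun e => hv₁ (by
    have h1 : h w v₁ = h v₁ v₁ := by
      have h2 := zero_swap H (hcross 1 S)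
      rw [hone, Module.End.one_apply] at h2
      rw [hw, H.add_left, h2, add_zero]
    rw [← h1, e, H.zero_left])
  obtain ⟨hP, hPi, hPd⟩ := hsup _ hU₂ (hLn v₂ hv₂) (hLi v₂)
  refine ⟨_, le_top, hP, hPi, by rw [hPd, hLd v₁ hv₁0, hLd v₂ hv₂0, two_mul], LinearMap.range (L w), ?_, ?_, hLi w,
    hLd w hw0⟩
  · rintro _ ⟨e, rfl⟩
    rw [hL, hw, map_add, ← Module.End.mul_apply, ← hmul]
    exact Submodule.add_mem_sup ⟨e, rfl⟩ ⟨_, rfl⟩
  · rintro _ ⟨e, rfl⟩ _ ⟨e', rfl⟩
    rw [hL, hL, hadjρ', ← Module.End.mul_apply, ← hmul]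
    exact hwe _

/-- With more pieces than polynomial classes, a totally isotropic piece exists. -/
theorem pair_pigeon (H : UCount.IsHermND σ h) {g : End F V} (hg : ∀ u v, h (g u) (g v) = h u v) {r : ℕ}
    (hr : r.Prime) (hr2 : r ≠ 2) (hr0 : (r : F) ≠ 0) (hgr : g ^ r = 1) (hfix : ∀ v, g v = v → v = 0)
    (hb : Odd (deg q r)) (hneg : (q : ZMod r) ^ deg q r = -1)
    (hV : deg q r * ((r - 1) / deg q r + 1) ≤ finrank F V) : Pair h g ⊤ (deg q r) := by
  classical
  haveI : Fact r.Prime := ⟨hr⟩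
  have hf : Free.IsFree (0 : LinearMap.BilinForm F V) g r := ⟨hr, hr2, hr0, hgr, hfix, fun _ _ => rfl⟩
  obtain ⟨k, qs, ⟨Bl⟩, hch, hqs⟩ := Elusive.exists_blocks (finrank F V) g le_rfl hf.semisimple
    (X ^ r - 1) (by rw [map_sub, map_pow, aeval_X, map_one, hgr, sub_self])
  have hne1 : ∀ j, qs j ≠ X - C 1 := fun j he => by
    obtain ⟨v, hv, hqv⟩ := Cfsg.Agent.Small.Semisimple.exists_ker g (hqs j).1
      (hch ▸ Finset.dvd_prod_of_mem _ (Finset.mem_univ j))
    rw [he, map_sub, aeval_X, aeval_C, map_one, LinearMap.sub_apply, Module.End.one_apply, sub_eq_zero] at hqv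
    exact hv (hfix v hqv)
  have hdeg : ∀ j, (qs j).natDegree = deg q r := fun j => by
    rw [Elusive.natDegree_factor (hqs j).1 (hqs j).2.1 (hqs j).2.2 (hne1 j), deg_card hσ]
  have hk : k * deg q r = finrank F V := by
    rw [← Bl.sum_eq, Finset.sum_congr rfl fun j _ => hdeg j, Finset.sum_const, Finset.card_univ, Fintype.card_fin,
      smul_eq_mul]
  obtain ⟨i, j, hij, he⟩ : ∃ i j, i ≠ j ∧ qs i = qs j := by
    by_contra hno
    push Not at hno
    have hinj : Function.Injective qs := fun i j e => by_contra fun hne => hno i j hne e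
    have hc := Free.card_factors hr hr0 (Finset.univ.image qs) fun f hf => by
      obtain ⟨j, -, rfl⟩ := Finset.mem_image.mp hf
      exact ⟨(hqs j).1, (hqs j).2.1, (hqs j).2.2, hne1 j⟩
    rw [Finset.card_image_of_injective _ hinj, Finset.card_univ, Fintype.card_fin, deg_card hσ] at hc
    have h1 : k ≤ (r - 1) / deg q r := (Nat.le_div_iff_mul_le hb.pos).mpr hc
    have h2 : deg q r * k + deg q r ≤ deg q r * ((r - 1) / deg q r + 1) := by
      rw [Nat.mul_add, mul_one]; exact Nat.add_le_add_right (Nat.mul_le_mul_left _ h1) _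
    have := hb.pos
    rw [mul_comm] at hk
    omega
  have hQ : g ^ (r - 1) = g ^ (q ^ deg q r) := by
    have e1 : ((q ^ deg q r : ℕ) : ZMod r) = ((r - 1 : ℕ) : ZMod r) := by
      rw [Nat.cast_pow, hneg, Nat.cast_sub hr.one_le, ZMod.natCast_self, Nat.cast_one, zero_sub]
    rw [pow_eq_pow_mod (q ^ deg q r) hgr, (ZMod.natCast_eq_natCast_iff' _ _ _).mp e1,
      Nat.mod_eq_of_lt (by have := hr.one_le; omega)]
  have hadj : ∀ u v, h (g u) v = h u ((g ^ (q ^ deg q r)) v) := fun u v => by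
    rw [← hQ, ← hg u ((g ^ (r - 1)) v), ← Module.End.mul_apply, ← pow_succ', Nat.sub_add_cancel hr.one_le, hgr,
      Module.End.one_apply]
  obtain ⟨C, hC⟩ : ∃ C, C = LinearMap.ker (aeval g (qs i)) := ⟨_, rfl⟩
  have hCn : ND h C := hC ▸ ker_nd hσ H hf.semisimple hb hadj _
  have hCi : ∀ x ∈ C, g x ∈ C := fun x hx => by
    rw [hC, LinearMap.mem_ker] at hx ⊢
    have e : aeval g (qs i * X) = aeval g (X * qs i) := by rw [mul_comm]
    rw [map_mul, map_mul, aeval_X] at e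
    rw [← Module.End.mul_apply, e, Module.End.mul_apply, hx, map_zero]
  have hres : ∀ (P : F[X]) (U : Submodule F V) (hU : ∀ x ∈ U, g x ∈ U) (y : U),
      ((aeval (g.restrict hU) P y : U) : V) = aeval g P (y : V) := by
    intro P U hU y
    induction P using Polynomial.induction_on' with
    | add a c ha hc => simp [ha, hc]
    | monomial m a =>
      simp only [aeval_monomial, Module.End.mul_apply, Module.algebraMap_end_apply, SetLike.val_smul]
      rw [Free.restrict_pow hU m y]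
  have hCd : 2 * deg q r ≤ finrank F C := by
    obtain ⟨U, hU, hc⟩ := Module.End.isSemisimple_iff.1 hf.semisimple C hCi
    have hcop : ¬ qs i ∣ (g.restrict hU).charpoly := fun hd => by
      obtain ⟨v, hv, hqv⟩ := Cfsg.Agent.Small.Semisimple.exists_ker (g.restrict hU) (hqs i).1 hd
      refine hv (Subtype.ext ((Submodule.mem_bot F).mp (hc.inf_eq_bot.le ⟨?_, v.2⟩)))
      rw [hC]
      refine LinearMap.mem_ker.mpr ?_
      rw [← hres _ U hU v, hqv]; rfl
    have hdvd : qs i ^ 2 ∣ g.charpoly := by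
      rw [hch, ← Finset.mul_prod_erase Finset.univ qs (Finset.mem_univ i), pow_two]
      exact mul_dvd_mul_left _ (he ▸ Finset.dvd_prod_of_mem qs (Finset.mem_erase.mpr ⟨hij.symm, Finset.mem_univ j⟩))
    rw [Elusive.charpoly_pieces hc (U := C) hCi hU] at hdvd
    have h1 := natDegree_le_of_dvd ((hqs i).1.prime.pow_dvd_of_dvd_mul_right 2 hcop hdvd)
      (LinearMap.charpoly_monic _).ne_zero
    rwa [natDegree_pow, hdeg, LinearMap.charpoly_natDegree] at h1
  have hpair : Pair (rf h C) (g.restrict hCi) ⊤ (deg q r) :=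
    pair_cyclic hσ (herm_sub H hCn) (g := g.restrict hCi) (fun u v => hg u.1 v.1) (hqs i).1 (hqs i).2.1 (hdeg i) hb
      (LinearMap.ext fun y => Subtype.ext (by rw [hres]; exact LinearMap.mem_ker.mp (hC ▸ y.2)))
      (fun u v => by
        show h (g u.1) v.1 = h u.1 _
        rw [hadj, Free.restrict_pow hCi]) hCd
  obtain ⟨P, -, h1, h2, h3, h4⟩ := pair_of_top hCi hpair
  exact ⟨P, le_top, h1, h2, h3, h4⟩

end Cfsg.Agent.Classical.Elusive.HermEl
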