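import Cfsg.Agent.Lib.Classical.Elusive.HermTsModels
import Cfsg.Agent.Lib.Classical.Elusive.HermNdIff

/-!
# Elements of prime order of unitary groups and totally isotropic subspaces
-/

set_option autoImplicit false
set_option linter.unusedSectionVars false
set_option linter.style.haveILetI false
set_option maxHeartbeats 400000

universe u

namespace Cfsg.Agent.Classical.Elusive.HermEl

open Module Polynomial

variable {F : Type u} [Field F] [Fintype F] {σ : F ≃+* F} {q : ℕ} (hσ : IsUSigma q σ) {n m : ℕ}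

/-- Every element of order `r` of the projective group fixes a totally isotropic `m`-space. -/
def AllTs (F : Type u) [Field F] (q n m r : ℕ) : Prop :=
  ∀ x : Matrix.SpecialLinearGroup (Fin n) F, x ∈ Cfsg.SU n F q →
    (∃ z : F, ((x ^ r : Matrix.SpecialLinearGroup (Fin n) F) : Matrix (Fin n) (Fin n) F) = z • (1 : Matrix (Fin n) (Fin n) F)) →
    (∀ z : F, (x : Matrix (Fin n) (Fin n) F) ≠ z • (1 : Matrix (Fin n) (Fin n) F)) →
    ∃ W : Submodule F (Fin n → F), finrank F ↥W = m ∧ TI (Cfsg.hermForm n F q) W ∧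
      W.map (Matrix.toLin' (x : Matrix (Fin n) (Fin n) F)) ≤ W

theorem fu_eq (q : ℕ) : ∀ k n : ℕ, UFrames.fu q k n =
    (∏ i ∈ Finset.range k, (q ^ 2) ^ i) * ∏ l ∈ Finset.range k, UFrames.iso q (n - 2 * l)
  | 0, n => by simp [UFrames.fu]
  | k + 1, n => by
    rw [UFrames.fu, fu_eq q k (n - 2), Finset.prod_range_succ (fun i => (q ^ 2) ^ i), Finset.prod_range_succ',
      Nat.mul_zero, Nat.sub_zero, Finset.prod_congr rfl fun l _ => show UFrames.iso q (n - 2 * (l + 1)) =
        UFrames.iso q (n - 2 - 2 * l) by rw [show n - 2 * (l + 1) = n - 2 - 2 * l by omega]]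
    ring

include hσ

/-- A prime dividing the number of totally isotropic subspaces divides a factor of the group order. -/
theorem prime_dvd_ts {r : ℕ} (hr : r.Prime) (hm : 2 * m ≤ n)
    (hdvd : r ∣ Nat.card {W : Submodule F (Fin n → F) // finrank F W = m ∧ TI (Cfsg.hermForm n F q) W}) :
    ¬ r ∣ q ∧ ∃ j, n - 2 * m < j ∧ j ≤ n ∧ r ∣ if Odd j then q ^ j + 1 else q ^ j - 1 := by
  classical
  have H := herm_std hσ n
  haveI : Finite (Submodule F (Fin n → F)) := Finite.of_injective _ SetLike.coe_injective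
  let P := {W : Submodule F (Fin n → F) // finrank F W = m ∧ TI (Cfsg.hermForm n F q) W}
  haveI : Fintype P := Fintype.ofFinite _
  let sp : TSFrames.Fr F (Cfsg.hermForm n F q) m → P := fun s => ⟨Submodule.span F (Set.range s.1),
    by rw [finrank_span_eq_card s.2.1, Fintype.card_fin],
    fun x hx y hy => (UFrames.sesq H).span_zero s.2.2 hx hy⟩
  have hfib : ∀ W : P, Nat.card {s // sp s = W} = ∏ i : Fin m, ((q ^ 2) ^ m - (q ^ 2) ^ (i : ℕ)) := fun W => by
    rw [Nat.card_congr (Equiv.subtypeEquivRight (q := fun s : TSFrames.Fr F (Cfsg.hermForm n F q) m =>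
      Submodule.span F (Set.range s.1) = W.1) fun s => Subtype.ext_iff), TSFrames.card_spanning W.2.1 W.2.2,
      Nat.card_eq_fintype_card, hσ.card]
  have hcount : Nat.card P * ∏ k ∈ Finset.range m, ((q ^ 2) ^ (m - k) - 1) =
      ∏ l ∈ Finset.range m, UFrames.iso q (n - 2 * l) := by
    have h1 := Nat.card_congr (Equiv.sigmaFiberEquiv sp)
    rw [Nat.card_sigma, Finset.sum_congr rfl fun W _ => hfib W, Finset.sum_const, Finset.card_univ, smul_eq_mul,
      UFrames.card_fr hσ m n H (Module.finrank_fin_fun F), fu_eq, ← Nat.card_eq_fintype_card,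
      ← Finset.prod_range (fun i => (q ^ 2) ^ m - (q ^ 2) ^ i)] at h1
    have h2 : ∏ i ∈ Finset.range m, ((q ^ 2) ^ m - (q ^ 2) ^ i) =
        (∏ i ∈ Finset.range m, (q ^ 2) ^ i) * ∏ k ∈ Finset.range m, ((q ^ 2) ^ (m - k) - 1) := by
      rw [← Finset.prod_mul_distrib]
      refine Finset.prod_congr rfl fun i hi => ?_
      rw [Nat.mul_sub, mul_one, ← pow_add, Nat.add_sub_cancel' (Finset.mem_range.mp hi).le]
    rw [h2, mul_left_comm] at h1
    refine Nat.eq_of_mul_eq_mul_left (Finset.prod_pos fun i _ => ?_) h1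
    have := hσ.two_le
    positivity
  obtain ⟨l, hl, h1⟩ := (hr.prime.dvd_finsetProd_iff _).mp (hcount ▸ hdvd.mul_right _)
  rw [Finset.mem_range] at hl
  have hkey : ∀ j, n - 2 * m < j → j ≤ n → (r ∣ if Odd j then q ^ j + 1 else q ^ j - 1) →
      ¬ r ∣ q ∧ ∃ j, n - 2 * m < j ∧ j ≤ n ∧ r ∣ if Odd j then q ^ j + 1 else q ^ j - 1 := by
    intro j hj1 hj2 hd
    refine ⟨fun hq => hr.one_lt.ne' (Nat.dvd_one.mp ?_), j, hj1, hj2, hd⟩
    have hqj : r ∣ q ^ j := dvd_pow hq (by omega)
    have h2 : 1 ≤ q ^ j := Nat.one_le_pow _ _ (by have := hσ.two_le; omega)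
    split_ifs at hd with ho
    · exact (Nat.dvd_add_right hqj).mp hd
    · have h3 := Nat.dvd_sub hqj hd
      rwa [show q ^ j - (q ^ j - 1) = 1 by omega] at h3
  obtain ⟨i, hi⟩ : ∃ i, n - 2 * l = i + 2 := ⟨n - 2 * l - 2, by omega⟩
  rw [hi, UFrames.iso, show i + 2 - 1 = i + 1 by omega] at h1
  rcases Nat.even_or_odd i with he | ho
  · rw [if_pos (he.add even_two)] at h1
    rcases hr.dvd_mul.mp h1 with h2 | h2
    · exact hkey (i + 2) (by omega) (by omega) (by rwa [if_neg (Nat.not_odd_iff_even.mpr (he.add even_two))])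
    · exact hkey (i + 1) (by omega) (by omega) (by rwa [if_pos he.add_one])
  · rw [if_neg (Nat.not_even_iff_odd.mpr (ho.add_even even_two))] at h1
    rcases hr.dvd_mul.mp h1 with h2 | h2
    · exact hkey (i + 2) (by omega) (by omega) (by rwa [if_pos (ho.add_even even_two)])
    · exact hkey (i + 1) (by omega) (by omega) (by rwa [if_neg (Nat.not_odd_iff_even.mpr ho.add_one)])

/-- Diagonal elements with many odd multiplicities. -/
theorem spread_witness {ι : Type} [Fintype ι] [DecidableEq ι] (val : ι → F) (hval : Function.Injective val)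
    (hnorm : ∀ a, val a * σ (val a) = 1) {r : ℕ} {z : F} (hpow : ∀ a, val a ^ r = z) {d E : ℕ} (hn : n = d + 2 * E)
    (hd : 2 ≤ d) (A : Fin d → ι) (hA : Function.Injective A) (e : Fin E → ι)
    (hdet : (∏ i, val (A i)) * (∏ j, val (e j)) ^ 2 = 1) :
    ∃ x : Matrix.SpecialLinearGroup (Fin n) F, x ∈ Cfsg.SU n F q ∧
      (∃ z : F, ((x ^ r : Matrix.SpecialLinearGroup (Fin n) F) : Matrix (Fin n) (Fin n) F) = z • (1 : Matrix (Fin n) (Fin n) F)) ∧
      (∀ t : F, (x : Matrix (Fin n) (Fin n) F) ≠ t • (1 : Matrix (Fin n) (Fin n) F)) ∧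
      ∀ W : Submodule F (Fin n → F), TI (Cfsg.hermForm n F q) W →
        W.map (Matrix.toLin' (x : Matrix (Fin n) (Fin n) F)) ≤ W → finrank F W ≤ E := by
  classical
  let ε : Fin n ≃ Fin d ⊕ (Fin E × Fin 2) := (Fintype.equivFinOfCardEq (α := Fin d ⊕ (Fin E × Fin 2)) (by
    simp only [Fintype.card_sum, Fintype.card_prod, Fintype.card_fin]
    omega)).symm
  let c : Fin d ⊕ (Fin E × Fin 2) → ι := Sum.elim A fun p => e p.1
  obtain ⟨x, hx, hz, hns, hW⟩ := diag_witness hσ (fun i => c (ε i)) val hval hnorm hpow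
    (by
      rw [ε.prod_comp (fun y => val (c y)), Fintype.prod_sum_type, Fintype.prod_prod_type]
      simpa [c, Fin.prod_univ_two, Finset.prod_mul_distrib, pow_two] using hdet)
    (i₀ := ε.symm (Sum.inl ⟨0, by omega⟩)) (i₁ := ε.symm (Sum.inl ⟨1, by omega⟩))
    (by
      simp only [Equiv.apply_symm_apply, c, Sum.elim_inl]
      exact fun h => by simpa using hA h)
  refine ⟨x, hx, hz, hns, fun W h1 h2 => (hW W h1 h2).trans ?_⟩
  have hcnt : ∀ a, (Finset.univ.filter fun k => c (ε k) = a).card =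
      (Finset.univ.filter fun i => A i = a).card + 2 * (Finset.univ.filter fun j => e j = a).card := fun a => by
    simp only [Finset.card_filter]
    rw [ε.sum_comp (fun y => if c y = a then 1 else 0), Fintype.sum_sum_type, Fintype.sum_prod_type, Finset.mul_sum]
    simp only [c, Sum.elim_inl, Sum.elim_inr, Fin.sum_univ_two, two_mul, Finset.sum_add_distrib]
    congr 1
  have hone : ∀ a, (Finset.univ.filter fun i => A i = a).card ≤ 1 := fun a =>
    Finset.card_le_one.mpr fun i hi j hj => hA (by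
      rw [Finset.mem_filter] at hi hj
      rw [hi.2, hj.2])
  rw [Finset.sum_congr rfl fun a _ => show (Finset.univ.filter fun k => c (ε k) = a).card / 2 =
    (Finset.univ.filter fun j => e j = a).card by have := hone a; have := hcnt a; omega]
  rw [Finset.sum_card_fiberwise_eq_card_filter]
  exact (Finset.card_filter_le _ _).trans (by simp)

/-- The criterion for two, odd characteristic. -/
theorem all_ts_two (h2 : (2 : F) ≠ 0) (hn : 0 < n) (hm1 : 1 ≤ m) (hmn : 2 * m ≤ n) :
    AllTs F q n m 2 ↔ (2 * m < n ∨ padicValNat 2 (q + 1) ≤ padicValNat 2 n) := by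
  haveI : Fact (Nat.Prime 2) := ⟨Nat.prime_two⟩
  have H := herm_std hσ n
  have hq2 := hσ.two_le
  constructor
  · intro Hall
    by_contra hc
    rw [not_or, not_lt, not_le] at hc
    obtain ⟨hn2, hv⟩ := hc
    have hq1 : 2 ∣ q + 1 := by
      by_contra hd
      rw [padicValNat.eq_zero_of_not_dvd hd] at hv
      omega
    obtain ⟨z, hz, hzo, hnr⟩ := exists_nonroot hσ Nat.prime_two hq1
    have hord := (root_or_order hσ Nat.prime_two hz).resolve_left fun ⟨w, e1, e2⟩ => hnr w e1 e2
    have hneg : z ^ 2 ^ (padicValNat 2 (q + 1) - 1) = -1 := by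
      have h1 : (z ^ 2 ^ (padicValNat 2 (q + 1) - 1)) ^ 2 = 1 := by
        rw [← pow_mul, ← pow_succ, Nat.sub_add_cancel (by omega), hzo]
      refine (sq_eq_one_iff.mp h1).resolve_left fun h => ?_
      have h3 := (Nat.pow_dvd_pow_iff_le_right (show 1 < 2 by norm_num)).mp (hord _ h)
      omega
    obtain ⟨w, hw⟩ : ∃ w, w = z ^ 2 ^ (padicValNat 2 (q + 1) - 1 - padicValNat 2 n) := ⟨_, rfl⟩
    have hwn : w * σ w = 1 := by rw [hw, map_pow, ← mul_pow, hz, one_pow]
    obtain ⟨M, hM⟩ : 2 ^ padicValNat 2 n ∣ n := pow_padicValNat_dvd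
    have hModd : Odd M := Nat.not_even_iff_odd.mp fun ⟨l, hl⟩ =>
      pow_succ_padicValNat_not_dvd (p := 2) hn.ne' ⟨l, by
        calc n = 2 ^ padicValNat 2 n * M := hM
          _ = _ := by rw [hl, pow_succ]; ring⟩
    have hwN : w ^ n = -1 := by
      conv_lhs => rw [hM]
      rw [pow_mul, hw, ← pow_mul z, ← pow_add,
        show padicValNat 2 (q + 1) - 1 - padicValNat 2 n + padicValNat 2 n = padicValNat 2 (q + 1) - 1 by omega,
        hneg, hModd.neg_one_pow]
    obtain ⟨x, hx, hxz, hxs, hW⟩ := spread_witness hσ (n := n) (fun a : Fin 2 => if a = 0 then -w else w)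
      (fun a b e => by
        have hne : -w ≠ w := fun e' => by
          have : (2 : F) * w = 0 := by linear_combination -e'
          rcases mul_eq_zero.mp this with h | h
          · exact h2 h
          · rw [h, zero_mul] at hwn; exact zero_ne_one hwn
        rcases Fin.exists_fin_two.mp ⟨a, rfl⟩ with rfl | rfl <;> rcases Fin.exists_fin_two.mp ⟨b, rfl⟩ with rfl | rfl
        · rfl
        · exact absurd (by simpa using e) hne
        · exact absurd (by simpa using e.symm) hne
        · rfl)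
      (fun a => by split_ifs <;> simp [hwn]) (r := 2) (z := w ^ 2) (fun a => by split_ifs <;> simp)
      (d := 2) (E := m - 1) (by omega) le_rfl id Function.injective_id (fun _ => 1) (by
        simp only [Fin.prod_univ_two, id, Fin.prod_const, if_true, one_ne_zero, if_false]
        rw [← pow_mul, show -w * w * w ^ ((m - 1) * 2) = -(w ^ (2 + (m - 1) * 2)) by rw [pow_add]; ring,
          show 2 + (m - 1) * 2 = n by omega, hwN, neg_neg])
    obtain ⟨W, hd, hWt, hWi⟩ := Hall x hx hxz hxs
    have := hW W hWt hWi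
    omega
  · intro hcond x hx ⟨z, hz⟩ _
    obtain ⟨g, hg, hgr, hdet, hzn, rfl⟩ := linear_facts hσ hn hx hz
    obtain ⟨g, hgdef⟩ : ∃ g, g = Matrix.toLin' (x : Matrix (Fin n) (Fin n) F) := ⟨_, rfl⟩
    rw [← hgdef] at hg hgr hdet ⊢
    by_cases hroot : ∃ w : F, w * σ w = 1 ∧ w ^ 2 = z
    · obtain ⟨w, hw, hwr⟩ := hroot
      have hw0 : w ≠ 0 := left_ne_zero_of_mul_eq_one hw
      obtain ⟨g', hg'def⟩ : ∃ g', g' = w⁻¹ • g := ⟨_, rfl⟩
      have hgg' : g = w • g' := by rw [hg'def, smul_smul, mul_inv_cancel₀ hw0, one_smul]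
      have hg' : ∀ u v, Cfsg.hermForm n F q (g' u) (g' v) = Cfsg.hermForm n F q u v := fun u v => by
        rw [hg'def, LinearMap.smul_apply, LinearMap.smul_apply, H.smul_left, H.smul_right, hg, ← mul_assoc, map_inv₀,
          ← mul_inv, hw, inv_one, one_mul]
      have hg'r : g' ^ 2 = 1 := by
        rw [hg'def, _root_.smul_pow, hgr, smul_smul, inv_pow, hwr,
          inv_mul_cancel₀ (hwr ▸ pow_ne_zero 2 hw0), one_smul]
      obtain ⟨hX, hY, hYi, -, hcompl, hperp⟩ := tame_split H hg' (r := 2) (by exact_mod_cast h2) hg'r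
      have hsum := Submodule.finrank_add_eq_of_isCompl hcompl
      rw [Module.finrank_fin_fun] at hsum
      have hXv : ∀ v ∈ Free.fixSpace g', g' v = (1 : F) • v := fun v hv => by
        rw [one_smul]; exact Free.mem_fixSpace.mp hv
      have hneg : ∀ v ∈ Free.moved g', g' v = (-1 : F) • v := by
        rintro _ ⟨y, rfl⟩
        have e : g' (g' y) = y := LinearMap.congr_fun (show g' * g' = 1 by rw [← pow_two]; exact hg'r) y
        rw [LinearMap.sub_apply, Module.End.one_apply, map_sub, e, neg_one_smul, neg_sub]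
      have hroom : m ≤ finrank F (Free.fixSpace g') / 2 + finrank F (Free.moved g') / 2 := by
        rcases hcond with h | h
        · omega
        by_contra hlt
        have hodd : Odd (finrank F (Free.moved g')) := Nat.odd_iff.mpr (by omega)
        have hdg : LinearMap.det g' = (-1) ^ finrank F (Free.moved g') := by
          have e : g' = (Submodule.prodEquivOfIsCompl _ _ hcompl).conj
              ((1 : End F (Free.fixSpace g')).prodMap ((-1 : F) • (1 : End F (Free.moved g')))) := by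
            refine LinearMap.ext fun v => ?_
            obtain ⟨⟨a, b⟩, rfl⟩ := (Submodule.prodEquivOfIsCompl _ _ hcompl).surjective v
            rw [LinearEquiv.conj_apply_apply, LinearEquiv.symm_apply_apply]
            simp [Submodule.coe_prodEquivOfIsCompl', hXv a a.2, hneg b b.2]
          conv_lhs => rw [e]
          rw [LinearEquiv.conj_apply, LinearMap.comp_assoc, LinearMap.det_conj, LinearMap.det_prodMap,
            LinearMap.det_smul, map_one, map_one, one_mul, mul_one]
        have hwn : w ^ n = -1 := by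
          rw [hgg', LinearMap.det_smul, Module.finrank_fin_fun, hdg, hodd.neg_one_pow] at hdet
          linear_combination -hdet
        obtain ⟨M, hM⟩ : ∃ M, q + 1 = 2 ^ padicValNat 2 (q + 1) * M := pow_padicValNat_dvd
        obtain ⟨N, hN⟩ : 2 ^ padicValNat 2 (q + 1) ∣ n :=
          (pow_dvd_pow 2 h).trans pow_padicValNat_dvd
        have hModd : Odd M := Nat.not_even_iff_odd.mp fun ⟨l, hl⟩ =>
          pow_succ_padicValNat_not_dvd (p := 2) (show q + 1 ≠ 0 by omega) ⟨l, by
            calc q + 1 = 2 ^ padicValNat 2 (q + 1) * M := hM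
              _ = _ := by rw [hl, pow_succ]; ring⟩
        have e1 : w ^ (n * M) = 1 := by
          rw [show n * M = (q + 1) * N by
            obtain ⟨a2, ha2⟩ : ∃ a2, a2 = padicValNat 2 (q + 1) := ⟨_, rfl⟩
            rw [← ha2] at hM hN
            rw [hM, hN]; ring, pow_mul, (norm_one_pow hσ).mp hw,
            one_pow]
        rw [pow_mul, hwn, hModd.neg_one_pow] at e1
        exact h2 (by linear_combination -e1)
      obtain ⟨W₁, hW₁, a1, a2, a3⟩ := exists_ts_sub hσ H hX hXv (k := min m (finrank F (Free.fixSpace g') / 2))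
        (by omega)
      obtain ⟨W₂, hW₂, b1, b2, b3⟩ := exists_ts_sub hσ H hY hneg
        (k := m - min m (finrank F (Free.fixSpace g') / 2)) (by omega)
      refine ⟨W₁ ⊔ W₂, ?_, ti_sup H a1 b1 fun a ha c hc => hperp a (hW₁ ha) c (hW₂ hc), ?_⟩
      · have h1 := Submodule.finrank_sup_add_finrank_inf_eq W₁ W₂
        rw [show W₁ ⊓ W₂ = ⊥ from eq_bot_iff.mpr fun v hv => hcompl.inf_eq_bot.le ⟨hW₁ hv.1, hW₂ hv.2⟩, finrank_bot,
          a3, b3] at h1
        omega
      · rintro _ ⟨v, hv, rfl⟩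
        obtain ⟨a, ha, c, hc, rfl⟩ := Submodule.mem_sup.mp hv
        rw [hgg', LinearMap.smul_apply, map_add]
        exact Submodule.smul_mem _ w (Submodule.add_mem_sup (a2 a ha) (b2 c hc))
    · push Not at hroot
      obtain ⟨w, hw, hwz⟩ : ∃ w : F, w * σ w = -1 ∧ w * w = z := by
        have hc : ringChar F ≠ 2 := fun h => h2 (by
          have := (ringChar.spec F 2).mpr (h ▸ dvd_rfl); exact_mod_cast this)
        obtain ⟨w, hw⟩ := (FiniteField.isSquare_iff hc (left_ne_zero_of_mul_eq_one hzn)).mpr (by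
          rw [hσ.card]
          have hqodd : q % 2 = 1 := by
            have := (cast_ne hσ Nat.prime_two).mp (by exact_mod_cast h2)
            omega
          obtain ⟨k, hk⟩ : ∃ k, q = 2 * k + 1 := ⟨q / 2, by omega⟩
          rw [show q ^ 2 / 2 = (q + 1) * k by
            rw [hk, show (2 * k + 1) ^ 2 = 1 + 2 * ((2 * k + 1 + 1) * k) by ring, Nat.add_mul_div_left _ _ two_pos]; simp]
          rw [pow_mul, (norm_one_pow hσ).mp hzn, one_pow])
        refine ⟨w, ?_, hw.symm⟩
        have h1 : (w * σ w) * (w * σ w) = 1 := by rw [mul_mul_mul_comm, ← map_mul, ← hw, hzn]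
        rcases mul_self_eq_one_iff.mp h1 with h | h
        · exact absurd (by rw [pow_two, hw]) (hroot w h)
        · exact h
      have hgg : ∀ v, g (g v) = (w * w) • v := fun v => by
        rw [hwz, ← Module.End.mul_apply, ← pow_two, hgr]; rfl
      obtain ⟨k, hk, -, hstep⟩ := skew_facts H hg h2 hw hgg
      rw [Module.finrank_fin_fun] at hk
      obtain ⟨W, -, c1, c2, c3⟩ := exists_ts_multiples H hg (b := 1) (D := 2) (fun Z hZ hZi hD => by
        obtain ⟨P, hPZ, hP, hPi, hPd⟩ := hstep Z hZ hZi (fun e => by rw [e, finrank_bot] at hD; omega)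
        obtain ⟨y, hy, hy0⟩ := P.exists_mem_ne_zero_of_ne_bot (fun e => by rw [e, finrank_bot] at hPd; omega)
        obtain ⟨v, hv, hv0, s, hs, hgv⟩ : ∃ v ∈ P, v ≠ 0 ∧ ∃ s : F, s * σ s = -1 ∧ g v = s • v := by
          by_cases hp : w • y + g y = 0
          · exact ⟨y, hy, hy0, -w, by rw [map_neg, neg_mul_neg, hw], by rw [neg_smul]; exact eq_neg_of_add_eq_zero_right hp⟩
          · refine ⟨_, P.add_mem (P.smul_mem w hy) (hPi y hy), hp, w, hw, ?_⟩
            rw [map_add, map_smul, hgg]; module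
        refine ⟨P, hPZ, hP, hPi, by rw [hPd], Submodule.span F {v}, (Submodule.span_singleton_le_iff_mem _ _).mpr hv,
          fun a ha b hb => ?_, fun a ha => ?_, finrank_span_singleton hv0⟩
        · have hvv : Cfsg.hermForm n F q v v = 0 := by
            have h1 := hg v v
            rw [hgv, H.smul_left, H.smul_right, ← mul_assoc, hs] at h1
            exact (mul_eq_zero.mp (show (2 : F) * Cfsg.hermForm n F q v v = 0 by linear_combination -h1)).resolve_left h2
          obtain ⟨s₁, rfl⟩ := Submodule.mem_span_singleton.mp ha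
          obtain ⟨s₂, rfl⟩ := Submodule.mem_span_singleton.mp hb
          rw [H.smul_left, H.smul_right, hvv, mul_zero, mul_zero]
        · obtain ⟨s₁, rfl⟩ := Submodule.mem_span_singleton.mp ha
          rw [map_smul, hgv, smul_smul]
          exact Submodule.smul_mem _ _ (Submodule.mem_span_singleton_self v))
        m ⊤ (nd_top H) (fun _ _ => trivial) (Or.inr (by rw [finrank_top, Module.finrank_fin_fun]; omega))
      refine ⟨W, by rw [c3, one_mul], c1, ?_⟩
      rintro _ ⟨v, hv, rfl⟩
      exact c2 v hv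

/-- The criterion for odd primes dividing `q + 1`. -/
theorem all_ts_plus_one {r : ℕ} (hr : r.Prime) (hr2 : r ≠ 2) (hrq : r ∣ q + 1) (hn : 0 < n) (hm1 : 1 ≤ m)
    (hmn : 2 * m ≤ n) :
    AllTs F q n m r ↔ (r - 1 + 2 * m ≤ n ∧ (r ∣ m ∨ padicValNat r n ≤ padicValNat r (q + 1))) := by
  haveI : Fact r.Prime := ⟨hr⟩
  have H := herm_std hσ n
  have hrq' : ¬ r ∣ q := fun h => hr.one_lt.ne' (Nat.dvd_one.mp ((Nat.dvd_add_right h).mp hrq))
  have hr0 : (r : F) ≠ 0 := (cast_ne hσ hr).mpr hrq'
  have hu : unit q r = 1 := by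
    have e : -(q : ZMod r) = 1 := by
      have h1 := (ZMod.natCast_eq_zero_iff _ _).mpr hrq
      push_cast at h1
      linear_combination -h1
    rw [unit, e, orderOf_one]
  have hdeg : deg q r = 1 := by
    have e : (q : ZMod r) = -1 := by
      have h1 := (ZMod.natCast_eq_zero_iff _ _).mpr hrq
      push_cast at h1
      linear_combination h1
    rw [deg, e, neg_one_sq, orderOf_one]
  constructor
  · intro Hall
    constructor
    · by_contra hlt
      rw [not_le] at hlt
      obtain ⟨ζ₀, hζ₀⟩ := exists_prime_orderOf_dvd_card' (G := Fˣ) r (by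
        rw [Nat.card_units, Nat.card_eq_fintype_card, hσ.card, show q ^ 2 - 1 = (q + 1) * (q - 1) by
          rw [← Nat.sq_sub_sq, one_pow]]
        exact dvd_mul_of_dvd_left hrq _)
      have hord : orderOf (ζ₀ : F) = r := by rw [orderOf_units, hζ₀]
      have hnorm : (ζ₀ : F) * σ (ζ₀ : F) = 1 :=
        (norm_one_pow hσ).mpr (orderOf_dvd_iff_pow_eq_one.mp (hord ▸ hrq))
      have hζr : (ζ₀ : F) ^ r = 1 := orderOf_dvd_iff_pow_eq_one.mp (dvd_of_eq hord)
      obtain ⟨d, hd⟩ : ∃ d, d = n - 2 * m + 2 := ⟨_, rfl⟩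
      have hdr : d ≤ r := by have := hr.two_le; omega
      haveI : Fact (2 < r) := ⟨lt_of_le_of_ne hr.two_le (Ne.symm hr2)⟩
      have h20 : (2 : ZMod r) ≠ 0 := fun h => by
        have h' : ((2 : ℕ) : ZMod r) = 0 := by exact_mod_cast h
        exact hr2 ((Nat.prime_dvd_prime_iff_eq hr Nat.prime_two).mp ((ZMod.natCast_eq_zero_iff _ _).mp h'))
      obtain ⟨A, hA, e, hsum⟩ : ∃ A : Fin d → ZMod r, Function.Injective A ∧
          ∃ e : Fin (m - 1) → ZMod r, (∑ i, A i) + 2 * ∑ j, e j = 0 := by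
        have hinj : ∀ δ : ZMod r, Function.Injective fun i : Fin d => ((i : ℕ) : ZMod r) + δ := fun δ i j h => by
          have h1 := add_right_cancel h
          rw [ZMod.natCast_eq_natCast_iff', Nat.mod_eq_of_lt (by omega), Nat.mod_eq_of_lt (by omega)] at h1
          exact Fin.ext h1
        obtain ⟨S, hS⟩ : ∃ S : ZMod r, S = ∑ i : Fin d, ((i : ℕ) : ZMod r) := ⟨_, rfl⟩
        rcases (m - 1).eq_zero_or_pos with h0 | hpos
        · have h2S : 2 * S = (d : ZMod r) * ((d : ZMod r) - 1) := by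
            rw [hS, ← Finset.sum_range (fun i => (i : ZMod r)), ← Nat.cast_sum]
            have h := congrArg (Nat.cast (R := ZMod r)) (Finset.sum_range_id_mul_two d)
            push_cast [Nat.cast_sub (show 1 ≤ d by omega)] at h ⊢
            linear_combination h
          refine ⟨_, hinj (if d = r then 0 else -S / d), fun _ => 0, ?_⟩
          rw [Finset.sum_add_distrib, Finset.sum_const, Finset.card_univ, Fintype.card_fin, nsmul_eq_mul, ← hS,
            Finset.sum_const_zero, mul_zero, add_zero]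
          split_ifs with hdd
          · rw [hdd, ZMod.natCast_self, zero_mul] at h2S
            rw [(mul_eq_zero.mp h2S).resolve_left h20, mul_zero, add_zero]
          · have hd0 : (d : ZMod r) ≠ 0 := fun h => by
              have := Nat.le_of_dvd (by omega) ((ZMod.natCast_eq_zero_iff _ _).mp h)
              omega
            field_simp
            ring
        · refine ⟨_, hinj 0, fun j => if j = ⟨0, hpos⟩ then -S / 2 else 0, ?_⟩
          simp only [add_zero, Finset.sum_ite_eq', Finset.mem_univ, if_true, ← hS]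
          field_simp
          ring
      have hprod : ∀ (N : ℕ) (f : Fin N → ZMod r), ∏ i, (ζ₀ : F) ^ (f i).val = (ζ₀ : F) ^ ∑ i, (f i).val :=
        fun N f => Finset.prod_pow_eq_pow_sum _ _ _
      obtain ⟨x, hx, hxz, hxs, hW⟩ := spread_witness hσ (n := n) (fun a : ZMod r => (ζ₀ : F) ^ a.val)
        (fun a b h => ZMod.val_injective r (pow_injOn_Iio_orderOf (by rw [Set.mem_Iio, hord]; exact a.val_lt)
          (by rw [Set.mem_Iio, hord]; exact b.val_lt) h))
        (fun a => by rw [map_pow, ← mul_pow, hnorm, one_pow]) (r := r) (z := 1)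
        (fun a => by rw [← pow_mul, mul_comm, pow_mul, hζr, one_pow])
        (d := d) (E := m - 1) (by omega) (by omega) A hA e (by
          rw [hprod, hprod, ← pow_mul, ← pow_add]
          refine orderOf_dvd_iff_pow_eq_one.mp ?_
          rw [hord, ← ZMod.natCast_eq_zero_iff]
          push_cast
          simp only [ZMod.natCast_val, ZMod.cast_id', id]
          linear_combination hsum)
      obtain ⟨W, hWd, hWt, hWi⟩ := Hall x hx hxz hxs
      have := hW W hWt hWi
      omega
    · by_contra hc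
      rw [not_or, not_le] at hc
      obtain ⟨hm, ha⟩ := hc
      obtain ⟨z, hz, hzo, hnr⟩ := exists_nonroot hσ hr hrq
      have hd : r ^ (padicValNat r (q + 1) + 1) ∣ n := (pow_dvd_pow r ha).trans pow_padicValNat_dvd
      obtain ⟨l, hl⟩ := hd
      have hirr := irreducible_sub hσ hr hr2 hrq hz hnr
      have hz0 : z ≠ 0 := left_ne_zero_of_mul_eq_one hz
      obtain ⟨g, hg, hgr, hns⟩ := exists_monomial hσ (r := r) (N := r ^ padicValNat r (q + 1) * l) hr.pos hz
      have HM := herm_pi hσ (herm_std hσ r) (r ^ padicValNat r (q + 1) * l)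
      have hM : finrank F (Fin (r ^ padicValNat r (q + 1) * l) → Fin r → F) = n := by
        rw [Module.finrank_pi_fintype, hl, pow_succ]; simp; ring
      obtain ⟨k, hk, hdet⟩ := irr_dim_det hr hr2 hz0 hr0 hirr hgr
      have hk' : k = r ^ padicValNat r (q + 1) * l := by
        refine Nat.eq_of_mul_eq_mul_left hr.pos ?_
        rw [← hk, hM, hl, pow_succ]; ring
      rw [hk', pow_mul, hzo, one_pow] at hdet
      obtain ⟨x, hx, hxz, hxs, hW⟩ := exists_witness_ts hσ HM hM hg hdet hgr (hns hr.two_le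
        (Nat.pos_of_ne_zero fun h0 => by rw [pow_succ, mul_right_comm, h0, zero_mul] at hl; omega))
      obtain ⟨W, hd, hWn, hWi⟩ := Hall x hx hxz hxs
      obtain ⟨W₀, h1, h2', h3⟩ := hW W hWn hWi
      obtain ⟨j, hj, -⟩ := irr_dim_det hr hr2 hz0 hr0 hirr (g := g.restrict h2') (LinearMap.ext fun v => Subtype.ext (by
        rw [Free.restrict_pow h2', hgr]; rfl))
      exact hm ⟨j, by rw [← hd, ← h3, hj]⟩
  · rintro ⟨hroom, hcond⟩ x hx ⟨z, hz⟩ _
    obtain ⟨g, hg, hgr, hdet, hzn, rfl⟩ := linear_facts hσ hn hx hz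
    by_cases hroot : ∃ w : F, w * σ w = 1 ∧ w ^ r = z
    · obtain ⟨w, hw, hwr⟩ := hroot
      obtain ⟨g', hg', hg'r, hinv⟩ := normalise hσ hg hgr hw hwr
      obtain ⟨W, h1, h2', h3⟩ := exists_ts_tame hσ H hg' hr hr2 hr0 hg'r (m := m) fun M hM _ => by
        rw [Module.finrank_fin_fun] at hM ⊢
        rw [room, hu, hdeg, if_pos rfl, one_mul, Nat.div_one]
        refine ⟨min m ((M + 1 - (r - 1)) / 2), ?_, by omega, ?_⟩
        · rcases Nat.eq_zero_or_pos (min m ((M + 1 - (r - 1)) / 2)) with h | h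
          · exact Or.inl h
          · exact Or.inr (by omega)
        · omega
      exact ⟨W, h3, h1, hinv W h2'⟩
    · push Not at hroot
      have hz0 : z ≠ 0 := left_ne_zero_of_mul_eq_one hzn
      have hirr := irreducible_sub hσ hr hr2 hrq hzn hroot
      obtain ⟨k, hk, hdk⟩ := irr_dim_det hr hr2 hz0 hr0 hirr hgr
      rw [Module.finrank_fin_fun] at hk
      rcases root_or_order hσ hr hzn with ⟨w', e1, e2⟩ | hord
      · exact absurd e2 (hroot w' e1)
      obtain ⟨j, rfl⟩ : r ∣ m := hcond.resolve_right fun h1 => by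
        have hdk' : r ^ (padicValNat r (q + 1) + 1) ∣ n := by
          rw [hk, pow_succ']; exact Nat.mul_dvd_mul_left r (hord k (hdk.symm.trans hdet))
        have := (padicValNat_dvd_iff_le (show n ≠ 0 by omega)).mp hdk'
        omega
      obtain ⟨c, hc⟩ : r * (q + 1) ∣ q ^ r + 1 := by
        have hodd := hr.odd_of_ne_two hr2
        obtain ⟨c, hc⟩ : q + 1 ∣ q ^ r + 1 := by
          have := hodd.nat_add_dvd_pow_add_pow q 1
          rwa [one_pow] at this
        rw [hc, mul_comm r]
        refine Nat.mul_dvd_mul_left _ ((ZMod.natCast_eq_zero_iff _ _).mp ?_)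
        have e : (c : ℤ) = ∑ i ∈ Finset.range r, (-(q : ℤ)) ^ i := by
          refine mul_left_cancel₀ (show ((q : ℤ) + 1) ≠ 0 by positivity) ?_
          have h1 := geom_sum_mul (-(q : ℤ)) r
          rw [hodd.neg_pow] at h1
          have h2 : ((q : ℤ) ^ r + 1) = ((q : ℤ) + 1) * (c : ℤ) := by exact_mod_cast hc
          linear_combination -h2 + h1
        have e2 := congrArg (Int.cast (R := ZMod r)) e
        push_cast at e2
        have hq1 : -(q : ZMod r) = 1 := by
          have h1 := (ZMod.natCast_eq_zero_iff _ _).mpr hrq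
          push_cast at h1
          linear_combination -h1
        rw [e2, hq1]
        simp
      have hg' : ∀ u v, Cfsg.hermForm n F q (Matrix.toLin' (x : Matrix (Fin n) (Fin n) F) u) v =
          Cfsg.hermForm n F q u ((Matrix.toLin' (x : Matrix (Fin n) (Fin n) F) ^ q ^ r) v) := fun u v => by
        rw [← hg u ((Matrix.toLin' (x : Matrix (Fin n) (Fin n) F) ^ q ^ r) v), ← Module.End.mul_apply, ← pow_succ', hc,
          mul_assoc, pow_mul, hgr, _root_.smul_pow, one_pow, pow_mul, (norm_one_pow hσ).mp hzn, one_pow, one_smul,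
          Module.End.one_apply]
      obtain ⟨W, -, h1, h2', h3⟩ := exists_ts_multiples H hg (b := r) (D := 2 * r) (fun Z hZ hZi hD => by
        refine pair_of_top hZi (Z := ⊤) (pair_cyclic hσ (herm_sub H hZ) (g := (Matrix.toLin' (x : Matrix (Fin n) (Fin n) F)).restrict hZi)
          (fun u v => hg u.1 v.1) hirr (monic_X_pow_sub_C z hr.ne_zero) (natDegree_X_pow_sub_C) (hr.odd_of_ne_two hr2) ?_ ?_ hD)
        · rw [map_sub, map_pow, aeval_X, aeval_C, sub_eq_zero, Algebra.algebraMap_eq_smul_one]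
          exact LinearMap.ext fun v => Subtype.ext (by rw [Free.restrict_pow hZi, hgr]; rfl)
        · intro u v
          show Cfsg.hermForm n F q (Matrix.toLin' (x : Matrix (Fin n) (Fin n) F) u.1) v.1 = Cfsg.hermForm n F q u.1 _
          rw [Free.restrict_pow hZi, hg'])
        j ⊤ (nd_top H) (fun _ _ => trivial) (Or.inr (by
          rw [finrank_top, Module.finrank_fin_fun]
          have hj : 1 ≤ j := Nat.pos_of_ne_zero fun h0 => by rw [h0, mul_zero] at hm1; omega
          obtain ⟨i, rfl⟩ : ∃ i, j = i + 1 := ⟨j - 1, by omega⟩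
          rw [Nat.mul_add, mul_one] at hmn
          rw [Nat.add_sub_cancel, mul_assoc]
          omega))
      refine ⟨W, h3, h1, ?_⟩
      rintro _ ⟨v, hv, rfl⟩
      exact h2' v hv

/-- The criterion for the other primes. -/
theorem all_ts_tame {r : ℕ} (hr : r.Prime) (hr2 : r ≠ 2) (hrq : ¬ r ∣ q) (hrq1 : ¬ r ∣ q + 1) (hn : 0 < n)
    (hmn : 2 * m ≤ n)
    (hdvd : r ∣ Nat.card {W : Submodule F (Fin n → F) // finrank F W = m ∧ TI (Cfsg.hermForm n F q) W}) :
    AllTs F q n m r ↔ (deg q r ≤ m ∧ 2 * (m % deg q r) ≤ n % unit q r ∧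
      (unit q r = 2 * deg q r ∨ (r - 1) / deg q r + 2 * (m / deg q r) ≤ n / deg q r)) := by
  have H := herm_std hσ n
  have hr0 : (r : F) ≠ 0 := (cast_ne hσ hr).mpr hrq
  obtain ⟨hbpos, hcases⟩ := unit_cases hr hr2 hrq
  obtain ⟨-, j, hj1, hj2, hj3⟩ := prime_dvd_ts hσ hr hmn hdvd
  obtain ⟨jw, hjw⟩ := unit_dvd_of_dvd hr hrq (dvd_mul_of_dvd_right hj3 q)
  obtain ⟨b, hbdef⟩ : ∃ b, b = deg q r := ⟨_, rfl⟩
  obtain ⟨c, hcdef⟩ : ∃ c, c = unit q r := ⟨_, rfl⟩
  obtain ⟨u, hu⟩ : ∃ u, u = m / b := ⟨_, rfl⟩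
  obtain ⟨w, hw⟩ : ∃ w, w = m % b := ⟨_, rfl⟩
  have hmd : b * u + w = m := by rw [hu, hw]; exact Nat.div_add_mod m b
  have hwlt : w < b := hw ▸ Nat.mod_lt _ (hbdef ▸ hbpos)
  rw [← hbdef] at hbpos
  simp only [← hbdef, ← hcdef, ← hu, ← hw] at hcases hjw ⊢
  have hbc : (c = b ∧ Odd b) ∨ c = 2 * b := hcases.imp (fun h => ⟨h.1, h.2.1⟩) id
  have hcpos : 0 < c := by omega
  obtain ⟨S, hS⟩ : ∃ S, S = n / c := ⟨_, rfl⟩
  obtain ⟨k, hk⟩ : ∃ k, k = n % c := ⟨_, rfl⟩
  have hnd : c * S + k = n := by rw [hS, hk]; exact Nat.div_add_mod n c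
  have hklt : k < c := hk ▸ Nat.mod_lt _ hcpos
  have hk2m : k < 2 * m := by
    rw [hk, show n = (n - j) + c * jw by omega, Nat.add_mul_mod_self_left]
    exact lt_of_le_of_lt (Nat.mod_le _ _) (by omega)
  have hS1 : 1 ≤ S := by
    have h1 : c * 1 ≤ c * jw := Nat.mul_le_mul_left _ (Nat.pos_of_ne_zero fun h0 => by
      rw [h0, mul_zero] at hjw; omega)
    exact hS ▸ (Nat.one_le_div_iff hcpos).mpr (by omega)
  rw [← hk]
  have hlu : ∀ l, b * l ≤ m → l ≤ u := fun l hl => hu ▸ (Nat.le_div_iff_mul_le hbpos).mpr (by rw [mul_comm]; exact hl)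
  have hlb : ∀ l, l + 1 ≤ u → b * l + b ≤ b * u := fun l hl => by
    have := Nat.mul_le_mul_left b hl
    rwa [Nat.mul_add, mul_one] at this
  constructor
  · intro Hall
    have run : ∀ N k', 1 ≤ N → c * N + k' = n → ∃ l, b * l ≤ m ∧ 2 * m ≤ 2 * (b * l) + k' ∧
        (c = b → l ≤ (N + 1 - (r - 1) / b) / 2) := by
      intro N k' hN hNk
      obtain ⟨M, _, _, _, h₀, g₀, H₀, hg₀, hgr₀, hfix, hMd, hb⟩ :
          ∃ (M : Type u) (_ : AddCommGroup M) (_ : Module F M) (_ : FiniteDimensional F M) (h : M → M → F)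
            (g : End F M), UCount.IsHermND σ h ∧ (∀ u v, h (g u) (g v) = h u v) ∧ g ^ r = 1 ∧
            (∀ v, g v = v → v = 0) ∧ finrank F M = unit q r * N ∧
            ∀ U : Submodule F M, TI h U → (∀ x ∈ U, g x ∈ U) →
              ∃ l, finrank F U = deg q r * l ∧ (c = b → l ≤ (N + 1 - (r - 1) / deg q r) / 2) := by
        by_cases hcb : c = b
        · obtain ⟨M, i1, i2, i3, h₀, g₀, a1, a2, a3, a4, a5, a6⟩ :=
            exists_spread hσ hr hr2 hrq (by rw [← hbdef, ← hcdef, hcb]) N
          exact ⟨M, i1, i2, i3, h₀, g₀, a1, a2, a3, a4, a5, fun U hU hUi =>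
            let ⟨l, e1, e2⟩ := a6 U hU hUi; ⟨l, e1, fun _ => e2⟩⟩
        · obtain ⟨M, i1, i2, i3, h₀, g₀, a1, a2, a3, a4, a5, a6⟩ := exists_copies hσ hr hr2 hrq N
          exact ⟨M, i1, i2, i3, h₀, g₀, a1, a2, a3, a4, a5, fun U hU hUi =>
            let ⟨l, e1, _⟩ := a6 U hU hUi; ⟨l, e1, fun h => absurd h hcb⟩⟩
      rw [← hcdef] at hMd
      obtain ⟨x, hx, hxz, hxs, hW⟩ := product_witness hσ H₀ hg₀ hr hr0 hrq1 hgr₀ hfix
        (by rw [hMd]; exact Nat.mul_pos hcpos hN) (n := n) (k := k') (by rw [hMd]; exact hNk)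
      obtain ⟨W, hWd, hWt, hWi⟩ := Hall x hx hxz hxs
      obtain ⟨U, hUt, hUi, hU1, hU2⟩ := hW W hWt hWi
      obtain ⟨l, hl, hcap⟩ := hb U hUt hUi
      rw [← hbdef] at hl hcap
      exact ⟨l, by omega, by omega, hcap⟩
    obtain ⟨l, hl1, hl2, hl3⟩ := run S k hS1 hnd
    have hl := hlu l hl1
    have hbm : b ≤ m := by
      by_contra hlt
      have h0 : l = 0 := by
        rcases Nat.eq_zero_or_pos l with h | h
        · exact h
        · have := Nat.mul_le_mul_left b h
          omega
      rw [h0, mul_zero] at hl2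
      omega
    have h2w : 2 * w ≤ k := by
      have := Nat.mul_le_mul_left b hl
      omega
    refine ⟨hbm, h2w, ?_⟩
    rcases hbc with ⟨hcb, hodd⟩ | hcb
    swap
    · exact Or.inl hcb
    refine Or.inr ?_
    rw [show n / b = S by rw [hS, hcb]]
    have hul : u ≤ l := by
      by_contra hlt
      have := hlb l (by omega)
      omega
    have h3 := hl3 hcb
    have hu1 : 1 ≤ u := hu ▸ (Nat.one_le_div_iff hbpos).mpr hbm
    have hs1 : 1 ≤ (r - 1) / b := by
      haveI : Fact r.Prime := ⟨hr⟩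
      refine (Nat.one_le_div_iff hbpos).mpr (Nat.le_of_dvd (by have := hr.two_le; omega) (hbdef ▸ ?_))
      refine orderOf_dvd_of_pow_eq_one (ZMod.pow_card_sub_one_eq_one (pow_ne_zero 2 ?_))
      rwa [ne_eq, ZMod.natCast_eq_zero_iff]
    by_contra hlt
    obtain ⟨l', hl'1, hl'2, hl'3⟩ := run (S - 1) (k + b) (by omega) (by
      have : c * S = c * (S - 1) + c := by
        conv_lhs => rw [show S = S - 1 + 1 by omega, Nat.mul_add, mul_one]
      omega)
    have h4 := hl'3 hcb
    have := hlb l' (by omega)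
    omega
  · rintro ⟨hbm, h2w, hcond⟩ x hx ⟨z, hz⟩ _
    obtain ⟨g, hg, hgr, -, hzn, rfl⟩ := linear_facts hσ hn hx hz
    obtain ⟨w', hw', hwr⟩ := exists_root hσ hr hrq1 hzn
    obtain ⟨g', hg', hg'r, hinv⟩ := normalise hσ hg hgr hw' hwr
    obtain ⟨W, h1, h2, h3⟩ := exists_ts_tame hσ H hg' hr hr2 hr0 hg'r (m := m) fun M hM hcM => by
      rw [Module.finrank_fin_fun] at hM ⊢
      rw [room, ← hbdef, ← hcdef]
      rw [← hcdef] at hcM
      obtain ⟨N, rfl⟩ := hcM
      have hNS : N ≤ S := hS ▸ (Nat.le_div_iff_mul_le hcpos).mpr (by rw [mul_comm]; exact hM)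
      obtain ⟨A, rfl⟩ : ∃ A, S = N + A := ⟨S - N, by omega⟩
      rw [Nat.mul_add] at hnd
      rcases hbc with ⟨hcb, hodd⟩ | hcb
      · obtain ⟨s, hs⟩ : ∃ s, s = (r - 1) / b := ⟨_, rfl⟩
        have hsl : s + 2 * u ≤ N + A := by
          rcases hcond with h | h
          · omega
          · rw [← hs, show n / b = N + A by rw [hS, hcb]] at h; exact h
        rw [if_pos hcb, ← hs]
        obtain ⟨l, hl⟩ : ∃ l, l = min u ((N + 1 - s) / 2) := ⟨_, rfl⟩
        have hlu' : b * l ≤ b * u := Nat.mul_le_mul_left _ (hl ▸ min_le_left _ _)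
        refine ⟨l, ?_, by omega, ?_⟩
        · rcases Nat.eq_zero_or_pos l with h | h
          · exact Or.inl h
          refine Or.inr ?_
          have h5 : b * (s + 1 + 2 * (l - 1)) ≤ c * N := hcb.symm ▸ Nat.mul_le_mul_left _ (by omega)
          rw [Nat.mul_add, ← mul_assoc, mul_comm b 2] at h5
          omega
        · have h5 : b * (2 * u) ≤ b * (2 * l + A) := Nat.mul_le_mul_left _ (by omega)
          rw [Nat.mul_add, ← mul_assoc, ← mul_assoc, mul_comm b 2, mul_assoc, mul_assoc] at h5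
          have h6 : b * A = c * A := by rw [hcb]
          omega
      · rw [if_neg (by omega)]
        refine ⟨min u N, ?_, le_trans (Nat.mul_le_mul_left _ (min_le_left _ _)) (by omega), ?_⟩
        · rcases Nat.eq_zero_or_pos (min u N) with h | h
          · exact Or.inl h
          refine Or.inr ?_
          have h5 : 2 * b * (min u N - 1 + 1) ≤ c * N := hcb.symm ▸ Nat.mul_le_mul_left _ (by omega)
          rw [Nat.mul_add, mul_one] at h5
          omega
        · rcases le_total u N with h | h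
          · rw [min_eq_left h]; omega
          · rw [min_eq_right h]
            have h5 : c * N = 2 * (b * N) := by rw [hcb, mul_assoc]
            omega
    exact ⟨W, h3, h1, hinv W h2⟩

end Cfsg.Agent.Classical.Elusive.HermEl
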