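import Cfsg.Agent.Lib.Classical.Elusive.HermTsTame
import Cfsg.Agent.Lib.Classical.Elusive.FreeModels

/-!
# Models of isometries with few invariant totally isotropic subspaces
-/

set_option autoImplicit false
set_option linter.unusedSectionVars false
set_option linter.style.haveILetI false
set_option maxHeartbeats 400000

universe u

namespace Cfsg.Agent.Classical.Elusive.HermEl

open Module Polynomial

variable {F : Type u} [Field F] [Fintype F] {σ : F ≃+* F} {q : ℕ} (hσ : IsUSigma q σ)

section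
variable {V : Type u} [AddCommGroup V] [Module F V] [FiniteDimensional F V] {h : V → V → F}

/-- Totally isotropic subspaces have at most half the dimension. -/
theorem ti_le (H : UCount.IsHermND σ h) {Y W : Submodule F V} (hY : ND h Y) (hWY : W ≤ Y) (hW : TI h W) :
    2 * finrank F W ≤ finrank F Y := by
  have HY := herm_sub H hY
  have h1 := finrank_orth HY (W.comap Y.subtype)
  have h2 := Submodule.finrank_mono (show W.comap Y.subtype ≤ orth HY (W.comap Y.subtype) from
    fun x hx y hy => hW _ hx _ hy)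
  rw [(Submodule.comapSubtypeEquivOfLe hWY).finrank_eq] at h1 h2
  omega

end

include hσ

/-- The form on the line. -/
theorem herm_line : UCount.IsHermND σ (fun a b : F => a * σ b) := by
  refine ⟨fun x y z => add_mul x y _, fun c x z => mul_assoc c x _, fun x y => ?_, fun v hv => ?_⟩
  · rw [map_mul, hσ.involutive, mul_comm]
  · simpa using hv 1

/-- The element of a model, with invariant totally isotropic subspaces pulled back. -/
theorem exists_witness_ts {M : Type u} [AddCommGroup M] [Module F M] [FiniteDimensional F M] {h : M → M → F}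
    (H : UCount.IsHermND σ h) {n : ℕ} (hM : finrank F M = n) {g : End F M} (hg : ∀ u v, h (g u) (g v) = h u v)
    (hdet : LinearMap.det g = 1) {r : ℕ} {z : F} (hgr : g ^ r = z • 1) (hns : ∀ t : F, g ≠ t • 1) :
    ∃ x : Matrix.SpecialLinearGroup (Fin n) F, x ∈ Cfsg.SU n F q ∧
      (∃ z : F, ((x ^ r : Matrix.SpecialLinearGroup (Fin n) F) : Matrix (Fin n) (Fin n) F) = z • (1 : Matrix (Fin n) (Fin n) F)) ∧
      (∀ t : F, (x : Matrix (Fin n) (Fin n) F) ≠ t • (1 : Matrix (Fin n) (Fin n) F)) ∧
      ∀ W : Submodule F (Fin n → F), TI (Cfsg.hermForm n F q) W →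
        W.map (Matrix.toLin' (x : Matrix (Fin n) (Fin n) F)) ≤ W →
        ∃ W₀ : Submodule F M, TI h W₀ ∧ (∀ v ∈ W₀, g v ∈ W₀) ∧ finrank F W₀ = finrank F W := by
  obtain ⟨x, φ, hx, hpow, hφ⟩ := exists_element hσ H hM hg hdet
  have h1 : ∀ u, Matrix.toLin' (x : Matrix (Fin n) (Fin n) F) (φ u) = φ (g u) := fun u => by
    simpa using hpow 1 u
  refine ⟨x, hx, ⟨z, ?_⟩, fun t ht => hns t (LinearMap.ext fun u => φ.injective ?_), fun W hW hWx => ?_⟩
  · refine Matrix.toLin'.injective (LinearMap.ext fun w => ?_)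
    obtain ⟨u, rfl⟩ := φ.surjective w
    rw [hpow, hgr, map_smul, Matrix.toLin'_one, LinearMap.smul_apply, LinearMap.smul_apply, Module.End.one_apply,
      LinearMap.id_apply, map_smul]
  · rw [← h1, ht, map_smul, Matrix.toLin'_one, LinearMap.smul_apply, LinearMap.smul_apply, Module.End.one_apply,
      LinearMap.id_apply, map_smul]
  · refine ⟨W.comap φ.toLinearMap, fun u hu v hv => ?_, fun u hu => ?_, ?_⟩
    · rw [← hφ]
      exact hW _ hu _ hv
    · show φ (g u) ∈ W
      rw [← h1]
      exact hWx ⟨φ u, hu, rfl⟩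
    · rw [Submodule.comap_equiv_eq_map_symm, LinearEquiv.finrank_map_eq]

/-- Isometries of order `r` have determinant one when `r` is prime to `q + 1`. -/
theorem det_one {M : Type u} [AddCommGroup M] [Module F M] [FiniteDimensional F M] {h : M → M → F}
    (H : UCount.IsHermND σ h) {g : End F M} (hg : ∀ u v, h (g u) (g v) = h u v) {r : ℕ} (hr : r.Prime)
    (hrq1 : ¬ r ∣ q + 1) (hgr : g ^ r = 1) : LinearMap.det g = 1 := by
  classical
  obtain ⟨n, hM⟩ : ∃ n, finrank F M = n := ⟨_, rfl⟩
  obtain ⟨φ, hφ⟩ := exists_isometry hσ H hM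
  obtain ⟨d, hd⟩ : ∃ d, d = LinearMap.det g := ⟨_, rfl⟩
  rw [← hd]
  have hdr : d ^ r = 1 := by rw [hd, ← map_pow, hgr, map_one]
  have hd0 : d ≠ 0 := fun h0 => by rw [h0, zero_pow hr.ne_zero] at hdr; exact zero_ne_one hdr
  let X : End F (Fin n → F) := φ.conj g
  have hXd : (LinearMap.toMatrix' X).det = d := by
    rw [LinearMap.det_toMatrix']
    show LinearMap.det (φ.conj g) = d
    rw [LinearEquiv.conj_apply, LinearMap.comp_assoc, LinearMap.det_conj, hd]
  let x : GL (Fin n) F := Matrix.GeneralLinearGroup.mkOfDetNeZero (LinearMap.toMatrix' X) (by rw [hXd]; exact hd0)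
  have hx : x ∈ Cfsg.GU n F q := mem_GU_iff.mpr fun u v => by
    show Cfsg.hermForm n F q (Matrix.mulVec (LinearMap.toMatrix' X) u) (Matrix.mulVec (LinearMap.toMatrix' X) v) = _
    obtain ⟨a, rfl⟩ := φ.surjective u
    obtain ⟨b, rfl⟩ := φ.surjective v
    rw [LinearMap.toMatrix'_mulVec, LinearMap.toMatrix'_mulVec]
    simp [X, LinearEquiv.conj_apply_apply, hφ, hg]
  have hnorm : d * σ d = 1 := by rw [← hXd]; exact UCount.det_norm hσ hx
  have hg1 : d ^ Nat.gcd r (q + 1) = 1 := pow_gcd_eq_one.mpr ⟨hdr, (norm_one_pow hσ).mp hnorm⟩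
  rwa [(hr.coprime_iff_not_dvd.mpr hrq1).gcd_eq_one, pow_one] at hg1

/-- A free isometry with a trivial orthogonal summand. -/
theorem product_witness {M : Type u} [AddCommGroup M] [Module F M] [FiniteDimensional F M] {h : M → M → F}
    (H : UCount.IsHermND σ h) {g₀ : End F M} (hg₀ : ∀ u v, h (g₀ u) (g₀ v) = h u v) {r : ℕ} (hr : r.Prime)
    (hr0 : (r : F) ≠ 0) (hrq1 : ¬ r ∣ q + 1) (hgr₀ : g₀ ^ r = 1) (hfix : ∀ v, g₀ v = v → v = 0)
    (hpos : 0 < finrank F M) {n k : ℕ} (hn : finrank F M + k = n) :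
    ∃ x : Matrix.SpecialLinearGroup (Fin n) F, x ∈ Cfsg.SU n F q ∧
      (∃ z : F, ((x ^ r : Matrix.SpecialLinearGroup (Fin n) F) : Matrix (Fin n) (Fin n) F) = z • (1 : Matrix (Fin n) (Fin n) F)) ∧
      (∀ t : F, (x : Matrix (Fin n) (Fin n) F) ≠ t • (1 : Matrix (Fin n) (Fin n) F)) ∧
      ∀ W : Submodule F (Fin n → F), TI (Cfsg.hermForm n F q) W →
        W.map (Matrix.toLin' (x : Matrix (Fin n) (Fin n) F)) ≤ W →
        ∃ U : Submodule F M, TI h U ∧ (∀ v ∈ U, g₀ v ∈ U) ∧ finrank F U ≤ finrank F W ∧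
          2 * finrank F W ≤ 2 * finrank F U + k := by
  classical
  let hh : M × (Fin k → F) → M × (Fin k → F) → F := fun u v => h u.1 v.1 + Cfsg.hermForm k F q u.2 v.2
  have HH : UCount.IsHermND σ hh := herm_prod H (herm_std hσ k)
  let g : End F (M × (Fin k → F)) := g₀.prodMap 1
  have hgv : ∀ u, g u = (g₀ u.1, u.2) := fun u => rfl
  have hg : ∀ u v, hh (g u) (g v) = hh u v := fun u v => by simp only [hh, hgv, hg₀]
  have hpow : ∀ (j : ℕ) u, (g ^ j) u = ((g₀ ^ j) u.1, u.2) := by
    intro j
    induction j with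
    | zero => intro u; rfl
    | succ j ih => intro u; rw [pow_succ', Module.End.mul_apply, ih, hgv]; simp only [pow_succ', Module.End.mul_apply]
  have hgr : g ^ r = 1 := LinearMap.ext fun u => by rw [hpow, hgr₀]; rfl
  have hM : finrank F (M × (Fin k → F)) = n := by rw [Module.finrank_prod, Module.finrank_fin_fun, hn]
  haveI : Nontrivial M := Module.nontrivial_of_finrank_pos hpos
  obtain ⟨x, hx, hz, hns, hW⟩ := exists_witness_ts hσ HH hM hg (det_one hσ HH hg hr hrq1 hgr) (z := (1 : F))
    (by rw [hgr, one_smul]) fun t ht => by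
      have e : ∀ v, g₀ v = t • v := fun v => by
        have := congrArg Prod.fst (LinearMap.congr_fun ht (v, 0))
        simpa [hgv] using this
      obtain ⟨v, hv⟩ := exists_ne (0 : M)
      obtain ⟨w, hw⟩ : ∃ w, h v w ≠ 0 := by
        by_contra hc
        push Not at hc
        exact hv (H.nondeg _ hc)
      have hnt : t * σ t = 1 := by
        have h1 := hg₀ v w
        rw [e, e, H.smul_left, H.smul_right, ← mul_assoc] at h1
        exact mul_right_cancel₀ hw (h1.trans (one_mul _).symm)
      have ht1 : t ^ r = 1 := by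
        have e' : ∀ j : ℕ, (g₀ ^ j) v = t ^ j • v := by
          intro j
          induction j with
          | zero => simp
          | succ j ih => rw [pow_succ', Module.End.mul_apply, ih, map_smul, e, smul_smul, ← pow_succ]
        have h1 := e' r
        rw [hgr₀, Module.End.one_apply] at h1
        by_contra hne
        exact hv ((smul_eq_zero.mp (show (t ^ r - 1) • v = 0 by rw [sub_smul, one_smul, ← h1, sub_self])).resolve_left
          (sub_ne_zero.mpr hne))
      have hg1 : t ^ Nat.gcd r (q + 1) = 1 := pow_gcd_eq_one.mpr ⟨ht1, (norm_one_pow hσ).mp hnt⟩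
      rw [(hr.coprime_iff_not_dvd.mpr hrq1).gcd_eq_one, pow_one] at hg1
      exact hv (hfix v (by rw [e, hg1, one_smul]))
  refine ⟨x, hx, hz, hns, fun W hWt hWi => ?_⟩
  obtain ⟨W₀, hW₀, hW₀i, hW₀d⟩ := hW W hWt hWi
  obtain ⟨U, hU⟩ : ∃ U, U = W₀.comap (LinearMap.inl F M (Fin k → F)) := ⟨_, rfl⟩
  obtain ⟨T, hT⟩ : ∃ T, T = W₀.comap (LinearMap.inr F M (Fin k → F)) := ⟨_, rfl⟩
  have hUt : TI h U := fun a ha b hb => by
    subst hU
    have := hW₀ _ ha _ hb
    simpa [hh, (herm_std hσ k).zero_left] using this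
  have hUi : ∀ v ∈ U, g₀ v ∈ U := fun v hv => by
    subst hU
    exact hW₀i _ hv
  have hT2 : 2 * finrank F T ≤ k := by
    have := ti_le (herm_std hσ k) (nd_top (herm_std hσ k)) (W := T) le_top (fun a ha b hb => by
      subst hT
      have := hW₀ _ ha _ hb
      simpa [hh, H.zero_left] using this)
    rwa [finrank_top, Module.finrank_fin_fun] at this
  have hle : finrank F U ≤ finrank F W₀ := by
    rw [(Submodule.equivMapOfInjective (LinearMap.inl F M (Fin k → F)) LinearMap.inl_injective U).finrank_eq]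
    exact Submodule.finrank_mono (by subst hU; exact Submodule.map_comap_le _ _)
  have ht : Free.IsTame (0 : LinearMap.BilinForm F (M × (Fin k → F))) g r := ⟨hr0, hgr, fun _ _ => rfl⟩
  have hsplit := ht.finrank_split hW₀i
  have hX : finrank F ↥(W₀ ⊓ Free.fixSpace g) ≤ finrank F T := by
    refine (Submodule.finrank_mono (t := T.map (LinearMap.inr F M (Fin k → F))) fun u hu => ?_).trans
      (Submodule.finrank_map_le _ _)
    have h1 : u.1 = 0 := hfix _ (congrArg Prod.fst (Free.mem_fixSpace.mp hu.2))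
    have h2 : LinearMap.inr F M (Fin k → F) u.2 = u := Prod.ext h1.symm rfl
    refine ⟨u.2, ?_, h2⟩
    rw [hT, SetLike.mem_coe, Submodule.mem_comap, h2]
    exact hu.1
  have hY : finrank F ↥(W₀ ⊓ Free.moved g) ≤ finrank F U := by
    refine (Submodule.finrank_mono (t := U.map (LinearMap.inl F M (Fin k → F))) fun u hu => ?_).trans
      (Submodule.finrank_map_le _ _)
    obtain ⟨y, hy⟩ := hu.2
    have h1 : u.2 = 0 := by rw [← hy, LinearMap.sub_apply, hgv]; simp
    have h2 : LinearMap.inl F M (Fin k → F) u.1 = u := Prod.ext rfl h1.symm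
    refine ⟨u.1, ?_, h2⟩
    rw [hU, SetLike.mem_coe, Submodule.mem_comap, h2]
    exact hu.1
  exact ⟨U, hUt, hUi, hW₀d ▸ hle, by omega⟩

/-- Invariant totally isotropic subspaces are bounded class by class. -/
theorem class_bound {M : Type u} [AddCommGroup M] [Module F M] [FiniteDimensional F M] {h : M → M → F}
    (H : UCount.IsHermND σ h) {ι : Type} [Fintype ι] [DecidableEq ι] (gs : ι → End F M) (f : ι → F[X])
    (hfi : ∀ a, Irreducible (f a)) (hfm : ∀ a, (f a).Monic) (hinj : Function.Injective f)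
    (hkill : ∀ a, aeval (gs a) (f a) = 0) {N : ℕ} (cls : Fin N → ι) (hpos : 0 < finrank F M)
    (G : End F (Fin N → M)) (hG : ∀ u k, G u k = gs (cls k) (u k))
    (hdiv : ∀ U : Submodule F (Fin N → M), (∀ x ∈ U, G x ∈ U) → finrank F M ∣ finrank F U)
    {U : Submodule F (Fin N → M)} (hU : TI (fun u v : Fin N → M => ∑ a, h (u a) (v a)) U)
    (hUi : ∀ x ∈ U, G x ∈ U) :
    finrank F U ≤ finrank F M * ∑ a, (Finset.univ.filter fun k => cls k = a).card / 2 := by
  classical
  have HH := herm_pi hσ H N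
  have hit : ∀ (j : ℕ) u k, (G ^ j) u k = (gs (cls k) ^ j) (u k) := by
    intro j
    induction j with
    | zero => intro u k; rfl
    | succ j ih => intro u k; rw [pow_succ', Module.End.mul_apply, hG, ih, pow_succ', Module.End.mul_apply]
  have haev : ∀ (P : F[X]) u k, aeval G P u k = aeval (gs (cls k)) P (u k) := by
    intro P u k
    induction P using Polynomial.induction_on' with
    | add a b ha hb => simp [ha, hb]
    | monomial j a =>
      simp only [aeval_monomial, Module.End.mul_apply, Module.algebraMap_end_apply, Pi.smul_apply, hit]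
  have hproj : ∀ a : ι, ∃ P : F[X], ∀ b, aeval (gs b) P = if b = a then 1 else 0 := by
    intro a
    have hco : IsCoprime (f a) (∏ b ∈ Finset.univ.erase a, f b) := by
      refine IsCoprime.prod_right fun b hb => ?_
      refine ((hfi a).coprime_iff_not_dvd).mpr fun hd => Finset.ne_of_mem_erase hb (hinj ?_).symm
      exact eq_of_monic_of_associated (hfm a) (hfm b) ((hfi a).associated_of_dvd (hfi b) hd)
    obtain ⟨c, d, hcd⟩ := hco
    refine ⟨d * ∏ b ∈ Finset.univ.erase a, f b, fun b => ?_⟩
    split_ifs with hb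
    · have e := congrArg (aeval (gs b)) hcd
      subst hb
      rwa [map_add, map_mul, hkill, mul_zero, zero_add, map_one] at e
    · rw [map_mul, ← Finset.mul_prod_erase _ _ (Finset.mem_erase.mpr ⟨hb, Finset.mem_univ b⟩), map_mul, hkill,
        zero_mul, mul_zero]
  choose P hP using hproj
  let E : ι → Submodule F (Fin N → M) := fun a =>
    { carrier := {u | ∀ k, cls k ≠ a → u k = 0}
      add_mem' := fun {u v} hu hv k hk => by simp [hu k hk, hv k hk]
      zero_mem' := fun _ _ => rfl
      smul_mem' := fun c u hu k hk => by simp [hu k hk] }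
  have haevU : ∀ a, ∀ x ∈ U, aeval G (P a) x ∈ U := fun a x hx => by
    generalize P a = Q
    induction Q using Polynomial.induction_on' with
    | add a b ha hb => rw [map_add, LinearMap.add_apply]; exact U.add_mem ha hb
    | monomial j c =>
      rw [aeval_monomial, Module.End.mul_apply, Module.algebraMap_end_apply, ← Free.restrict_pow hUi j ⟨x, hx⟩]
      exact U.smul_mem _ (Subtype.coe_prop _)
  have hle : U ≤ ⨆ a, U ⊓ E a := fun x hx => by
    have hsum : x = ∑ a, aeval G (P a) x := funext fun k => by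
      rw [Finset.sum_apply, Finset.sum_congr rfl fun a _ => haev (P a) x k,
        Finset.sum_eq_single (cls k) (fun a _ ha => by rw [hP, if_neg (Ne.symm ha)]; rfl) (by simp),
        hP, if_pos rfl, Module.End.one_apply]
    rw [hsum]
    refine Submodule.sum_mem _ fun a _ => Submodule.mem_iSup_of_mem a ⟨haevU a x hx, fun k hk => ?_⟩
    rw [haev, hP, if_neg hk]; rfl
  have hbound : ∀ a, finrank F ↥(U ⊓ E a) ≤ finrank F M * ((Finset.univ.filter fun k => cls k = a).card / 2) := by
    intro a
    obtain ⟨c, hc⟩ := hdiv (U ⊓ E a) fun x hx => ⟨hUi x hx.1, fun k hk => by rw [hG, hx.2 k hk, map_zero]⟩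
    rw [hc]
    refine Nat.mul_le_mul_left _ ((Nat.le_div_iff_mul_le two_pos).mpr ?_)
    have hnd : ND (fun u v : Fin N → M => ∑ a, h (u a) (v a)) (E a) := fun x hx h0 => funext fun k => by
      by_cases hk : cls k = a
      · refine H.nondeg _ fun w => ?_
        have h1 := h0 (Pi.single k w) fun l hl => Pi.single_eq_of_ne (fun e => hl (by rw [e, hk])) _
        simp only at h1
        rw [Finset.sum_eq_single k (fun l _ hl => by rw [Pi.single_eq_of_ne hl, H.zero_right]) (by simp),
          Pi.single_eq_same] at h1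
        exact h1
      · exact hx k hk
    have h1 := ti_le HH hnd inf_le_right (W := U ⊓ E a) fun x hx y hy => hU x hx.1 y hy.1
    have h2 : finrank F (E a) = (Finset.univ.filter fun k => cls k = a).card * finrank F M := by
      let e : E a ≃ₗ[F] ({k // cls k = a} → M) :=
        { toFun := fun u k => u.1 k.1
          map_add' := fun _ _ => rfl
          map_smul' := fun _ _ => rfl
          invFun := fun w => ⟨fun k => if hk : cls k = a then w ⟨k, hk⟩ else 0, fun k hk => dif_neg hk⟩
          left_inv := fun u => Subtype.ext (funext fun k => by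
            by_cases hk : cls k = a
            · simp [hk]
            · simp [hk, u.2 k hk])
          right_inv := fun w => funext fun k => by simp [k.2] }
      rw [e.finrank_eq, Module.finrank_pi_fintype, Finset.sum_const, Finset.card_univ, Fintype.card_subtype,
        smul_eq_mul]
    rw [hc, h2] at h1
    exact Nat.le_of_mul_le_mul_right (show c * 2 * finrank F M ≤ _ * finrank F M by linarith) hpos
  have hsup : finrank F ↥(⨆ a, U ⊓ E a) ≤ ∑ a, finrank F ↥(U ⊓ E a) := by
    rw [← Finset.sup_univ_eq_iSup]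
    induction (Finset.univ : Finset ι) using Finset.induction with
    | empty => simp
    | insert a T ha ih =>
      rw [Finset.sup_insert, Finset.sum_insert ha]
      exact (Submodule.finrank_add_le_finrank_add_finrank _ _).trans (Nat.add_le_add_left ih _)
  refine (Submodule.finrank_mono hle).trans (hsup.trans ((Finset.sum_le_sum fun a _ => hbound a).trans ?_))
  rw [← Finset.mul_sum]

/-- Copies of a smallest free isometry. -/
theorem exists_copies {r : ℕ} (hr : r.Prime) (hr2 : r ≠ 2) (hrq : ¬ r ∣ q) (N : ℕ) :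
    ∃ (M : Type u) (_ : AddCommGroup M) (_ : Module F M) (_ : FiniteDimensional F M) (h : M → M → F) (g : End F M),
      UCount.IsHermND σ h ∧ (∀ u v, h (g u) (g v) = h u v) ∧ g ^ r = 1 ∧ (∀ v, g v = v → v = 0) ∧
      finrank F M = unit q r * N ∧
      ∀ U : Submodule F M, TI h U → (∀ x ∈ U, g x ∈ U) →
        ∃ l, finrank F U = deg q r * l ∧ 2 * (deg q r * l) ≤ unit q r * N := by
  classical
  obtain ⟨g₁, hg₁, hg₁r, hg₁f⟩ := exists_free hσ hr hr2 hrq
  have H := herm_pi hσ (herm_std hσ (unit q r)) N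
  let g : End F (Fin N → Fin (unit q r) → F) := LinearMap.pi fun a => g₁ ∘ₗ LinearMap.proj a
  have hgv : ∀ u k, g u k = g₁ (u k) := fun _ _ => rfl
  have hgr : g ^ r = 1 := by
    have hit : ∀ (j : ℕ) u k, (g ^ j) u k = (g₁ ^ j) (u k) := by
      intro j
      induction j with
      | zero => intro u k; rfl
      | succ j ih => intro u k; rw [pow_succ', Module.End.mul_apply, hgv, ih, pow_succ', Module.End.mul_apply]
    exact LinearMap.ext fun u => funext fun k => by rw [hit, hg₁r]; rfl
  have hfix : ∀ v, g v = v → v = 0 := fun v hv => funext fun k => hg₁f _ (congrFun hv k)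
  have hM : finrank F (Fin N → Fin (unit q r) → F) = unit q r * N := by
    rw [Module.finrank_pi_fintype]; simp [mul_comm]
  refine ⟨_, inferInstance, inferInstance, inferInstance, _, g, H, fun u v => Finset.sum_congr rfl fun a _ => hg₁ _ _,
    hgr, hfix, hM, fun U hUt hUi => ?_⟩
  have hf : Free.IsFree (0 : LinearMap.BilinForm F (Fin N → Fin (unit q r) → F)) g r :=
    ⟨hr, hr2, (cast_ne hσ hr).mpr hrq, hgr, hfix, fun _ _ => rfl⟩
  obtain ⟨l, hl⟩ := (hf.exists_irred hUi).1
  rw [deg_card hσ] at hl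
  refine ⟨l, hl, ?_⟩
  have h1 := ti_le H (nd_top H) (W := U) le_top hUt
  rw [finrank_top, hM, hl] at h1
  exact h1

/-- Irreducible free pieces in the most spread-out classes. -/
theorem exists_spread {r : ℕ} (hr : r.Prime) (hr2 : r ≠ 2) (hrq : ¬ r ∣ q) (hu : unit q r = deg q r) (N : ℕ) :
    ∃ (M : Type u) (_ : AddCommGroup M) (_ : Module F M) (_ : FiniteDimensional F M) (h : M → M → F) (g : End F M),
      UCount.IsHermND σ h ∧ (∀ u v, h (g u) (g v) = h u v) ∧ g ^ r = 1 ∧ (∀ v, g v = v → v = 0) ∧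
      finrank F M = unit q r * N ∧
      ∀ U : Submodule F M, TI h U → (∀ x ∈ U, g x ∈ U) →
        ∃ l, finrank F U = deg q r * l ∧ l ≤ (N + 1 - (r - 1) / deg q r) / 2 := by
  classical
  haveI : Fact r.Prime := ⟨hr⟩
  obtain ⟨g₁, hg₁, hg₁r, hg₁f⟩ := exists_free hσ hr hr2 hrq
  obtain ⟨hbpos, -⟩ := unit_cases hr hr2 hrq
  have hr0 : (r : F) ≠ 0 := (cast_ne hσ hr).mpr hrq
  have hf₁ : Free.IsFree (0 : LinearMap.BilinForm F (Fin (unit q r) → F)) g₁ r :=
    ⟨hr, hr2, hr0, hg₁r, hg₁f, fun _ _ => rfl⟩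
  have hd₁ : finrank F (Fin (unit q r) → F) = orderOf (Fintype.card F : ZMod r) := by
    rw [Module.finrank_fin_fun, hu, deg_card hσ]
  obtain ⟨t, ht⟩ : ∃ t, t = (r - 1) / deg q r := ⟨_, rfl⟩
  rw [← ht]
  -- the field generated by the irreducible element
  letI : Field ↥(Algebra.adjoin F ({g₁} : Set (End F (Fin (unit q r) → F)))) :=
    (Free.adjoin_isField hf₁ hd₁).toField
  obtain ⟨γ, hγ⟩ : ∃ γ : (Algebra.adjoin F ({g₁} : Set (End F (Fin (unit q r) → F)))), γ.1 = g₁ := ⟨⟨g₁, Algebra.subset_adjoin (Set.mem_singleton g₁)⟩, rfl⟩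
  have hKd : finrank F (Algebra.adjoin F ({g₁} : Set (End F (Fin (unit q r) → F)))) = deg q r := by
    rw [(Free.centraliser_adjoin hf₁ hd₁ (T := 1) fun _ => rfl).2, hd₁, deg_card hσ]
  have hγr : γ ^ r = 1 := Subtype.ext (by rw [SubmonoidClass.coe_pow, hγ, hg₁r]; rfl)
  have hupos : 0 < unit q r := hu ▸ hbpos
  have hγ1 : γ ≠ 1 := fun e => by
    have h1 : (Pi.single ⟨0, hupos⟩ 1 : Fin (unit q r) → F) = 0 := hg₁f _ (by
      rw [← hγ, e]; rfl)
    have := congrFun h1 ⟨0, hupos⟩
    simp at this
  have hord : orderOf γ = r := orderOf_eq_prime hγr hγ1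
  haveI : Module.Finite F (Algebra.adjoin F ({g₁} : Set (End F (Fin (unit q r) → F)))) := Module.finite_of_finrank_pos (by rw [hKd]; exact hbpos)
  have hintK : ∀ x : (Algebra.adjoin F ({g₁} : Set (End F (Fin (unit q r) → F)))), IsIntegral F x := fun x => IsIntegral.of_finite F x
  have hcard : t ≤ ((Finset.Icc 1 (r - 1)).image fun j => minpoly F (γ ^ j)).card := by
    have h1 : (Finset.Icc 1 (r - 1)).card ≤ deg q r * ((Finset.Icc 1 (r - 1)).image fun j => minpoly F (γ ^ j)).card := by
      refine Finset.card_le_mul_card_image _ (deg q r) fun fa hfa => ?_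
      obtain ⟨j₀, -, rfl⟩ := Finset.mem_image.mp hfa
      have hint := hintK (γ ^ j₀)
      refine le_trans (Finset.card_le_card_of_injOn (fun j => γ ^ j)
        (t := ((minpoly F (γ ^ j₀)).map (algebraMap F (Algebra.adjoin F ({g₁} : Set (End F (Fin (unit q r) → F)))))).roots.toFinset) (fun j hj => ?_) fun a ha c hc e => ?_)
        ((Multiset.toFinset_card_le _).trans ((card_roots' _).trans ?_))
      · simp only [Finset.coe_filter, Set.mem_setOf_eq] at hj
        rw [Finset.mem_coe, Multiset.mem_toFinset, mem_roots (Polynomial.map_ne_zero (minpoly.ne_zero hint)),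
          IsRoot.def, eval_map_algebraMap, ← hj.2, minpoly.aeval]
      · simp only [Finset.coe_filter, Finset.mem_Icc, Set.mem_setOf_eq] at ha hc
        exact pow_injOn_Iio_orderOf (by rw [Set.mem_Iio, hord]; omega) (by rw [Set.mem_Iio, hord]; omega) e
      · rw [natDegree_map]
        exact (minpoly.natDegree_le _).trans_eq hKd
    rw [Nat.card_Icc, Nat.add_sub_cancel] at h1
    by_contra hlt
    have h2 := Nat.mul_le_mul_left (deg q r) (Nat.succ_le_of_lt (not_le.mp hlt))
    have h3 := Nat.mul_div_le (r - 1) (deg q r)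
    rw [← ht] at h3
    rw [Nat.mul_succ] at h2
    omega
  obtain ⟨S, hS, hSc⟩ := Finset.exists_subset_card_eq hcard
  let ψ : Fin t → S := (S.equivFinOfCardEq hSc).symm
  have hpre : ∀ a : Fin t, ∃ j ∈ Finset.Icc 1 (r - 1), minpoly F (γ ^ j) = (ψ a : F[X]) :=
    fun a => Finset.mem_image.mp (hS (ψ a).2)
  choose e he hef using hpre
  have ht1 : 1 ≤ t := by
    rw [ht]
    refine (Nat.one_le_div_iff hbpos).mpr (Nat.le_of_dvd (by have := hr.two_le; omega) ?_)
    rw [deg]
    refine orderOf_dvd_of_pow_eq_one (ZMod.pow_card_sub_one_eq_one (pow_ne_zero 2 ?_))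
    rwa [ne_eq, ZMod.natCast_eq_zero_iff]
  -- the model
  let cls : Fin N → Fin t := fun k => ⟨min k.1 (t - 1), by omega⟩
  have H := herm_pi hσ (herm_std hσ (unit q r)) N
  let g : End F (Fin N → Fin (unit q r) → F) := LinearMap.pi fun a => (g₁ ^ e (cls a)) ∘ₗ LinearMap.proj a
  have hgv : ∀ u k, g u k = (g₁ ^ e (cls k)) (u k) := fun _ _ => rfl
  have hiso : ∀ (j : ℕ) u v, Cfsg.hermForm _ F q ((g₁ ^ j) u) ((g₁ ^ j) v) = Cfsg.hermForm _ F q u v := by
    intro j
    induction j with
    | zero => intro u v; rfl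
    | succ j ih => intro u v; rw [pow_succ', Module.End.mul_apply, Module.End.mul_apply, hg₁, ih]
  have hgr : g ^ r = 1 := by
    have hit : ∀ (j : ℕ) u k, (g ^ j) u k = ((g₁ ^ e (cls k)) ^ j) (u k) := by
      intro j
      induction j with
      | zero => intro u k; rfl
      | succ j ih => intro u k; rw [pow_succ', Module.End.mul_apply, hgv, ih, pow_succ', Module.End.mul_apply]
    exact LinearMap.ext fun u => funext fun k => by rw [hit, ← pow_mul, mul_comm, pow_mul, hg₁r, one_pow]; rfl
  have hfix : ∀ v, g v = v → v = 0 := fun v hv => funext fun k => by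
    by_contra hne
    have hk := Finset.mem_Icc.mp (he (cls k))
    have hco : Nat.Coprime r (e (cls k)) := hr.coprime_iff_not_dvd.mpr fun hd => by
      have := Nat.le_of_dvd (by omega) hd
      omega
    obtain ⟨w, -, hw⟩ := Nat.exists_mul_mod_eq_one_of_coprime hco.symm hr.one_lt
    have h1 : ∀ j : ℕ, ((g₁ ^ e (cls k)) ^ j) (v k) = v k := by
      intro j
      induction j with
      | zero => rfl
      | succ j ih => rw [pow_succ', Module.End.mul_apply, ih, ← hgv]; exact congrFun hv k
    have h2 := h1 w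
    rw [← pow_mul, pow_eq_pow_mod _ hg₁r, hw, pow_one] at h2
    exact hne (hg₁f _ h2)
  have hM : finrank F (Fin N → Fin (unit q r) → F) = unit q r * N := by
    rw [Module.finrank_pi_fintype]; simp [mul_comm]
  have hf : Free.IsFree (0 : LinearMap.BilinForm F (Fin N → Fin (unit q r) → F)) g r :=
    ⟨hr, hr2, hr0, hgr, hfix, fun _ _ => rfl⟩
  refine ⟨_, inferInstance, inferInstance, inferInstance, _, g, H, fun u v => Finset.sum_congr rfl fun a _ => hiso _ _ _,
    hgr, hfix, hM, fun U hUt hUi => ?_⟩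
  have hb := class_bound hσ (herm_std hσ (unit q r)) (fun a => g₁ ^ e a) (fun a => minpoly F (γ ^ e a))
    (fun a => minpoly.irreducible (hintK _))
    (fun a => minpoly.monic (hintK _))
    (fun a c hac => (S.equivFinOfCardEq hSc).symm.injective (Subtype.ext (by rw [← hef a, ← hef c]; exact hac)))
    (fun a => by
      have h1 := congrArg (Algebra.adjoin F ({g₁} : Set (End F (Fin (unit q r) → F)))).val (minpoly.aeval F (γ ^ e a))
      rw [← aeval_algHom_apply, map_zero, map_pow] at h1
      rwa [show (Algebra.adjoin F ({g₁} : Set (End F (Fin (unit q r) → F)))).val γ = g₁ from hγ] at h1)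
    cls (by rw [Module.finrank_fin_fun]; exact hupos) g hgv
    (fun U hU => by rw [hd₁]; exact (hf.exists_irred hU).1) hUt hUi
  rw [hd₁, deg_card hσ] at hb
  obtain ⟨l, hl⟩ := (hf.exists_irred hUi).1
  rw [deg_card hσ] at hl
  refine ⟨l, hl, ?_⟩
  rw [hl] at hb
  refine (Nat.le_of_mul_le_mul_left hb hbpos).trans ?_
  rw [← Finset.sum_erase_add _ _ (Finset.mem_univ (⟨t - 1, by omega⟩ : Fin t))]
  have hone : ∀ a ∈ Finset.univ.erase (⟨t - 1, by omega⟩ : Fin t),
      (Finset.univ.filter fun k => cls k = a).card / 2 = 0 := fun a ha => by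
    have hne : a.1 ≠ t - 1 := fun e => Finset.ne_of_mem_erase ha (Fin.ext e)
    refine Nat.div_eq_of_lt (Nat.lt_succ_of_le (Finset.card_le_one.mpr fun k hk l hl => ?_))
    simp only [Finset.mem_filter, Finset.mem_univ, true_and, cls, Fin.ext_iff] at hk hl
    ext
    omega
  rw [Finset.sum_eq_zero hone, zero_add]
  refine Nat.div_le_div_right ?_
  refine le_trans (Finset.card_le_card_of_injOn (fun k : Fin N => k.1) (t := Finset.Ico (t - 1) N) ?_ ?_) ?_
  · intro k hk
    simp only [Finset.coe_filter, Finset.mem_univ, true_and, Set.mem_setOf_eq, cls, Fin.ext_iff] at hk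
    simp only [Finset.coe_Ico, Set.mem_Ico]
    exact ⟨by omega, k.2⟩
  · intro a _ b _ hab
    exact Fin.ext hab
  · rw [Nat.card_Ico]
    omega

/-- Diagonal elements. -/
theorem diag_witness {n : ℕ} {ι : Type} [Fintype ι] [DecidableEq ι] (cls : Fin n → ι) (val : ι → F)
    (hval : Function.Injective val) (hnorm : ∀ a, val a * σ (val a) = 1) {r : ℕ} {z : F} (hpow : ∀ a, val a ^ r = z)
    (hdet : ∏ i, val (cls i) = 1) {i₀ i₁ : Fin n} (hne : cls i₀ ≠ cls i₁) :
    ∃ x : Matrix.SpecialLinearGroup (Fin n) F, x ∈ Cfsg.SU n F q ∧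
      (∃ z : F, ((x ^ r : Matrix.SpecialLinearGroup (Fin n) F) : Matrix (Fin n) (Fin n) F) = z • (1 : Matrix (Fin n) (Fin n) F)) ∧
      (∀ t : F, (x : Matrix (Fin n) (Fin n) F) ≠ t • (1 : Matrix (Fin n) (Fin n) F)) ∧
      ∀ W : Submodule F (Fin n → F), TI (Cfsg.hermForm n F q) W →
        W.map (Matrix.toLin' (x : Matrix (Fin n) (Fin n) F)) ≤ W →
        finrank F W ≤ ∑ a, (Finset.univ.filter fun k => cls k = a).card / 2 := by
  classical
  have H := herm_pi hσ (herm_line hσ) n
  obtain ⟨G, hGdef⟩ : ∃ G, G = Matrix.toLin' (Matrix.diagonal fun i => val (cls i)) := ⟨_, rfl⟩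
  have hG : ∀ u k, G u k = val (cls k) * u k := fun u k => by
    rw [hGdef, Matrix.toLin'_apply, Matrix.mulVec_diagonal]
  obtain ⟨x, hx, hz, hns, hW⟩ := exists_witness_ts hσ H (n := n) (Module.finrank_fin_fun F) (g := G)
    (fun u v => Finset.sum_congr rfl fun a _ => by
      rw [hG, hG, map_mul, mul_mul_mul_comm, hnorm, one_mul])
    (by rw [hGdef, LinearMap.det_toLin', Matrix.det_diagonal, hdet]) (z := z) (r := r)
    (by
      rw [hGdef, ← Matrix.toLin'_pow, Matrix.diagonal_pow,
        show (fun i => val (cls i)) ^ r = fun _ => z from funext fun i => hpow (cls i), ← Matrix.smul_one_eq_diagonal,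
        map_smul, Matrix.toLin'_one]
      rfl)
    fun t ht => hne (hval (by
      have e : ∀ i, val (cls i) = t := fun i => by
        have := congrFun (LinearMap.congr_fun ht (Pi.single i 1)) i
        rw [hG] at this
        simpa using this
      rw [e, e]))
  refine ⟨x, hx, hz, hns, fun W hWt hWi => ?_⟩
  obtain ⟨W₀, h1, h2, h3⟩ := hW W hWt hWi
  have hb := class_bound hσ (herm_line hσ) (fun a => val a • (1 : End F F)) (fun a => X - C (val a))
    (fun a => irreducible_X_sub_C _) (fun a => monic_X_sub_C _)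
    (fun a c hac => hval (by simpa using congrArg (fun P => Polynomial.coeff P 0) hac))
    (fun a => by rw [map_sub, aeval_X, aeval_C, Algebra.algebraMap_eq_smul_one, sub_self])
    cls (by rw [Module.finrank_self]; exact one_pos) G (fun u k => by rw [hG]; rfl)
    (fun U _ => by rw [Module.finrank_self]; exact one_dvd _) h1 h2
  rw [Module.finrank_self, one_mul] at hb
  exact h3 ▸ hb

end Cfsg.Agent.Classical.Elusive.HermEl
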