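import Cfsg.Agent.Lib.Classical.Elusive.HermTsBasic
import Cfsg.Agent.Lib.Classical.Elusive.HermModels

/-!
# Invariant totally isotropic subspaces: sufficient conditions
-/

set_option autoImplicit false
set_option linter.unusedSectionVars false
set_option linter.style.haveILetI false
set_option maxHeartbeats 400000

universe u

namespace Cfsg.Agent.Classical.Elusive.HermEl

open Module Polynomial

variable {F : Type u} [Field F] [Fintype F] {σ : F ≃+* F} {q : ℕ} (hσ : IsUSigma q σ)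
  {V : Type u} [AddCommGroup V] [Module F V] [FiniteDimensional F V] {h : V → V → F} {g : End F V}

include hσ

/-- A pair, when irreducible pieces are totally isotropic. -/
theorem pair_free (H : UCount.IsHermND σ h) (hg : ∀ u v, h (g u) (g v) = h u v) {r : ℕ} (hr : r.Prime) (hr2 : r ≠ 2)
    (hr0 : (r : F) ≠ 0) (hgr : g ^ r = 1) (hfix : ∀ v, g v = v → v = 0) (hu : unit q r = 2 * deg q r)
    (hV : 0 < finrank F V) : Pair h g ⊤ (deg q r) := by
  have hrq : ¬ r ∣ q := (cast_ne hσ hr).mp hr0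
  obtain ⟨hbpos, -⟩ := unit_cases hr hr2 hrq
  have hf : Free.IsFree (0 : LinearMap.BilinForm F V) g r := ⟨hr, hr2, hr0, hgr, hfix, fun _ _ => rfl⟩
  obtain ⟨P, hP, hPi, hPd⟩ := exists_unit_free hσ H hg hr hr2 hr0 hgr hfix hV
  have hne : P ≠ ⊥ := fun e => by rw [e, finrank_bot] at hPd; omega
  obtain ⟨W, hWP, hW, hWd⟩ := (hf.exists_irred hPi).2 hne
  refine ⟨P, le_top, hP, hPi, by rw [hPd, hu], W, hWP, ?_, hW, by rw [hWd, deg_card hσ]⟩
  rcases ts_or_nd H hg hf hW hWd with h1 | h1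
  · exact h1
  exfalso
  rw [deg_card hσ] at hWd
  obtain ⟨j, hj1, hj2, hj⟩ := prime_dvd_of_free hσ (herm_sub H h1) (g := g.restrict hW) (fun u v => hg u.1 v.1) hr
    (LinearMap.ext fun x => Subtype.ext (by rw [Free.restrict_pow hW, hgr]; rfl))
    (fun v hv => Subtype.ext (hfix _ (congrArg Subtype.val hv))) (by omega)
  have := Nat.le_of_dvd hj1 (unit_dvd_of_dvd hr hrq hj)
  omega

/-- The slack of the moved space. -/
noncomputable def room (q r : ℕ) : ℕ :=
  if unit q r = deg q r then deg q r * ((r - 1) / deg q r + 1) else 2 * deg q r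

/-- Totally isotropic subspaces of the moved space. -/
theorem moved_ts (H : UCount.IsHermND σ h) (hg : ∀ u v, h (g u) (g v) = h u v) {r : ℕ} (hr : r.Prime) (hr2 : r ≠ 2)
    (hr0 : (r : F) ≠ 0) (hgr : g ^ r = 1) (l : ℕ)
    (hl : l = 0 ∨ room q r + 2 * deg q r * (l - 1) ≤ finrank F (Free.moved g)) :
    ∃ W ≤ Free.moved g, TI h W ∧ (∀ x ∈ W, g x ∈ W) ∧ finrank F W = deg q r * l := by
  have hrq : ¬ r ∣ q := (cast_ne hσ hr).mp hr0
  obtain ⟨hbpos, hcases⟩ := unit_cases hr hr2 hrq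
  obtain ⟨-, hM, hMi, hMfix, -, -⟩ := tame_split H hg hr0 hgr
  have HM := herm_sub H hM
  obtain ⟨W, -, h1, h2, h3⟩ := exists_ts_multiples HM (g := g.restrict hMi) (fun u v => hg u.1 v.1)
    (b := deg q r) (D := room q r) (fun Z hZ hZi hD => by
      refine pair_of_top hZi (Z := ⊤) ?_
      have hgi := fun (u v : Z) => hg u.1.1 v.1.1
      have hpow : ((g.restrict hMi).restrict hZi) ^ r = 1 := LinearMap.ext fun x => Subtype.ext (Subtype.ext (by
        rw [Free.restrict_pow hZi, Free.restrict_pow hMi, hgr]; rfl))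
      have hfix : ∀ v : Z, (g.restrict hMi).restrict hZi v = v → v = 0 := fun v hv => Subtype.ext (Subtype.ext
        (hMfix _ v.1.2 (congrArg (fun w : Z => w.1.1) hv)))
      unfold room at hD
      rcases hcases with ⟨e, hodd, hneg⟩ | e
      · rw [if_pos e] at hD
        exact pair_pigeon hσ (herm_sub HM hZ) (g := (g.restrict hMi).restrict hZi) hgi hr hr2 hr0 hpow hfix hodd hneg hD
      · rw [if_neg (by omega)] at hD
        exact pair_free hσ (herm_sub HM hZ) (g := (g.restrict hMi).restrict hZi) hgi hr hr2 hr0 hpow hfix e (by omega))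
    l ⊤ (nd_top HM) (fun _ _ => trivial) (by rwa [finrank_top])
  refine ⟨W.map (Free.moved g).subtype, Submodule.map_subtype_le _ _, ?_, inv_map_subtype hMi h2,
    by rw [Submodule.finrank_map_subtype_eq, h3]⟩
  rintro _ ⟨x, hx, rfl⟩ _ ⟨y, hy, rfl⟩
  exact h1 x hx y hy

/-- Sufficiency: a choice of pieces in the moved space leaving room in the fixed space. -/
theorem exists_ts_tame (H : UCount.IsHermND σ h) (hg : ∀ u v, h (g u) (g v) = h u v) {r : ℕ} (hr : r.Prime)
    (hr2 : r ≠ 2) (hr0 : (r : F) ≠ 0) (hgr : g ^ r = 1) {m : ℕ}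
    (hcrit : ∀ M, M ≤ finrank F V → unit q r ∣ M → ∃ l, (l = 0 ∨ room q r + 2 * deg q r * (l - 1) ≤ M) ∧
      deg q r * l ≤ m ∧ 2 * m + M ≤ 2 * (deg q r * l) + finrank F V) :
    ∃ W : Submodule F V, TI h W ∧ (∀ x ∈ W, g x ∈ W) ∧ finrank F W = m := by
  obtain ⟨hX, -, -, -, hcompl, hperp⟩ := tame_split H hg hr0 hgr
  obtain ⟨-, hdvd, -⟩ := moved_units hσ H hg hr hr2 hr0 hgr
  have hsum := Submodule.finrank_add_eq_of_isCompl hcompl
  obtain ⟨l, hl, hlm, hroom⟩ := hcrit _ (Submodule.finrank_le _) hdvd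
  obtain ⟨W₁, hW₁, a1, a2, a3⟩ := moved_ts hσ H hg hr hr2 hr0 hgr l hl
  obtain ⟨W₂, hW₂, b1, b2, b3⟩ := exists_ts_sub hσ H hX (g := g) (t := 1)
    (fun x hx => by rw [one_smul]; exact Free.mem_fixSpace.mp hx) (k := m - deg q r * l) (by omega)
  refine ⟨W₁ ⊔ W₂, ti_sup H a1 b1 fun a ha c hc => zero_swap H (hperp c (hW₂ hc) a (hW₁ ha)), fun x hx => ?_, ?_⟩
  · obtain ⟨a, ha, c, hc, rfl⟩ := Submodule.mem_sup.mp hx
    rw [map_add]
    exact Submodule.add_mem_sup (a2 a ha) (b2 c hc)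
  · have h1 := Submodule.finrank_sup_add_finrank_inf_eq W₁ W₂
    rw [show W₁ ⊓ W₂ = ⊥ from eq_bot_iff.mpr fun x hx => hcompl.inf_eq_bot.le ⟨hW₂ hx.2, hW₁ hx.1⟩, finrank_bot,
      a3, b3] at h1
    omega

end Cfsg.Agent.Classical.Elusive.HermEl
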