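import Mathlib

/-!
# Normal forms of square roots of scalars and conjugacy in the special linear group
-/

set_option autoImplicit false

namespace Cfsg.Agent.Classical.Elusive

open Module Matrix

universe u v

variable {F : Type u} [Field F]

/-- The square root of a scalar as a block. -/
def blockEig (s : Fin 2 → F) : Matrix (Fin 2) (Fin 2) F := Matrix.diagonal s

/-- The block of a square root of a non-square. -/
def blockRoot (z : F) : Matrix (Fin 2) (Fin 2) F := !![0, z; 1, 0]

/-- The block of a unipotent involution times a scalar. -/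
def blockJordan (μ : F) (on : Prop) [Decidable on] : Matrix (Fin 2) (Fin 2) F := !![μ, 0; (if on then μ else 0), μ]

section General

variable {V : Type v} [AddCommGroup V] [Module F V] {m : ℕ}

theorem apply_of_toMatrix {b : Basis (Fin 2 × Fin m) F V} {x : Module.End F V}
    {M : Fin m → Matrix (Fin 2) (Fin 2) F} (h : LinearMap.toMatrix b b x = Matrix.blockDiagonal M) (k : Fin 2) (i : Fin m) :
    x (b (k, i)) = M i 0 k • b (0, i) + M i 1 k • b (1, i) := by
  classical
  apply b.repr.injective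
  ext l
  obtain ⟨k', i'⟩ := l
  have := congrFun (congrFun h (k', i')) (k, i)
  rw [LinearMap.toMatrix_apply, Matrix.blockDiagonal_apply] at this
  rw [this]
  simp only [map_add, map_smul, Basis.repr_self, Finsupp.add_apply, Finsupp.smul_apply, smul_eq_mul,
    Finsupp.single_apply, Prod.mk.injEq]
  fin_cases k' <;> by_cases hi : i' = i <;> simp [hi, Ne.symm]

theorem toMatrix_of_apply {b : Basis (Fin 2 × Fin m) F V} {x : Module.End F V}
    {M : Fin m → Matrix (Fin 2) (Fin 2) F}
    (h : ∀ k i, x (b (k, i)) = M i 0 k • b (0, i) + M i 1 k • b (1, i)) :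
    LinearMap.toMatrix b b x = Matrix.blockDiagonal M := by
  classical
  ext ⟨k', i'⟩ ⟨k, i⟩
  rw [LinearMap.toMatrix_apply, h, Matrix.blockDiagonal_apply]
  simp only [map_add, map_smul, Basis.repr_self, Finsupp.add_apply, Finsupp.smul_apply, smul_eq_mul,
    Finsupp.single_apply, Prod.mk.injEq]
  fin_cases k' <;> by_cases hi : i' = i <;> simp [hi, Ne.symm]

/-- A basis from a spanning family of the right size. -/
theorem exists_basis_of_span [FiniteDimensional F V] (hm : finrank F V = 2 * m) (g : Fin 2 × Fin m → V)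
    (h : ∀ v, v ∈ Submodule.span F (Set.range g)) : ∃ b : Basis (Fin 2 × Fin m) F V, ⇑b = g :=
  ⟨basisOfTopLeSpanOfCardEqFinrank g (fun v _ => h v) (by rw [Fintype.card_prod, Fintype.card_fin, Fintype.card_fin, hm]),
    coe_basisOfTopLeSpanOfCardEqFinrank _ _ _⟩

/-- Square roots of a square: a basis of eigenvectors with signs as prescribed. -/
theorem exists_eigen_basis [FiniteDimensional F V] (hm : finrank F V = 2 * m) (h2 : (2 : F) ≠ 0) {μ : F} (hμ : μ ≠ 0)
    {x : Module.End F V} (hx : ∀ v, x (x v) = (μ * μ) • v) (S : Finset (Fin 2 × Fin m))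
    (hS : S.card = finrank F (LinearMap.ker (x - μ • 1))) :
    ∃ b : Basis (Fin 2 × Fin m) F V, LinearMap.toMatrix b b x =
      Matrix.blockDiagonal fun i => blockEig fun k => if (k, i) ∈ S then μ else -μ := by
  classical
  obtain ⟨Ep, hEp⟩ : ∃ Ep, Ep = LinearMap.ker (x - μ • 1) := ⟨_, rfl⟩
  obtain ⟨Em, hEm⟩ : ∃ Em, Em = LinearMap.ker (x + μ • 1) := ⟨_, rfl⟩
  have hp : ∀ {v}, v ∈ Ep → x v = μ • v := fun {v} hv => by simpa [hEp, sub_eq_zero] using hv
  have hn : ∀ {v}, v ∈ Em → x v = -μ • v := fun {v} hv => by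
    rw [hEm, LinearMap.mem_ker, LinearMap.add_apply, LinearMap.smul_apply, Module.End.one_apply] at hv
    rw [neg_smul]; exact eq_neg_of_add_eq_zero_left hv
  have hsplit : IsCompl Ep Em := by
    refine ⟨Submodule.disjoint_def.mpr fun v h1 h2' => ?_, codisjoint_iff.mpr (eq_top_iff.mpr fun v _ => ?_)⟩
    · have h := (hp h1).symm.trans (hn h2')
      rw [← sub_eq_zero, ← sub_smul, sub_neg_eq_add, ← two_mul] at h
      exact (smul_eq_zero.mp h).resolve_left (mul_ne_zero h2 hμ)
    · refine Submodule.mem_sup.mpr ⟨(2 * μ)⁻¹ • (μ • v + x v), ?_, (2 * μ)⁻¹ • (μ • v - x v), ?_, ?_⟩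
      · rw [hEp, LinearMap.mem_ker]
        simp only [LinearMap.sub_apply, LinearMap.smul_apply, Module.End.one_apply, map_smul, map_add, hx]
        module
      · rw [hEm, LinearMap.mem_ker]
        simp only [LinearMap.add_apply, LinearMap.smul_apply, Module.End.one_apply, map_smul, map_sub, hx]
        module
      · rw [← smul_add, show μ • v + x v + (μ • v - x v) = (2 * μ) • v by rw [mul_smul, two_smul]; abel,
          smul_smul, inv_mul_cancel₀ (mul_ne_zero h2 hμ), one_smul]
  have hdim := Submodule.finrank_add_eq_of_isCompl hsplit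
  let bp := Module.finBasisOfFinrankEq F Ep (n := S.card) (by rw [hEp, hS])
  let bn := Module.finBasisOfFinrankEq F Em (n := Sᶜ.card) (by
    rw [Finset.card_compl, Fintype.card_prod, Fintype.card_fin, Fintype.card_fin, hS, ← hEp]
    omega)
  let g : Fin 2 × Fin m → V := fun l => if h : l ∈ S then (bp (S.equivFin ⟨l, h⟩) : V) else
    (bn (Sᶜ.equivFin ⟨l, Finset.mem_compl.mpr h⟩) : V)
  have hg : ∀ v, v ∈ Submodule.span F (Set.range g) := by
    have h1 : Ep ≤ Submodule.span F (Set.range g) := by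
      intro v hv
      have : (⟨v, hv⟩ : Ep) ∈ Submodule.span F (Set.range bp) := bp.mem_span _
      have h := Submodule.mem_map_of_mem (f := Ep.subtype) this
      rw [Submodule.map_span] at h
      refine Submodule.span_mono ?_ h
      rintro _ ⟨_, ⟨j, rfl⟩, rfl⟩
      exact ⟨(S.equivFin.symm j).1, by simp [g]⟩
    have h2' : Em ≤ Submodule.span F (Set.range g) := by
      intro v hv
      have : (⟨v, hv⟩ : Em) ∈ Submodule.span F (Set.range bn) := bn.mem_span _
      have h := Submodule.mem_map_of_mem (f := Em.subtype) this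
      rw [Submodule.map_span] at h
      refine Submodule.span_mono ?_ h
      rintro _ ⟨_, ⟨j, rfl⟩, rfl⟩
      refine ⟨(Sᶜ.equivFin.symm j).1, ?_⟩
      have := Finset.mem_compl.mp (Sᶜ.equivFin.symm j).2
      simp [g, this]
    intro v
    exact (sup_le h1 h2') (hsplit.sup_eq_top ▸ Submodule.mem_top)
  obtain ⟨b, hb⟩ := exists_basis_of_span hm g hg
  refine ⟨b, toMatrix_of_apply fun k i => ?_⟩
  have hgx : x (g (k, i)) = (if (k, i) ∈ S then μ else -μ) • g (k, i) := by
    by_cases h : (k, i) ∈ S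
    · rw [if_pos h]; apply hp; simp only [g, dif_pos h]; exact Submodule.coe_mem _
    · rw [if_neg h]; apply hn; simp only [g, dif_neg h]; exact Submodule.coe_mem _
  rw [hb, hgx]
  fin_cases k <;> simp [blockEig]

/-- Square roots of a non-square: a basis of pairs. -/
theorem exists_root_basis [FiniteDimensional F V] (hm : finrank F V = 2 * m) {z : F} (hz : ¬ IsSquare z)
    {x : Module.End F V} (hx : ∀ v, x (x v) = z • v) :
    ∃ b : Basis (Fin 2 × Fin m) F V, LinearMap.toMatrix b b x = Matrix.blockDiagonal fun _ => blockRoot z := by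
  classical
  have key : ∀ k, k ≤ m → ∃ e : Fin k → V, ∀ α β : Fin k → F,
      ∑ i, (α i • e i + β i • x (e i)) = 0 → α = 0 ∧ β = 0 := by
    intro k
    induction k with
    | zero => exact fun _ => ⟨Fin.elim0, fun α β _ => ⟨funext fun i => i.elim0, funext fun i => i.elim0⟩⟩
    | succ k ih =>
      intro hk
      obtain ⟨e, he⟩ := ih (by omega)
      let Y : Submodule F V := Submodule.span F (Set.range e ∪ Set.range (x ∘ e))
      have hY : ∃ v, v ∉ Y := by
        by_contra h
        push_neg at h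
        have h1 : finrank F V ≤ 2 * k := by
          rw [← finrank_top F V, ← show Y = ⊤ from eq_top_iff.mpr fun v _ => h v]
          have hY' : Y = Submodule.span F (Set.range (Sum.elim e (x ∘ e))) := by rw [Set.Sum.elim_range]
          rw [hY']
          refine (finrank_range_le_card _).trans ?_
          rw [Fintype.card_sum, Fintype.card_fin]; omega
        omega
      obtain ⟨v, hv⟩ := hY
      refine ⟨Fin.cons v e, fun α β h => ?_⟩
      rw [Fin.sum_univ_succ] at h
      simp only [Fin.cons_zero, Fin.cons_succ] at h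
      have hrest : ∑ i, (α (Fin.succ i) • e i + β (Fin.succ i) • x (e i)) ∈ Y :=
        Submodule.sum_mem _ fun i _ => Submodule.add_mem _
          (Submodule.smul_mem _ _ (Submodule.subset_span (Or.inl ⟨i, rfl⟩)))
          (Submodule.smul_mem _ _ (Submodule.subset_span (Or.inr ⟨i, rfl⟩)))
      have hxY : ∀ w ∈ Y, x w ∈ Y := by
        intro w hw
        have h' := Submodule.mem_map_of_mem (f := x) hw
        rw [Submodule.map_span] at h'
        refine Submodule.span_le.mpr ?_ h'
        rintro _ ⟨_, ⟨i, rfl⟩ | ⟨i, rfl⟩, rfl⟩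
        · exact Submodule.subset_span (Or.inr ⟨i, rfl⟩)
        · show x (x (e i)) ∈ Y
          rw [hx]
          exact Submodule.smul_mem _ _ (Submodule.subset_span (Or.inl ⟨i, rfl⟩))
      have hw : α 0 • v + β 0 • x v ∈ Y := by
        rw [eq_neg_of_add_eq_zero_left h]
        exact Y.neg_mem hrest
      have h3 : (α 0 * α 0 - z * (β 0 * β 0)) • v ∈ Y := by
        have e1 : α 0 • (α 0 • v + β 0 • x v) - β 0 • x (α 0 • v + β 0 • x v) =
            (α 0 * α 0 - z * (β 0 * β 0)) • v := by
          rw [map_add, map_smul, map_smul, hx]; module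
        rw [← e1]
        exact Y.sub_mem (Y.smul_mem _ hw) (Y.smul_mem _ (hxY _ hw))
      have h0 : α 0 * α 0 - z * (β 0 * β 0) = 0 := by
        by_contra hne
        exact hv (by simpa [smul_smul, inv_mul_cancel₀ hne] using Y.smul_mem (α 0 * α 0 - z * (β 0 * β 0))⁻¹ h3)
      have hβ : β 0 = 0 := by
        by_contra hne
        exact hz ⟨α 0 * (β 0)⁻¹, by field_simp; linear_combination -h0⟩
      have hα : α 0 = 0 := mul_self_eq_zero.mp (by rw [hβ] at h0; linear_combination h0)
      rw [hα, hβ, zero_smul, zero_smul, zero_add, zero_add] at h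
      obtain ⟨h1, h2⟩ := he _ _ h
      constructor <;> funext i <;> refine Fin.cases ?_ ?_ i
      · exact hα
      · exact fun j => congrFun h1 j
      · exact hβ
      · exact fun j => congrFun h2 j
  obtain ⟨e, he⟩ := key m le_rfl
  let g : Fin 2 × Fin m → V := fun l => if l.1 = 0 then e l.2 else x (e l.2)
  have hli : LinearIndependent F g := by
    rw [Fintype.linearIndependent_iff]
    intro c hc
    rw [Fintype.sum_prod_type, Fin.sum_univ_two, ← Finset.sum_add_distrib] at hc
    obtain ⟨h0, h1⟩ := he (fun i => c (0, i)) (fun i => c (1, i)) (by simpa [g] using hc)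
    rintro ⟨k, i⟩
    fin_cases k
    · exact congrFun h0 i
    · exact congrFun h1 i
  obtain ⟨b, hb⟩ := exists_basis_of_span hm g fun v => by
    rw [hli.span_eq_top_of_card_eq_finrank' (by rw [Fintype.card_prod, Fintype.card_fin, Fintype.card_fin, hm])]
    trivial
  refine ⟨b, toMatrix_of_apply fun k i => ?_⟩
  rw [hb]
  fin_cases k <;> simp [g, blockRoot, hx]

/-- Unipotent involutions times a scalar in characteristic two. -/
theorem exists_jordan_basis [FiniteDimensional F V] (hm : finrank F V = 2 * m) (h2 : (2 : F) = 0) {μ : F} (hμ : μ ≠ 0)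
    {x : Module.End F V} (hx : ∀ v, x (x v) = (μ * μ) • v) :
    ∃ t, t ≤ m ∧ t = finrank F (LinearMap.range (x - μ • 1)) ∧
      ∃ b : Basis (Fin 2 × Fin m) F V, LinearMap.toMatrix b b x =
        Matrix.blockDiagonal fun i : Fin m => blockJordan μ ((i : ℕ) < t) := by
  classical
  obtain ⟨N, hN⟩ : ∃ N : Module.End F V, N = μ⁻¹ • x - 1 := ⟨_, rfl⟩
  have hN2 : ∀ v, N (N v) = 0 := fun v => by
    have h1 : ∀ w : V, μ⁻¹ • μ⁻¹ • (μ * μ) • w = w := fun w => by
      rw [smul_smul, smul_smul, show μ⁻¹ * μ⁻¹ * (μ * μ) = 1 by field_simp, one_smul]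
    simp only [hN, LinearMap.sub_apply, LinearMap.smul_apply, Module.End.one_apply, map_sub, map_smul, hx, smul_sub,
      h1]
    linear_combination (norm := module) congrArg (fun s : F => s • (v - μ⁻¹ • x v)) h2
  have hxN : ∀ v, x v = μ • v + μ • N v := fun v => by
    simp only [hN, LinearMap.sub_apply, LinearMap.smul_apply, Module.End.one_apply, smul_sub, smul_smul,
      mul_inv_cancel₀ hμ, one_smul]
    abel
  obtain ⟨R, hR⟩ : ∃ R, R = LinearMap.range N := ⟨_, rfl⟩
  obtain ⟨K, hK⟩ : ∃ K, K = LinearMap.ker N := ⟨_, rfl⟩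
  have hRK : R ≤ K := by
    rw [hR, hK]; rintro _ ⟨v, rfl⟩; exact hN2 v
  obtain ⟨C, hC⟩ := K.exists_isCompl
  obtain ⟨D, hD⟩ := (R.comap K.subtype).exists_isCompl
  obtain ⟨t, ht⟩ : ∃ t, t = finrank F R := ⟨_, rfl⟩
  have hrk : finrank F R + finrank F K = finrank F V := by
    rw [hR, hK]; exact N.finrank_range_add_finrank_ker
  have hC' := Submodule.finrank_add_eq_of_isCompl hC
  have hD' := Submodule.finrank_add_eq_of_isCompl hD
  rw [(Submodule.comapSubtypeEquivOfLe hRK).finrank_eq] at hD'
  have htm : t ≤ m := by have := Submodule.finrank_mono hRK; omega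
  let cb := Module.finBasisOfFinrankEq F C (n := t) (by omega)
  let db := Module.finBasisOfFinrankEq F D (n := 2 * (m - t)) (by omega)
  let g : Fin 2 × Fin m → V := fun l =>
    if h : (l.2 : ℕ) < t then (if l.1 = 0 then (cb ⟨l.2, h⟩ : V) else N (cb ⟨l.2, h⟩ : V))
    else ((db ⟨2 * ((l.2 : ℕ) - t) + (l.1 : ℕ), by have := l.1.2; have := l.2.2; omega⟩ : K) : V)
  have hgC : C ≤ Submodule.span F (Set.range g) := by
    intro v hv
    have h := Submodule.mem_map_of_mem (f := C.subtype) (cb.mem_span ⟨v, hv⟩)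
    rw [Submodule.map_span] at h
    refine Submodule.span_mono ?_ h
    rintro _ ⟨_, ⟨j, rfl⟩, rfl⟩
    exact ⟨(0, ⟨j, by omega⟩), by simp [g]⟩
  have hgR : R ≤ Submodule.span F (Set.range g) := by
    rw [hR]
    rintro _ ⟨w, rfl⟩
    obtain ⟨k, hk, c, hc, rfl⟩ := Submodule.mem_sup.mp (hC.sup_eq_top ▸ Submodule.mem_top (x := w))
    rw [map_add, show N k = 0 by simpa [hK] using hk, zero_add]
    have h := Submodule.mem_map_of_mem (f := N.comp C.subtype) (cb.mem_span ⟨c, hc⟩)
    rw [Submodule.map_span] at h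
    refine Submodule.span_mono ?_ h
    rintro _ ⟨_, ⟨j, rfl⟩, rfl⟩
    exact ⟨(1, ⟨j, by omega⟩), by simp [g]⟩
  have hgD : D.map K.subtype ≤ Submodule.span F (Set.range g) := by
    rintro _ ⟨v, hv, rfl⟩
    have h := Submodule.mem_map_of_mem (f := K.subtype.comp D.subtype) (db.mem_span ⟨v, hv⟩)
    rw [Submodule.map_span] at h
    refine Submodule.span_mono ?_ h
    rintro _ ⟨_, ⟨j, rfl⟩, rfl⟩
    refine ⟨(⟨(j : ℕ) % 2, by omega⟩, ⟨t + (j : ℕ) / 2, by have := j.2; omega⟩), ?_⟩
    simp only [g]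
    rw [dif_neg (by omega)]
    have hj : (⟨2 * (t + (j : ℕ) / 2 - t) + (j : ℕ) % 2, by have := j.2; omega⟩ : Fin (2 * (m - t))) = j :=
      Fin.ext (by show 2 * (t + (j : ℕ) / 2 - t) + (j : ℕ) % 2 = j; omega)
    exact congrArg (fun l => ((db l : K) : V)) hj
  obtain ⟨b, hb⟩ := exists_basis_of_span hm g fun v => by
    obtain ⟨k, hk, c, hc, rfl⟩ := Submodule.mem_sup.mp (hC.sup_eq_top ▸ Submodule.mem_top (x := v))
    refine Submodule.add_mem _ ?_ (hgC hc)
    obtain ⟨r, hr, d, hd, hrd⟩ := Submodule.mem_sup.mp (hD.sup_eq_top ▸ Submodule.mem_top (x := (⟨k, hk⟩ : K)))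
    rw [show k = (r : V) + (d : V) from (congrArg Subtype.val hrd).symm]
    exact Submodule.add_mem _ (hgR hr) (hgD ⟨d, hd, rfl⟩)
  refine ⟨t, htm, ?_, b, toMatrix_of_apply fun k i => ?_⟩
  · rw [ht, hR, show x - μ • 1 = μ • N by rw [hN, smul_sub, smul_smul, mul_inv_cancel₀ hμ, one_smul],
      LinearMap.range_smul _ _ hμ]
  · rw [hb, hxN]
    by_cases h : (i : ℕ) < t
    · fin_cases k <;> simp [g, blockJordan, h, hN2]
    · have hNg : N (g (k, i)) = 0 := by
        simp only [g]
        rw [dif_neg h]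
        simpa [hK] using ((db ⟨2 * ((i : ℕ) - t) + (k : ℕ), by have := k.2; have := i.2; omega⟩ : K)).2
      rw [hNg]
      fin_cases k <;> simp [blockJordan, h]

theorem det_of_toMatrix {b : Basis (Fin 2 × Fin m) F V} {x : Module.End F V}
    {M : Fin m → Matrix (Fin 2) (Fin 2) F} (h : LinearMap.toMatrix b b x = Matrix.blockDiagonal M) :
    LinearMap.det x = ∏ i, (M i).det := by
  rw [← LinearMap.det_toMatrix b, h, Matrix.det_blockDiagonal]

/-- Endomorphisms with the same block shape are conjugate by a map of determinant one. -/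
theorem exists_det_one_conj {b b' : Basis (Fin 2 × Fin m) F V} {x y : Module.End F V}
    {M : Fin m → Matrix (Fin 2) (Fin 2) F} (hx : LinearMap.toMatrix b b x = Matrix.blockDiagonal M)
    (hy : LinearMap.toMatrix b' b' y = Matrix.blockDiagonal M)
    (hZ : ∀ c : F, c ≠ 0 → ∃ (i : Fin m) (Z : Matrix (Fin 2) (Fin 2) F), Z.det = c ∧ Z * M i = M i * Z) :
    ∃ P : Module.End F V, LinearMap.det P = 1 ∧ x * P = P * y := by
  classical
  obtain ⟨P₀, hP₀⟩ : ∃ P₀ : Module.End F V, P₀ = (b'.equiv b (Equiv.refl _)).toLinearMap := ⟨_, rfl⟩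
  have hint : x * P₀ = P₀ * y := by
    apply b'.ext
    rintro ⟨k, i⟩
    rw [Module.End.mul_apply, Module.End.mul_apply, hP₀, apply_of_toMatrix hy]
    simp only [LinearEquiv.coe_coe, map_add, map_smul, Basis.equiv_apply, Equiv.refl_apply]
    exact apply_of_toMatrix hx k i
  have hd : IsUnit (LinearMap.det P₀) := hP₀ ▸ LinearEquiv.isUnit_det' _
  obtain ⟨i₀, Z, hZd, hZc⟩ := hZ (LinearMap.det P₀)⁻¹ (inv_ne_zero hd.ne_zero)
  obtain ⟨Q, hQdef⟩ : ∃ Q : Module.End F V, Q = Matrix.toLin b b (Matrix.blockDiagonal (Function.update 1 i₀ Z)) :=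
    ⟨_, rfl⟩
  have hQm : LinearMap.toMatrix b b Q = Matrix.blockDiagonal (Function.update 1 i₀ Z) := by
    rw [hQdef, LinearMap.toMatrix_toLin]
  have hQd : LinearMap.det Q = (LinearMap.det P₀)⁻¹ := by
    rw [det_of_toMatrix hQm, Finset.prod_eq_single i₀ (fun i _ hi => by simp [Function.update_of_ne hi]) (by simp),
      Function.update_self, hZd]
  have hQx : x * Q = Q * x := by
    apply (LinearMap.toMatrix b b).injective
    rw [LinearMap.toMatrix_mul, LinearMap.toMatrix_mul, hQm, hx, ← Matrix.blockDiagonal_mul, ← Matrix.blockDiagonal_mul]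
    congr 1
    funext i
    by_cases hi : i = i₀
    · subst hi; simpa using hZc.symm
    · simp [Function.update_of_ne hi]
  refine ⟨Q * P₀, ?_, by rw [← mul_assoc, hQx, mul_assoc, hint, ← mul_assoc]⟩
  rw [map_mul, hQd, inv_mul_cancel₀ hd.ne_zero]

end General

/-- Conjugacy in the special linear group of elements with the same block shape. -/
theorem exists_sl_conj {n m : ℕ} (x : Matrix.SpecialLinearGroup (Fin n) F)
    {b b' : Basis (Fin 2 × Fin m) F (Fin n → F)} {Y : Module.End F (Fin n → F)}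
    {M : Fin m → Matrix (Fin 2) (Fin 2) F}
    (hx : LinearMap.toMatrix b b (Matrix.toLin' (x : Matrix (Fin n) (Fin n) F)) = Matrix.blockDiagonal M)
    (hy : LinearMap.toMatrix b' b' Y = Matrix.blockDiagonal M)
    (hZ : ∀ c : F, c ≠ 0 → ∃ (i : Fin m) (Z : Matrix (Fin 2) (Fin 2) F), Z.det = c ∧ Z * M i = M i * Z) :
    ∃ P : Matrix.SpecialLinearGroup (Fin n) F,
      ((P⁻¹ * x * P : Matrix.SpecialLinearGroup (Fin n) F) : Matrix (Fin n) (Fin n) F) = LinearMap.toMatrix' Y := by
  obtain ⟨P, hP, hc⟩ := exists_det_one_conj hx hy hZ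
  let P' : Matrix.SpecialLinearGroup (Fin n) F := ⟨LinearMap.toMatrix' P, by rw [LinearMap.det_toMatrix', hP]⟩
  refine ⟨P', ?_⟩
  have hxP : (x : Matrix (Fin n) (Fin n) F) * (P' : Matrix (Fin n) (Fin n) F) =
      (P' : Matrix (Fin n) (Fin n) F) * LinearMap.toMatrix' Y := by
    have := congrArg LinearMap.toMatrix' hc
    rwa [LinearMap.toMatrix'_mul, LinearMap.toMatrix'_mul, LinearMap.toMatrix'_toLin'] at this
  rw [Matrix.SpecialLinearGroup.coe_mul, Matrix.SpecialLinearGroup.coe_mul, mul_assoc, hxP, ← mul_assoc,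
    ← Matrix.SpecialLinearGroup.coe_mul, inv_mul_cancel, Matrix.SpecialLinearGroup.coe_one, one_mul]

/-- Every non-zero element is the determinant of a matrix commuting with an eigenvalue block. -/
theorem centraliser_eig {m : ℕ} (i : Fin m) (s : Fin m → Fin 2 → F) (c : F) :
    ∃ (i : Fin m) (Z : Matrix (Fin 2) (Fin 2) F), Z.det = c ∧ Z * blockEig (s i) = blockEig (s i) * Z := by
  refine ⟨i, Matrix.diagonal ![c, 1], ?_, ?_⟩
  · simp [Matrix.det_fin_two]
  · simp [blockEig, Matrix.diagonal_mul_diagonal, mul_comm]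

/-- Every element is a norm from the quadratic extension. -/
theorem centraliser_root [Fintype F] {m : ℕ} (i : Fin m) {z : F} (hz : z ≠ 0) (c : F) :
    ∃ (_ : Fin m) (Z : Matrix (Fin 2) (Fin 2) F), Z.det = c ∧ Z * blockRoot z = blockRoot z * Z := by
  have hq : ∃ a b : F, a * a - z * (b * b) = c := by
    by_cases h2 : ringChar F = 2
    · obtain ⟨a, ha⟩ := FiniteField.isSquare_of_char_two h2 c
      exact ⟨a, 0, by rw [ha]; ring⟩
    · obtain ⟨a, b, hab⟩ := FiniteField.exists_root_sum_quadratic (R := F)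
        (f := Polynomial.X ^ 2) (g := Polynomial.C (-z) * Polynomial.X ^ 2 + Polynomial.C (-c)) (by simp)
        (by rw [Polynomial.degree_add_C (by simp [Polynomial.degree_C_mul_X_pow, hz])];
            simp [Polynomial.degree_C_mul_X_pow, hz])
        (Nat.odd_iff.mp (Nat.not_even_iff_odd.mp fun h => h2 (FiniteField.even_card_iff_char_two.mpr (Nat.even_iff.mp h))))
      refine ⟨a, b, ?_⟩
      simp only [Polynomial.eval_pow, Polynomial.eval_X, Polynomial.eval_add, Polynomial.eval_mul, Polynomial.eval_C] at hab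
      linear_combination hab
  obtain ⟨a, b, hab⟩ := hq
  refine ⟨i, !![a, z * b; b, a], ?_, ?_⟩
  · simp [Matrix.det_fin_two]; linear_combination hab
  · ext k l; fin_cases k <;> fin_cases l <;> simp [blockRoot, Matrix.mul_apply, Fin.sum_univ_two, mul_comm]

/-- Every element is a determinant of a matrix commuting with a Jordan block, in characteristic two. -/
theorem centraliser_jordan [Fintype F] (h2 : ringChar F = 2) {m : ℕ} (i : Fin m) (μ : F) (t : ℕ) (c : F) :
    ∃ (i : Fin m) (Z : Matrix (Fin 2) (Fin 2) F), Z.det = c ∧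
      Z * blockJordan μ ((i : ℕ) < t) = blockJordan μ ((i : ℕ) < t) * Z := by
  obtain ⟨s, hs⟩ := FiniteField.isSquare_of_char_two h2 c
  refine ⟨i, s • 1, ?_, ?_⟩
  · simp [hs, pow_two]
  · simp

end Cfsg.Agent.Classical.Elusive
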