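import Mathlib
import Cfsg.Agent.Lib.Classical.Elusive.InvolModels

/-!
# Involutions of projective special linear groups: scalars and derangement candidates
-/

set_option autoImplicit false

namespace Cfsg.Agent.Classical.Elusive

open Module Matrix

universe u

variable {F : Type u} [Field F]

/-- The negative of one is an `n`-th power exactly when the 2-part of `n` is smaller than that of `q - 1`. -/
theorem exists_pow_eq_neg_one_iff [Fintype F] (h2 : (2 : F) ≠ 0) {n : ℕ} (hn : 0 < n) :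
    (∃ μ : F, μ ^ n = -1) ↔ padicValNat 2 n < padicValNat 2 (Fintype.card F - 1) := by
  classical
  haveI : Fact (Nat.Prime 2) := ⟨Nat.prime_two⟩
  have hq1 : Fintype.card F - 1 ≠ 0 := by have := Fintype.one_lt_card (α := F); omega
  have hne : (-1 : F) ≠ 1 := fun h => h2 (by linear_combination -h)
  obtain ⟨e, o, ho, hn'⟩ : ∃ e o, ¬ 2 ∣ o ∧ n = 2 ^ e * o := Nat.exists_eq_pow_mul_and_not_dvd hn.ne' 2 (by norm_num)
  have hv : padicValNat 2 n = e := by
    rw [hn', padicValNat.mul (by positivity) (by omega), padicValNat.prime_pow, padicValNat.eq_zero_of_not_dvd ho, add_zero]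
  have hodd : Odd o := Nat.odd_iff.mpr (by omega)
  rw [hv]
  constructor
  · rintro ⟨μ, hμ⟩
    by_contra h
    push_neg at h
    obtain ⟨w, o', ho', hq'⟩ : ∃ w o', ¬ 2 ∣ o' ∧ Fintype.card F - 1 = 2 ^ w * o' :=
      Nat.exists_eq_pow_mul_and_not_dvd hq1 2 (by norm_num)
    have hw : padicValNat 2 (Fintype.card F - 1) = w := by
      rw [hq', padicValNat.mul (by positivity) (by omega), padicValNat.prime_pow, padicValNat.eq_zero_of_not_dvd ho',
        add_zero]
    have hμ0 : μ ≠ 0 := fun hc => by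
      rw [hc, zero_pow hn.ne'] at hμ
      exact one_ne_zero (neg_eq_zero.mp hμ.symm)
    have h1 : μ ^ (n * o') = 1 := by
      obtain ⟨k, hk⟩ : 2 ^ w ∣ n := (pow_dvd_pow 2 (hw ▸ h)).trans (hn' ▸ dvd_mul_right _ _)
      rw [show n * o' = (Fintype.card F - 1) * k by rw [hq', hk]; ring, pow_mul,
        FiniteField.pow_card_sub_one_eq_one μ hμ0, one_pow]
    rw [pow_mul, hμ, Odd.neg_one_pow (Nat.odd_iff.mpr (by omega))] at h1
    exact hne h1
  · intro h
    obtain ⟨g, hg⟩ := IsCyclic.exists_generator (α := Fˣ)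
    have hgo : orderOf g = Fintype.card F - 1 := by
      rw [orderOf_eq_card_of_forall_mem_zpowers hg, Nat.card_units, Nat.card_eq_fintype_card]
    obtain ⟨k, hk⟩ : 2 ^ (e + 1) ∣ Fintype.card F - 1 :=
      (padicValNat_dvd_iff_le hq1).mpr h
    have hk0 : 0 < k := Nat.pos_of_ne_zero fun hc => hq1 (by rw [hk, hc, mul_zero])
    refine ⟨(g : F) ^ k, ?_⟩
    have h1 : ((g : F) ^ (k * 2 ^ e)) = -1 := by
      have hsq : ((g : F) ^ (k * 2 ^ e)) * ((g : F) ^ (k * 2 ^ e)) = 1 := by
        rw [← pow_add, show k * 2 ^ e + k * 2 ^ e = Fintype.card F - 1 by rw [hk, pow_succ]; ring, ← hgo,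
          ← Units.val_pow_eq_pow_val, pow_orderOf_eq_one, Units.val_one]
      refine (mul_self_eq_one_iff.mp hsq).resolve_left fun hc => ?_
      have hd := orderOf_dvd_iff_pow_eq_one.mpr (show g ^ (k * 2 ^ e) = 1 from Units.ext (by simpa using hc))
      rw [hgo, hk, pow_succ, show 2 ^ e * 2 * k = k * 2 ^ e * 2 by ring] at hd
      have := Nat.le_of_dvd (by positivity) hd
      have : 0 < k * 2 ^ e := by positivity
      omega
    rw [hn', ← pow_mul, ← mul_assoc, pow_mul, h1, hodd.neg_one_pow]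

/-- The scalar of a square root of a scalar in the special linear group. -/
theorem sl_sq {n : ℕ} (hn : 0 < n) (x : Matrix.SpecialLinearGroup (Fin n) F) {z : F}
    (hz : ((x ^ 2 : Matrix.SpecialLinearGroup (Fin n) F) : Matrix (Fin n) (Fin n) F) = z • (1 : Matrix (Fin n) (Fin n) F)) :
    z ≠ 0 ∧ ∀ v, Matrix.toLin' (x : Matrix (Fin n) (Fin n) F) (Matrix.toLin' (x : Matrix (Fin n) (Fin n) F) v) = z • v := by
  constructor
  · intro h
    have := congrArg Matrix.det hz
    haveI hne : Nonempty (Fin n) := ⟨⟨0, hn⟩⟩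
    rw [Matrix.SpecialLinearGroup.det_coe, h, zero_smul, Matrix.det_zero] at this
    exact one_ne_zero this
  · intro v
    rw [Matrix.toLin'_apply, Matrix.toLin'_apply, Matrix.mulVec_mulVec, ← pow_two, ← Matrix.SpecialLinearGroup.coe_pow,
      hz, Matrix.smul_mulVec, Matrix.one_mulVec]

/-- An eigenvalue basis of an element of the special linear group has determinant one. -/
theorem card_eigen_even {n m : ℕ} (hm : n = 2 * m) (x : Matrix.SpecialLinearGroup (Fin n) F) {μ : F}
    (S : Finset (Fin 2 × Fin m)) {b : Basis (Fin 2 × Fin m) F (Fin n → F)}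
    (hb : LinearMap.toMatrix b b (Matrix.toLin' (x : Matrix (Fin n) (Fin n) F)) =
      Matrix.blockDiagonal fun i => blockEig fun k => if (k, i) ∈ S then μ else -μ) :
    (-1 : F) ^ Sᶜ.card * μ ^ n = 1 := by
  classical
  have h := det_of_toMatrix hb
  rw [LinearMap.det_toLin', Matrix.SpecialLinearGroup.det_coe] at h
  simp only [blockEig, Matrix.det_diagonal] at h
  rw [← Fintype.prod_prod_type_right (f := fun l : Fin 2 × Fin m => if l ∈ S then μ else -μ), Finset.prod_ite,
    Finset.prod_const, Finset.prod_const, Finset.filter_mem_eq_inter, Finset.univ_inter,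
    show Finset.univ.filter (fun l => ¬ l ∈ S) = Sᶜ by ext; simp, neg_pow μ] at h
  rw [mul_left_comm, ← pow_add, Finset.card_add_card_compl, Fintype.card_prod, Fintype.card_fin, Fintype.card_fin] at h
  rw [hm]
  exact h.symm

/-- A reflection type element of the special linear group and its conjugates. -/
theorem exists_reflection {n : ℕ} (hn : 2 ≤ n) {μ : F} (hμ : μ ^ n = -1) (h2 : (2 : F) ≠ 0) :
    ∃ x : Matrix.SpecialLinearGroup (Fin n) F,
      ((x ^ 2 : Matrix.SpecialLinearGroup (Fin n) F) : Matrix (Fin n) (Fin n) F) = (μ * μ) • (1 : Matrix (Fin n) (Fin n) F) ∧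
      (∀ z : F, (x : Matrix (Fin n) (Fin n) F) ≠ z • (1 : Matrix (Fin n) (Fin n) F)) ∧
      ∀ P : Matrix.SpecialLinearGroup (Fin n) F, ∃ (H : Submodule F (Fin n → F)) (w : Fin n → F),
        n - 1 ≤ finrank F H ∧ w ∉ H ∧
        (∀ u ∈ H, ((P⁻¹ * x * P : Matrix.SpecialLinearGroup (Fin n) F) : Matrix (Fin n) (Fin n) F) *ᵥ u = μ • u) ∧
        ((P⁻¹ * x * P : Matrix.SpecialLinearGroup (Fin n) F) : Matrix (Fin n) (Fin n) F) *ᵥ w = -μ • w := by
  classical
  obtain ⟨i₀, hi₀⟩ : ∃ i₀ : Fin n, (i₀ : ℕ) = 0 := ⟨⟨0, by omega⟩, rfl⟩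
  let s : Fin n → F := fun i => if i = i₀ then -μ else μ
  have hμ0 : μ ≠ 0 := fun h => by
    rw [h, zero_pow (by omega)] at hμ
    exact one_ne_zero (neg_eq_zero.mp hμ.symm)
  have hdet : (Matrix.diagonal s).det = 1 := by
    rw [Matrix.det_diagonal, Finset.prod_eq_mul_prod_sdiff_singleton_of_mem (Finset.mem_univ i₀),
      Finset.prod_congr rfl (fun i hi => show s i = μ by simp at hi; simp [s, hi]), Finset.prod_const,
      Finset.card_sdiff_of_subset (Finset.subset_univ _), Finset.card_singleton, Finset.card_univ, Fintype.card_fin]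
    simp only [s, if_pos]
    rw [neg_mul, ← pow_succ', Nat.sub_add_cancel (by omega), hμ, neg_neg]
  obtain ⟨x, hxs⟩ : ∃ x : Matrix.SpecialLinearGroup (Fin n) F, (x : Matrix (Fin n) (Fin n) F) = Matrix.diagonal s :=
    ⟨⟨_, hdet⟩, rfl⟩
  refine ⟨x, ?_, fun z hz => ?_, fun P => ?_⟩
  · rw [Matrix.SpecialLinearGroup.coe_pow, hxs, Matrix.diagonal_pow, Matrix.smul_one_eq_diagonal]
    congr 1
    funext i
    by_cases h : i = i₀ <;> simp [s, h, pow_two]
  · rw [hxs] at hz
    have h0 := congrFun (congrFun hz i₀) i₀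
    obtain ⟨i₁, hi₁⟩ : ∃ i₁ : Fin n, i₁ ≠ i₀ := ⟨⟨1, by omega⟩, fun h => by simp [← h] at hi₀⟩
    have h1 := congrFun (congrFun hz i₁) i₁
    simp [s, hi₁] at h0 h1
    rw [← h1, neg_eq_iff_add_eq_zero, ← two_mul] at h0
    exact mul_ne_zero h2 hμ0 h0
  · let L : (Fin n → F) →ₗ[F] F := (LinearMap.proj i₀).comp (Matrix.toLin' (P : Matrix (Fin n) (Fin n) F))
    have hPP : ∀ v, (↑(P⁻¹) : Matrix (Fin n) (Fin n) F) *ᵥ ((P : Matrix (Fin n) (Fin n) F) *ᵥ v) = v := fun v => by
      rw [Matrix.mulVec_mulVec, ← Matrix.SpecialLinearGroup.coe_mul, inv_mul_cancel, Matrix.SpecialLinearGroup.coe_one,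
        Matrix.one_mulVec]
    have hPP' : ∀ v, (P : Matrix (Fin n) (Fin n) F) *ᵥ ((↑(P⁻¹) : Matrix (Fin n) (Fin n) F) *ᵥ v) = v := fun v => by
      rw [Matrix.mulVec_mulVec, ← Matrix.SpecialLinearGroup.coe_mul, mul_inv_cancel, Matrix.SpecialLinearGroup.coe_one,
        Matrix.one_mulVec]
    refine ⟨LinearMap.ker L, (↑(P⁻¹) : Matrix (Fin n) (Fin n) F) *ᵥ Pi.single i₀ 1, ?_, ?_, fun u hu => ?_, ?_⟩
    · have := L.finrank_range_add_finrank_ker
      rw [finrank_fin_fun] at this
      have := (LinearMap.range L).finrank_le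
      rw [finrank_self] at this
      omega
    · intro h
      have h' : ((P : Matrix (Fin n) (Fin n) F) *ᵥ ((↑(P⁻¹) : Matrix (Fin n) (Fin n) F) *ᵥ Pi.single i₀ 1)) i₀ = 0 := h
      rw [hPP', Pi.single_eq_same] at h'
      exact one_ne_zero h'
    · rw [Matrix.SpecialLinearGroup.coe_mul, Matrix.SpecialLinearGroup.coe_mul, hxs, ← Matrix.mulVec_mulVec,
        ← Matrix.mulVec_mulVec, show Matrix.diagonal s *ᵥ ((P : Matrix (Fin n) (Fin n) F) *ᵥ u) =
          μ • ((P : Matrix (Fin n) (Fin n) F) *ᵥ u) from ?_, Matrix.mulVec_smul, hPP]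
      funext i
      rw [Matrix.mulVec_diagonal, Pi.smul_apply, smul_eq_mul]
      by_cases h : i = i₀
      · have : ((P : Matrix (Fin n) (Fin n) F) *ᵥ u) i₀ = 0 := hu
        rw [h, this, mul_zero, mul_zero]
      · simp [s, h]
    · rw [Matrix.SpecialLinearGroup.coe_mul, Matrix.SpecialLinearGroup.coe_mul, hxs, ← Matrix.mulVec_mulVec,
        ← Matrix.mulVec_mulVec, hPP']
      rw [← Matrix.mulVec_smul]
      congr 1
      funext i
      rw [Matrix.mulVec_diagonal, Pi.smul_apply, smul_eq_mul]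
      by_cases h : i = i₀ <;> simp [s, h]

end Cfsg.Agent.Classical.Elusive
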