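import Cfsg.Agent.Lib.Classical.Elusive.Cases
import Cfsg.Agent.Lib.Classical.Elusive.FreeModels
import Cfsg.Agent.Lib.Classical.Elusive.FreeSplit
import Cfsg.Prelude.Def_GeometricClasses

/-!
# Decompositions into subspaces of equal dimension permuted by elements of prime order
-/

set_option autoImplicit false
set_option maxHeartbeats 400000
set_option linter.unusedSectionVars false

universe u

namespace Cfsg.Agent.Classical.Elusive.LinImprim

open Module Polynomial

section General

variable {F : Type u} [Field F] {V : Type u} [AddCommGroup V] [Module F V] [FiniteDimensional F V]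

theorem finrank_iSup_indep {κ : Type} [Fintype κ] {D : κ → Submodule F V} (hi : iSupIndep D) :
    finrank F ↥(iSup D) = ∑ j, finrank F (D j) := by
  classical
  rw [← (DirectSum.range_coeLinearMap : LinearMap.range (DirectSum.coeLinearMap D) = _), LinearMap.finrank_range_of_inj (f := DirectSum.coeLinearMap D) hi.dfinsupp_lsum_injective,
    Module.finrank_directSum]

/-- A vanishing sum of vectors from distinct members. -/
theorem comp_zero {κ : Type} {ι : Type} [Fintype ι] {D : κ → Submodule F V} (hi : iSupIndep D) {τ : ι → κ}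
    (hτ : Function.Injective τ) {y : ι → V} (hy : ∀ k, y k ∈ D (τ k)) (h : ∑ k, y k = 0) : ∀ k, y k = 0 := by
  classical
  intro k
  refine Submodule.disjoint_def.mp (hi (τ k)) _ (hy k) ?_
  rw [← Finset.add_sum_erase _ _ (Finset.mem_univ k)] at h
  rw [eq_neg_of_add_eq_zero_left h]
  refine neg_mem (Submodule.sum_mem _ fun l hl => ?_)
  exact Submodule.mem_iSup_of_mem (τ l)
    (Submodule.mem_iSup_of_mem (fun e => (Finset.mem_erase.mp hl).1 (hτ e)) (hy l))

/-- The next vector of an orbit. -/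
theorem next_orbit {f : Module.End F V} {r : ℕ} [NeZero r] {z : F} (hfr : ∀ v, (f ^ r) v = z • v) (w : V)
    (k : Fin r) : f ((f ^ (k : ℕ)) w) ∈ Submodule.span F {(f ^ ((k + 1 : Fin r) : ℕ)) w} := by
  rw [← Module.End.mul_apply, ← pow_succ', Fin.val_add, Fin.val_one', Nat.add_mod_mod]
  rcases Nat.lt_or_ge ((k : ℕ) + 1) r with h | h
  · rw [Nat.mod_eq_of_lt h]
    exact Submodule.mem_span_singleton_self _
  · have hk : (k : ℕ) + 1 = r := le_antisymm k.2 h
    rw [hk, Nat.mod_self, pow_zero, Module.End.one_apply, hfr]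
    exact Submodule.smul_mem _ _ (Submodule.mem_span_singleton_self _)

/-- Generators of an invariant subspace whose invariant subspaces have dimensions divisible by `D`. -/
theorem exists_gens {f : Module.End F V} {r : ℕ} [NeZero r] {z : F} (hfr : ∀ v, (f ^ r) v = z • v)
    {T : Submodule F V} (hT : ∀ v ∈ T, f v ∈ T) {D : ℕ}
    (hdiv : ∀ U ≤ T, (∀ v ∈ U, f v ∈ U) → D ∣ finrank F U) {N : ℕ} (hN : D * N = finrank F T) :
    ∃ w : Fin N → V, (∀ i, w i ∈ T) ∧
      T ≤ Submodule.span F (Set.range fun p : Fin N × Fin r => (f ^ (p.2 : ℕ)) (w p.1)) := by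
  classical
  have hpow : ∀ (k : ℕ), ∀ v ∈ T, (f ^ k) v ∈ T := by
    intro k
    induction k with
    | zero => exact fun v hv => hv
    | succ k ih => intro v hv; rw [pow_succ', Module.End.mul_apply]; exact hT _ (ih v hv)
  have hsub : ∀ {m : ℕ} (w : Fin m → V), (∀ i, w i ∈ T) →
      Submodule.span F (Set.range fun p : Fin m × Fin r => (f ^ (p.2 : ℕ)) (w p.1)) ≤ T := fun w hw => by
    rw [Submodule.span_le]
    rintro _ ⟨p, rfl⟩
    exact hpow _ _ (hw _)
  have hinv : ∀ {m : ℕ} (w : Fin m → V),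
      ∀ v ∈ Submodule.span F (Set.range fun p : Fin m × Fin r => (f ^ (p.2 : ℕ)) (w p.1)),
        f v ∈ Submodule.span F (Set.range fun p : Fin m × Fin r => (f ^ (p.2 : ℕ)) (w p.1)) := by
    intro m w v hv
    suffices h : Submodule.span F (Set.range fun p : Fin m × Fin r => (f ^ (p.2 : ℕ)) (w p.1)) ≤
        (Submodule.span F (Set.range fun p : Fin m × Fin r => (f ^ (p.2 : ℕ)) (w p.1))).comap f from h hv
    rw [Submodule.span_le]
    rintro _ ⟨p, rfl⟩
    exact (Submodule.span_mono (Set.singleton_subset_iff.mpr (Set.mem_range.mpr ⟨(p.1, p.2 + 1), rfl⟩)))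
      (next_orbit hfr (w p.1) p.2)
  have key : ∀ m, m ≤ N → ∃ w : Fin m → V, (∀ i, w i ∈ T) ∧
      D * m ≤ finrank F ↥(Submodule.span F (Set.range fun p : Fin m × Fin r => (f ^ (p.2 : ℕ)) (w p.1))) := by
    intro m
    induction m with
    | zero => exact fun _ => ⟨Fin.elim0, fun i => i.elim0, by rw [Nat.mul_zero]; exact Nat.zero_le _⟩
    | succ m ih =>
      intro hm
      obtain ⟨w, hw, hd⟩ := ih (by omega)
      obtain ⟨S, hS⟩ : ∃ S, S = Submodule.span F (Set.range fun p : Fin m × Fin r => (f ^ (p.2 : ℕ)) (w p.1)) :=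
        ⟨_, rfl⟩
      rw [← hS] at hd
      have mono : ∀ x, S ≤ Submodule.span F
          (Set.range fun p : Fin (m + 1) × Fin r => (f ^ (p.2 : ℕ)) ((Fin.cons x w : Fin (m + 1) → V) p.1)) := by
        intro x
        rw [hS]
        refine Submodule.span_mono ?_
        rintro _ ⟨p, rfl⟩
        exact ⟨(p.1.succ, p.2), by simp⟩
      have hmem : ∀ x ∈ T, ∀ i, (Fin.cons x w : Fin (m + 1) → V) i ∈ T := fun x hx i =>
        Fin.cases (by simpa using hx) (fun i => by simpa using hw i) i
      by_cases hlt : S = T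
      · refine ⟨Fin.cons 0 w, hmem 0 T.zero_mem, ?_⟩
        have h1 : finrank F T ≤ _ := hlt ▸ Submodule.finrank_mono (mono 0)
        exact (Nat.mul_le_mul_left D hm).trans (hN.le.trans h1)
      obtain ⟨x, hx, hxS⟩ := SetLike.exists_of_lt (lt_of_le_of_ne (hS ▸ hsub w hw) hlt)
      refine ⟨Fin.cons x w, hmem x hx, ?_⟩
      have hnew := Submodule.finrank_lt_finrank_of_lt (lt_of_le_of_ne (mono x) fun e => hxS (e ▸
        Submodule.subset_span ⟨(0, 0), by simp⟩))
      obtain ⟨k, hk⟩ := hdiv S (hS ▸ hsub w hw) (hS ▸ hinv w)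
      obtain ⟨l, hl⟩ := hdiv _ (hsub _ (hmem x hx)) (hinv _)
      rw [hk, hl] at hnew
      have hkl := Nat.lt_of_mul_lt_mul_left hnew
      rw [hl]
      rw [hk] at hd
      calc D * (m + 1) = D * m + D := Nat.mul_succ D m
        _ ≤ D * k + D := Nat.add_le_add_right hd D
        _ = D * (k + 1) := (Nat.mul_succ D k).symm
        _ ≤ D * l := Nat.mul_le_mul_left D hkl
  obtain ⟨w, hw, hd⟩ := key N le_rfl
  exact ⟨w, hw, (Submodule.eq_of_le_of_finrank_le (hsub w hw) (hN ▸ hd)).ge⟩

/-- Parts of the index set with equal sums. -/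
theorem exists_parts {k : ℕ} {d : Fin k → ℕ} {D : ℕ} (hD : 1 ≤ D) (hd : ∀ i, d i = 1 ∨ d i = D) {a : ℕ} :
    ∀ (t : ℕ) (s : Finset (Fin k)), ∑ i ∈ s, d i = a * t → t * (a % D) < D →
      ∃ S : Fin t → Finset (Fin k), (∀ j, S j ⊆ s ∧ ∑ i ∈ S j, d i = a) ∧ ∀ j j', j ≠ j' → Disjoint (S j) (S j') := by
  classical
  intro t
  induction t with
  | zero => intro s _ _; exact ⟨Fin.elim0, fun j => j.elim0, fun j => j.elim0⟩
  | succ t ih =>
    intro s hs hlt
    obtain ⟨P, hP⟩ : ∃ P, P = s.filter fun i => ¬ d i = D := ⟨_, rfl⟩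
    obtain ⟨M, hM⟩ : ∃ M, M = s.filter fun i => d i = D := ⟨_, rfl⟩
    have hPs : ∀ i ∈ P, d i = 1 := fun i hi => by
      rw [hP, Finset.mem_filter] at hi
      exact (hd i).resolve_right hi.2
    have hMs : ∀ i ∈ M, d i = D := fun i hi => by
      rw [hM, Finset.mem_filter] at hi
      exact hi.2
    have htot : P.card + M.card * D = a * (t + 1) := by
      rw [← hs, ← Finset.sum_filter_add_sum_filter_not s (fun i => d i = D) d, ← hP, ← hM,
        Finset.sum_congr rfl hPs, Finset.sum_congr rfl hMs]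
      simp [add_comm]
    obtain ⟨m, b, hmM, hbP, hmb⟩ : ∃ m b, m ≤ M.card ∧ b ≤ P.card ∧ m * D + b = a := by
      by_cases hle : a / D ≤ M.card
      · refine ⟨a / D, a % D, hle, ?_, by rw [mul_comm]; exact Nat.div_add_mod a D⟩
        have h1 : P.card % D = (t + 1) * (a % D) := by
          rw [← Nat.mod_eq_of_lt hlt, Nat.mul_mod_mod, mul_comm (t + 1) a, ← htot, Nat.add_mul_mod_self_right]
        exact le_trans (Nat.le_mul_of_pos_left _ t.succ_pos) (h1.symm.le.trans (Nat.mod_le _ _))
      · push Not at hle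
        have h1 : M.card * D ≤ a := le_trans (Nat.mul_le_mul_right D hle.le) (Nat.div_mul_le_self a D)
        refine ⟨M.card, a - M.card * D, le_rfl, ?_, by omega⟩
        have : a ≤ a * (t + 1) := Nat.le_mul_of_pos_right a t.succ_pos
        omega
    obtain ⟨M', hM', hM'c⟩ := Finset.exists_subset_card_eq hmM
    obtain ⟨P', hP', hP'c⟩ := Finset.exists_subset_card_eq hbP
    have hdis : Disjoint M' P' := Finset.disjoint_left.mpr fun i h1 h2 => by
      have h1' := hM' h1
      have h2' := hP' h2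
      rw [hM, Finset.mem_filter] at h1'
      rw [hP, Finset.mem_filter] at h2'
      exact h2'.2 h1'.2
    have hsub : M' ∪ P' ⊆ s := Finset.union_subset (hM'.trans (hM ▸ Finset.filter_subset _ _))
      (hP'.trans (hP ▸ Finset.filter_subset _ _))
    have hsum : ∑ i ∈ M' ∪ P', d i = a := by
      rw [Finset.sum_union hdis, Finset.sum_congr rfl fun i hi => hMs i (hM' hi),
        Finset.sum_congr rfl fun i hi => hPs i (hP' hi)]
      simp [hM'c, hP'c, hmb]
    obtain ⟨S, hS, hSd⟩ := ih (s \ (M' ∪ P')) (by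
      have := Finset.sum_sdiff (f := d) hsub
      rw [hsum, hs, Nat.mul_succ] at this
      omega) (lt_of_le_of_lt (Nat.mul_le_mul_right _ t.le_succ) hlt)
    refine ⟨Fin.cons (M' ∪ P') S, fun j => Fin.cases ?_ (fun j => ?_) j, fun j => Fin.cases ?_ (fun j => ?_) j⟩
    · rw [Fin.cons_zero]; exact ⟨hsub, hsum⟩
    · rw [Fin.cons_succ]; exact ⟨(hS j).1.trans Finset.sdiff_subset, (hS j).2⟩
    · intro j'
      refine Fin.cases (fun h => absurd rfl h) (fun j' _ => ?_) j'
      rw [Fin.cons_zero, Fin.cons_succ]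
      exact Finset.disjoint_left.mpr fun i hi hi' => (Finset.mem_sdiff.mp ((hS j').1 hi')).2 hi
    · intro j'
      refine Fin.cases (fun _ => ?_) (fun j' h => ?_) j'
      · rw [Fin.cons_zero, Fin.cons_succ]
        exact Finset.disjoint_left.mpr fun i hi hi' => (Finset.mem_sdiff.mp ((hS j).1 hi)).2 hi'
      · rw [Fin.cons_succ, Fin.cons_succ]
        exact hSd _ _ fun e => h (e ▸ rfl)

end General

variable {F : Type u} [Field F] {n a t : ℕ}

/-- Some decomposition is permuted. -/
def Fixes (a t : ℕ) (f : Module.End F (Fin n → F)) : Prop :=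
  ∃ D : Fin t → Submodule F (Fin n → F), Cfsg.Geo.IsMDecomposition a D ∧
    ∃ σ : Equiv.Perm (Fin t), ∀ j, (D j).map f = D (σ j)

theorem mdec_of (ht : 2 ≤ t) (ha : 0 < a) (hat : n = a * t) {D : Fin t → Submodule F (Fin n → F)}
    (hd : ∀ j, finrank F (D j) = a) (hi : iSupIndep D) : Cfsg.Geo.IsMDecomposition a D :=
  ⟨ht, ha, hd, hi, Submodule.eq_top_of_finrank_eq (by
    rw [finrank_iSup_indep hi, Module.finrank_fin_fun]; simp [hd, hat, mul_comm])⟩

theorem fixes_of_le (ht : 2 ≤ t) (ha : 0 < a) (hat : n = a * t) {f : Module.End F (Fin n → F)}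
    (hf : Function.Injective f) {D : Fin t → Submodule F (Fin n → F)} (hd : ∀ j, finrank F (D j) = a)
    (hi : iSupIndep D) {σ : Equiv.Perm (Fin t)} (hle : ∀ j, (D j).map f ≤ D (σ j)) : Fixes a t f :=
  ⟨D, mdec_of ht ha hat hd hi, σ, fun j => Submodule.eq_of_le_of_finrank_eq (hle j) (by
    rw [← (Submodule.equivMapOfInjective f hf (D j)).finrank_eq, hd, hd])⟩

/-- Decompositions assembled from blocks. -/
theorem fixes_of_blocks (ht : 2 ≤ t) (ha : 0 < a) (hat : n = a * t) {f : Module.End F (Fin n → F)}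
    (hf : Function.Injective f) {k : ℕ} {d : Fin k → ℕ} (B : Blocks f d) {D : ℕ} (hD : 1 ≤ D)
    (hd : ∀ i, d i = 1 ∨ d i = D) (hlt : t * (a % D) < D) : Fixes a t f := by
  classical
  obtain ⟨S, hS, hSd⟩ := exists_parts hD hd t Finset.univ (by rw [B.sum_eq, Module.finrank_fin_fun, hat]) hlt
  refine fixes_of_le ht ha hat hf (D := fun j => B.sub (S j)) (σ := Equiv.refl _) (fun j => ?_) (fun j => ?_)
    fun j => B.inv _
  · rw [B.dim, Finset.sum_ite_mem, Finset.univ_inter, (hS j).2]
  · refine (B.compl (S j)).disjoint.mono_right (iSup₂_le fun i hi => B.mono ?_)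
    intro x hx
    exact Finset.mem_compl.mpr fun hx' => Finset.disjoint_left.mp (hSd i j hi) hx hx'

/-- Decompositions assembled from bases. -/
theorem fixes_of_basis (ht : 2 ≤ t) (ha : 0 < a) (hat : n = a * t) {f : Module.End F (Fin n → F)}
    (hf : Function.Injective f) {ι : Type} [Fintype ι] (b : Basis ι F (Fin n → F)) (E : ι ≃ Fin t × Fin a)
    {σ : Equiv.Perm (Fin t)} (hb : ∀ i, ∃ i', (E i').1 = σ (E i).1 ∧ f (b i) ∈ Submodule.span F {b i'}) :
    Fixes a t f := by
  classical
  refine fixes_of_le ht ha hat hf (D := fun j => Submodule.span F (b '' {i | (E i).1 = j})) (σ := σ) (fun j => ?_)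
    (fun j => ?_) fun j => ?_
  · rw [show {i | (E i).1 = j} = Set.range (fun k : Fin a => E.symm (j, k)) from Set.ext fun i =>
        ⟨fun h => ⟨(E i).2, by simp [← show (E i).1 = j from h]⟩, by rintro ⟨k, rfl⟩; simp⟩,
      ← Set.range_comp, finrank_span_eq_card (b.linearIndependent.comp _
        fun k k' h => by simpa using h), Fintype.card_fin]
  · refine Disjoint.mono_right (iSup₂_le fun i hi => Submodule.span_mono (Set.image_mono (fun x hx => ?_)))
      (b.linearIndependent.disjoint_span_image (disjoint_compl_right (a := {i | (E i).1 = j})))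
    exact fun e => hi (hx.symm.trans e)
  · rw [Submodule.map_span, Submodule.span_le]
    rintro _ ⟨_, ⟨i, hi, rfl⟩, rfl⟩
    obtain ⟨i', hi', hm⟩ := hb i
    exact Submodule.span_mono (Set.singleton_subset_iff.mpr
      (Set.mem_image_of_mem b (show (E i').1 = σ j by rw [hi', show (E i).1 = j from hi]))) hm

/-- An element whose invariant subspaces have dimensions divisible by `r`, dividing the degree of the power. -/
theorem fixes_scaled (ht : 2 ≤ t) (ha : 0 < a) (hat : n = a * t) {f : Module.End F (Fin n → F)}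
    (hf : Function.Injective f) {r : ℕ} (hr : r.Prime) {z : F} (hfr : ∀ v, (f ^ r) v = z • v)
    (hdiv : ∀ U : Submodule F (Fin n → F), (∀ v ∈ U, f v ∈ U) → r ∣ finrank F U) : Fixes a t f := by
  classical
  haveI : NeZero r := ⟨hr.ne_zero⟩
  obtain ⟨N, hN⟩ := hdiv ⊤ fun _ _ => trivial
  rw [finrank_top, Module.finrank_fin_fun] at hN
  obtain ⟨w, -, hw⟩ := exists_gens hfr (T := ⊤) (fun _ _ => trivial) (fun U _ h => hdiv U h) (N := N)
    (by rw [finrank_top, Module.finrank_fin_fun, hN])
  let b : Basis (Fin N × Fin r) F (Fin n → F) := basisOfTopLeSpanOfCardEqFinrank _ hw (by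
    rw [Fintype.card_prod, Fintype.card_fin, Fintype.card_fin, Module.finrank_fin_fun, hN, mul_comm])
  have hb : ∀ p, b p = (f ^ (p.2 : ℕ)) (w p.1) := fun p => by
    simp [b, coe_basisOfTopLeSpanOfCardEqFinrank]
  have hnext : ∀ p : Fin N × Fin r, f (b p) ∈ Submodule.span F {b (p.1, p.2 + 1)} := fun p => by
    rw [hb, hb]; exact next_orbit hfr _ _
  rcases hr.dvd_mul.mp (show r ∣ a * t from ⟨N, by rw [← hat, hN]⟩) with ⟨a', ha'⟩ | ⟨t', ht'⟩
  · have hNt : N = t * a' := Nat.eq_of_mul_eq_mul_left hr.pos (by rw [← hN, hat, ha']; ring)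
    obtain ⟨e, -⟩ : ∃ e : Fin N ≃ Fin t × Fin a', True := ⟨(finCongr hNt).trans finProdFinEquiv.symm, trivial⟩
    exact fixes_of_basis ht ha hat hf b
      ((e.prodCongr (Equiv.refl (Fin r))).trans ((Equiv.prodAssoc _ _ _).trans
        ((Equiv.refl (Fin t)).prodCongr (finProdFinEquiv.trans (finCongr (by rw [ha', mul_comm]))))))
      (σ := Equiv.refl _) fun p => ⟨(p.1, p.2 + 1), rfl, hnext p⟩
  · have hNt : N = t' * a := Nat.eq_of_mul_eq_mul_left hr.pos (by rw [← hN, hat, ht']; ring)
    obtain ⟨e, -⟩ : ∃ e : Fin N ≃ Fin t' × Fin a, True := ⟨(finCongr hNt).trans finProdFinEquiv.symm, trivial⟩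
    obtain ⟨u, -⟩ : ∃ u : Fin t' × Fin r ≃ Fin t, True :=
      ⟨finProdFinEquiv.trans (finCongr (by rw [ht', mul_comm])), trivial⟩
    let E : Fin N × Fin r ≃ Fin t × Fin a :=
      { toFun := fun p => (u ((e p.1).1, p.2), (e p.1).2)
        invFun := fun p => (e.symm ((u.symm p.1).1, p.2), (u.symm p.1).2)
        left_inv := fun p => by simp
        right_inv := fun p => by simp }
    refine fixes_of_basis ht ha hat hf b E (σ := u.permCongr ((Equiv.refl (Fin t')).prodCongr (Equiv.addRight 1)))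
      fun p => ⟨(p.1, p.2 + 1), ?_, hnext p⟩
    simp [E, Equiv.permCongr_apply]

/-- Blocks of an element with a root of its power. -/
theorem root_blocks [Fintype F] {r : ℕ} [Fact r.Prime] (hr0 : (r : F) ≠ 0) {f : Module.End F (Fin n → F)}
    {y : F} (hy : y ≠ 0) (hfr : ∀ v, (f ^ r) v = y ^ r • v) :
    ∃ (k : ℕ) (d : Fin k → ℕ), Nonempty (Blocks f d) ∧
      ∀ i, d i = 1 ∨ d i = orderOf (Fintype.card F : ZMod r) := by
  obtain ⟨g, hg⟩ : ∃ g, g = y⁻¹ • f := ⟨_, rfl⟩
  have hgr : g ^ r = (1 : F) • 1 := LinearMap.ext fun v => by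
    rw [hg, _root_.smul_pow, LinearMap.smul_apply, hfr, smul_smul, ← mul_pow, inv_mul_cancel₀ hy, one_pow,
      one_smul]
    simp
  obtain ⟨k, qs, ⟨B⟩, -, hq⟩ := exists_blocks (finrank F (Fin n → F)) g le_rfl
    (isSemisimple_of_pow hr0 one_ne_zero hgr) (X ^ r - 1) (by
      rw [map_sub, map_pow, aeval_X, map_one, hgr, one_smul, sub_self])
  have hfg : f = y • g := by rw [hg, smul_smul, mul_inv_cancel₀ hy, one_smul]
  refine ⟨k, _, ⟨⟨B.sub, fun s => ?_, B.mono, B.dim, B.compl⟩⟩, fun i => ?_⟩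
  · rintro _ ⟨v, hv, rfl⟩
    rw [hfg, LinearMap.smul_apply]
    exact Submodule.smul_mem _ _ (B.inv s ⟨v, hv, rfl⟩)
  · by_cases h1 : qs i = X - C 1
    · left; rw [h1, natDegree_X_sub_C]
    · right; exact natDegree_factor (hq i).1 (hq i).2.1 (hq i).2.2 h1

variable [Fintype F] {r : ℕ}

local notation "ord" => orderOf (Fintype.card F : ZMod r)

/-- Regular orbits of lines. -/
theorem fixes_regular (hn : 2 ≤ n) (hr : r.Prime) (hr2 : r ≠ 2) (hc : ord = r - 1) {f g : Module.End F (Fin n → F)}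
    (hf : Function.Injective f) {l : F} (hfg : f = l • g)
    (hg : Free.IsTame (0 : LinearMap.BilinForm F (Fin n → F)) g r)
    (hroom : n ≤ finrank F (Free.fixSpace g) * r) : Fixes 1 n f := by
  classical
  haveI : NeZero r := ⟨hr.ne_zero⟩
  have hfree := hg.free_moved hr hr2
  have hdiv : ∀ U ≤ Free.moved g, (∀ v ∈ U, g v ∈ U) → ord ∣ finrank F U := fun U hU hUi => by
    rw [← (Submodule.comapSubtypeEquivOfLe hU).finrank_eq]
    exact (hfree.exists_irred (U := U.comap (Free.moved g).subtype) fun x hx => hUi _ hx).1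
  obtain ⟨N, hN⟩ := hdiv (Free.moved g) le_rfl fun v hv => Free.moved_invariant hv
  have hgr : ∀ v, (g ^ r) v = (1 : F) • v := fun v => by rw [hg.pow_eq, one_smul]; rfl
  obtain ⟨w, hwm, hw⟩ := exists_gens hgr (fun v hv => Free.moved_invariant hv) hdiv (N := N) hN.symm
  have hdim := Submodule.finrank_add_eq_of_isCompl hg.isCompl
  rw [Module.finrank_fin_fun] at hdim
  obtain ⟨A, hA⟩ : ∃ A, A = finrank F (Free.fixSpace g) := ⟨_, rfl⟩
  obtain ⟨c, hc'⟩ : ∃ c, c = ord := ⟨_, rfl⟩
  rw [← hA, hN, ← hc'] at hdim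
  rw [← hA] at hroom
  have hr1 : r = c + 1 := by have := hr.two_le; omega
  have hNA : N ≤ A := by
    have h1 : A * r = A * c + A := by rw [hr1, Nat.mul_succ]
    have h2 : c * N ≤ c * A := by rw [mul_comm c A]; omega
    exact Nat.le_of_mul_le_mul_left h2 (by have := hr.two_le; omega)
  obtain ⟨M, hM⟩ := Nat.exists_eq_add_of_le hNA
  obtain ⟨uB⟩ : Nonempty (Basis (Fin N ⊕ Fin M) F (Free.fixSpace g)) :=
    ⟨(finBasisOfFinrankEq F _ (hA.symm.trans hM)).reindex finSumFinEquiv.symm⟩
  let vec : (Fin N × Fin r) ⊕ Fin M → (Fin n → F) :=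
    Sum.elim (fun p => (g ^ (p.2 : ℕ)) ((uB (Sum.inl p.1) : Fin n → F) + w p.1)) fun i => (uB (Sum.inr i) : Fin n → F)
  have hgu : ∀ i, g (uB i : Fin n → F) = uB i := fun i => Free.mem_fixSpace.mp (uB i).2
  have hgk : ∀ (k : ℕ) i, (g ^ k) (uB i : Fin n → F) = uB i := by
    intro k
    induction k with
    | zero => intro i; rfl
    | succ k ih => intro i; rw [pow_succ, Module.End.mul_apply, hgu, ih]
  have hspan : ⊤ ≤ Submodule.span F (Set.range vec) := by
    have hu : ∀ i, (uB i : Fin n → F) ∈ Submodule.span F (Set.range vec) := by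
      rintro (i | i)
      swap
      · exact Submodule.subset_span ⟨Sum.inr i, rfl⟩
      have h1 : ∑ k : Fin r, vec (Sum.inl (i, k)) ∈ Submodule.span F (Set.range vec) :=
        Submodule.sum_mem _ fun k _ => Submodule.subset_span ⟨_, rfl⟩
      have h2 : (∑ k ∈ Finset.range r, g ^ k) (w i) = 0 := by
        have h3 := hg.avg_moved (hwm i)
        rw [Free.avg, LinearMap.smul_apply] at h3
        exact (smul_eq_zero.mp h3).resolve_left (inv_ne_zero hg.ne_zero)
      rw [LinearMap.sum_apply, ← Fin.sum_univ_eq_sum_range (fun k => (g ^ k) (w i))] at h2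
      rw [show ∑ k : Fin r, vec (Sum.inl (i, k)) = (r : F) • (uB (Sum.inl i) : Fin n → F) by
        simp only [vec, Sum.elim_inl, map_add, Finset.sum_add_distrib, h2, hgk, add_zero, Finset.sum_const,
          Finset.card_univ, Fintype.card_fin, ← Nat.cast_smul_eq_nsmul F]] at h1
      exact (Submodule.smul_mem_iff _ hg.ne_zero).mp h1
    have hfixle : Free.fixSpace g ≤ Submodule.span F (Set.range vec) := fun v hv => by
      have hmem : (⟨v, hv⟩ : Free.fixSpace g) ∈ Submodule.span F (Set.range uB) := uB.span_eq ▸ Submodule.mem_top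
      have := Submodule.apply_mem_span_image_of_mem_span (Free.fixSpace g).subtype hmem
      refine (Submodule.span_le.mpr ?_) this
      rintro _ ⟨_, ⟨i, rfl⟩, rfl⟩
      exact hu i
    rw [← hg.isCompl.sup_eq_top]
    refine sup_le hfixle (hw.trans (Submodule.span_le.mpr ?_))
    rintro _ ⟨p, rfl⟩
    have h1 : vec (Sum.inl p) ∈ Submodule.span F (Set.range vec) := Submodule.subset_span ⟨_, rfl⟩
    rw [show vec (Sum.inl p) = (uB (Sum.inl p.1) : Fin n → F) + (g ^ (p.2 : ℕ)) (w p.1) by
      simp only [vec, Sum.elim_inl, map_add, hgk]] at h1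
    exact (Submodule.add_mem_iff_right _ (hu _)).mp h1
  let b : Basis ((Fin N × Fin r) ⊕ Fin M) F (Fin n → F) := basisOfTopLeSpanOfCardEqFinrank vec hspan (by
    rw [Fintype.card_sum, Fintype.card_prod, Fintype.card_fin, Fintype.card_fin, Fintype.card_fin,
      Module.finrank_fin_fun, hr1, Nat.mul_succ, mul_comm N c]
    omega)
  have hb : ∀ i, b i = vec i := fun i => by simp [b, coe_basisOfTopLeSpanOfCardEqFinrank]
  obtain ⟨e, -⟩ : ∃ e : (Fin N × Fin r) ⊕ Fin M ≃ Fin n, True :=
    ⟨(Fintype.equivFinOfCardEq ((Module.finrank_eq_card_basis b).symm.trans (Module.finrank_fin_fun F))), trivial⟩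
  refine fixes_of_basis hn one_pos (one_mul n).symm hf b
    (e.trans (Equiv.prodUnique (Fin n) (Fin 1)).symm)
    (σ := e.permCongr (Equiv.sumCongr ((Equiv.refl _).prodCongr (Equiv.addRight 1)) (Equiv.refl _))) fun i => ?_
  rcases i with ⟨i, k⟩ | i
  · refine ⟨Sum.inl (i, k + 1), by simp [Equiv.permCongr_apply], ?_⟩
    rw [hb, hb, hfg, LinearMap.smul_apply]
    exact Submodule.smul_mem _ _ (next_orbit hgr _ _)
  · refine ⟨Sum.inr i, by simp [Equiv.permCongr_apply], ?_⟩
    rw [hb, hfg, LinearMap.smul_apply]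
    simp only [vec, Sum.elim_inr, hgu]
    exact Submodule.smul_mem _ _ (Submodule.mem_span_singleton_self _)

/-- An element with a free part of given size. -/
theorem exists_element (hr : r.Prime) (hr0 : (r : F) ≠ 0) (hrq : ¬ r ∣ Fintype.card F - 1) {A N : ℕ} (hN : 1 ≤ N)
    (hn : A + ord * N = n) :
    ∃ x : Matrix.SpecialLinearGroup (Fin n) F,
      ((x ^ r : Matrix.SpecialLinearGroup (Fin n) F) : Matrix (Fin n) (Fin n) F) = (1 : F) • (1 : Matrix (Fin n) (Fin n) F) ∧
      (∀ z : F, (x : Matrix (Fin n) (Fin n) F) ≠ z • (1 : Matrix (Fin n) (Fin n) F)) ∧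
      Free.IsTame (0 : LinearMap.BilinForm F (Fin n → F)) (Matrix.toLin' (x : Matrix (Fin n) (Fin n) F)) r ∧
      finrank F (Free.fixSpace (Matrix.toLin' (x : Matrix (Fin n) (Fin n) F))) = A := by
  classical
  haveI : Fact r.Prime := ⟨hr⟩
  obtain ⟨K, _, _, _, -, hK, -, -, ζ, hζr, hζ1⟩ := Free.exists_field (F := F) hr hr0 (t := 0) (by simp)
  haveI : Module.Finite F K := Module.Finite.of_finite
  let g₀ : Module.End F ((Fin A → F) × (Fin N → K)) := LinearMap.prodMap LinearMap.id
    (LinearMap.pi fun k => (LinearMap.mulLeft F ζ).comp (LinearMap.proj k))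
  have hg₀ : ∀ v, g₀ v = (v.1, fun k => ζ * v.2 k) := fun _ => rfl
  have hp₀ : ∀ (j : ℕ) v, (g₀ ^ j) v = (v.1, fun k => ζ ^ j * v.2 k) := by
    intro j
    induction j with
    | zero => intro v; simp
    | succ j ih =>
      intro v
      rw [pow_succ', Module.End.mul_apply, ih, hg₀]
      simp [pow_succ', mul_assoc]
  obtain ⟨e⟩ : Nonempty (((Fin A → F) × (Fin N → K)) ≃ₗ[F] (Fin n → F)) := ⟨LinearEquiv.ofFinrankEq _ _ (by
    rw [Module.finrank_prod, Module.finrank_pi_fintype, Module.finrank_pi_fintype, Module.finrank_fin_fun,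
      Finset.sum_const, Finset.sum_const, Finset.card_univ, Finset.card_univ, Fintype.card_fin, Fintype.card_fin,
      Module.finrank_self, hK]
    simp only [smul_eq_mul, mul_one]
    rw [mul_comm N, hn])⟩
  obtain ⟨g, hg⟩ : ∃ g, g = e.conj g₀ := ⟨_, rfl⟩
  have hge : ∀ v, g (e v) = e (g₀ v) := fun v => by rw [hg, LinearEquiv.conj_apply_apply, e.symm_apply_apply]
  have hgr : g ^ r = 1 := LinearMap.ext fun x => by
    obtain ⟨v, rfl⟩ := e.surjective x
    have key : ∀ j : ℕ, (g ^ j) (e v) = e ((g₀ ^ j) v) := by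
      intro j
      induction j with
      | zero => rfl
      | succ j ih => rw [pow_succ', Module.End.mul_apply, ih, hge, pow_succ', Module.End.mul_apply]
    rw [key, hp₀, hζr]
    simp
  have hfix : finrank F (Free.fixSpace g) = A := by
    have e1 : Free.fixSpace g =
        (LinearMap.range (LinearMap.inl F (Fin A → F) (Fin N → K))).map (e : _ →ₗ[F] (Fin n → F)) := by
      ext x
      obtain ⟨v, rfl⟩ := e.surjective x
      rw [Free.mem_fixSpace, hge, e.injective.eq_iff, hg₀, Submodule.mem_map_equiv, e.symm_apply_apply,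
        LinearMap.range_inl, LinearMap.mem_ker, LinearMap.snd_apply]
      constructor
      · intro h
        funext k
        have h1 := congrFun (congrArg Prod.snd h) k
        by_contra h0
        exact hζ1 (mul_right_cancel₀ h0 (h1.trans (one_mul _).symm))
      · intro h
        exact Prod.ext rfl (funext fun k => by rw [h]; simp)
    rw [e1, LinearEquiv.finrank_map_eq, LinearMap.finrank_range_of_inj LinearMap.inl_injective,
      Module.finrank_fin_fun]
  have hunit : ∀ s : F, s ^ r = 1 → s = 1 := fun s hs => by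
    have hs0 : s ≠ 0 := fun h => by rw [h, zero_pow hr.ne_zero] at hs; exact zero_ne_one hs
    rcases (Nat.dvd_prime hr).mp (orderOf_dvd_of_pow_eq_one hs) with h | h
    · exact orderOf_eq_one_iff.mp h
    · exact absurd (h ▸ orderOf_dvd_of_pow_eq_one (FiniteField.pow_card_sub_one_eq_one s hs0)) hrq
  have hdet : (LinearMap.toMatrix' g).det = 1 := hunit _ (by
    rw [LinearMap.det_toMatrix', ← map_pow, hgr, map_one])
  obtain ⟨x, hx⟩ : ∃ x : Matrix.SpecialLinearGroup (Fin n) F,
      (x : Matrix (Fin n) (Fin n) F) = LinearMap.toMatrix' g := ⟨⟨_, hdet⟩, rfl⟩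
  refine ⟨x, ?_, fun s hs => ?_, ?_, ?_⟩
  · refine Matrix.toLin'.injective ?_
    rw [Matrix.SpecialLinearGroup.coe_pow, Matrix.toLin'_pow, hx, Matrix.toLin'_toMatrix', hgr, one_smul,
      Matrix.toLin'_one]
    rfl
  · have h1 : g = s • (1 : Module.End F (Fin n → F)) := by
      rw [← Matrix.toLin'_toMatrix' g, show LinearMap.toMatrix' g = s • 1 from hx ▸ hs, map_smul, Matrix.toLin'_one]
      rfl
    obtain ⟨i⟩ : Nonempty (Fin n) := ⟨⟨0, by
      have : 0 < ord * N := Nat.mul_pos (hK ▸ Module.finrank_pos) hN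
      omega⟩⟩
    have h3 := hgr
    rw [h1, _root_.smul_pow, one_pow] at h3
    have h4 := congrFun (LinearMap.congr_fun h3 (Pi.single i 1)) i
    have hs1 : s = 1 := hunit s (by simpa using h4)
    rw [hs1, one_smul] at h1
    rw [h1, show Free.fixSpace (1 : Module.End F (Fin n → F)) = ⊤ from
      eq_top_iff.mpr fun v _ => Free.mem_fixSpace.mpr rfl, finrank_top, Module.finrank_fin_fun] at hfix
    have : 0 < ord * N := Nat.mul_pos (hK ▸ Module.finrank_pos) hN
    omega
  · rw [hx, Matrix.toLin'_toMatrix']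
    exact ⟨hr0, hgr, fun u v => rfl⟩
  · rw [hx, Matrix.toLin'_toMatrix', hfix]

/-- The orbit of a moved member is large. -/
theorem moved_member (hr : r.Prime) {g : Module.End F (Fin n → F)}
    (hg : Free.IsTame (0 : LinearMap.BilinForm F (Fin n → F)) g r)
    {D : Fin t → Submodule F (Fin n → F)} (hD : Cfsg.Geo.IsMDecomposition a D) {σ : Equiv.Perm (Fin t)}
    (hσ : ∀ j, (D j).map g = D (σ j)) {j : Fin t} (hj : σ j ≠ j) :
    a ≤ finrank F (Free.fixSpace g) ∧ (r - 1) * a ≤ finrank F (Free.moved g) ∧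
      ∀ v ∈ D j, Free.avg g r v = 0 → v = 0 := by
  classical
  obtain ⟨r', rfl⟩ : ∃ r', r = r' + 1 := ⟨r - 1, by have := hr.pos; omega⟩
  have hmem : ∀ (k : ℕ) v, v ∈ D j → (g ^ k) v ∈ D ((σ ^ k) j) := by
    intro k
    induction k with
    | zero => exact fun v hv => hv
    | succ k ih =>
      intro v hv
      rw [pow_succ', pow_succ', Module.End.mul_apply, Equiv.Perm.mul_apply, ← hσ]
      exact ⟨_, ih v hv, rfl⟩
  have hne : ∀ i, D i ≠ ⊥ := fun i h => by
    have := hD.finrank_eq i
    rw [h, finrank_bot] at this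
    exact hD.pos.ne this
  have hper : Function.IsPeriodicPt σ (r' + 1) j := by
    show (σ : Fin t → Fin t)^[r' + 1] j = j
    rw [Equiv.Perm.iterate_eq_pow]
    obtain ⟨v, hv, hv0⟩ := (D j).exists_mem_ne_zero_of_ne_bot (hne j)
    by_contra hno
    have h1 := hmem (r' + 1) v hv
    rw [hg.pow_eq, Module.End.one_apply] at h1
    exact hv0 (Submodule.disjoint_def.mp (hD.indep.pairwiseDisjoint fun e => hno e.symm) v hv h1)
  have hinj : Function.Injective fun k : Fin (r' + 1) => (σ ^ (k : ℕ)) j := by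
    intro k l h
    have hmin : Function.minimalPeriod σ j = r' + 1 :=
      ((Nat.dvd_prime hr).mp hper.minimalPeriod_dvd).resolve_left
        fun h1 => hj (Function.minimalPeriod_eq_one_iff_isFixedPt.mp h1)
    exact Fin.ext ((Function.iterate_eq_iterate_iff_of_lt_minimalPeriod (by rw [hmin]; exact k.2) (by rw [hmin]; exact l.2)).mp
      (by rw [Equiv.Perm.iterate_eq_pow, Equiv.Perm.iterate_eq_pow]; exact h))
  have havg : ∀ v ∈ D j, Free.avg g (r' + 1) v = 0 → v = 0 := by
    intro v hv h0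
    rw [Free.avg, LinearMap.smul_apply, LinearMap.sum_apply] at h0
    have h1 := (smul_eq_zero.mp h0).resolve_left (inv_ne_zero hg.ne_zero)
    rw [← Fin.sum_univ_eq_sum_range (fun k => (g ^ k) v)] at h1
    simpa using comp_zero hD.indep hinj (fun k => hmem k v hv) h1 0
  refine ⟨?_, ?_, havg⟩
  · let T : D j →ₗ[F] Free.fixSpace g := (Free.avg g (r' + 1) ∘ₗ (D j).subtype).codRestrict _ fun v => hg.avg_mem v.1
    rw [← hD.finrank_eq j]
    refine LinearMap.finrank_le_finrank_of_injective (f := T) ((injective_iff_map_eq_zero T).mpr fun v hv => ?_)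
    exact Subtype.ext (havg v.1 v.2 (congrArg Subtype.val hv))
  · rw [Nat.add_sub_cancel, ← hD.finrank_eq j]
    let S : (Fin r' → D j) →ₗ[F] (Fin n → F) :=
      ∑ k : Fin r', (g ^ ((k : ℕ) + 1) - 1) ∘ₗ (D j).subtype ∘ₗ LinearMap.proj k
    have hS : ∀ v, S v = ∑ k : Fin r', ((g ^ ((k : ℕ) + 1)) (v k : Fin n → F) - (v k : Fin n → F)) := fun v => by
      simp [S]
    have hm : ∀ v, S v ∈ Free.moved g := fun v => by
      rw [hS]
      refine Submodule.sum_mem _ fun k _ => ⟨(∑ i ∈ Finset.range ((k : ℕ) + 1), g ^ i) (v k : Fin n → F), ?_⟩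
      rw [← Module.End.mul_apply, mul_geom_sum, LinearMap.sub_apply]
      rfl
    have := LinearMap.finrank_le_finrank_of_injective (f := S.codRestrict _ hm)
      ((injective_iff_map_eq_zero _).mpr fun v hv => ?_)
    · rwa [Module.finrank_pi_fintype, Finset.sum_const, Finset.card_univ, Fintype.card_fin, smul_eq_mul] at this
    have h0 : S v = 0 := congrArg Subtype.val hv
    rw [hS, Finset.sum_sub_distrib, sub_eq_add_neg, add_comm, ← Fin.sum_cons (-∑ k, (v k : Fin n → F))] at h0
    have h1 := comp_zero hD.indep hinj (fun k => by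
      refine Fin.cases ?_ (fun k => ?_) k
      · simp only [Fin.cons_zero, Fin.val_zero, pow_zero, Equiv.Perm.one_apply]
        exact neg_mem (Submodule.sum_mem _ fun k _ => (v k).2)
      · rw [Fin.cons_succ, Fin.val_succ]
        exact hmem _ _ (v k).2) h0
    funext k
    refine Subtype.ext ?_
    have h2 := h1 k.succ
    rw [Fin.cons_succ] at h2
    obtain ⟨l, hl⟩ : ∃ l, r' + 1 = ((k : ℕ) + 1) + l := ⟨r' - k, by omega⟩
    have h3 : (g ^ (r' + 1)) (v k : Fin n → F) = 0 := by
      rw [hl, add_comm, pow_add, Module.End.mul_apply, h2, map_zero]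
    rwa [hg.pow_eq, Module.End.one_apply] at h3

/-- A member fixed as a set splits off a fixed part of the same residue. -/
theorem fixed_member (hr : r.Prime) (hr2 : r ≠ 2) {g : Module.End F (Fin n → F)}
    (hg : Free.IsTame (0 : LinearMap.BilinForm F (Fin n → F)) g r) {W : Submodule F (Fin n → F)}
    (hW : ∀ v ∈ W, g v ∈ W) :
    finrank F ↥(W ⊓ Free.fixSpace g) % ord = finrank F W % ord := by
  obtain ⟨m, hm⟩ : ord ∣ finrank F ↥(W ⊓ Free.moved g) := by
    rw [← (Submodule.comapSubtypeEquivOfLe (inf_le_right : W ⊓ Free.moved g ≤ Free.moved g)).finrank_eq]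
    exact ((hg.free_moved hr hr2).exists_irred (U := (W ⊓ Free.moved g).comap (Free.moved g).subtype)
      fun x hx => ⟨hW _ hx.1, Free.moved_invariant x.2⟩).1
  rw [hg.finrank_split hW, hm, Nat.add_mul_mod_self_left]

/-- Representatives of the orbits of a permutation of order dividing `r`. -/
theorem orbit_reps {σ : Equiv.Perm (Fin n)} (hr : 0 < r) (hσ : σ ^ r = 1) :
    ∃ R : Finset (Fin n), n ≤ r * R.card ∧ ∀ i ∈ R, ∀ i' ∈ R, ∀ k l : ℕ, (σ ^ k) i = (σ ^ l) i' → i = i' := by
  classical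
  obtain ⟨O, hO⟩ : ∃ O : Fin n → Finset (Fin n), ∀ i x, x ∈ O i ↔ ∃ k : ℕ, (σ ^ k) i = x :=
    ⟨fun i => Finset.univ.filter fun x => ∃ k : ℕ, (σ ^ k) i = x, fun i x => by simp⟩
  have hne : ∀ i, (O i).Nonempty := fun i => ⟨i, (hO i i).mpr ⟨0, rfl⟩⟩
  have hclosed : ∀ i i', i' ∈ O i → O i' = O i := by
    intro i i' hi'
    obtain ⟨k, rfl⟩ := (hO i i').mp hi'
    refine Finset.ext fun x => ?_
    rw [hO, hO]
    constructor
    · rintro ⟨l, rfl⟩
      exact ⟨l + k, by rw [pow_add, Equiv.Perm.mul_apply]⟩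
    · rintro ⟨l, rfl⟩
      refine ⟨l + (r * k - k), ?_⟩
      rw [← Equiv.Perm.mul_apply, ← pow_add, show l + (r * k - k) + k = l + r * k by
        have := Nat.le_mul_of_pos_left k hr
        omega, pow_add, pow_mul, hσ, one_pow, mul_one]
  obtain ⟨rep, hrep⟩ : ∃ rep : Fin n → Fin n, ∀ i, rep i = (O i).min' (hne i) := ⟨_, fun _ => rfl⟩
  have hrepO : ∀ i, rep i ∈ O i := fun i => hrep i ▸ Finset.min'_mem _ _
  have hcong : ∀ i i', O i = O i' → rep i = rep i' := fun i i' e => by simp only [hrep, e]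
  refine ⟨Finset.univ.image rep, ?_, ?_⟩
  · have h1 := Finset.card_le_mul_card_image (f := rep) (Finset.univ : Finset (Fin n)) r fun b hb => by
      obtain ⟨i, -, rfl⟩ := Finset.mem_image.mp hb
      refine le_trans (Finset.card_le_card (t := (Finset.range r).image fun k => (σ ^ k) (rep i)) fun x hx => ?_)
        (Finset.card_image_le.trans (Finset.card_range r).le)
      rw [Finset.mem_filter] at hx
      obtain ⟨k, hk⟩ := (hO (rep i) x).mp (by
        rw [← hx.2, hclosed x _ (hrepO x)]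
        exact (hO x x).mpr ⟨0, rfl⟩)
      refine Finset.mem_image.mpr ⟨k % r, Finset.mem_range.mpr (Nat.mod_lt _ hr), ?_⟩
      rw [← pow_eq_pow_mod k hσ, hk]
    rwa [Finset.card_univ, Fintype.card_fin] at h1
  · intro i hi i' hi' k l h
    obtain ⟨u, -, rfl⟩ := Finset.mem_image.mp hi
    obtain ⟨u', -, rfl⟩ := Finset.mem_image.mp hi'
    have e1 : O (rep u) = O (rep u') :=
      (hclosed _ _ ((hO _ _).mpr ⟨k, rfl⟩)).symm.trans (hclosed _ _ ((hO _ _).mpr ⟨l, h.symm⟩))
    rw [hclosed _ _ (hrepO u), hclosed _ _ (hrepO u')] at e1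
    exact hcong _ _ e1

/-- The average of a permuted line is not zero. -/
theorem avg_line_ne (hr : r.Prime) (hr2 : r ≠ 2) (hc : 2 ≤ ord) {g : Module.End F (Fin n → F)}
    (hg : Free.IsTame (0 : LinearMap.BilinForm F (Fin n → F)) g r) {D : Fin n → Submodule F (Fin n → F)}
    (hD : Cfsg.Geo.IsMDecomposition 1 D) {σ : Equiv.Perm (Fin n)} (hσ : ∀ j, (D j).map g = D (σ j)) {i : Fin n}
    {v : Fin n → F} (hv : v ∈ D i) (hv0 : v ≠ 0) : Free.avg g r v ≠ 0 := by
  intro h0
  by_cases hi : σ i = i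
  · have h1 : ∀ v ∈ D i, g v ∈ D i := fun v hv => by
      have := hσ i
      rw [hi] at this
      exact this.le ⟨v, hv, rfl⟩
    have hf := fixed_member hr hr2 hg h1
    rw [hD.finrank_eq i, Nat.mod_eq_of_lt (show 1 < ord by omega)] at hf
    have hle : D i ≤ Free.fixSpace g := inf_eq_left.mp (Submodule.eq_of_le_of_finrank_le inf_le_left (by
      rw [hD.finrank_eq i]
      have := Nat.mod_le (finrank F ↥(D i ⊓ Free.fixSpace g)) ord
      omega))
    rw [hg.avg_fix (Free.mem_fixSpace.mp (hle hv))] at h0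
    exact hv0 h0
  · exact hv0 ((moved_member hr hg hD hσ hi).2.2 _ hv h0)

/-- Lines permuted: one orbit for each fixed dimension at most. -/
theorem lines_bound (hr : r.Prime) (hr2 : r ≠ 2) (hc : 2 ≤ ord) {g : Module.End F (Fin n → F)}
    (hg : Free.IsTame (0 : LinearMap.BilinForm F (Fin n → F)) g r) {D : Fin n → Submodule F (Fin n → F)}
    (hD : Cfsg.Geo.IsMDecomposition 1 D) {σ : Equiv.Perm (Fin n)} (hσ : ∀ j, (D j).map g = D (σ j)) :
    n ≤ r * finrank F (Free.fixSpace g) := by
  classical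
  have hmem : ∀ (k : ℕ) j v, v ∈ D j → (g ^ k) v ∈ D ((σ ^ k) j) := by
    intro k
    induction k with
    | zero => exact fun _ v hv => hv
    | succ k ih =>
      intro j v hv
      rw [pow_succ', pow_succ', Module.End.mul_apply, Equiv.Perm.mul_apply, ← hσ]
      exact ⟨_, ih j v hv, rfl⟩
  have hne : ∀ i, ∃ v ∈ D i, v ≠ 0 := fun i => (D i).exists_mem_ne_zero_of_ne_bot fun h => by
    have := hD.finrank_eq i
    rw [h, finrank_bot] at this
    exact hD.pos.ne this
  choose e heD he0 using hne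
  have hσr : σ ^ r = 1 := Equiv.ext fun i => by
    by_contra h
    have h1 := hmem r i _ (heD i)
    rw [hg.pow_eq, Module.End.one_apply] at h1
    exact he0 i (Submodule.disjoint_def.mp (hD.indep.pairwiseDisjoint fun e' => h e'.symm) _ (heD i) h1)
  obtain ⟨R, hcard, hR⟩ := orbit_reps hr.pos hσr
  obtain ⟨M, hM⟩ : ∃ M : R → Submodule F (Fin n → F),
      ∀ i, M i = ⨆ x ∈ {x | ∃ k : ℕ, (σ ^ k) i.1 = x}, D x := ⟨_, fun _ => rfl⟩
  have hyM : ∀ i : R, Free.avg g r (e i.1) ∈ M i := fun i => by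
    rw [hM, Free.avg, LinearMap.smul_apply, LinearMap.sum_apply]
    refine Submodule.smul_mem _ _ (Submodule.sum_mem _ fun k hk => ?_)
    exact Submodule.mem_iSup_of_mem ((σ ^ k) i.1) (Submodule.mem_iSup_of_mem ⟨k, rfl⟩ (hmem k i.1 _ (heD i.1)))
  have hind : iSupIndep M := fun i => by
    rw [hM]
    refine (hD.indep.disjoint_biSup_biSup' (disjoint_compl_right (a := {x | ∃ k : ℕ, (σ ^ k) i.1 = x}))
      (Set.toFinite _)).mono_right (iSup₂_le fun i' hne => ?_)
    rw [hM]
    refine biSup_mono fun x hx => ?_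
    rintro ⟨l, hl⟩
    obtain ⟨k, hk⟩ := hx
    exact hne (Subtype.ext (hR _ i'.2 _ i.2 k l (hk.trans hl.symm)))
  obtain ⟨y, hy⟩ : ∃ y : R → Free.fixSpace g, ∀ i, (y i : Fin n → F) = Free.avg g r (e i.1) :=
    ⟨fun i => ⟨_, hg.avg_mem _⟩, fun _ => rfl⟩
  have hli' : LinearIndependent F fun i : R => (y i : Fin n → F) :=
    hind.linearIndependent M (fun i => (hy i).symm ▸ hyM i)
      fun i => (hy i).symm ▸ avg_line_ne hr hr2 hc hg hD hσ (heD i.1) (he0 i.1)
  have := (LinearIndependent.of_comp (Free.fixSpace g).subtype hli').fintype_card_le_finrank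
  rw [Fintype.card_coe] at this
  exact hcard.trans (Nat.mul_le_mul_left r this)

theorem factorial_dvd : Nat.factorial t ∣
    Nat.card {D : Fin t → Submodule F (Fin n → F) // Cfsg.Geo.IsMDecomposition a D} := by
  classical
  letI act : MulAction (Equiv.Perm (Fin t)) {D : Fin t → Submodule F (Fin n → F) // Cfsg.Geo.IsMDecomposition a D} :=
    { smul := fun s D => ⟨fun j => D.1 (s⁻¹ j),
        ⟨D.2.two_le, D.2.pos, fun j => D.2.finrank_eq _, D.2.indep.comp s⁻¹.injective,
          (Equiv.iSup_comp (g := D.1) s⁻¹).trans D.2.iSup_eq_top⟩⟩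
      one_smul := fun D => Subtype.ext (funext fun j => by show D.1 ((1 : Equiv.Perm (Fin t))⁻¹ j) = _; simp)
      mul_smul := fun s s' D => Subtype.ext (funext fun j => by
        show D.1 ((s * s')⁻¹ j) = D.1 (s'⁻¹ (s⁻¹ j))
        rw [mul_inv_rev, Equiv.Perm.mul_apply]) }
  have hfree : ∀ D, MulAction.stabilizer (Equiv.Perm (Fin t))
      (D : {D : Fin t → Submodule F (Fin n → F) // Cfsg.Geo.IsMDecomposition a D}) = ⊥ := fun D => by
    refine eq_bot_iff.mpr fun s hs => Subgroup.mem_bot.mpr (Equiv.ext fun j => ?_)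
    by_contra hne
    have h : D.1 (s⁻¹ (s j)) = D.1 (s j) := congrFun (congrArg Subtype.val hs) (s j)
    rw [show s⁻¹ (s j) = j from s.symm_apply_apply j] at h
    have hbot : D.1 j = ⊥ := (Submodule.eq_bot_iff _).mpr fun x hx =>
      Submodule.disjoint_def.mp (D.2.indep.pairwiseDisjoint fun e => hne e.symm) x hx (h ▸ hx)
    have h' := D.2.finrank_eq j
    rw [hbot, finrank_bot] at h'
    exact D.2.pos.ne h'
  refine ⟨Nat.card (Quotient (MulAction.orbitRel (Equiv.Perm (Fin t))
    {D : Fin t → Submodule F (Fin n → F) // Cfsg.Geo.IsMDecomposition a D})), ?_⟩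
  rw [Nat.card_congr (MulAction.selfEquivOrbitsQuotientProd hfree), Nat.card_prod, Nat.card_perm, Nat.card_fin,
    mul_comm]

theorem dvd_card_gl (ht : 2 ≤ t) (ha : 0 < a) (hat : n = a * t) :
    Nat.card {D : Fin t → Submodule F (Fin n → F) // Cfsg.Geo.IsMDecomposition a D} ∣ Nat.card (GL (Fin n) F) := by
  classical
  letI act : MulAction ((Fin n → F) ≃ₗ[F] (Fin n → F))
      {D : Fin t → Submodule F (Fin n → F) // Cfsg.Geo.IsMDecomposition a D} :=
    { smul := fun g D => ⟨fun j => (D.1 j).map (g : (Fin n → F) →ₗ[F] (Fin n → F)),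
        mdec_of ht ha hat (fun j => by rw [LinearEquiv.finrank_map_eq]; exact D.2.finrank_eq j)
          (D.2.indep.map_orderIso (Submodule.orderIsoMapComap g))⟩
      one_smul := fun D => Subtype.ext (funext fun j => Submodule.map_id _)
      mul_smul := fun g g' D => Subtype.ext (funext fun j => Submodule.map_comp _ _ _) }
  haveI : MulAction.IsPretransitive ((Fin n → F) ≃ₗ[F] (Fin n → F))
      {D : Fin t → Submodule F (Fin n → F) // Cfsg.Geo.IsMDecomposition a D} := by
    refine ⟨fun D D' => ?_⟩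
    let v : ∀ (D : {D : Fin t → Submodule F (Fin n → F) // Cfsg.Geo.IsMDecomposition a D}) j,
        Basis (Fin a) F (D.1 j) := fun D j => finBasisOfFinrankEq F _ (D.2.finrank_eq j)
    let B : ∀ D : {D : Fin t → Submodule F (Fin n → F) // Cfsg.Geo.IsMDecomposition a D},
        Basis (Σ _ : Fin t, Fin a) F (Fin n → F) := fun D =>
      (DirectSum.isInternal_submodule_of_iSupIndep_of_iSup_eq_top D.2.indep D.2.iSup_eq_top).collectedBasis (v D)
    have hB : ∀ D j k, B D ⟨j, k⟩ = (v D j k : Fin n → F) := fun D j k => by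
      simp [B, DirectSum.IsInternal.collectedBasis_coe]
    have hsp : ∀ D j, D.1 j = Submodule.span F (Set.range fun k => B D ⟨j, k⟩) := fun D j => by
      simp only [hB]
      rw [show (Set.range fun k => (v D j k : Fin n → F)) = (D.1 j).subtype '' Set.range (v D j) from
        (Set.range_comp _ _), ← Submodule.map_span, (v D j).span_eq, Submodule.map_subtype_top]
    refine ⟨(B D).equiv (B D') (Equiv.refl _), Subtype.ext (funext fun j => ?_)⟩
    show (D.1 j).map _ = D'.1 j
    rw [hsp D j, hsp D' j, Submodule.map_span, ← Set.range_comp]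
    refine congrArg _ (congrArg _ (funext fun k => ?_))
    simp
  haveI : Finite ((Fin n → F) ≃ₗ[F] (Fin n → F)) :=
    Finite.of_injective (fun g => (⇑g : (Fin n → F) → Fin n → F)) DFunLike.coe_injective
  obtain ⟨hne⟩ : Nonempty {D : Fin t → Submodule F (Fin n → F) // Cfsg.Geo.IsMDecomposition a D} := by
    obtain ⟨D, hD, -⟩ := fixes_of_basis ht ha hat (f := LinearMap.id) (fun _ _ h => h) (Pi.basisFun F (Fin n))
      ((finCongr (show n = t * a by rw [hat, mul_comm])).trans finProdFinEquiv.symm) (σ := Equiv.refl _)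
      fun i => ⟨i, rfl, Submodule.mem_span_singleton_self _⟩
    exact ⟨⟨D, hD⟩⟩
  rw [← MulAction.index_stabilizer_of_transitive ((Fin n → F) ≃ₗ[F] (Fin n → F)) hne]
  refine (Subgroup.index_dvd_card _).trans (dvd_of_eq ?_)
  exact Nat.card_congr (Matrix.GeneralLinearGroup.toLin.toEquiv.trans
    (LinearMap.GeneralLinearGroup.generalLinearEquiv F (Fin n → F)).toEquiv).symm

/-- The criterion. -/
theorem criterion {p : ℕ} [Fact p.Prime] [CharP F p] (hat : n = a * t) (ha : 1 ≤ a) (ht : 2 ≤ t) [Fact r.Prime]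
    (hr2 : r ≠ 2) (hrp : r ≠ p)
    (hΩ : r ∣ Nat.card {D : Fin t → Submodule F (Fin n → F) // Cfsg.Geo.IsMDecomposition a D} / Nat.factorial t) :
    (∀ x : Matrix.SpecialLinearGroup (Fin n) F,
      (∃ z : F, ((x ^ r : Matrix.SpecialLinearGroup (Fin n) F) : Matrix (Fin n) (Fin n) F) = z • (1 : Matrix (Fin n) (Fin n) F)) →
      (∀ z : F, (x : Matrix (Fin n) (Fin n) F) ≠ z • (1 : Matrix (Fin n) (Fin n) F)) →
      Fixes a t (Matrix.toLin' (x : Matrix (Fin n) (Fin n) F))) ↔
    ((a = 1 ∧ 1 < ord ∧ ord = r - 1 ∧ n ≤ (n % ord) * r) ∨ (ord ≤ a ∧ n % ord = t * (a % ord))) := by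
  classical
  have hr : r.Prime := Fact.out
  have hr0 : (r : F) ≠ 0 := cast_ne_zero (F := F) hrp
  have hpos : 0 < ord := orderOf_pos' (F := F) (p := p) hrp
  have han : a ≤ n := hat ▸ Nat.le_mul_of_pos_right a (by omega)
  have htn : t ≤ n := hat ▸ Nat.le_mul_of_pos_left t ha
  have hcn : ord ≤ n := by
    obtain ⟨i, hi⟩ : ∃ i : Fin n, r ∣ Fintype.card F ^ n - Fintype.card F ^ (i : ℕ) := by
      have h := ((hΩ.trans (Nat.div_dvd_of_dvd factorial_dvd)).trans (dvd_card_gl ht ha hat))
      rw [Matrix.card_GL_field] at h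
      obtain ⟨i, -, hi⟩ := (hr.prime.dvd_finsetProd_iff _).mp h
      exact ⟨i, hi⟩
    rw [show Fintype.card F ^ n = Fintype.card F ^ (i : ℕ) * Fintype.card F ^ (n - i) by
      rw [← pow_add, Nat.add_sub_cancel' i.2.le], ← Nat.mul_sub_one] at hi
    rcases hr.dvd_mul.mp hi with h | h
    · exfalso
      obtain ⟨e, hp', he⟩ := FiniteField.card F p
      rw [he] at h
      exact hrp ((Nat.prime_dvd_prime_iff_eq hr hp').mp (hr.dvd_of_dvd_pow (hr.dvd_of_dvd_pow h)))
    · have := Nat.le_of_dvd (by omega) ((orderOf_dvd_iff' (F := F) _).mp h)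
      omega
  constructor
  · intro H
    by_contra hcon
    have hc2 : 2 ≤ ord := by
      by_contra h
      have h1 : ord = 1 := by omega
      exact hcon (Or.inr ⟨by omega, by rw [h1, Nat.mod_one, Nat.mod_one, mul_zero]⟩)
    have hrq : ¬ r ∣ Fintype.card F - 1 := fun h => by
      have := (orderOf_eq_one_iff' (F := F) (r := r)).mpr h
      omega
    have main : ∀ A N : ℕ, 1 ≤ N → A + ord * N = n →
        (∀ g : Module.End F (Fin n → F), Free.IsTame (0 : LinearMap.BilinForm F (Fin n → F)) g r →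
          finrank F (Free.fixSpace g) = A → finrank F (Free.moved g) = ord * N →
          ∀ D : Fin t → Submodule F (Fin n → F), Cfsg.Geo.IsMDecomposition a D → ∀ σ : Equiv.Perm (Fin t),
            (∀ j, (D j).map g = D (σ j)) → False) → False := by
      intro A N hN hAN hbad
      obtain ⟨x, hx1, hxs, hg, hfix⟩ := exists_element (n := n) hr hr0 hrq hN hAN
      obtain ⟨D, hD, σ, hσ⟩ := H x ⟨1, hx1⟩ hxs
      have hdim := Submodule.finrank_add_eq_of_isCompl hg.isCompl
      rw [Module.finrank_fin_fun, hfix] at hdim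
      exact hbad _ hg hfix (by omega) D hD σ hσ
    have allfixed : ∀ g : Module.End F (Fin n → F), Free.IsTame (0 : LinearMap.BilinForm F (Fin n → F)) g r →
        ∀ D : Fin t → Submodule F (Fin n → F), Cfsg.Geo.IsMDecomposition a D → ∀ σ : Equiv.Perm (Fin t),
          (∀ j, (D j).map g = D (σ j)) → (∀ j, σ j = j) →
          ∀ j, finrank F ↥(D j ⊓ Free.fixSpace g) % ord = a % ord := by
      intro g hg D hD σ hσ h1 j
      rw [fixed_member hr hr2 hg (fun v hv => ?_), hD.finrank_eq j]
      have := hσ j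
      rw [h1 j] at this
      exact this.le ⟨v, hv, rfl⟩
    have hdm := Nat.div_add_mod n ord
    have hlt := Nat.mod_lt n hpos
    have hdiv1 : 1 ≤ n / ord := (Nat.one_le_div_iff hpos).mpr hcn
    by_cases hca : ord ≤ a
    · refine main (n % ord) (n / ord) hdiv1 (by omega) fun g hg hfix hmov D hD σ hσ => ?_
      by_cases h1 : ∀ j, σ j = j
      swap
      · push Not at h1
        obtain ⟨j, hj⟩ := h1
        have := (moved_member hr hg hD hσ hj).1
        omega
      have hmodj := allfixed g hg D hD σ hσ h1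
      have hind : iSupIndep fun j => D j ⊓ Free.fixSpace g := hD.indep.mono fun j => inf_le_left
      have hsum : ∑ j, finrank F ↥(D j ⊓ Free.fixSpace g) ≤ n % ord := by
        rw [← finrank_iSup_indep hind, ← hfix]
        exact Submodule.finrank_mono (iSup_le fun j => inf_le_right)
      have hge : t * (a % ord) ≤ n % ord := by
        refine le_trans ?_ hsum
        calc t * (a % ord) = ∑ _j : Fin t, a % ord := by simp
          _ ≤ _ := Finset.sum_le_sum fun j _ => (hmodj j) ▸ Nat.mod_le _ _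
      refine hcon (Or.inr ⟨hca, ?_⟩)
      rw [hat, mul_comm a t, ← Nat.mul_mod_mod t a, Nat.mod_eq_of_lt (lt_of_le_of_lt hge hlt)]
    · push Not at hca
      obtain ⟨ha1, hcr⟩ : a = 1 ∧ ord = r - 1 := by
        by_contra hno
        refine main (n - ord) 1 le_rfl (by omega) fun g hg hfix hmov D hD σ hσ => ?_
        by_cases h1 : ∀ j, σ j = j
        · have hle : ∀ j, D j ≤ Free.fixSpace g := fun j =>
            inf_eq_left.mp (Submodule.eq_of_le_of_finrank_le inf_le_left (by
              rw [hD.finrank_eq j]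
              have h2 := allfixed g hg D hD σ hσ h1 j
              rw [Nat.mod_eq_of_lt hca] at h2
              exact h2 ▸ Nat.mod_le _ _))
          have := Submodule.finrank_mono (hD.iSup_eq_top.ge.trans (iSup_le hle))
          rw [finrank_top, Module.finrank_fin_fun, hfix] at this
          omega
        · push Not at h1
          obtain ⟨j, hj⟩ := h1
          have h2 := (moved_member hr hg hD hσ hj).2.1
          rw [hmov, mul_one] at h2
          have h3 : ord ≤ r - 1 := Nat.le_of_dvd (by have := hr.two_le; omega) (ZMod.orderOf_dvd_card_sub_one fun h0 => by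
            rw [h0, orderOf_zero] at hpos
            exact lt_irrefl 0 hpos)
          have h4 : a = 1 := by
            by_contra ha2
            have := Nat.mul_le_mul_left (r - 1) (show 2 ≤ a by omega)
            omega
          subst h4
          exact hno ⟨rfl, by omega⟩
      subst ha1
      obtain rfl : n = t := by omega
      refine main (n % ord) (n / ord) hdiv1 (by omega) fun g hg hfix _ D hD σ hσ => ?_
      have := lines_bound hr hr2 hc2 hg hD hσ
      rw [hfix, mul_comm] at this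
      exact hcon (Or.inl ⟨rfl, hc2, hcr, this⟩)
  · intro hR x hx _
    obtain ⟨z, hz⟩ := hx
    obtain ⟨f, hf⟩ : ∃ f, f = Matrix.toLin' (x : Matrix (Fin n) (Fin n) F) := ⟨_, rfl⟩
    rw [← hf]
    have hinj : Function.Injective f := by
      rw [hf]
      refine Function.LeftInverse.injective
        (g := Matrix.toLin' ((x⁻¹ : Matrix.SpecialLinearGroup (Fin n) F) : Matrix (Fin n) (Fin n) F)) fun v => ?_
      rw [← Matrix.toLin'_mul_apply, ← Matrix.SpecialLinearGroup.coe_mul, inv_mul_cancel,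
        Matrix.SpecialLinearGroup.coe_one, Matrix.toLin'_one, LinearMap.id_apply]
    have hfr : ∀ v, (f ^ r) v = z • v := fun v => by
      rw [hf, ← Matrix.toLin'_pow, ← Matrix.SpecialLinearGroup.coe_pow, hz, map_smul, Matrix.toLin'_one]
      rfl
    have hz0 : z ≠ 0 := fun h => by
      haveI : Nonempty (Fin n) := ⟨⟨0, by omega⟩⟩
      have := congrArg Matrix.det hz
      rw [Matrix.SpecialLinearGroup.det_coe, h, zero_smul, Matrix.det_zero] at this
      exact one_ne_zero this
    rcases hR with ⟨ha1, hc1, hcr, hbound⟩ | ⟨hca, hk⟩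
    · subst ha1
      obtain rfl : n = t := by omega
      have hrq : ¬ r ∣ Fintype.card F - 1 := fun h => by
        have := (orderOf_eq_one_iff' (F := F) (r := r)).mpr h
        omega
      obtain ⟨l, hl⟩ := (powCoprime (G := Fˣ) (n := r) (Nat.Coprime.symm ((Nat.Prime.coprime_iff_not_dvd hr).mpr
        (by rwa [Nat.card_units, Nat.card_eq_fintype_card])))).surjective (Units.mk0 z hz0)
      have hl' : (l : F) ^ r = z := by
        rw [← Units.val_pow_eq_pow_val]; exact congrArg Units.val hl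
      obtain ⟨g, hg⟩ : ∃ g, g = (l : F)⁻¹ • f := ⟨_, rfl⟩
      have htame : Free.IsTame (0 : LinearMap.BilinForm F (Fin n → F)) g r :=
        ⟨hr0, LinearMap.ext fun v => by
          rw [hg, _root_.smul_pow, LinearMap.smul_apply, hfr, smul_smul, inv_pow, hl', inv_mul_cancel₀ hz0,
            one_smul]
          rfl, fun u v => rfl⟩
      refine fixes_regular ht hr hr2 hcr hinj (l := (l : F))
        (by rw [hg, smul_smul, mul_inv_cancel₀ l.ne_zero, one_smul]) htame ?_
      refine le_trans hbound (Nat.mul_le_mul_right r ?_)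
      have hsplit := fixed_member hr hr2 htame (W := ⊤) fun _ _ => trivial
      rw [top_inf_eq, finrank_top, Module.finrank_fin_fun] at hsplit
      rw [← hsplit]
      exact Nat.mod_le _ _
    · have hlt : t * (a % ord) < ord := hk ▸ Nat.mod_lt _ hpos
      by_cases hroot : ∃ y : F, y ^ r = z
      · obtain ⟨y, hy⟩ := hroot
        have hy0 : y ≠ 0 := fun h => hz0 (by rw [← hy, h, zero_pow hr.ne_zero])
        obtain ⟨k, d, ⟨B⟩, hd⟩ := root_blocks (n := n) hr0 hy0 (f := f) fun v => by rw [hy]; exact hfr v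
        exact fixes_of_blocks ht ha hat hinj B hpos hd hlt
      · push Not at hroot
        have hirr := X_pow_sub_C_irreducible_of_prime hr hroot
        have hfr' : f ^ r = z • 1 := LinearMap.ext fun v => by rw [hfr]; simp
        have hs := isSemisimple_of_pow hr0 hz0 hfr'
        obtain ⟨k, qs, -, hch, hq⟩ := exists_blocks (finrank F (Fin n → F)) f le_rfl hs (X ^ r - C z) (by
          rw [map_sub, map_pow, aeval_X, aeval_C, hfr', Algebra.algebraMap_eq_smul_one, sub_self])
        have hqs : ∀ j, qs j = X ^ r - C z := fun j =>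
          eq_of_monic_of_associated (hq j).2.1 (monic_X_pow_sub_C z hr.ne_zero)
            ((hq j).1.associated_of_dvd hirr (hq j).2.2)
        rw [Finset.prod_congr rfl fun j _ => hqs j, Finset.prod_const, Finset.card_univ, Fintype.card_fin] at hch
        refine fixes_scaled ht ha hat hinj hr hfr fun U hU => ?_
        obtain ⟨g, hgd, hgdeg⟩ := exists_dvd_of_invariant hs (W := U) (by
          rintro _ ⟨v, hv, rfl⟩; exact hU v hv)
        rw [hch] at hgd
        obtain ⟨b, -, hb⟩ := degree_divisor_pow hirr hgd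
        rw [← hgdeg, hb, natDegree_X_pow_sub_C]
        exact dvd_mul_right r b

end Cfsg.Agent.Classical.Elusive.LinImprim
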