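import Cfsg.Agent.Lib.Classical.Elusive.OrthTypes

/-!
# Isometry classes of nondegenerate subspaces by Gram determinants, odd characteristic
-/

set_option autoImplicit false
set_option linter.unusedSectionVars false

universe u

namespace Cfsg.Agent.Classical.Elusive.OType

open Module QuadraticMap
open Cfsg.Agent.Small

variable {F : Type u} [Field F] [Fintype F] {V : Type u} [AddCommGroup V] [Module F V] [FiniteDimensional F V]
  {Q : QuadraticForm F V}

/-- The Gram determinant of a family. -/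
noncomputable def gdet (Q : QuadraticForm F V) {κ : Type*} [Fintype κ] [DecidableEq κ] (z : κ → V) : F :=
  (Matrix.of fun a b => polar Q (z a) (z b)).det

/-- Equality of the isometry classes of two subspaces. -/
def SameClass (Q : QuadraticForm F V) (W W' : Submodule F V) : Prop :=
  ∃ e : W ≃ₗ[F] W', ∀ w, Q (e w : V) = Q (w : V)

theorem SameClass.refl' (W : Submodule F V) : SameClass Q W W := ⟨LinearEquiv.refl F W, fun _ => rfl⟩

theorem SameClass.symm {W W' : Submodule F V} (h : SameClass Q W W') : SameClass Q W' W := by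
  obtain ⟨e, he⟩ := h
  exact ⟨e.symm, fun w => by rw [← he (e.symm w), e.apply_symm_apply]⟩

theorem SameClass.trans {W W' W'' : Submodule F V} (h : SameClass Q W W') (h' : SameClass Q W' W'') :
    SameClass Q W W'' := by
  obtain ⟨e, he⟩ := h
  obtain ⟨e', he'⟩ := h'
  exact ⟨e.trans e', fun w => by rw [LinearEquiv.trans_apply, he', he]⟩

theorem SameClass.map {g : V ≃ₗ[F] V} (hg : ∀ v, Q (g v) = Q v) (W : Submodule F V) :
    SameClass Q W (W.map (g : V →ₗ[F] V)) :=
  ⟨g.submoduleMap W, fun w => hg w⟩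

variable {κ κ' : Type} [Fintype κ] [DecidableEq κ] [Fintype κ'] [DecidableEq κ']

omit [Fintype F] [FiniteDimensional F V] in
theorem gdet_reindex (z : κ → V) (e : κ' ≃ κ) : gdet Q (fun a => z (e a)) = gdet Q z :=
  Matrix.det_submatrix_equiv_self e (Matrix.of fun a b => polar Q (z a) (z b))

theorem gdet_comp {V' : Type u} [AddCommGroup V'] [Module F V'] (L : V' →ₗ[F] V) (z : κ → V') :
    gdet (Q.comp L) z = gdet Q fun a => L (z a) := by
  simp only [gdet]
  congr 1
  ext a b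
  exact polar_comp L (z a) (z b)

omit [Fintype F] [FiniteDimensional F V] in
/-- Families inside the span of a family change the determinant by a square. -/
theorem gdet_mem (z z' : κ → V) (h : ∀ a, z' a ∈ Submodule.span F (Set.range z)) :
    ∃ t : F, gdet Q z' = t * t * gdet Q z := by
  choose c hc using fun a => Submodule.mem_span_range_iff_exists_fun F |>.mp (h a)
  refine ⟨(Matrix.of c).det, ?_⟩
  have e : (Matrix.of fun a b => polar Q (z' a) (z' b)) =
      Matrix.of c * (Matrix.of fun a b => polar Q (z a) (z b)) * (Matrix.of c).transpose := by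
    ext i j
    rw [Matrix.mul_apply, Matrix.of_apply, ← hc i, ← hc j, ← polarBilin_apply_apply]
    simp only [map_sum, map_smul, LinearMap.sum_apply, LinearMap.smul_apply, Matrix.mul_apply, Matrix.of_apply,
      Matrix.transpose_apply, Finset.sum_mul, smul_eq_mul, Finset.mul_sum, polarBilin_apply_apply]
    exact Finset.sum_congr rfl fun a _ => Finset.sum_congr rfl fun b _ => by ring
  rw [gdet, e, Matrix.det_mul, Matrix.det_mul, Matrix.det_transpose, ← gdet]
  ring

omit [Fintype F] [FiniteDimensional F V] in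
theorem sq_of_mem (z z' : κ → V) (h : ∀ a, z' a ∈ Submodule.span F (Set.range z)) :
    IsSquare (gdet Q z * gdet Q z') := by
  obtain ⟨t, ht⟩ := gdet_mem (Q := Q) z z' h
  exact ⟨t * gdet Q z, by rw [ht]; ring⟩

theorem span_eq_top {z : κ → V} (h : gdet Q z ≠ 0) (hV : Fintype.card κ = finrank F V) :
    Submodule.span F (Set.range z) = ⊤ :=
  (span_facts z h).1.span_eq_top_of_card_eq_finrank' hV

theorem iso_of_disc (h2 : (2 : F) ≠ 0) {V' : Type u} [AddCommGroup V'] [Module F V'] [FiniteDimensional F V']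
    {Q' : QuadraticForm F V'} (z : κ → V) (z' : κ → V') (hz : gdet Q z ≠ 0) (hz' : gdet Q' z' ≠ 0)
    (hV : Fintype.card κ = finrank F V) (hV' : Fintype.card κ = finrank F V')
    (hsq : IsSquare (gdet Q z * gdet Q' z')) : ∃ φ : V ≃ₗ[F] V', ∀ v, Q' (φ v) = Q v := by
  obtain ⟨e⟩ : Nonempty (Fin (Fintype.card κ) ≃ κ) := ⟨(Fintype.equivFin κ).symm⟩
  let L : (Fin (Fintype.card κ) → F) ≃ₗ[F] V :=
    ((Basis.mk (span_facts z hz).1 (span_eq_top hz hV).ge).reindex e.symm).equivFun.symm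
  let L' : (Fin (Fintype.card κ) → F) ≃ₗ[F] V' :=
    ((Basis.mk (span_facts z' hz').1 (span_eq_top hz' hV').ge).reindex e.symm).equivFun.symm
  have hL : ∀ i, L (Pi.single i 1) = z (e i) := fun i => by simp [L]
  have hL' : ∀ i, L' (Pi.single i 1) = z' (e i) := fun i => by simp [L']
  have g1 : gdet (Q.comp L.toLinearMap) (fun i => Pi.single i 1) = gdet Q z := by
    rw [gdet_comp, ← gdet_reindex z e]; simp only [LinearEquiv.coe_coe, hL]
  have g2 : gdet (Q'.comp L'.toLinearMap) (fun i => Pi.single i 1) = gdet Q' z' := by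
    rw [gdet_comp, ← gdet_reindex z' e]; simp only [LinearEquiv.coe_coe, hL']
  have nd : ∀ (P : QuadraticForm F (Fin (Fintype.card κ) → F)), gdet P (fun i => Pi.single i 1) ≠ 0 →
      (polarBilin P).Nondegenerate := fun P hP => by
    rw [← Matrix.toLinearMap₂'_toMatrix' (R := F) (polarBilin P), LinearMap.nondegenerate_toLinearMap₂'_iff_det_ne_zero,
      show LinearMap.toMatrix₂' F (polarBilin P) =
        Matrix.of (fun i j => polar P (Pi.single i 1) (Pi.single j 1)) from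
          Matrix.ext fun i j => by rw [LinearMap.toMatrix₂'_apply, polarBilin_apply_apply]; rfl]
    exact hP
  obtain ⟨φ, hφ⟩ := (QuadBasis.isometric_iff h2 (Q.comp L.toLinearMap) (Q'.comp L'.toLinearMap)
    (nd _ (g1.symm ▸ hz)) (nd _ (g2.symm ▸ hz'))).mpr (by
      show IsSquare (gdet (Q.comp L.toLinearMap) (fun i => Pi.single i 1) *
        gdet (Q'.comp L'.toLinearMap) (fun i => Pi.single i 1))
      rw [g1, g2]; exact hsq)
  refine ⟨L.symm.trans (φ.trans L'), fun v => ?_⟩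
  have := hφ (L.symm v)
  simpa using this

theorem sameClass_of_disc (h2 : (2 : F) ≠ 0) {W W' : Submodule F V} (z z' : κ → V) (hzW : ∀ a, z a ∈ W)
    (hzW' : ∀ a, z' a ∈ W') (hz : gdet Q z ≠ 0) (hz' : gdet Q z' ≠ 0) (hW : Fintype.card κ = finrank F W)
    (hW' : Fintype.card κ = finrank F W') (hsq : IsSquare (gdet Q z * gdet Q z')) : SameClass Q W W' := by
  obtain ⟨φ, hφ⟩ := iso_of_disc h2 (Q := Q.comp W.subtype) (Q' := Q.comp W'.subtype)
    (fun a => (⟨z a, hzW a⟩ : W)) (fun a => (⟨z' a, hzW' a⟩ : W')) (by rw [gdet_comp]; exact hz)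
    (by rw [gdet_comp]; exact hz') hW hW' (by rw [gdet_comp, gdet_comp]; exact hsq)
  exact ⟨φ, hφ⟩

theorem exists_family {W : Submodule F V} (hW : QuadBasis.Nondeg Q W) (hd : Fintype.card κ = finrank F W) :
    ∃ z : κ → V, (∀ a, z a ∈ W) ∧ gdet Q z ≠ 0 ∧ ∀ v ∈ W, v ∈ Submodule.span F (Set.range z) := by
  let b := (Module.finBasisOfFinrankEq F W hd.symm).reindex (Fintype.equivFin κ).symm
  refine ⟨fun a => (b a : V), fun a => (b a).2, gram_ne_zero hW b, fun v hv => ?_⟩
  have h : Submodule.map W.subtype (Submodule.span F (Set.range b)) = W := by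
    rw [b.span_eq, Submodule.map_subtype_top]
  rw [Submodule.map_span, ← Set.range_comp] at h
  exact h.ge hv

/-- Completing by part of an orthogonal space in two classes. -/
theorem exists_two (h2 : (2 : F) ≠ 0) {U A : Submodule F V} (hU : QuadBasis.Nondeg Q U) (hA : QuadBasis.Nondeg Q A)
    (hperp : ∀ x ∈ U, ∀ y ∈ A, polar Q x y = 0) {s : ℕ} (hsA : s + 1 < finrank F A) :
    ∃ z₁ z₂ : (Fin (finrank F U) ⊕ (Fin s ⊕ Unit)) → V,
      (∀ z, z = z₁ ∨ z = z₂ → gdet Q z ≠ 0 ∧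
        ∃ T ≤ A, Submodule.span F (Set.range z) = U ⊔ T) ∧ ¬ IsSquare (gdet Q z₁ * gdet Q z₂) := by
  classical
  obtain ⟨n, hn⟩ : ∃ n, finrank F A = n + 1 := ⟨finrank F A - 1, by omega⟩
  obtain ⟨v, d, hd, hvA, hvo, hvq⟩ := QuadBasis.exists_diagonal Q h2 n A hA hn
  have hq0 : ∀ i, Q (v i) ≠ 0 := fun i => by rw [hvq]; split_ifs <;> simp [hd]
  obtain ⟨p₀, hp₀⟩ : ∃ p₀ : Fin (n + 1), p₀.val = s := ⟨⟨s, by omega⟩, rfl⟩
  obtain ⟨p₁, hp₁⟩ : ∃ p₁ : Fin (n + 1), p₁.val = s + 1 := ⟨⟨s + 1, by omega⟩, rfl⟩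
  obtain ⟨ν, hν⟩ : ∃ ν : F, ¬ IsSquare ν := FiniteField.exists_nonsquare fun h => h2 (by
    have : CharP F 2 := ringChar.of_eq h
    exact CharP.cast_eq_zero F 2)
  have hν0 : ν ≠ 0 := fun h => hν (h ▸ IsSquare.zero)
  obtain ⟨s₁, t₁, hst⟩ := QuadBasis.exists_form_rep h2 (Q (v p₀)) (Q (v p₁)) (ν * Q (v p₀)) (hq0 p₀) (hq0 p₁)
  have hp01 : p₀ ≠ p₁ := fun h => by rw [h] at hp₀; omega
  obtain ⟨y, hy⟩ : ∃ y, y = s₁ • v p₀ + t₁ • v p₁ := ⟨_, rfl⟩
  have hQy : Q y = ν * Q (v p₀) := by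
    rw [hy, QuadBasis.q_add, QuadBasis.q_smul, QuadBasis.q_smul, QuadBasis.p_smul_left, QuadBasis.p_smul_right,
      hvo _ _ hp01, mul_zero, mul_zero, add_zero]
    linear_combination hst
  let bU := Module.finBasis F U
  let fam : V → (Fin (finrank F U) ⊕ (Fin s ⊕ Unit)) → V := fun x =>
    Sum.elim (fun i => (bU i : V)) (Sum.elim (fun i => v ⟨i, by omega⟩) fun _ => x)
  have hlow : ∀ x, x = v p₀ ∨ x = y → ∀ i : Fin s, polar Q (v ⟨i, by omega⟩) x = 0 := by
    intro x hx i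
    have e0 : (⟨i, by omega⟩ : Fin (n + 1)) ≠ p₀ := fun h => by rw [← h] at hp₀; simp at hp₀; omega
    have e1 : (⟨i, by omega⟩ : Fin (n + 1)) ≠ p₁ := fun h => by rw [← h] at hp₁; simp at hp₁; omega
    rcases hx with rfl | rfl
    · exact hvo _ _ e0
    · rw [hy, polar_add_right, QuadBasis.p_smul_right, QuadBasis.p_smul_right, hvo _ _ e0, hvo _ _ e1]; ring
  have hxA : ∀ x, x = v p₀ ∨ x = y → x ∈ A := by
    rintro x (rfl | rfl)
    · exact hvA _
    · exact hy ▸ A.add_mem (A.smul_mem _ (hvA _)) (A.smul_mem _ (hvA _))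
  have hdetfam : ∀ x, x = v p₀ ∨ x = y → gdet Q (fam x) =
      (Matrix.of fun i j => polar Q (bU i : V) (bU j : V)).det *
        ((∏ i : Fin s, polar Q (v ⟨i, by omega⟩) (v ⟨i, by omega⟩)) * (2 * Q x)) := by
    intro x hx
    have hxp : polar Q x x = 2 * Q x := QuadBasis.p_self Q x
    have e : (Matrix.of fun a b => polar Q (fam x a) (fam x b)) = Matrix.fromBlocks
        (Matrix.of fun i j => polar Q (bU i : V) (bU j : V)) 0 0
        (Matrix.diagonal (Sum.elim (fun i : Fin s => polar Q (v ⟨i, by omega⟩) (v ⟨i, by omega⟩)) fun _ : Unit => 2 * Q x)) := by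
      ext (i | (i | i)) (j | (j | j))
      · simp [fam]
      · simpa [fam] using hperp _ (bU i).2 _ (hvA ⟨j, by omega⟩)
      · simpa [fam] using hperp _ (bU i).2 _ (hxA x hx)
      · simpa [fam, polar_comm _ (v _)] using hperp _ (bU j).2 _ (hvA ⟨i, by omega⟩)
      · rcases eq_or_ne i j with rfl | hij
        · simp [fam]
        · simpa [fam, hij] using hvo ⟨i, by omega⟩ ⟨j, by omega⟩ (fun h => hij (Fin.ext (congrArg (fun z : Fin (n + 1) => z.val) h)))
      · simpa [fam] using hlow x hx i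
      · simpa [fam, polar_comm _ x] using hperp _ (bU j).2 _ (hxA x hx)
      · simpa [fam, polar_comm _ x] using hlow x hx j
      · simpa [fam] using hxp
    rw [gdet, e, Matrix.det_fromBlocks_zero₂₁, Matrix.det_diagonal, Fintype.prod_sum_type]
    simp
  have hpr : ∏ i : Fin s, polar Q (v ⟨i, by omega⟩) (v ⟨i, by omega⟩) ≠ 0 :=
    Finset.prod_ne_zero_iff.mpr fun i _ => by rw [QuadBasis.p_self]; exact mul_ne_zero h2 (hq0 _)
  have hgU := gram_ne_zero hU bU
  have hratio : gdet Q (fam y) = ν * gdet Q (fam (v p₀)) := by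
    rw [hdetfam _ (Or.inl rfl), hdetfam _ (Or.inr rfl), hQy]; ring
  have h₁ : gdet Q (fam (v p₀)) ≠ 0 := by
    rw [hdetfam _ (Or.inl rfl)]
    exact mul_ne_zero hgU (mul_ne_zero hpr (mul_ne_zero h2 (hq0 _)))
  refine ⟨fam (v p₀), fam y, ?_, ?_⟩
  · have hspan : Submodule.span F (Set.range fun i => (bU i : V)) = U := by
      rw [show (fun i => (bU i : V)) = U.subtype ∘ bU from rfl, Set.range_comp, Submodule.span_image, bU.span_eq,
        Submodule.map_subtype_top]
    have hfin : ∀ x, x = v p₀ ∨ x = y → ∃ T ≤ A, Submodule.span F (Set.range (fam x)) = U ⊔ T := by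
      intro x hx
      refine ⟨Submodule.span F (Set.range (Sum.elim (fun i : Fin s => v ⟨i, by omega⟩) fun _ : Unit => x)),
        Submodule.span_le.mpr ?_, ?_⟩
      · rintro _ ⟨i | i, rfl⟩
        · exact hvA _
        · exact hxA x hx
      · show Submodule.span F (Set.range (Sum.elim _ _)) = _
        rw [Set.Sum.elim_range _ (Sum.elim (fun i : Fin s => v ⟨i, by omega⟩) fun _ : Unit => x),
          Submodule.span_union, hspan]
    rintro z (rfl | rfl)
    · exact ⟨h₁, hfin _ (Or.inl rfl)⟩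
    · exact ⟨hratio ▸ mul_ne_zero hν0 h₁, hfin _ (Or.inr rfl)⟩
  · rw [hratio]
    rintro ⟨r, hr⟩
    refine hν ⟨r / gdet Q (fam (v p₀)), ?_⟩
    field_simp
    linear_combination hr

/-- Completing by part of an orthogonal space into a given class. -/
theorem exists_class (h2 : (2 : F) ≠ 0) {U A W₀ : Submodule F V} (hU : QuadBasis.Nondeg Q U)
    (hA : QuadBasis.Nondeg Q A) (hperp : ∀ x ∈ U, ∀ y ∈ A, polar Q x y = 0) (hW₀ : QuadBasis.Nondeg Q W₀) {s : ℕ}
    (hs : 1 ≤ s) (hsA : s < finrank F A) (hdim : finrank F U + s = finrank F W₀) :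
    ∃ T ≤ A, QuadBasis.Nondeg Q (U ⊔ T) ∧ finrank F (↥(U ⊔ T)) = finrank F W₀ ∧ SameClass Q (U ⊔ T) W₀ := by
  obtain ⟨s, rfl⟩ : ∃ t, s = t + 1 := ⟨s - 1, by omega⟩
  obtain ⟨z₁, z₂, hz, hns⟩ := exists_two h2 hU hA hperp hsA
  have hκ : Fintype.card (Fin (finrank F U) ⊕ (Fin s ⊕ Unit)) = finrank F W₀ := by simp; omega
  obtain ⟨z₀, hz₀W, hz₀, -⟩ := exists_family hW₀ hκ
  obtain ⟨z, hzz, hsq⟩ : ∃ z, (z = z₁ ∨ z = z₂) ∧ IsSquare (gdet Q z * gdet Q z₀) := by
    by_cases hsq : IsSquare (gdet Q z₁ * gdet Q z₀)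
    · exact ⟨z₁, Or.inl rfl, hsq⟩
    · refine ⟨z₂, Or.inr rfl, ?_⟩
      by_contra h
      rw [OOmega.isSquare_iff_mul h2 (hz _ (Or.inl rfl)).1 hz₀] at hsq
      rw [OOmega.isSquare_iff_mul h2 (hz _ (Or.inr rfl)).1 hz₀] at h
      refine hns ((OOmega.isSquare_iff_mul h2 (hz _ (Or.inl rfl)).1 (hz _ (Or.inr rfl)).1).mpr ?_)
      tauto
  obtain ⟨hz0, T, hT, hspan⟩ := hz z hzz
  obtain ⟨-, hnd, hdim'⟩ := span_facts z hz0
  rw [hκ] at hdim'
  refine ⟨T, hT, hspan ▸ hnd, hspan ▸ hdim', hspan ▸ ?_⟩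
  exact sameClass_of_disc h2 z z₀ (fun a => Submodule.subset_span ⟨a, rfl⟩) hz₀W hz0 hz₀ (by rw [hdim', hκ]) hκ hsq

/-- Similarities of an even-dimensional space with any multiplier. -/
theorem exists_similarity (h2 : (2 : F) ≠ 0) (hQ : OCount.PND Q) (hV : Even (finrank F V)) {lam : F} (hl : lam ≠ 0) :
    ∃ φ : V ≃ₗ[F] V, ∀ v, Q (φ v) = lam * Q v := by
  obtain ⟨z, -, hz, -⟩ := exists_family (κ := Fin (finrank F V)) (Q := Q) (W := ⊤)
    (fun x _ h => hQ x fun w => h w trivial) (by simp)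
  have e : gdet (lam • Q) z = lam ^ finrank F V * gdet Q z := by
    have h : (Matrix.of fun a b => polar ⇑(lam • Q) (z a) (z b)) = lam • Matrix.of fun a b => polar Q (z a) (z b) := by
      ext a b
      simp [polar, mul_sub]
    rw [gdet, h, Matrix.det_smul, Fintype.card_fin, ← gdet]
  obtain ⟨t, ht⟩ := hV
  obtain ⟨φ, hφ⟩ := iso_of_disc h2 (Q := lam • Q) (Q' := Q) z z
    (e.symm ▸ mul_ne_zero (pow_ne_zero _ hl) hz) hz (by simp) (by simp)
    ⟨lam ^ t * gdet Q z, by rw [e, show lam ^ finrank F V = lam ^ t * lam ^ t by rw [← pow_add, ← ht]]; ring⟩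
  exact ⟨φ, fun v => hφ v⟩

/-- An odd-dimensional subspace is not similar to one of its own class with a nonsquare multiplier. -/
theorem not_similar {W W' : Submodule F V} (hW : QuadBasis.Nondeg Q W) (hodd : Odd (finrank F W))
    (h : SameClass Q W' W) {lam : F} (hl : ¬ IsSquare lam) (f : W →ₗ[F] W')
    (hf : ∀ w, Q (f w : V) = lam * Q (w : V)) : False := by
  obtain ⟨e, he⟩ := h
  obtain ⟨z, hzW, hz, hspan⟩ := exists_family (κ := Fin (finrank F W)) hW (Fintype.card_fin _)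
  let z' : Fin (finrank F W) → V := fun a => (e (f ⟨z a, hzW a⟩) : V)
  have e1 : gdet Q z' = lam ^ finrank F W * gdet Q z := by
    have h : (Matrix.of fun a b => polar Q (z' a) (z' b)) = lam • Matrix.of fun a b => polar Q (z a) (z b) := by
      ext a b
      have hq : ∀ w : W, Q (e (f w) : V) = lam * Q (w : V) := fun w => by rw [he, hf]
      show polar Q (z' a) (z' b) = lam * polar Q (z a) (z b)
      simp only [polar, z']
      rw [← Submodule.coe_add, ← map_add, ← map_add, hq, hq, hq, Submodule.coe_add]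
      ring
    rw [gdet, h, Matrix.det_smul, Fintype.card_fin, ← gdet]
  obtain ⟨t, ht⟩ := gdet_mem (Q := Q) z z' fun a => hspan _ (e (f ⟨z a, hzW a⟩)).2
  rw [e1] at ht
  obtain ⟨k, hk⟩ := hodd
  rw [show lam ^ finrank F W = lam ^ (2 * k + 1) from congrArg _ hk] at ht
  have hlam : lam ^ (2 * k + 1) = t * t := mul_right_cancel₀ hz ht
  have hl0 : lam ≠ 0 := fun h => hl (h ▸ IsSquare.zero)
  refine hl ⟨t / lam ^ k, ?_⟩
  field_simp
  linear_combination hlam

end Cfsg.Agent.Classical.Elusive.OType
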