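import Cfsg.Agent.Lib.Classical.Elusive.OrthFreeCases
import Cfsg.Agent.Lib.Classical.Elusive.OrthDisc

/-!
# Isometries of odd prime order of even-dimensional orthogonal spaces and odd-dimensional members
-/

set_option autoImplicit false

universe u

namespace Cfsg.Agent.Classical.Elusive.OFree

open Module QuadraticMap
open Cfsg.Agent.Small

variable {F : Type u} [Field F] [Fintype F] {V : Type u} [AddCommGroup V] [Module F V] [FiniteDimensional F V]
  {Q : QuadraticForm F V} {r : ℕ}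

theorem top_nondeg (hQ : OCount.PND Q) : QuadBasis.Nondeg Q ⊤ := fun x _ h => hQ x fun w => h w trivial

/-- Sufficiency. -/
theorem fixed_odd (h2 : (2 : F) ≠ 0) (hQ : OCount.PND Q) (hr : r.Prime) (hr2 : r ≠ 2) (hr0 : (r : F) ≠ 0)
    {g : Module.End F V} (hgr : g ^ r = 1) (hiso : ∀ v, Q (g v) = Q v) {W₀ : Submodule F V}
    (hW₀ : QuadBasis.Nondeg Q W₀) (hm : Odd (finrank F W₀)) (hmn : finrank F W₀ < finrank F V)
    (hc : finrank F W₀ % unit F r < finrank F (Free.fixSpace g)) :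
    ∃ W : Submodule F V, finrank F W = finrank F W₀ ∧ QuadBasis.Nondeg Q W ∧ OType.SameClass Q W W₀ ∧
      ∀ x ∈ W, g x ∈ W := by
  classical
  obtain ⟨-, hupos, hue⟩ := unit_pos (F := F) hr hr0
  have hg := tame_of (Q := Q) hr0 hgr hiso
  obtain ⟨hdim, ⟨N, hN⟩, hfix, hmov⟩ := parts_facts hQ hr hr2 hr0 hgr hiso
  obtain ⟨c, hcdef⟩ : ∃ c, c = unit F r := ⟨_, rfl⟩
  rw [← hcdef] at hN hupos hc hue
  obtain ⟨m, hmdef⟩ : ∃ m, m = finrank F W₀ := ⟨_, rfl⟩
  rw [← hmdef] at hm hmn hc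
  have hdm := Nat.div_add_mod m c
  obtain ⟨j, hj, hjm, hjs⟩ : ∃ j ≤ N, c * j < m ∧ m - c * j < finrank F (Free.fixSpace g) := by
    have hodd : ∀ j, c * j ≠ m := fun j h => by
      have := hue.mul_right j
      rw [h] at this
      exact Nat.not_odd_iff_even.mpr this hm
    rcases le_or_gt (m / c) N with h | h
    · exact ⟨m / c, h, by have := hodd (m / c); omega, by omega⟩
    · have := Nat.mul_le_mul_left c h.le
      exact ⟨N, le_rfl, by have := hodd N; omega, by omega⟩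
  obtain ⟨U, hUM, hU, hUd, hUn⟩ : ∃ U ≤ Free.moved g, (∀ x ∈ U, g x ∈ U) ∧ finrank F U = c * j ∧
      QuadBasis.Nondeg Q U := by
    obtain ⟨U, hU, hUd, hUn⟩ := exists_units j (hg.free_moved hr hr2) h2
      (fun u v => by show polar Q (v : V) (u : V) = polar Q (u : V) (v : V); exact polar_comm _ _ _)
      (Free.refl_restrict (refl_of_pnd hQ) (hg.moved_nondeg (refl_of_pnd hQ))).nondeg
      (by rw [← hcdef, hN]; exact Nat.mul_le_mul_left _ hj)
    refine ⟨U.map (Free.moved g).subtype, Submodule.map_subtype_le _ _, ?_,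
      by rw [Submodule.finrank_map_subtype_eq, hUd, hcdef], ?_⟩
    · rintro _ ⟨x, hx, rfl⟩
      exact ⟨_, hU x hx, rfl⟩
    · rintro _ ⟨x, hx, rfl⟩ h
      rw [(Submodule.mem_bot F).mp (hUn.le ⟨hx, fun y hy => by
        show polar Q (y : V) (x : V) = 0
        rw [polar_comm]
        exact h _ ⟨y, hy, rfl⟩⟩)]
      rfl
  obtain ⟨T, hT, hn, hd, hP⟩ := OType.exists_class h2 hUn hfix
    (fun x hx y hy => by rw [polar_comm]; exact hg.perp hy (hUM hx)) hW₀ (s := m - c * j) (by omega) hjs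
    (by rw [hUd, ← hmdef]; omega)
  refine ⟨U ⊔ T, hd, hn, hP, fun x hx => ?_⟩
  obtain ⟨a, ha, b, hb, rfl⟩ := Submodule.mem_sup.mp hx
  rw [map_add, Free.mem_fixSpace.mp (hT hb)]
  exact Submodule.mem_sup.mpr ⟨_, hU a ha, b, hb, rfl⟩

/-- Without fixed vectors the type is forced. -/
theorem type_of_no_fix (hQ : OCount.PND Q) (hr : r.Prime) (hr2 : r ≠ 2) (hr0 : (r : F) ≠ 0) {g : Module.End F V}
    (hgr : g ^ r = 1) (hiso : ∀ v, Q (g v) = Q v) (hf : finrank F (Free.fixSpace g) = 0) (hV : 0 < finrank F V) :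
    unit F r ∣ finrank F V ∧
      (OType.IsPlus Q ⊤ ↔ (Odd (orderOf (Fintype.card F : ZMod r)) ∨ Even (finrank F V / unit F r))) := by
  obtain ⟨-, hupos, -⟩ := unit_pos (F := F) hr hr0
  have h := unit_type (top_nondeg hQ) (g := g) (fun _ _ => trivial) hr hr2 hr0 (fun x _ => by rw [hgr]; rfl)
    (fun x _ hx => by
      have := Free.mem_fixSpace.mpr hx
      rw [Submodule.finrank_eq_zero.mp hf] at this
      exact (Submodule.mem_bot F).mp this) hiso
  rw [finrank_top] at h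
  obtain ⟨j, hj⟩ := h.1
  refine ⟨h.1, ?_⟩
  rw [hj, Nat.mul_div_cancel_left _ hupos]
  exact h.2 j (Nat.pos_of_ne_zero fun h0 => by rw [hj, h0, mul_zero] at hV; exact lt_irrefl 0 hV) hj

/-- The members fixed by a Sylow subgroup keep small members' number prime to `r`. -/
theorem mod_le_of_dvd_class (h2 : (2 : F) ≠ 0) (hQ : OCount.PND Q) (hr : r.Prime) (hr2 : r ≠ 2) (hr0 : (r : F) ≠ 0)
    {W₀ : Submodule F V} (hW₀ : QuadBasis.Nondeg Q W₀) (hm : 1 ≤ finrank F W₀)
    (hdvd : r ∣ Nat.card {W : Submodule F V //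
      finrank F W = finrank F W₀ ∧ QuadBasis.Nondeg Q W ∧ OType.SameClass Q W W₀}) :
    finrank F V % unit F r ≤ finrank F W₀ := by
  classical
  by_contra hlt
  push Not at hlt
  haveI : Fact r.Prime := ⟨hr⟩
  haveI : Finite V := Module.finite_of_finite F
  haveI : Finite (V ≃ₗ[F] V) := Finite.of_injective (fun h : V ≃ₗ[F] V => (h : V → V)) DFunLike.coe_injective
  obtain ⟨S⟩ : Nonempty (Sylow r ↥(ORefl.Iso Q)) := inferInstance
  obtain ⟨P', hP'⟩ : ∃ P', P' = (S : Subgroup ↥(ORefl.Iso Q)).map (ORefl.Iso Q).subtype := ⟨_, rfl⟩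
  obtain ⟨C, hCn, hCf, hCd⟩ := exists_fixed_sub (finrank F V) le_rfl hQ hr hr2 hr0 P'
    (hP' ▸ Subgroup.map_subtype_le _) (hP' ▸ S.2.map _)
  have hCm : finrank F W₀ < finrank F C := by
    obtain ⟨t, ht⟩ := hCd
    have := Submodule.finrank_le C
    have h1 : finrank F V % unit F r = finrank F C % unit F r := by
      rw [show finrank F V = finrank F C + unit F r * t by omega, Nat.add_mul_mod_self_left]
    have := Nat.mod_le (finrank F C) (unit F r)
    omega
  obtain ⟨T, hT, hn, hd, hP⟩ := OType.exists_class h2 (U := ⊥) (fun x hx _ => (Submodule.mem_bot F).mp hx) hCn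
    (fun x hx y _ => by rw [(Submodule.mem_bot F).mp hx, polar_zero_left]) hW₀ (s := finrank F W₀) hm hCm
    (by rw [finrank_bot, zero_add])
  rw [bot_sup_eq] at hn hd hP
  let X := {W : Submodule F V // finrank F W = finrank F W₀ ∧ QuadBasis.Nondeg Q W ∧ OType.SameClass Q W W₀}
  have hmapX : ∀ (g : ↥(ORefl.Iso Q)) (W : X),
      finrank F (W.1.map ((g : V ≃ₗ[F] V) : V →ₗ[F] V)) = finrank F W₀ ∧
      QuadBasis.Nondeg Q (W.1.map ((g : V ≃ₗ[F] V) : V →ₗ[F] V)) ∧
      OType.SameClass Q (W.1.map ((g : V ≃ₗ[F] V) : V →ₗ[F] V)) W₀ := fun g W => by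
    refine ⟨by rw [LinearEquiv.finrank_map_eq]; exact W.2.1, ?_, (OType.SameClass.map g.2 W.1).symm.trans W.2.2.2⟩
    rintro _ ⟨x, hx, rfl⟩ h
    rw [W.2.2.1 x hx fun y hy => by
      have := h _ ⟨y, hy, rfl⟩
      simpa [polar, ← map_add, show ∀ v, Q ((g : V ≃ₗ[F] V) v) = Q v from g.2] using this]
    exact map_zero _
  letI : MulAction ↥(ORefl.Iso Q) X :=
    { smul := fun g W => ⟨W.1.map ((g : V ≃ₗ[F] V) : V →ₗ[F] V), hmapX g W⟩
      one_smul := fun W => Subtype.ext (Submodule.map_id W.1)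
      mul_smul := fun a b W => Subtype.ext (Submodule.map_comp _ _ W.1) }
  haveI : MulAction.IsPretransitive ↥(ORefl.Iso Q) X := ⟨fun W₁ W₂ => by
    obtain ⟨φ, hφ⟩ := W₁.2.2.2.trans W₂.2.2.2.symm
    obtain ⟨g, hg, hgW⟩ := ORefl.witt hQ W₁.1 (W₂.1.subtype ∘ₗ φ.toLinearMap)
      (W₂.1.injective_subtype.comp φ.injective) hφ
    refine ⟨⟨g, hg⟩, Subtype.ext ?_⟩
    show W₁.1.map (g : V →ₗ[F] V) = W₂.1
    refine Submodule.eq_of_le_of_finrank_le ?_ (by rw [LinearEquiv.finrank_map_eq, W₁.2.1, W₂.2.1])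
    rintro _ ⟨x, hx, rfl⟩
    rw [show (g : V →ₗ[F] V) x = _ from hgW ⟨x, hx⟩]
    exact (φ ⟨x, hx⟩).2⟩
  obtain ⟨W₁, hW₁⟩ : ∃ W₁ : X, W₁.1 = T := ⟨⟨T, hd, hn, hP⟩, rfl⟩
  have hle : (S : Subgroup ↥(ORefl.Iso Q)) ≤ MulAction.stabilizer ↥(ORefl.Iso Q) W₁ := fun g hg => by
    refine MulAction.mem_stabilizer_iff.mpr (Subtype.ext ?_)
    show W₁.1.map ((g : V ≃ₗ[F] V) : V →ₗ[F] V) = W₁.1
    rw [hW₁]
    have hfix : ∀ x ∈ T, (g : V ≃ₗ[F] V) x = x := fun x hx => hCf _ (hP' ▸ ⟨g, hg, rfl⟩) x (hT hx)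
    refine le_antisymm ?_ fun x hx => ⟨x, hx, hfix x hx⟩
    rintro _ ⟨x, hx, rfl⟩
    rw [show ((g : V ≃ₗ[F] V) : V →ₗ[F] V) x = x from hfix x hx]
    exact hx
  have h1 := MulAction.index_stabilizer_of_transitive ↥(ORefl.Iso Q) W₁
  exact S.not_dvd_index (dvd_trans hdvd (h1 ▸ Subgroup.index_dvd_of_le hle))

/-- A free isometry of a space of the type it forces. -/
theorem exists_model_top (h2 : (2 : F) ≠ 0) (hQ : OCount.PND Q) (hr : r.Prime) (hr2 : r ≠ 2) (hr0 : (r : F) ≠ 0)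
    {N : ℕ} (hN : 1 ≤ N) (hV : finrank F V = unit F r * N)
    (ht : OType.IsPlus Q ⊤ ↔ (Odd (orderOf (Fintype.card F : ZMod r)) ∨ Even N)) :
    ∃ f : Module.End F V, f ^ r = 1 ∧ (∀ v, Q (f v) = Q v) ∧ finrank F (Free.fixSpace f) = 0 := by
  classical
  obtain ⟨-, hupos, hue⟩ := unit_pos (F := F) hr hr0
  obtain ⟨M, _, _, _, B, g, hfree, halt, hM⟩ : ∃ (M : Type u) (_ : AddCommGroup M) (_ : Module F M)
      (_ : FiniteDimensional F M) (B : LinearMap.BilinForm F M) (g : Module.End F M),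
      Free.IsFree B g r ∧ SpCount.IsAltND B ∧ finrank F M = unit F r * N := by
    unfold unit
    by_cases he : Even (orderOf (Fintype.card F : ZMod r))
    · obtain ⟨M, i1, i2, i3, B, g, h1, h2', h3, -⟩ := Free.exists_spread (F := F) hr hr2 hr0 he N
      exact ⟨M, i1, i2, i3, B, g, h1, h2', by rw [h3, if_pos he]⟩
    · obtain ⟨M, i1, i2, i3, B, g, h1, h2', h3⟩ := Free.exists_paired (F := F) hr hr2 hr0 N
      exact ⟨M, i1, i2, i3, B, g, h1, h2', by rw [h3, if_neg he]; ring⟩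
  obtain ⟨B', hB'⟩ : ∃ B' : LinearMap.BilinForm F M, B' = B.comp g LinearMap.id - B.comp LinearMap.id g := ⟨_, rfl⟩
  have hBa : ∀ u v, B' u v = B (g u) v - B u (g v) := fun u v => by rw [hB']; rfl
  have hB's : ∀ u v, B' v u = B' u v := fun u v => by
    rw [hBa, hBa, halt.swap (g u) v, halt.swap u (g v)]; ring
  have hB'nd : ∀ u, (∀ v, B' u v = 0) → u = 0 := fun u hu => twist_facts hfree halt.nondeg u (hB' ▸ hu)
  obtain ⟨QM, hQM⟩ : ∃ QM : QuadraticForm F M, QM = LinearMap.BilinMap.toQuadraticMap B' := ⟨_, rfl⟩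
  have hQMiso : ∀ u, QM (g u) = QM u := fun u => by
    rw [hQM, LinearMap.BilinMap.toQuadraticMap_apply, LinearMap.BilinMap.toQuadraticMap_apply, hBa, hBa,
      hfree.isometry, hfree.isometry]
  have hQMp : OCount.PND QM := fun u hu => hB'nd u fun v => by
    have h := hu v
    simp only [polar, hQM, LinearMap.BilinMap.toQuadraticMap_apply, map_add, LinearMap.add_apply] at h
    rw [hB's u v] at h
    exact (mul_eq_zero.mp (show (2 : F) * B' u v = 0 by linear_combination h)).resolve_left h2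
  obtain ⟨e, he⟩ : Even (finrank F M) := by rw [hM]; exact hue.mul_right N
  have hMpos : 0 < finrank F M := by rw [hM]; exact Nat.mul_pos hupos hN
  have htM : OType.IsPlus QM ⊤ ↔ (Odd (orderOf (Fintype.card F : ZMod r)) ∨ Even N) := by
    have h := (type_of_no_fix hQMp hr hr2 hr0 hfree.pow_eq hQMiso (Submodule.finrank_eq_zero.mpr
      ((Submodule.eq_bot_iff _).mpr fun v hv => hfree.fixfree v (Free.mem_fixSpace.mp hv))) hMpos).2
    rwa [hM, Nat.mul_div_cancel_left _ hupos] at h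
  obtain ⟨a, c, hac⟩ := QuadModels.exists_aniso (F := F)
  have hdM : finrank F (⊤ : Submodule F M) = 2 * e := by rw [finrank_top, he, two_mul]
  have hdV : finrank F (⊤ : Submodule F V) = 2 * e := by rw [finrank_top, hV, ← hM, he, two_mul]
  obtain ⟨φ, hφ⟩ : ∃ φ : M ≃ₗ[F] V, ∀ v, Q (φ v) = QM v := by
    rcases OType.model (top_nondeg hQMp) (e := e) (by omega) hdM a c hac with ⟨p₁, L₁, hL₁⟩ | ⟨p₁, L₁, hL₁⟩ <;>
      rcases OType.model (top_nondeg hQ) (e := e) (by omega) hdV a c hac with ⟨p₂, L₂, hL₂⟩ | ⟨p₂, L₂, hL₂⟩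
    · exact ⟨Submodule.topEquiv.symm.trans ((L₁.symm.trans L₂).trans Submodule.topEquiv), fun v => by
        simp only [LinearEquiv.trans_apply, Submodule.topEquiv_apply]
        rw [hL₂, ← hL₁, L₁.apply_symm_apply]; rfl⟩
    · exact absurd (ht.mpr (htM.mp p₁)) p₂
    · exact absurd (htM.mpr (ht.mp p₂)) p₁
    · exact ⟨Submodule.topEquiv.symm.trans ((L₁.symm.trans L₂).trans Submodule.topEquiv), fun v => by
        simp only [LinearEquiv.trans_apply, Submodule.topEquiv_apply]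
        rw [hL₂, ← hL₁, L₁.apply_symm_apply]; rfl⟩
  obtain ⟨f, hf⟩ : ∃ f : Module.End F V, ∀ u, f (φ u) = φ (g u) :=
    ⟨φ.toLinearMap ∘ₗ g ∘ₗ φ.symm.toLinearMap, fun u => by simp⟩
  have hpow : ∀ (j : ℕ) u, (f ^ j) (φ u) = φ ((g ^ j) u) := by
    intro j
    induction j with
    | zero => intro u; rfl
    | succ j ih => intro u; rw [pow_succ, Module.End.mul_apply, hf, ih, pow_succ, Module.End.mul_apply]
  refine ⟨f, LinearMap.ext fun v => ?_, fun v => ?_, Submodule.finrank_eq_zero.mpr ((Submodule.eq_bot_iff _).mpr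
    fun v hv => ?_)⟩
  · obtain ⟨u, rfl⟩ := φ.surjective v
    rw [hpow, hfree.pow_eq]; rfl
  · obtain ⟨u, rfl⟩ := φ.surjective v
    rw [hf, hφ, hφ, hQMiso]
  · obtain ⟨u, rfl⟩ := φ.surjective v
    rw [Free.mem_fixSpace, hf] at hv
    rw [hfree.fixfree u (φ.injective hv), map_zero]

/-- Invariant nondegenerate subspaces consist of units and fixed vectors. -/
theorem split_units (hQ : OCount.PND Q) (hr : r.Prime) (hr2 : r ≠ 2) (hr0 : (r : F) ≠ 0)
    {g : Module.End F V} (hgr : g ^ r = 1) (hiso : ∀ v, Q (g v) = Q v) {W : Submodule F V}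
    (hW : QuadBasis.Nondeg Q W) (hinv : ∀ x ∈ W, g x ∈ W) :
    ∃ j b, finrank F W = unit F r * j + b ∧ b ≤ finrank F (Free.fixSpace g) := by
  have ht := tame_of (Q := Q) hr0 hgr hiso
  have hWMn : QuadBasis.Nondeg Q (W ⊓ Free.moved g) := fun x hx h => hW x hx.1 fun y hy => by
    have hav : Free.avg g r y ∈ W := by
      have key : ∀ k : ℕ, (g ^ k) y ∈ W := by
        intro k
        induction k with
        | zero => exact hy
        | succ k ih => rw [pow_succ', Module.End.mul_apply]; exact hinv _ ih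
      simp only [Free.avg, LinearMap.smul_apply, LinearMap.sum_apply]
      exact W.smul_mem _ (W.sum_mem fun k _ => key k)
    rw [← add_sub_cancel (Free.avg g r y) y, polar_add_right, h _ ⟨W.sub_mem hy hav, ht.sub_avg_mem y⟩,
      polar_comm, show polar Q (Free.avg g r y) x = 0 from ht.perp (ht.avg_mem y) hx.2, zero_add]
  obtain ⟨j, hj⟩ := (unit_type hWMn (fun v hv => ⟨hinv v hv.1, Free.moved_invariant hv.2⟩) hr hr2 hr0
    (fun v _ => by rw [hgr]; rfl) (fun v hv h => moved_fix ht hv.2 h) hiso).1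
  exact ⟨j, _, by rw [ht.finrank_split hinv, hj, add_comm], Submodule.finrank_mono inf_le_right⟩

section Standard

variable {ι : Type} [Fintype ι] [DecidableEq ι]

/-- An isometry of odd order as an element of Ω. -/
theorem exists_omega_of_end (h2 : (2 : F) ≠ 0) {Q : QuadraticForm F (ι → F)} (hQ : OCount.PND Q)
    (hn : 2 ≤ Fintype.card ι) (hr : r.Prime) (hr2 : r ≠ 2) {f : Module.End F (ι → F)} (hfr : f ^ r = 1)
    (hf : ∀ v, Q (f v) = Q v) :
    ∃ x : GL ι F, x ∈ Cfsg.Geo.omegaGL ⇑Q ∧ x ^ r = 1 ∧ Matrix.toLin' (x : Matrix ι ι F) = f := by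
  obtain ⟨A, hA⟩ := (Matrix.toLin' (R := F) (m := ι) (n := ι)).surjective f
  have hAr : A ^ r = 1 := by
    apply Matrix.toLin'.injective
    rw [Matrix.toLin'_pow, hA, hfr, Matrix.toLin'_one]; rfl
  obtain ⟨x, rfl⟩ := IsUnit.of_pow_eq_one hAr hr.ne_zero
  have hxr : x ^ r = 1 := Units.ext hAr
  have hx : x ∈ Cfsg.isometryGroup F ⇑Q := fun v _ => by
    have h := hf v
    rw [← hA] at h
    exact h
  refine ⟨x, ?_, hxr, hA⟩
  obtain ⟨j, hj⟩ := hr.odd_of_ne_two hr2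
  obtain ⟨y, hy⟩ : ∃ y : ↥(Cfsg.isometryGroup F ⇑Q), y = ⟨x, hx⟩ ^ (j + 1) := ⟨_, rfl⟩
  refine ⟨y * y, ?_, ?_⟩
  · rw [SetLike.mem_coe, OOmega.omega_eq_map]
    refine ⟨(ORefl.toMat Q).symm (y * y), ?_, MulEquiv.apply_symm_apply _ _⟩
    rw [SetLike.mem_coe, OOmega.commutator_eq h2 hQ (by rwa [finrank_fintype_fun_eq_card]), MonoidHom.mem_ker,
      map_mul, map_mul]
    exact Prod.ext (Int.units_mul_self _) (Int.units_mul_self _)
  · rw [hy, Subgroup.coe_subtype, Subgroup.coe_mul, SubgroupClass.coe_pow, ← pow_add,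
      show j + 1 + (j + 1) = r + 1 by omega, pow_succ, hxr, one_mul]

/-- An element of Ω without invariant nondegenerate subspaces of odd dimension `m`. -/
theorem derangement_odd (h2 : (2 : F) ≠ 0) {Q : QuadraticForm F (ι → F)} (hQ : OCount.PND Q)
    (hn : 2 ≤ Fintype.card ι) (hne : Even (Fintype.card ι)) (hr : r.Prime) (hr2 : r ≠ 2) (hr0 : (r : F) ≠ 0) {m : ℕ}
    (hm : Odd m) (hcn : unit F r ≤ Fintype.card ι)
    (hc : (Fintype.card ι % unit F r = 0 ∧
        (OType.IsPlus Q ⊤ ↔ (Odd (orderOf (Fintype.card F : ZMod r)) ∨ Even (Fintype.card ι / unit F r)))) ∨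
      (0 < Fintype.card ι % unit F r ∧ Fintype.card ι % unit F r ≤ m % unit F r)) :
    ∃ x : GL ι F, x ∈ Cfsg.Geo.omegaGL ⇑Q ∧ x ^ r = 1 ∧ x ≠ 1 ∧
      ∀ W : Submodule F (ι → F), finrank F W = m → QuadBasis.Nondeg Q W →
        ¬ W.map (Matrix.toLin' (x : Matrix ι ι F)) ≤ W := by
  classical
  obtain ⟨-, hupos, hue⟩ := unit_pos (F := F) hr hr0
  obtain ⟨c, hcdef⟩ : ∃ c, c = unit F r := ⟨_, rfl⟩
  obtain ⟨n, hndef⟩ : ∃ n, n = Fintype.card ι := ⟨_, rfl⟩
  rw [← hcdef, ← hndef] at hcn hc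
  rw [← hcdef] at hupos hue
  have hV : finrank F (ι → F) = n := by rw [finrank_fintype_fun_eq_card, hndef]
  have hdm := Nat.div_add_mod n c
  have hN : 1 ≤ n / c := (Nat.one_le_div_iff hupos).mpr hcn
  obtain ⟨f, hfr, hf, hfix⟩ : ∃ f : Module.End F (ι → F), f ^ r = 1 ∧ (∀ v, Q (f v) = Q v) ∧
      finrank F (Free.fixSpace f) = n % c := by
    rcases hc with ⟨h0, ht⟩ | ⟨hk, -⟩
    · obtain ⟨f, h1, h3, h4⟩ := exists_model_top h2 hQ hr hr2 hr0 hN (by rw [hV, ← hcdef]; omega) ht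
      exact ⟨f, h1, h3, by rw [h4, h0]⟩
    · obtain ⟨L⟩ : Nonempty ((Fin n → F) ≃ₗ[F] (ι → F)) :=
        ⟨LinearEquiv.funCongrLeft F F ((Fintype.equivFin ι).trans (finCongr hndef.symm))⟩
      obtain ⟨f₀, hfr, hf, hrk⟩ := exists_model_fin h2 hr hr2 hr0 hN hk (hcdef ▸ hdm) (Q.comp L.toLinearMap)
        (QuadModels.nondegenerate fun v hv => L.injective (by
          rw [map_zero]
          refine hQ _ fun w => ?_
          have := hv (L.symm w)
          simpa [polar] using this))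
      obtain ⟨f, hfd⟩ : ∃ f : Module.End F (ι → F), ∀ u, f (L u) = L (f₀ u) :=
        ⟨L.toLinearMap ∘ₗ f₀ ∘ₗ L.symm.toLinearMap, fun u => by simp⟩
      have hpow : ∀ (j : ℕ) u, (f ^ j) (L u) = L ((f₀ ^ j) u) := by
        intro j
        induction j with
        | zero => intro u; rfl
        | succ j ih => intro u; rw [pow_succ, Module.End.mul_apply, hfd, ih, pow_succ, Module.End.mul_apply]
      have hfr' : f ^ r = 1 := LinearMap.ext fun v => by
        obtain ⟨u, rfl⟩ := L.surjective v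
        rw [hpow, hfr]; rfl
      have hiso : ∀ v, Q (f v) = Q v := fun v => by
        obtain ⟨u, rfl⟩ := L.surjective v
        rw [hfd]
        exact hf u
      refine ⟨f, hfr', hiso, ?_⟩
      have hmv : finrank F (Free.moved f) = c * (n / c) := by
        show TensorSpO.rk f = _
        rw [TensorSpO.rk_conj L hfd, hrk, hcdef]
      have := (parts_facts hQ hr hr2 hr0 hfr' hiso).1
      omega
  obtain ⟨x, hx, hxr, hxf⟩ := exists_omega_of_end h2 hQ hn hr hr2 hfr hf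
  refine ⟨x, hx, hxr, fun h => ?_, fun W hWd hWn hWinv => ?_⟩
  · rw [← hxf, h, Units.val_one, Matrix.toLin'_one] at hfix
    rw [show Free.fixSpace (LinearMap.id : Module.End F (ι → F)) = ⊤ from
      eq_top_iff.mpr fun v _ => Free.mem_fixSpace.mpr rfl, finrank_top, hV] at hfix
    have := Nat.mul_pos hupos hN
    omega
  · obtain ⟨j, b, hjb, hb⟩ := split_units hQ hr hr2 hr0 hfr hf hWn
      fun v hv => hWinv ⟨v, hv, by rw [hxf]⟩
    rw [hWd, ← hcdef] at hjb
    rw [hfix] at hb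
    have hlt := Nat.mod_lt n hupos
    have hmb : m % c = b := by rw [hjb, Nat.mul_add_mod, Nat.mod_eq_of_lt (by omega)]
    have hbo : b % 2 = 1 := by
      have := hue.mul_right j
      rw [Nat.even_iff] at this
      rw [hjb, Nat.odd_iff] at hm
      omega
    have hke : (n % c) % 2 = 0 := by
      rw [Nat.mod_mod_of_dvd _ (even_iff_two_dvd.mp hue), ← Nat.even_iff, hndef]
      exact hne
    rcases hc with ⟨h0, -⟩ | ⟨-, hle⟩ <;> omega

end Standard

end Cfsg.Agent.Classical.Elusive.OFree
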