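import Cfsg.Agent.Lib.Classical.Elusive.OrthUnipotent
import Cfsg.Agent.Lib.Classical.Elusive.OrthEvenFree

/-!
# Unipotent elements of even-dimensional orthogonal groups and odd-dimensional members
-/

set_option autoImplicit false
set_option linter.unusedSectionVars false

universe u

namespace Cfsg.Agent.Classical.Elusive.OUni

open Module QuadraticMap
open Cfsg.Agent.Small
open Cfsg.Agent.Small.JordanType (IsChain parts count_parts sum_parts)

variable {F : Type u} [Field F] [Fintype F] {V : Type u} [AddCommGroup V] [Module F V] [FiniteDimensional F V]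
  {Q : QuadraticForm F V} {p : ℕ} [Fact p.Prime]

/-- The vectors orthogonal to a subspace. -/
noncomputable def perp (Q : QuadraticForm F V) (W : Submodule F V) : Submodule F V :=
  LinearMap.ker (W.subtype.dualMap ∘ₗ polarBilin Q)

theorem mem_perp {W : Submodule F V} {v : V} : v ∈ perp Q W ↔ ∀ w ∈ W, polar Q v w = 0 := by
  rw [perp, LinearMap.mem_ker]
  constructor
  · intro h w hw
    exact LinearMap.congr_fun h ⟨w, hw⟩
  · exact fun h => LinearMap.ext fun w => h w.1 w.2

theorem perp_facts (hQ : OCount.PND Q) {W : Submodule F V} (hW : QuadBasis.Nondeg Q W) :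
    IsCompl W (perp Q W) ∧ QuadBasis.Nondeg Q (perp Q W) ∧ finrank F W + finrank F (perp Q W) = finrank F V := by
  have hdis : Disjoint W (perp Q W) := Submodule.disjoint_def.mpr fun x hx hx' => hW x hx (mem_perp.mp hx')
  have hC : IsCompl W (perp Q W) := by
    refine ⟨hdis, codisjoint_iff.mpr (Submodule.eq_top_of_finrank_eq ?_)⟩
    have h1 := Submodule.finrank_sup_add_finrank_inf_eq W (perp Q W)
    rw [hdis.eq_bot, finrank_bot] at h1
    have h3 := (W.subtype.dualMap ∘ₗ polarBilin Q).finrank_range_add_finrank_ker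
    have h4 := Submodule.finrank_le (LinearMap.range (W.subtype.dualMap ∘ₗ polarBilin Q))
    rw [Subspace.dual_finrank_eq] at h4
    have h5 := Submodule.finrank_le (W ⊔ perp Q W)
    rw [← perp] at h3
    omega
  refine ⟨hC, fun x hx h => hQ x fun v => ?_, Submodule.finrank_add_eq_of_isCompl hC⟩
  obtain ⟨a, ha, b, hb, rfl⟩ := Submodule.mem_sup.mp (show v ∈ W ⊔ perp Q W by rw [hC.sup_eq_top]; trivial)
  rw [polar_add_right, mem_perp.mp hx a ha, h b hb, add_zero]

theorem perp_perp (hQ : OCount.PND Q) {W : Submodule F V} (hW : QuadBasis.Nondeg Q W) :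
    perp Q (perp Q W) = W := by
  obtain ⟨-, hn, hd⟩ := perp_facts hQ hW
  obtain ⟨-, -, hd'⟩ := perp_facts hQ hn
  refine (Submodule.eq_of_le_of_finrank_eq (fun x hx => mem_perp.mpr fun y hy => ?_) (by omega)).symm
  rw [polar_comm]
  exact mem_perp.mp hy x hx

theorem perp_inv {f : Module.End F V} (hfp : f ^ p = 1) (hf : ∀ v, Q (f v) = Q v) {W : Submodule F V}
    (hinv : ∀ w ∈ W, f w ∈ W) : ∀ v ∈ perp Q W, f v ∈ perp Q W := by
  intro v hv
  refine mem_perp.mpr fun w hw => ?_
  have key : ∀ k : ℕ, (f ^ k) w ∈ W := by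
    intro k
    induction k with
    | zero => exact hw
    | succ k ih => rw [pow_succ', Module.End.mul_apply]; exact hinv _ ih
  have hw' : f ((f ^ (p - 1)) w) = w := by
    rw [← Module.End.mul_apply, (pow_pred_mul hfp).2, Module.End.one_apply]
  rw [← hw', polar_map hf]
  exact mem_perp.mp hv _ (key _)

/-- An isometric map between nondegenerate subspaces of one dimension. -/
theorem sameClass_of_map {Y Y' : Submodule F V} (hY : QuadBasis.Nondeg Q Y) (L : Y →ₗ[F] Y')
    (hL : ∀ y, Q (L y : V) = Q (y : V)) (hd : finrank F Y = finrank F Y') : OType.SameClass Q Y Y' := by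
  have hinj : Function.Injective L := by
    rw [← LinearMap.ker_eq_bot, Submodule.eq_bot_iff]
    intro y hy
    refine Subtype.ext (hY y.1 y.2 fun z hz => ?_)
    have e : polar Q (y : V) z = polar Q (L y : V) (L ⟨z, hz⟩ : V) := by
      simp only [polar, ← Submodule.coe_add, ← map_add, hL]
      rfl
    rw [e, show L y = 0 from hy, ZeroMemClass.coe_zero, polar_zero_left]
  exact ⟨LinearEquiv.ofBijective L ⟨hinj, (L.injective_iff_surjective_of_finrank_eq_finrank hd).mp hinj⟩, hL⟩

/-- Orthogonal complements of subspaces in one class are in one class. -/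
theorem sameClass_perp (hQ : OCount.PND Q) {W W' : Submodule F V} (hW : QuadBasis.Nondeg Q W)
    (hW' : QuadBasis.Nondeg Q W') (h : OType.SameClass Q W W') :
    OType.SameClass Q (perp Q W) (perp Q W') := by
  obtain ⟨e, he⟩ := h
  obtain ⟨g, hg, hgW⟩ := ORefl.witt hQ W (W'.subtype ∘ₗ e.toLinearMap) (W'.injective_subtype.comp e.injective) he
  obtain ⟨-, hn, hd⟩ := perp_facts hQ hW
  obtain ⟨-, -, hd'⟩ := perp_facts hQ hW'
  have hmem : ∀ x ∈ perp Q W, g x ∈ perp Q W' := fun x hx => mem_perp.mpr fun w hw => by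
    have h1 : g (e.symm ⟨w, hw⟩ : V) = w := by
      rw [hgW]
      simp
    rw [← h1, ORefl.polar_iso hg]
    exact mem_perp.mp hx _ (e.symm ⟨w, hw⟩).2
  refine sameClass_of_map hn ((g : V →ₗ[F] V).restrict hmem) (fun y => ?_) (by have := e.finrank_eq; omega)
  exact hg _

/-- On the fixed vectors the form has rank at most one when a single block has size one. -/
theorem ker_rank {f : Module.End F V} {ι : Type} [Fintype ι] {k : ι → ℕ} {b : Basis (Σ i, Fin (k i)) F V}
    (hb : IsChain (f - 1) b) (h1 : (parts k).count 1 = 1) :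
    ∃ u, (f - 1) u = 0 ∧ ∀ w, (f - 1) w = 0 → ∃ (c : F) (a : V), w = c • u + (f - 1) a := by
  classical
  rw [count_parts k one_ne_zero, Nat.card_eq_one_iff_unique] at h1
  obtain ⟨hss, ⟨i₀, hi₀⟩⟩ := h1
  obtain ⟨x₀, hx₀⟩ : ∃ x₀ : Σ i, Fin (k i), x₀ = ⟨i₀, ⟨0, by omega⟩⟩ := ⟨_, rfl⟩
  have hu : (f - 1) (b x₀) = 0 := by
    rw [hb, dif_neg]
    subst hx₀
    show ¬ (0 + 1 < k i₀)
    omega
  refine ⟨b x₀, hu, fun w hw => ?_⟩
  have hco : ∀ (x : Σ i, Fin (k i)) (h : (x.2 : ℕ) + 1 < k x.1), b.repr w x = 0 := by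
    intro x h
    obtain ⟨y, hy⟩ : ∃ y : Σ i, Fin (k i), y = ⟨x.1, ⟨x.2 + 1, h⟩⟩ := ⟨_, rfl⟩
    have e : (Finsupp.lapply y ∘ₗ b.repr.toLinearMap ∘ₗ (f - 1)) = Finsupp.lapply x ∘ₗ b.repr.toLinearMap := by
      refine b.ext fun z => ?_
      simp only [LinearMap.coe_comp, Function.comp_apply, LinearEquiv.coe_coe, Finsupp.lapply_apply]
      rw [hb, b.repr_self, Finsupp.single_apply]
      by_cases hz : z = x
      · subst hz
        rw [dif_pos h, b.repr_self, Finsupp.single_apply, if_pos hy.symm, if_pos rfl]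
      · rw [if_neg hz]
        by_cases h' : (z.2 : ℕ) + 1 < k z.1
        · rw [dif_pos h', b.repr_self, Finsupp.single_apply, if_neg]
          intro e
          rw [hy] at e
          obtain ⟨i, a⟩ := z
          obtain ⟨j, c⟩ := x
          obtain rfl : i = j := congrArg Sigma.fst e
          simp only [Sigma.mk.injEq, heq_eq_eq, true_and, Fin.ext_iff] at e
          exact hz (by rw [show a = c from Fin.ext (by omega)])
        · rw [dif_neg h', map_zero, Finsupp.zero_apply]
    have := LinearMap.congr_fun e w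
    simp only [LinearMap.coe_comp, Function.comp_apply, LinearEquiv.coe_coe, Finsupp.lapply_apply, hw, map_zero,
      Finsupp.zero_apply] at this
    exact this.symm
  have hmem : w ∈ Submodule.span F {b x₀} ⊔ LinearMap.range (f - 1) := by
    rw [← b.sum_repr w]
    refine Submodule.sum_mem _ fun x _ => ?_
    by_cases h : (x.2 : ℕ) + 1 < k x.1
    · rw [hco x h, zero_smul]; exact Submodule.zero_mem _
    refine Submodule.smul_mem _ _ ?_
    obtain ⟨i, a⟩ := x
    simp only at h
    have := a.isLt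
    rcases Nat.eq_zero_or_pos (a : ℕ) with h0 | h0
    · have : i = i₀ := congrArg Subtype.val (@Subsingleton.elim _ hss (⟨i, by omega⟩ : {i // k i = 1}) ⟨i₀, hi₀⟩)
      subst this
      rw [show (⟨i, a⟩ : Σ i, Fin (k i)) = x₀ by rw [hx₀, show a = ⟨0, by omega⟩ from Fin.ext h0]]
      exact Submodule.mem_sup_left (Submodule.mem_span_singleton_self _)
    · refine Submodule.mem_sup_right ⟨b ⟨i, ⟨a - 1, by omega⟩⟩, ?_⟩
      rw [hb, dif_pos (show (a : ℕ) - 1 + 1 < k i by omega)]
      congr 2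
      exact Fin.ext (by simp only; omega)
  obtain ⟨y, hy, z, ⟨a, rfl⟩, hyz⟩ := Submodule.mem_sup.mp hmem
  obtain ⟨c, rfl⟩ := Submodule.mem_span_singleton.mp hy
  exact ⟨c, a, hyz.symm⟩

/-- Values on the fixed vectors. -/
theorem ker_values {f : Module.End F V} (hfp : f ^ p = 1) (hf : ∀ v, Q (f v) = Q v) (h2 : (2 : F) ≠ 0) {u : V}
    (hu : (f - 1) u = 0) {c c' : F} {a a' : V} (hw : (f - 1) (c • u + (f - 1) a) = 0)
    (hw' : (f - 1) (c' • u + (f - 1) a') = 0) :
    polar Q (c • u + (f - 1) a) (c' • u + (f - 1) a') = 2 * c * c' * Q u ∧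
      Q (c • u + (f - 1) a) = c * c * Q u := by
  have key : ∀ w, (f - 1) w = 0 → ∀ z, polar Q ((f - 1) z) w = 0 := fun w hw z => by
    have h := polar_nil_pow hfp hf 1 w (by rwa [pow_one]) z
    rwa [pow_one] at h
  have hz : (f - 1) ((f - 1) a) = 0 := by rwa [map_add, map_smul, hu, smul_zero, zero_add] at hw
  have hz' : (f - 1) ((f - 1) a') = 0 := by rwa [map_add, map_smul, hu, smul_zero, zero_add] at hw'
  have hQz : Q ((f - 1) a) = 0 := by
    have h := key _ hz a
    rw [QuadBasis.p_self] at h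
    exact (mul_eq_zero.mp h).resolve_left h2
  constructor
  · rw [polar_add_right, polar_add_left, polar_add_left, QuadBasis.p_smul_left, QuadBasis.p_smul_right,
      QuadBasis.p_self, QuadBasis.p_smul_left, QuadBasis.p_smul_right, polar_comm _ u ((f - 1) a'), key _ hu,
      key _ hu, key _ hz']
    ring
  · rw [QuadBasis.q_add, QuadBasis.q_smul, QuadBasis.p_smul_left, polar_comm, key _ hu, hQz]
    ring

/-- The shape of an odd-dimensional invariant subspace killed by the square. -/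
theorem odd_shape {f : Module.End F V} (hfp : f ^ p = 1) (hf : ∀ v, Q (f v) = Q v) (h2 : (2 : F) ≠ 0) {u : V}
    (hu : (f - 1) u = 0) (hker : ∀ w, (f - 1) w = 0 → ∃ (c : F) (a : V), w = c • u + (f - 1) a)
    {Y : Submodule F V} (hY : QuadBasis.Nondeg Q Y) (hinv : ∀ y ∈ Y, f y ∈ Y) (hodd : Odd (finrank F Y))
    (hsq : ∀ y ∈ Y, (f - 1) ((f - 1) y) = 0) :
    ∃ (v : V) (c : F), v ∈ Y ∧ c ≠ 0 ∧ Q v ≠ 0 ∧ Q v = c * c * Q u ∧
      ∃ U ≤ Y, (∀ x ∈ U, polar Q v x = 0 ∧ Q x = 0) ∧ 2 * finrank F U + 1 = finrank F Y := by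
  classical
  have hN : ∀ y ∈ Y, (f - 1) y ∈ Y := fun y hy => by
    rw [LinearMap.sub_apply, Module.End.one_apply]
    exact Y.sub_mem (hinv y hy) hy
  have key : ∀ w, (f - 1) w = 0 → ∀ z, polar Q ((f - 1) z) w = 0 := fun w hw z => by
    have h := polar_nil_pow hfp hf 1 w (by rwa [pow_one]) z
    rwa [pow_one] at h
  obtain ⟨R, hR⟩ : ∃ R, R = Y.map (f - 1) := ⟨_, rfl⟩
  obtain ⟨K, hK⟩ : ∃ K, K = Y ⊓ LinearMap.ker (f - 1) := ⟨_, rfl⟩
  have hRY : R ≤ Y := by
    rw [hR]
    rintro _ ⟨y, hy, rfl⟩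
    exact hN y hy
  have hRK : R ≤ K := by
    rw [hR, hK]
    rintro _ ⟨y, hy, rfl⟩
    exact ⟨hN y hy, hsq y hy⟩
  have hRperp : ∀ x ∈ R, ∀ w ∈ K, polar Q x w = 0 := by
    rw [hR, hK]
    rintro _ ⟨y, -, rfl⟩ w hw
    exact key w hw.2 y
  have hdim : finrank F R + finrank F K = finrank F Y := by
    have h := ((f - 1).domRestrict Y).finrank_range_add_finrank_ker
    rw [LinearMap.range_domRestrict] at h
    have e : (LinearMap.ker ((f - 1).domRestrict Y)).map Y.subtype = K := by
      rw [hK, LinearMap.ker_domRestrict, Submodule.map_comap_subtype]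
    rw [← e, Submodule.finrank_map_subtype_eq, hR]
    exact h
  -- vectors of `Y` orthogonal to `K` lie in `R`
  have hperpR : ∀ x ∈ Y, (∀ w ∈ K, polar Q x w = 0) → x ∈ R := by
    have hnd : (polarBilin (Q.comp Y.subtype)).Nondegenerate :=
      QuadModels.nondegenerate (QuadModels.pnd_res Q hY)
    let K' : Submodule F Y := K.comap Y.subtype
    let R' : Submodule F Y := R.comap Y.subtype
    have hK' : finrank F K' = finrank F K :=
      (Submodule.comapSubtypeEquivOfLe (hK ▸ inf_le_left)).finrank_eq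
    have hR' : finrank F R' = finrank F R := (Submodule.comapSubtypeEquivOfLe hRY).finrank_eq
    have hpc : ∀ x y : Y, polarBilin (Q.comp Y.subtype) x y = polar Q (x : V) (y : V) := fun x y => by
      rw [polarBilin_apply_apply, OType.polar_comp]; rfl
    have hle : R' ≤ LinearMap.BilinForm.orthogonal (polarBilin (Q.comp Y.subtype)) K' := fun x hx w hw => by
      show polarBilin (Q.comp Y.subtype) w x = 0
      rw [hpc, polar_comm]
      exact hRperp _ hx _ hw
    have heq := Submodule.eq_of_le_of_finrank_eq hle (by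
      rw [LinearMap.BilinForm.finrank_orthogonal hnd, hK', hR']
      omega)
    intro x hx h
    have : (⟨x, hx⟩ : Y) ∈ R' := by
      rw [heq]
      intro w hw
      show polarBilin (Q.comp Y.subtype) w ⟨x, hx⟩ = 0
      rw [hpc, polar_comm]
      exact h _ hw
    exact this
  obtain ⟨v, hvK, hQv⟩ : ∃ v ∈ K, Q v ≠ 0 := by
    by_contra hno
    push Not at hno
    have hle : K ≤ R := fun x hx => hperpR x (hK ▸ hx : x ∈ Y ⊓ LinearMap.ker (f - 1)).1 fun w hw => by
      rw [polar, hno _ (K.add_mem hx hw), hno x hx, hno w hw]; ring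
    have h1 := Submodule.finrank_mono hle
    have h3 := Submodule.finrank_mono hRK
    obtain ⟨r, hr⟩ := hodd
    omega
  have hvK' : v ∈ Y ∧ (f - 1) v = 0 := by rw [hK] at hvK; exact hvK
  obtain ⟨c, a, hc⟩ := hker v hvK'.2
  have hvc := (ker_values hfp hf h2 hu (c := c) (c' := c) (a := a) (a' := a) (hc ▸ hvK'.2) (hc ▸ hvK'.2)).2
  rw [← hc] at hvc
  have hc0 : c ≠ 0 := fun h => hQv (by rw [hvc, h]; ring)
  have hle : K ⊓ LinearMap.ker (polarBilin Q v) ≤ R := by
    intro x hx
    obtain ⟨hxK, hxv⟩ := hx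
    have hxv' : polar Q v x = 0 := hxv
    have hxK' : x ∈ Y ∧ (f - 1) x = 0 := by rw [hK] at hxK; exact hxK
    obtain ⟨c', a', hc'⟩ := hker x hxK'.2
    have hp := (ker_values hfp hf h2 hu (c := c) (c' := c') (a := a) (a' := a') (hc ▸ hvK'.2) (hc' ▸ hxK'.2)).1
    rw [← hc, ← hc', hxv'] at hp
    have hQu : Q u ≠ 0 := fun h => hQv (by rw [hvc, h, mul_zero])
    have hc'0 : c' = 0 := by
      rcases mul_eq_zero.mp hp.symm with h | h
      · rcases mul_eq_zero.mp h with h | h
        · exact absurd h (mul_ne_zero h2 hc0)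
        · exact h
      · exact absurd h hQu
    refine hperpR x hxK'.1 fun w hw => ?_
    have hw' : w ∈ Y ∧ (f - 1) w = 0 := by rw [hK] at hw; exact hw
    rw [hc', hc'0, zero_smul, zero_add]
    exact key w hw'.2 a'
  have h1 := Submodule.finrank_mono hle
  have h3 := Submodule.finrank_mono hRK
  have h4 := Submodule.finrank_sup_add_finrank_inf_eq K (LinearMap.ker (polarBilin Q v))
  have h5 := Submodule.finrank_le (K ⊔ LinearMap.ker (polarBilin Q v))
  have h6 := (polarBilin Q v).finrank_range_add_finrank_ker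
  have h7 : finrank F (LinearMap.range (polarBilin Q v)) ≤ 1 := (Submodule.finrank_le _).trans (finrank_self F).le
  obtain ⟨r, hr⟩ := hodd
  refine ⟨v, c, hvK'.1, hc0, hQv, hvc, R, hRY, fun x hx => ⟨?_, ?_⟩, by omega⟩
  · rw [polar_comm]; exact hRperp x hx v hvK
  · have h := hRperp x hx x (hRK hx)
    rw [QuadBasis.p_self] at h
    exact (mul_eq_zero.mp h).resolve_left h2

/-- Such subspaces of one dimension lie in one class. -/
theorem odd_sameClass {f : Module.End F V} (hfp : f ^ p = 1) (hf : ∀ v, Q (f v) = Q v) (h2 : (2 : F) ≠ 0) {u : V}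
    (hu : (f - 1) u = 0) (hker : ∀ w, (f - 1) w = 0 → ∃ (c : F) (a : V), w = c • u + (f - 1) a)
    {Y Y' : Submodule F V} (hY : QuadBasis.Nondeg Q Y) (hinv : ∀ y ∈ Y, f y ∈ Y)
    (hsq : ∀ y ∈ Y, (f - 1) ((f - 1) y) = 0) (hY' : QuadBasis.Nondeg Q Y') (hinv' : ∀ y ∈ Y', f y ∈ Y')
    (hsq' : ∀ y ∈ Y', (f - 1) ((f - 1) y) = 0) (hodd : Odd (finrank F Y)) (hd : finrank F Y = finrank F Y') :
    OType.SameClass Q Y Y' := by
  classical
  obtain ⟨v, c, hv, hc, hQv, hvc, U, hUY, hU, hUd⟩ := odd_shape hfp hf h2 hu hker hY hinv hodd hsq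
  obtain ⟨v', c', hv', hc', hQv', hvc', U', hUY', hU', hUd'⟩ :=
    odd_shape hfp hf h2 hu hker hY' hinv' (hd ▸ hodd) hsq'
  obtain ⟨hP, hPd⟩ := QuadBasis.split_line Q h2 hY hv hQv
  obtain ⟨hP', hPd'⟩ := QuadBasis.split_line Q h2 hY' hv' hQv'
  obtain ⟨P, hPdef⟩ : ∃ P, P = Y ⊓ LinearMap.ker (polarBilin Q v) := ⟨_, rfl⟩
  obtain ⟨P', hPdef'⟩ : ∃ P', P' = Y' ⊓ LinearMap.ker (polarBilin Q v') := ⟨_, rfl⟩
  rw [← hPdef] at hP hPd
  rw [← hPdef'] at hP' hPd'
  have plus : OType.IsPlus Q P := ⟨U, fun x hx => hPdef ▸ ⟨hUY hx, (hU x hx).1⟩, fun x hx => (hU x hx).2, by omega⟩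
  have plus' : OType.IsPlus Q P' :=
    ⟨U', fun x hx => hPdef' ▸ ⟨hUY' hx, (hU' x hx).1⟩, fun x hx => (hU' x hx).2, by omega⟩
  obtain ⟨ψ, hψ⟩ : ∃ ψ : P →ₗ[F] P', ∀ w, Q (ψ w : V) = Q (w : V) := by
    rcases Nat.eq_zero_or_pos (finrank F U) with h0 | h0
    · refine ⟨0, fun w => ?_⟩
      have hb : P = ⊥ := Submodule.finrank_eq_zero.mp (by omega)
      rw [LinearMap.zero_apply, ZeroMemClass.coe_zero, (Submodule.mem_bot F).mp (hb ▸ w.2 : (w : V) ∈ (⊥ : Submodule F V))]
    · obtain ⟨φ, hφ⟩ := OType.exists_isometry hP hP' (e := finrank F U) h0 (by omega) (by omega)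
        (iff_of_true plus plus')
      exact ⟨φ.toLinearMap, hφ⟩
  obtain ⟨co, hco⟩ : ∃ co : Y →ₗ[F] F, ∀ y, co y = (2 * Q v)⁻¹ * polar Q v (y : V) :=
    ⟨(2 * Q v)⁻¹ • (polarBilin Q v ∘ₗ Y.subtype), fun y => rfl⟩
  have h2v : 2 * Q v ≠ 0 := mul_ne_zero h2 hQv
  obtain ⟨pr, hpr⟩ : ∃ pr : Y →ₗ[F] P, ∀ y, (pr y : V) = (y : V) - co y • v := by
    refine ⟨(Y.subtype - co.smulRight v).codRestrict P fun y => ?_, fun y => rfl⟩
    rw [hPdef]
    refine ⟨Y.sub_mem y.2 (Y.smul_mem _ hv), ?_⟩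
    show polar Q v ((y : V) - co y • v) = 0
    rw [polar_sub_right, QuadBasis.p_smul_right, QuadBasis.p_self, hco]
    field_simp
    ring
  have hperpP : ∀ w : P, polar Q v (w : V) = 0 := fun w => (hPdef ▸ w.2 : (w : V) ∈ Y ⊓ LinearMap.ker (polarBilin Q v)).2
  have hperpP' : ∀ w : P', polar Q v' (w : V) = 0 := fun w =>
    (hPdef' ▸ w.2 : (w : V) ∈ Y' ⊓ LinearMap.ker (polarBilin Q v')).2
  obtain ⟨L, hL⟩ : ∃ L : Y →ₗ[F] Y', ∀ y, (L y : V) = (ψ (pr y) : V) + (co y * (c / c')) • v' := by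
    refine ⟨((P'.subtype ∘ₗ ψ ∘ₗ pr) + ((c / c') • co).smulRight v').codRestrict Y' fun y => ?_, fun y => ?_⟩
    · exact Y'.add_mem ((hPdef'.le (ψ (pr y)).2).1) (Y'.smul_mem _ hv')
    · show (ψ (pr y) : V) + (((c / c') * co y) • v') = _
      rw [mul_comm]
  refine sameClass_of_map hY L (fun y => ?_) hd
  rw [hL, QuadBasis.q_add, QuadBasis.p_smul_right, polar_comm, hperpP', hψ, hpr, ORefl.map_sub_two,
    QuadBasis.q_smul, QuadBasis.q_smul, QuadBasis.p_smul_right, polar_comm _ (y : V), hvc', hvc]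
  have h : co y * (2 * Q v) = polar Q v (y : V) := by
    rw [hco]
    field_simp
  have e : co y * (c / c') * (co y * (c / c')) * (c' * c' * Q u) = co y * co y * (c * c * Q u) := by
    field_simp
  rw [hvc] at h
  linear_combination e + co y * h

/-- Invariant subspaces of dimension one modulo four are killed by the square. -/
theorem sq_zero (h2 : (2 : F) ≠ 0) (hQ : OCount.PND Q) {f : Module.End F V} (hfp : f ^ p = 1)
    (hf : ∀ v, Q (f v) = Q v) (hnil : IsNilpotent (f - 1)) {ι : Type} [Fintype ι] {k : ι → ℕ}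
    {b : Basis (Σ i, Fin (k i)) F V} (hb : IsChain (f - 1) b) {j : ℕ}
    (hk : parts k = 3 ::ₘ 1 ::ₘ Multiset.replicate j 2) {Y : Submodule F V} (hY : QuadBasis.Nondeg Q Y)
    (hinv : ∀ y ∈ Y, f y ∈ Y) (hd : finrank F Y % 4 = 1) : ∀ y ∈ Y, (f - 1) ((f - 1) y) = 0 := by
  classical
  obtain ⟨hC, -, -⟩ := perp_facts hQ hY
  have hYN : Y.map (f - 1) ≤ Y := by
    rintro _ ⟨w, hw, rfl⟩
    rw [LinearMap.sub_apply, Module.End.one_apply]
    exact Y.sub_mem (hinv w hw) hw
  have hKN : (perp Q Y).map (f - 1) ≤ perp Q Y := by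
    rintro _ ⟨w, hw, rfl⟩
    rw [LinearMap.sub_apply, Module.End.one_apply]
    exact (perp Q Y).sub_mem (perp_inv hfp hf hinv w hw) hw
  obtain ⟨t, kW, bW, ν', hbW, hsum⟩ := parts_add_chain hC hYN hKN hnil hb
  obtain ⟨fW, hfW⟩ : ∃ fW, fW = f.restrict hinv := ⟨_, rfl⟩
  have hbW' : IsChain (fW - 1) bW := by
    have e : (fW - 1 : Module.End F Y) = (f - 1).restrict (fun x hx => hYN ⟨x, hx, rfl⟩) :=
      LinearMap.ext fun x => Subtype.ext (by rw [hfW]; rfl)
    rw [e]; exact hbW
  have hev : ∀ e, Even e → Even ((parts kW).count e) := fun e he =>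
    even_count_of_isometry h2 (QuadModels.nondegenerate (QuadModels.pnd_res Q hY))
      (fun w => by rw [hfW, QuadraticMap.comp_apply, QuadraticMap.comp_apply]; exact hf _) hbW' e he
  have hs : (parts kW).sum = finrank F Y := by rw [sum_parts, hbW.sum_eq]
  have hle : parts kW ≤ 3 ::ₘ 1 ::ₘ Multiset.replicate j 2 := hk ▸ hsum ▸ Multiset.le_add_right _ _
  have hev2 := hev 2 (by decide)
  have hsmall : ∀ i, kW i ≤ 2 := by
    rcases le_cons_cases hle with h | ⟨ν₁, hν, hν₁⟩
    · intro i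
      rcases Nat.eq_zero_or_pos (kW i) with h0 | h0
      · omega
      · have hmem : kW i ∈ parts kW := by
          rw [parts, Multiset.mem_filter]
          exact ⟨Multiset.mem_map.mpr ⟨i, Finset.mem_univ i, rfl⟩, h0.ne'⟩
        have := Multiset.subset_of_le h hmem
        simp only [Multiset.mem_cons, Multiset.mem_replicate] at this
        omega
    · exfalso
      rw [hν, Multiset.sum_cons] at hs
      rw [hν, Multiset.count_cons_of_ne (by decide)] at hev2
      rcases le_cons_cases hν₁ with h | ⟨ν₂, rfl, h⟩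
      · have := sum_mod_four_of_twos h hev2
        omega
      · rw [Multiset.count_cons_of_ne (by decide)] at hev2
        have := sum_mod_four_of_twos h hev2
        rw [Multiset.sum_cons] at hs
        omega
  intro y hy
  have h := (hbW.pow_eq_zero_iff 2).mpr hsmall
  have := congrArg Subtype.val (LinearMap.congr_fun h ⟨y, hy⟩)
  rw [pow_two] at this
  exact this

section Standard

variable {ι : Type} [Fintype ι] [DecidableEq ι] [CharP F p]

/-- Some element of order the characteristic fixes no member. -/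
theorem derangement_unipotent (h2 : (2 : F) ≠ 0) {Q : QuadraticForm F (ι → F)} (hQ : OCount.PND Q) {d m : ℕ}
    (hn : Fintype.card ι = 2 * d) (hd : 3 ≤ d) (hm : Odd m) (hmn : m < Fintype.card ι) {W₀ : Submodule F (ι → F)}
    (hW₀ : QuadBasis.Nondeg Q W₀) (hW₀d : finrank F W₀ = m) :
    ∃ x : GL ι F, x ∈ Cfsg.Geo.omegaGL ⇑Q ∧ x ^ p = 1 ∧
      (∀ z : F, (x : Matrix ι ι F) ≠ z • (1 : Matrix ι ι F)) ∧
      ∀ W : Submodule F (ι → F), finrank F W = m → QuadBasis.Nondeg Q W → OType.SameClass Q W W₀ →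
        ¬ W.map (Matrix.toLin' (x : Matrix ι ι F)) ≤ W := by
  classical
  have hp : p.Prime := Fact.out
  have hp2 : p ≠ 2 := fun h => h2 (by subst h; exact CharP.cast_eq_zero F 2)
  have hp3 : 3 ≤ p := by have := hp.two_le; omega
  obtain ⟨r, hr⟩ := hm
  rcases Nat.even_or_odd d with ⟨j, hj⟩ | ⟨j, hj⟩
  swap
  · by_contra hno
    push Not at hno
    have H : ∀ x : GL ι F, x ∈ Cfsg.Geo.omegaGL ⇑Q → x ^ p = 1 →
        (∀ z : F, (x : Matrix ι ι F) ≠ z • (1 : Matrix ι ι F)) →
        ∃ W : Submodule F (ι → F), (finrank F W = m ∧ Cfsg.Geo.IsNondegenerateOn (polar ⇑Q) W ∧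
          OType.SameClass Q W W₀) ∧ W.map (Matrix.toLin' (x : Matrix ι ι F)) ≤ W := fun x hx hxp hxs => by
      obtain ⟨W, h1, h3, h4, h5⟩ := hno x hx hxp hxs
      refine ⟨W, ⟨h1, fun w hw hne => ?_, h4⟩, h5⟩
      obtain ⟨y, hy, hyw⟩ : ∃ y ∈ W, polar Q w y ≠ 0 := by
        by_contra h0
        push Not at h0
        exact hne (h3 w hw h0)
      exact ⟨⟨y, hy, fun e => hyw (by rw [polar_comm]; exact e)⟩, y, hy, hyw⟩
    rcases Nat.even_or_odd r with ⟨s, hs⟩ | ⟨s, hs⟩
    · obtain ⟨ν, hν, hνs, hνe, -⟩ := subpartition_of_fixed (p := p) h2 hQ _ H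
        (3 ::ₘ 3 ::ₘ Multiset.replicate (2 * (j - 1)) 2)
        (fun a ha => by simp only [Multiset.mem_cons, Multiset.mem_replicate] at ha; omega)
        (fun a ha => by
          have hne : a ≠ 3 := fun h => by subst h; exact absurd ha (by decide)
          rw [Multiset.count_cons_of_ne hne, Multiset.count_cons_of_ne hne, Multiset.count_replicate]
          split_ifs
          · exact even_two_mul _
          · exact ⟨0, rfl⟩)
        (by simp only [Multiset.sum_cons, Multiset.sum_replicate, smul_eq_mul]; omega)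
        ⟨3, Multiset.mem_cons_self _ _, by decide⟩ ⟨3, Multiset.mem_cons_self _ _, by omega⟩
      have hc := hνe 2 (by decide)
      rcases le_cons_cases hν with h | ⟨ν₁, rfl, hν₁⟩
      · rcases le_cons_cases h with h' | ⟨ν₂, rfl, h'⟩
        · have := sum_mod_four_of_twos h' hc
          omega
        · rw [Multiset.count_cons_of_ne (by decide)] at hc
          have := sum_mod_four_of_twos h' hc
          rw [Multiset.sum_cons] at hνs
          omega
      · rw [Multiset.count_cons_of_ne (by decide)] at hc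
        rcases le_cons_cases hν₁ with h | ⟨ν₂, rfl, h⟩
        · have := sum_mod_four_of_twos h hc
          rw [Multiset.sum_cons] at hνs
          omega
        · rw [Multiset.count_cons_of_ne (by decide)] at hc
          have := sum_mod_four_of_twos h hc
          rw [Multiset.sum_cons, Multiset.sum_cons] at hνs
          omega
    · obtain ⟨ν, hν, hνs, hνe, -⟩ := subpartition_of_fixed (p := p) h2 hQ _ H
        (1 ::ₘ 1 ::ₘ Multiset.replicate (2 * j) 2)
        (fun a ha => by simp only [Multiset.mem_cons, Multiset.mem_replicate] at ha; omega)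
        (fun a ha => by
          have hne : a ≠ 1 := fun h => by subst h; exact absurd ha (by decide)
          rw [Multiset.count_cons_of_ne hne, Multiset.count_cons_of_ne hne, Multiset.count_replicate]
          split_ifs
          · exact even_two_mul _
          · exact ⟨0, rfl⟩)
        (by simp only [Multiset.sum_cons, Multiset.sum_replicate, smul_eq_mul]; omega)
        ⟨1, Multiset.mem_cons_self _ _, by decide⟩
        ⟨2, Multiset.mem_cons_of_mem (Multiset.mem_cons_of_mem (Multiset.mem_replicate.mpr ⟨by omega, rfl⟩)), le_rfl⟩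
      have hc := hνe 2 (by decide)
      rcases le_cons_cases hν with h | ⟨ν₁, rfl, hν₁⟩
      · rcases le_cons_cases h with h' | ⟨ν₂, rfl, h'⟩
        · have := sum_mod_four_of_twos h' hc
          omega
        · rw [Multiset.count_cons_of_ne (by decide)] at hc
          have := sum_mod_four_of_twos h' hc
          rw [Multiset.sum_cons] at hνs
          omega
      · rw [Multiset.count_cons_of_ne (by decide)] at hc
        rcases le_cons_cases hν₁ with h | ⟨ν₂, rfl, h⟩
        · have := sum_mod_four_of_twos h hc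
          rw [Multiset.sum_cons] at hνs
          omega
        · rw [Multiset.count_cons_of_ne (by decide)] at hc
          have := sum_mod_four_of_twos h hc
          rw [Multiset.sum_cons, Multiset.sum_cons] at hνs
          omega
  -- dimension divisible by four
  obtain ⟨x, hx, hxp, hxs, hiso, t, k, b, hb, hk⟩ := exists_omega_unipotent (p := p) h2 hQ
    (3 ::ₘ 1 ::ₘ Multiset.replicate (2 * (j - 1)) 2)
    (fun a ha => by simp only [Multiset.mem_cons, Multiset.mem_replicate] at ha; omega)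
    (fun a ha => by
      have hne : a ≠ 3 ∧ a ≠ 1 := ⟨fun h => by subst h; exact absurd ha (by decide),
        fun h => by subst h; exact absurd ha (by decide)⟩
      rw [Multiset.count_cons_of_ne hne.1, Multiset.count_cons_of_ne hne.2, Multiset.count_replicate]
      split_ifs
      · exact even_two_mul _
      · exact ⟨0, rfl⟩)
    (by simp only [Multiset.sum_cons, Multiset.sum_replicate, smul_eq_mul]; omega)
    ⟨3, Multiset.mem_cons_self _ _, by decide⟩ ⟨3, Multiset.mem_cons_self _ _, by omega⟩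
  obtain ⟨f, hfdef⟩ : ∃ f, f = Matrix.toLin' (x : Matrix ι ι F) := ⟨_, rfl⟩
  rw [← hfdef] at hiso hb
  have hfp : f ^ p = 1 := by
    rw [hfdef, ← Matrix.toLin'_pow, ← Units.val_pow_eq_pow_val, hxp, Units.val_one, Matrix.toLin'_one]
    rfl
  have hnil : IsNilpotent (f - 1) := ⟨p, (hb.pow_eq_zero_iff p).mpr fun i => by
    rcases eq_or_ne (k i) 0 with h0 | h0
    · omega
    · have : k i ∈ parts k := by
        rw [parts, Multiset.mem_filter]
        exact ⟨Multiset.mem_map.mpr ⟨i, Finset.mem_univ i, rfl⟩, h0⟩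
      rw [hk] at this
      simp only [Multiset.mem_cons, Multiset.mem_replicate] at this
      omega⟩
  obtain ⟨u, hu, hker⟩ := ker_rank hb (by
    rw [hk, Multiset.count_cons_of_ne (by decide), Multiset.count_cons_self, Multiset.count_replicate,
      if_neg (by decide)])
  have hV : finrank F (ι → F) = Fintype.card ι := finrank_fintype_fun_eq_card F
  have main : ∀ W W' : Submodule F (ι → F), finrank F W = m → finrank F W' = m → QuadBasis.Nondeg Q W →
      QuadBasis.Nondeg Q W' → (∀ w ∈ W, f w ∈ W) → (∀ w ∈ W', f w ∈ W') → OType.SameClass Q W W' := by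
    intro W W' hWd hWd' hW hW' hi hi'
    rcases Nat.even_or_odd r with ⟨s, hs⟩ | ⟨s, hs⟩
    · have hm4 : finrank F W % 4 = 1 := by omega
      exact odd_sameClass hfp hiso h2 hu hker hW hi (sq_zero h2 hQ hfp hiso hnil hb hk hW hi hm4) hW' hi'
        (sq_zero h2 hQ hfp hiso hnil hb hk hW' hi' (by omega)) (Nat.odd_iff.mpr (by omega)) (by omega)
    · obtain ⟨-, hn1, hd1⟩ := perp_facts hQ hW
      obtain ⟨-, hn1', hd1'⟩ := perp_facts hQ hW'
      have hj4 : finrank F (perp Q W) % 4 = 1 := by omega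
      have hi1 := perp_inv (p := p) hfp hiso hi
      have hi1' := perp_inv (p := p) hfp hiso hi'
      have h := sameClass_perp hQ hn1 hn1' (odd_sameClass hfp hiso h2 hu hker hn1 hi1
        (sq_zero h2 hQ hfp hiso hnil hb hk hn1 hi1 hj4) hn1' hi1'
        (sq_zero h2 hQ hfp hiso hnil hb hk hn1' hi1' (by omega)) (Nat.odd_iff.mpr (by omega)) (by omega))
      rwa [perp_perp hQ hW, perp_perp hQ hW'] at h
  by_cases hfix : ∃ W₁ : Submodule F (ι → F), finrank F W₁ = m ∧ QuadBasis.Nondeg Q W₁ ∧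
      OType.SameClass Q W₁ W₀ ∧ W₁.map f ≤ W₁
  swap
  · exact ⟨x, hx, hxp, hxs, fun W h1 h3 h4 h5 => hfix ⟨W, h1, h3, h4, hfdef ▸ h5⟩⟩
  obtain ⟨W₁, hW₁d, hW₁, hW₁c, hW₁f⟩ := hfix
  obtain ⟨lam, hlam⟩ : ∃ lam : F, ¬ IsSquare lam := FiniteField.exists_nonsquare fun h => h2 (by
    have : CharP F 2 := ringChar.of_eq h
    exact CharP.cast_eq_zero F 2)
  have hl0 : lam ≠ 0 := fun h => hlam (h ▸ IsSquare.zero)
  obtain ⟨φ, hφ⟩ := OType.exists_similarity h2 hQ (by rw [hV, hn]; exact even_two_mul d) hl0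
  obtain ⟨f', hf'⟩ : ∃ f' : Module.End F (ι → F), ∀ v, f' (φ v) = φ (f v) :=
    ⟨φ.toLinearMap ∘ₗ f ∘ₗ φ.symm.toLinearMap, fun v => by simp⟩
  have hpow : ∀ (i : ℕ) v, (f' ^ i) (φ v) = φ ((f ^ i) v) := by
    intro i
    induction i with
    | zero => intro v; rfl
    | succ i ih => intro v; rw [pow_succ, Module.End.mul_apply, hf', ih, pow_succ, Module.End.mul_apply]
  have hfp' : f' ^ p = 1 := LinearMap.ext fun v => by
    obtain ⟨w, rfl⟩ := φ.surjective v
    rw [hpow, hfp]; rfl
  have hiso' : ∀ v, Q (f' v) = Q v := fun v => by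
    obtain ⟨w, rfl⟩ := φ.surjective v
    rw [hf', hφ, hφ, hiso]
  obtain ⟨x', hx', hxp', hxf⟩ := OFree.exists_omega_of_end h2 hQ (by omega) hp hp2 hfp' hiso'
  refine ⟨x', hx', hxp', fun z hz => hxs z (Matrix.toLin'.injective ?_), fun W hWd hW hWc hWf => ?_⟩
  · refine LinearMap.ext fun v => φ.injective ?_
    rw [← hfdef, ← hf', ← hxf, hz]
    simp
  · obtain ⟨W₂, hW₂⟩ : ∃ W₂, W₂ = W.comap φ.toLinearMap := ⟨_, rfl⟩
    have hmem : ∀ {v}, v ∈ W₂ ↔ φ v ∈ W := fun {v} => by rw [hW₂]; rfl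
    have hW₂d : finrank F W₂ = m := by
      rw [hW₂, Submodule.comap_equiv_eq_map_symm, LinearEquiv.finrank_map_eq, hWd]
    have hpol : ∀ a b, polar Q (φ a) (φ b) = lam * polar Q a b := fun a b => by
      simp only [polar, ← map_add, hφ]; ring
    have hW₂n : QuadBasis.Nondeg Q W₂ := fun v hv h => φ.injective (by
      rw [map_zero]
      refine hW _ (hmem.mp hv) fun y hy => ?_
      obtain ⟨w, rfl⟩ := φ.surjective y
      rw [hpol, h w (hmem.mpr hy), mul_zero])
    have hW₂i : ∀ v ∈ W₂, f v ∈ W₂ := fun v hv => hmem.mpr (by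
      rw [← hf', ← hxf]
      exact hWf ⟨_, hmem.mp hv, rfl⟩)
    have hc := main W₂ W₁ hW₂d hW₁d hW₂n hW₁ hW₂i fun w hw => hW₁f ⟨w, hw, rfl⟩
    refine OType.not_similar hW₂n (by rw [hW₂d, hr]; exact odd_two_mul_add_one r)
      (hWc.trans (hc.trans hW₁c).symm) hlam
      (φ.toLinearMap.restrict fun v hv => hmem.mp hv) fun w => hφ _

end Standard

end Cfsg.Agent.Classical.Elusive.OUni
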