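import Cfsg.Agent.Lib.Classical.Elusive.OrthFreeCases

/-!
# Which prime orders always fix a nondegenerate subspace of given dimension and type
-/

set_option autoImplicit false

universe u

namespace Cfsg.Agent.Classical.Elusive.OFree

open Module QuadraticMap
open Cfsg.Agent.Small

variable {F : Type u} [Field F] [Fintype F] {ι : Type} [Fintype ι] [DecidableEq ι] {Q : QuadraticForm F (ι → F)}
  {r : ℕ}

theorem nondegOn_iff {W : Submodule F (ι → F)} :
    Cfsg.Geo.IsNondegenerateOn (polar ⇑Q) W ↔ QuadBasis.Nondeg Q W := by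
  constructor
  · intro h w hw h0
    by_contra hne
    obtain ⟨y, hy, hyw⟩ := (h w hw hne).2
    exact hyw (h0 y hy)
  · intro h w hw hne
    obtain ⟨y, hy, hyw⟩ : ∃ y ∈ W, polar Q w y ≠ 0 := by
      by_contra h0
      push Not at h0
      exact hne (h w hw h0)
    exact ⟨⟨y, hy, fun e => hyw (by rw [polar_comm]; exact e)⟩, y, hy, hyw⟩

theorem omega_iso {x : GL ι F} (hx : x ∈ Cfsg.Geo.omegaGL ⇑Q) :
    ∀ v, Q (Matrix.toLin' (x : Matrix ι ι F) v) = Q v := by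
  obtain ⟨y, -, rfl⟩ := hx
  exact fun v => y.2 v v

/-- The elements of order two always fix one. -/
theorem two_fixed (h2 : (2 : F) ≠ 0) (hQ : OCount.PND Q) (hodd : Odd (Fintype.card ι)) {m : ℕ} (hm : 2 ≤ m)
    (hme : Even m) (hmn : m < Fintype.card ι) (P : Prop) (x : GL ι F) (hx : x ∈ Cfsg.Geo.omegaGL ⇑Q)
    (ho : orderOf x = 2) :
    ∃ W : Submodule F (ι → F), (finrank F W = m ∧ Cfsg.Geo.IsNondegenerateOn (polar ⇑Q) W ∧
      (Cfsg.Geo.IsPlusTypeOn ⇑Q W ↔ P)) ∧ W.map (Matrix.toLin' (x : Matrix ι ι F)) ≤ W := by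
  have hxx : x * x = 1 := by rw [← pow_two, ← ho, pow_orderOf_eq_one]
  have hgg : ∀ v, Matrix.toLin' (x : Matrix ι ι F) (Matrix.toLin' (x : Matrix ι ι F) v) = v := fun v => by
    rw [← Matrix.toLin'_mul_apply, ← Units.val_mul, hxx, Units.val_one, Matrix.toLin'_one]
    rfl
  obtain ⟨W, hd, hn, hP, hinv⟩ := exists_fixed_invol h2 hQ hgg (omega_iso hx)
    (by rwa [finrank_fintype_fun_eq_card]) hm hme (by rwa [finrank_fintype_fun_eq_card]) P
  refine ⟨W, ⟨hd, nondegOn_iff.mpr hn, hP⟩, ?_⟩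
  rintro _ ⟨v, hv, rfl⟩
  exact hinv v hv

theorem free_iff (h2 : (2 : F) ≠ 0) (hr : r.Prime) (hr2 : r ≠ 2) (hr0 : (r : F) ≠ 0) (hQ : OCount.PND Q)
    (hodd : Odd (Fintype.card ι)) {m : ℕ} (hm : 2 ≤ m) (hme : Even m) (hmn : m < Fintype.card ι) (P : Prop)
    (hdvd : r ∣ Nat.card {W : Submodule F (ι → F) // finrank F W = m ∧ Cfsg.Geo.IsNondegenerateOn (polar ⇑Q) W ∧
      (Cfsg.Geo.IsPlusTypeOn ⇑Q W ↔ P)}) :
    (∀ x : GL ι F, x ∈ Cfsg.Geo.omegaGL ⇑Q → orderOf x = r →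
      ∃ W : Submodule F (ι → F), (finrank F W = m ∧ Cfsg.Geo.IsNondegenerateOn (polar ⇑Q) W ∧
        (Cfsg.Geo.IsPlusTypeOn ⇑Q W ↔ P)) ∧ W.map (Matrix.toLin' (x : Matrix ι ι F)) ≤ W) ↔
      (unit F r ≤ m ∧ m % unit F r < Fintype.card ι % unit F r ∧
        (m % unit F r = 0 → (P ↔ (Odd (orderOf (Fintype.card F : ZMod r)) ∨ Even (m / unit F r))))) := by
  constructor
  · intro H
    have hk : Fintype.card ι % unit F r ≤ m := by
      have e : {W : Submodule F (ι → F) // finrank F W = m ∧ QuadBasis.Nondeg Q W ∧ (OType.IsPlus Q W ↔ P)} ≃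
          {W : Submodule F (ι → F) // finrank F W = m ∧ Cfsg.Geo.IsNondegenerateOn (polar ⇑Q) W ∧
            (Cfsg.Geo.IsPlusTypeOn ⇑Q W ↔ P)} :=
        Equiv.subtypeEquivRight fun W => and_congr_right fun _ => and_congr nondegOn_iff.symm Iff.rfl
      have := mod_le_of_dvd_card h2 hQ hr hr2 hr0 hm hme P (by rwa [Nat.card_congr e])
      rwa [finrank_fintype_fun_eq_card] at this
    have hcn : unit F r ≤ Fintype.card ι := by
      by_contra hlt
      rw [Nat.mod_eq_of_lt (not_le.mp hlt)] at hk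
      omega
    by_contra hc
    obtain ⟨x, hx, ho, hnf⟩ := exists_derangement h2 hr hr2 hr0 hQ hodd hm hme hcn P fun h => hc ⟨by
      by_contra hlt
      rw [Nat.mod_eq_of_lt (not_le.mp hlt)] at h
      omega, h⟩
    obtain ⟨W, ⟨hd, hn, hP⟩, hW⟩ := H x hx ho
    exact hnf W hd (nondegOn_iff.mp hn) hP hW
  · rintro ⟨-, h⟩ x hx ho
    have hgr : (Matrix.toLin' (x : Matrix ι ι F)) ^ r = 1 := by
      rw [← Matrix.toLin'_pow, ← Units.val_pow_eq_pow_val, ← ho, pow_orderOf_eq_one, Units.val_one,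
        Matrix.toLin'_one]
      rfl
    obtain ⟨W, hd, hn, hP, hinv⟩ := exists_fixed h2 hQ hr hr2 hr0 hgr (omega_iso hx) hm hme
      (by rwa [finrank_fintype_fun_eq_card]) P (by rwa [finrank_fintype_fun_eq_card])
    refine ⟨W, ⟨hd, nondegOn_iff.mpr hn, hP⟩, ?_⟩
    rintro _ ⟨v, hv, rfl⟩
    exact hinv v hv

theorem unit_eq {q i c : ℕ} (hq : Fintype.card F = q) (hi : i = orderOf (q : ZMod r))
    (hc : c = if Even i then i else 2 * i) : c = unit F r ∧ i = orderOf (Fintype.card F : ZMod r) := by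
  subst hq
  subst hi
  exact ⟨hc, rfl⟩

end Cfsg.Agent.Classical.Elusive.OFree
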