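import Cfsg.Agent.Lib.Classical.Elusive.OrthEvenTwo
import Cfsg.Agent.Lib.Classical.Elusive.OrthEvenUnipotent
import Cfsg.Agent.Lib.Classical.Elusive.OrthFreeIff

/-!
# Which prime orders always fix an odd-dimensional member, even dimension
-/

set_option autoImplicit false
set_option linter.unusedSectionVars false

universe u

namespace Cfsg.Agent.Classical.Elusive.OOdd

open Module QuadraticMap
open Cfsg.Agent.Small

variable {F : Type u} [Field F] [Fintype F] {ι : Type} [Fintype ι] [DecidableEq ι] {Q : QuadraticForm F (ι → F)}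

theorem isSquare_pow_iff {a : F} (ha : a ≠ 0) {d : ℕ} : IsSquare (a ^ d) ↔ (Even d ∨ IsSquare a) := by
  rcases Nat.even_or_odd d with ⟨k, hk⟩ | ⟨k, hk⟩
  · exact iff_of_true ⟨a ^ k, by rw [hk, pow_add]⟩ (Or.inl ⟨k, hk⟩)
  · rw [hk, pow_succ', show a ^ (2 * k) = a ^ k * a ^ k by ring,
      Orth.isSquare_mul_iff (IsSquare.mul_self _) (mul_ne_zero (pow_ne_zero _ ha) (pow_ne_zero _ ha))]
    exact ⟨Or.inr, fun h => h.resolve_left (Nat.not_even_iff_odd.mpr ⟨k, rfl⟩)⟩

/-- Elements of prime order always fixing a member. -/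
theorem odd_iff (h2 : (2 : F) ≠ 0) (hQ : OCount.PND Q) {d m : ℕ} (hn : Fintype.card ι = 2 * d) (hd : 4 ≤ d)
    (hm : Odd m) (hmd : m < d) {W₀ : Submodule F (ι → F)}
    (hW₀ : finrank F W₀ = m ∧ Cfsg.Geo.IsNondegenerateOn (polar ⇑Q) W₀) {r : ℕ} (hr : r.Prime)
    (hdvd : r ∣ Nat.card {W : Submodule F (ι → F) // finrank F W = m ∧ Cfsg.Geo.IsNondegenerateOn (polar ⇑Q) W ∧
      Cfsg.Geo.AreIsometricFor ⇑Q W W₀}) :
    (∀ x : GL ι F, x ∈ Cfsg.Geo.omegaGL ⇑Q →
      (∃ z : F, ((x ^ r : GL ι F) : Matrix ι ι F) = z • (1 : Matrix ι ι F)) →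
      (∀ z : F, (x : Matrix ι ι F) ≠ z • (1 : Matrix ι ι F)) →
      ∃ W : Submodule F (ι → F), (finrank F W = m ∧ Cfsg.Geo.IsNondegenerateOn (polar ⇑Q) W ∧
        Cfsg.Geo.AreIsometricFor ⇑Q W W₀) ∧ W.map (Matrix.toLin' (x : Matrix ι ι F)) ≤ W) ↔
      ((r = 2 ∧ ¬ (IsSquare ((2 : F) ^ d) ∧ (OType.IsPlus Q ⊤ ↔ IsSquare ((-1 : F) ^ d)))) ∨
        (r ≠ 2 ∧ (r : F) ≠ 0 ∧
          ((2 * d % OFree.unit F r = 0 ∧ ¬ (OType.IsPlus Q ⊤ ↔
              (Odd (orderOf (Fintype.card F : ZMod r)) ∨ Even (2 * d / OFree.unit F r)))) ∨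
            (0 < 2 * d % OFree.unit F r ∧ OFree.unit F r ≤ m ∧ 0 < m % OFree.unit F r ∧
              m % OFree.unit F r < 2 * d % OFree.unit F r)))) := by
  classical
  obtain ⟨hW₀d, hW₀'⟩ := hW₀
  have hW₀n : QuadBasis.Nondeg Q W₀ := OFree.nondegOn_iff.mp hW₀'
  have hV : finrank F (ι → F) = 2 * d := by rw [finrank_fintype_fun_eq_card, hn]
  have hmV : m < finrank F (ι → F) := by omega
  have hm1 : 1 ≤ m := hm.pos
  have mat : ∀ (x : GL ι F) (j : ℕ), Matrix.toLin' (((x ^ j : GL ι F)) : Matrix ι ι F) =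
      (Matrix.toLin' (x : Matrix ι ι F)) ^ j := fun x j => by
    rw [Units.val_pow_eq_pow_val, Matrix.toLin'_pow]
  obtain ⟨v₀, hv₀⟩ : ∃ v, Q v ≠ 0 := by
    obtain ⟨v, -, hv⟩ := QuadBasis.exists_ne_zero_value Q hW₀n fun h => by
      rw [h, finrank_bot] at hW₀d; omega
    exact ⟨v, hv⟩
  have iso_pow : ∀ {g : Module.End F (ι → F)}, (∀ v, Q (g v) = Q v) → ∀ (j : ℕ) v, Q ((g ^ j) v) = Q v := by
    intro g hg j
    induction j with
    | zero => exact fun v => rfl
    | succ j ih => intro v; rw [pow_succ', Module.End.mul_apply, hg, ih]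
  have scal : ∀ (x : GL ι F) (z : F), x ∈ Cfsg.Geo.omegaGL ⇑Q →
      ((x ^ r : GL ι F) : Matrix ι ι F) = z • (1 : Matrix ι ι F) →
      z * z = 1 ∧ ∀ v, ((Matrix.toLin' (x : Matrix ι ι F)) ^ r) v = z • v := fun x z hx hz => by
    have h1 : ∀ v, ((Matrix.toLin' (x : Matrix ι ι F)) ^ r) v = z • v := fun v => by
      rw [← mat, hz]; simp
    refine ⟨?_, h1⟩
    have := iso_pow (OFree.omega_iso hx) r v₀
    rw [h1, QuadBasis.q_smul] at this
    exact (mul_eq_right₀ hv₀).mp this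
  rcases eq_or_ne r 2 with rfl | hr2
  · -- involutions and square roots of minus one
    have neg : ∀ {x : GL ι F}, x ∈ Cfsg.Geo.omegaGL ⇑Q →
        (∀ v, Matrix.toLin' (x : Matrix ι ι F) (Matrix.toLin' (x : Matrix ι ι F) v) = -v) →
        IsSquare ((2 : F) ^ d) ∧ (OType.IsPlus Q ⊤ ↔ IsSquare ((-1 : F) ^ d)) := by
      intro x hx hgg
      obtain ⟨y, hy, rfl⟩ := hx
      rw [SetLike.mem_coe, OOmega.omega_eq_map] at hy
      obtain ⟨G, hG, rfl⟩ := hy
      have hGG : ∀ v, G.1 (G.1 v) = -v := fun v => by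
        have h := hgg v
        simp only [Matrix.toLin'_apply] at h
        rw [← ORefl.toMat_apply G v, ← ORefl.toMat_apply G]
        exact h
      obtain ⟨⟨z, hz, hzsq⟩, hiff⟩ := OTwo.rot_facts h2 hQ hV G hGG
      refine ⟨hiff.mp hG, ?_⟩
      rw [OTwo.plus_iff_disc h2 hQ (by omega) hV z hz, Orth.isSquare_mul_iff hzsq hz]
    have e : ∀ P : Prop, ((2 = 2 ∧ P) ∨ ((2 : ℕ) ≠ 2 ∧ ((2 : ℕ) : F) ≠ 0 ∧
        ((2 * d % OFree.unit F 2 = 0 ∧ ¬ (OType.IsPlus Q ⊤ ↔
            (Odd (orderOf (Fintype.card F : ZMod 2)) ∨ Even (2 * d / OFree.unit F 2)))) ∨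
          (0 < 2 * d % OFree.unit F 2 ∧ OFree.unit F 2 ≤ m ∧ 0 < m % OFree.unit F 2 ∧
            m % OFree.unit F 2 < 2 * d % OFree.unit F 2)))) ↔ P := fun P =>
      ⟨fun h => h.elim And.right fun h => absurd rfl h.1, fun h => Or.inl ⟨rfl, h⟩⟩
    rw [e]
    constructor
    · rintro H ⟨hsq2, hplus⟩
      obtain ⟨z, -, hz, -⟩ := OType.exists_family (κ := Fin d × Fin 2) (Q := Q) (W := ⊤)
        (OFree.top_nondeg hQ) (by rw [finrank_top, hV]; simp [mul_comm])
      have hzsq : IsSquare (OType.gdet Q z) := by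
        rw [OTwo.plus_iff_disc h2 hQ (by omega) hV z hz,
          OOmega.isSquare_iff_mul h2 (pow_ne_zero _ (neg_ne_zero.mpr one_ne_zero)) hz] at hplus
        tauto
      obtain ⟨G, hG⟩ := OTwo.exists_rot h2 hV z hz hzsq
      have hGc := (OTwo.rot_facts h2 hQ hV G hG).2.mpr hsq2
      obtain ⟨x, hxdef⟩ : ∃ x : GL ι F, x = (ORefl.toMat Q G).1 := ⟨_, rfl⟩
      have hxG : ∀ v, Matrix.toLin' (x : Matrix ι ι F) v = G.1 v := fun v => by
        rw [hxdef, Matrix.toLin'_apply, ORefl.toMat_apply]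
      have hxmem : x ∈ Cfsg.Geo.omegaGL ⇑Q := by
        refine ⟨ORefl.toMat Q G, ?_, hxdef.symm⟩
        rw [SetLike.mem_coe, OOmega.omega_eq_map]
        exact ⟨G, hGc, rfl⟩
      obtain ⟨g, hg⟩ : ∃ g : Module.End F (ι → F), g = Matrix.toLin' (x : Matrix ι ι F) := ⟨_, rfl⟩
      have hgg : ∀ v, g (g v) = -v := fun v => by rw [hg, hxG, hxG, hG]
      have hgi : ∀ v, Q (g v) = Q v := fun v => by rw [hg, hxG]; exact G.2 v
      obtain ⟨W, ⟨hWd, hWn, -⟩, hWx⟩ := H x hxmem ⟨-1, Matrix.toLin'.injective (LinearMap.ext fun v => by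
          rw [mat, pow_two, Module.End.mul_apply, hxG, hxG, hG]; simp)⟩ fun z hz => by
        have hgz : ∀ v, g v = z • v := fun v => by rw [hg, hz]; simp
        have hpol : polar Q (g v₀) (g (g v₀)) = polar Q v₀ (g v₀) := by
          simp only [polar, ← map_add, hgi]
        rw [hgg, polar_neg_right, polar_comm, hgz, QuadBasis.p_smul_right, QuadBasis.p_self] at hpol
        have hzero : z = 0 := by
          have : (2 : F) * (2 * Q v₀) * z = 0 := by linear_combination -hpol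
          exact (mul_eq_zero.mp this).resolve_left (mul_ne_zero h2 (mul_ne_zero h2 hv₀))
        have := hgg v₀
        rw [hgz, hzero, zero_smul] at this
        rw [neg_eq_zero.mp this.symm, QuadraticMap.map_zero] at hv₀
        exact hv₀ rfl
      obtain ⟨k, -, hk, -, -⟩ := OTwo.exists_pairs (Q := Q) h2 hgg hgi (finrank F W) W le_rfl
        (OFree.nondegOn_iff.mp hWn) fun v hv => hg ▸ hWx ⟨v, hv, rfl⟩
      obtain ⟨j, hj⟩ := hm
      omega
    · intro hno x hx ⟨z, hz⟩ _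
      obtain ⟨hzz, hpow⟩ := scal x z hx hz
      simp only [pow_two, Module.End.mul_apply] at hpow
      rcases mul_self_eq_one_iff.mp hzz with rfl | rfl
      · obtain ⟨W, hd', hn', hc, hinv⟩ := OTwo.fixed_invol h2 hQ (fun v => (hpow v).trans (one_smul F v))
          (OFree.omega_iso hx) hW₀n (by omega) (by omega) (by omega)
        refine ⟨W, ⟨hd'.trans hW₀d, OFree.nondegOn_iff.mpr hn', hc⟩, ?_⟩
        rintro _ ⟨v, hv, rfl⟩
        exact hinv v hv
      · exact absurd (neg hx fun v => (hpow v).trans (neg_one_smul F v)) hno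
  by_cases hr0 : (r : F) = 0
  · haveI : Fact r.Prime := ⟨hr⟩
    haveI : CharP F r := ringChar.of_eq (CharP.ringChar_of_prime_eq_zero hr hr0)
    refine iff_of_false (fun H => ?_) fun h => h.elim (fun h => hr2 h.1) fun h => h.2.1 hr0
    obtain ⟨x, hx, hxr, hxs, hnf⟩ := OUni.derangement_unipotent (p := r) h2 hQ hn (by omega) hm (by omega) hW₀n hW₀d
    obtain ⟨W, ⟨hWd, hWn, hWc⟩, hWx⟩ := H x hx ⟨1, by rw [hxr, Units.val_one, one_smul]⟩ hxs
    exact hnf W hWd (OFree.nondegOn_iff.mp hWn) hWc hWx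
  obtain ⟨-, hupos, hue⟩ := OFree.unit_pos (F := F) hr hr0
  have hk : 2 * d % OFree.unit F r ≤ m := by
    have e : {W : Submodule F (ι → F) // finrank F W = finrank F W₀ ∧ QuadBasis.Nondeg Q W ∧
        OType.SameClass Q W W₀} ≃ {W : Submodule F (ι → F) // finrank F W = m ∧
          Cfsg.Geo.IsNondegenerateOn (polar ⇑Q) W ∧ Cfsg.Geo.AreIsometricFor ⇑Q W W₀} :=
      Equiv.subtypeEquivRight fun W => and_congr (by rw [hW₀d]) (and_congr OFree.nondegOn_iff.symm Iff.rfl)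
    have := OFree.mod_le_of_dvd_class h2 hQ hr hr2 hr0 hW₀n (by omega) (by rwa [Nat.card_congr e])
    rwa [hV, hW₀d] at this
  obtain ⟨c, hc⟩ : ∃ c, c = OFree.unit F r := ⟨_, rfl⟩
  rw [← hc] at hk hupos hue ⊢
  have hcn : c ≤ 2 * d := by
    by_contra hlt
    rw [Nat.mod_eq_of_lt (not_le.mp hlt)] at hk
    omega
  have hmodd : 0 < m % c := by
    refine Nat.pos_of_ne_zero fun h0 => ?_
    obtain ⟨t, ht⟩ := Nat.dvd_of_mod_eq_zero h0
    exact Nat.not_even_iff_odd.mpr hm (ht ▸ hue.mul_right t)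
  constructor
  · intro H
    refine Or.inr ⟨hr2, hr0, ?_⟩
    by_contra hno
    obtain ⟨x, hx, hxr, hx1, hnf⟩ := OFree.derangement_odd (r := r) h2 hQ (by omega)
      (by rw [hn]; exact even_two_mul d) hr hr2 hr0 hm (by rw [← hc, hn]; exact hcn) (by
      rw [hn, ← hc]
      rcases Nat.eq_zero_or_pos (2 * d % c) with h0 | h0
      · refine Or.inl ⟨h0, ?_⟩
        by_contra h
        exact hno (Or.inl ⟨h0, h⟩)
      · refine Or.inr ⟨h0, ?_⟩
        by_contra h
        refine hno (Or.inr ⟨h0, ?_, hmodd, not_le.mp h⟩)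
        by_contra hcm
        rw [Nat.mod_eq_of_lt (not_le.mp hcm)] at h
        omega)
    have hxs : ∀ z : F, (x : Matrix ι ι F) ≠ z • (1 : Matrix ι ι F) := fun z hz => by
      obtain ⟨hzz, -⟩ : z * z = 1 ∧ True := by
        refine ⟨?_, trivial⟩
        have := OFree.omega_iso hx v₀
        rw [hz, show Matrix.toLin' (z • (1 : Matrix ι ι F)) v₀ = z • v₀ by simp, QuadBasis.q_smul] at this
        exact (mul_eq_right₀ hv₀).mp this
      have h1 : z ^ r = 1 := by
        have h := congrArg (fun f : Module.End F (ι → F) => f v₀) (show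
          (Matrix.toLin' (x : Matrix ι ι F)) ^ r = 1 by rw [← mat, hxr, Units.val_one, Matrix.toLin'_one]; rfl)
        rw [hz, map_smul, Matrix.toLin'_one] at h
        change ((z • (1 : Module.End F (ι → F))) ^ r) v₀ = v₀ at h
        rw [smul_pow, one_pow] at h
        have hv0 : v₀ ≠ 0 := fun h0 => hv₀ (by rw [h0, QuadraticMap.map_zero])
        exact (smul_left_injective F hv0).eq_iff.mp (by simpa using h)
      obtain ⟨j, hj⟩ := hr.odd_of_ne_two hr2
      have hz1 : z = 1 := by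
        rwa [hj, pow_succ, pow_mul, pow_two, hzz, one_pow, one_mul] at h1
      exact hx1 (Units.ext (by rw [hz, hz1, one_smul]; rfl))
    obtain ⟨W, ⟨hWd, hWn, -⟩, hWx⟩ := H x hx ⟨1, by rw [hxr, Units.val_one, one_smul]⟩ hxs
    exact hnf W hWd (OFree.nondegOn_iff.mp hWn) hWx
  · rintro (h | ⟨-, -, hcond⟩) x hx ⟨z, hz⟩ _
    · exact absurd h.1 hr2
    obtain ⟨hzz, hpow⟩ := scal x z hx hz
    obtain ⟨g, hg⟩ : ∃ g : Module.End F (ι → F), g = z • Matrix.toLin' (x : Matrix ι ι F) := ⟨_, rfl⟩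
    have hgr : g ^ r = 1 := by
      obtain ⟨j, hj⟩ := hr.odd_of_ne_two hr2
      refine LinearMap.ext fun v => ?_
      rw [hg, smul_pow, LinearMap.smul_apply, hpow, smul_smul, ← pow_succ,
        show r + 1 = 2 * (j + 1) by omega, pow_mul, pow_two, hzz, one_pow, one_smul]
      rfl
    have hgi : ∀ v, Q (g v) = Q v := fun v => by
      rw [hg, LinearMap.smul_apply, QuadBasis.q_smul, hzz, one_mul, OFree.omega_iso hx]
    obtain ⟨hdim, ⟨N, hN⟩, -, -⟩ := OFree.parts_facts hQ hr hr2 hr0 hgr hgi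
    rw [← hc] at hN
    rw [hV, hN] at hdim
    have hmod : 2 * d % c = finrank F (Free.fixSpace g) % c := by
      rw [← hdim, add_comm, Nat.mul_add_mod]
    have hfix : m % c < finrank F (Free.fixSpace g) := by
      have := Nat.mod_le (finrank F (Free.fixSpace g)) c
      rcases hcond with ⟨h0, hne⟩ | ⟨-, -, -, h⟩
      · rw [hmod] at h0
        rcases Nat.eq_zero_or_pos (finrank F (Free.fixSpace g)) with hf | hf
        · refine absurd ?_ hne
          have h := (OFree.type_of_no_fix hQ hr hr2 hr0 hgr hgi hf (by omega)).2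
          rwa [hV, ← hc] at h
        · obtain ⟨t, ht⟩ := Nat.dvd_of_mod_eq_zero h0
          have := Nat.mod_lt m hupos
          have : c ≤ c * t := Nat.le_mul_of_pos_right c (Nat.pos_of_ne_zero fun h => by rw [ht, h, mul_zero] at hf; omega)
          omega
      · omega
    obtain ⟨W, hd', hn', hcl, hinv⟩ := OFree.fixed_odd h2 hQ hr hr2 hr0 hgr hgi hW₀n (by rwa [hW₀d])
      (by omega) (by rw [hW₀d, ← hc]; exact hfix)
    refine ⟨W, ⟨hd'.trans hW₀d, OFree.nondegOn_iff.mpr hn', hcl⟩, ?_⟩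
    rintro _ ⟨v, hv, rfl⟩
    have h := W.smul_mem z (hinv v hv)
    rwa [hg, LinearMap.smul_apply, smul_smul, hzz, one_smul] at h

end Cfsg.Agent.Classical.Elusive.OOdd
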