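import Cfsg.Agent.Lib.Classical.Elusive.OrthDisc
import Cfsg.Agent.Lib.Classical.OrthForms
import Cfsg.Agent.Lib.Small.Orth.Words

/-!
# Involutions and square roots of minus one on even-dimensional orthogonal spaces, odd characteristic
-/

set_option autoImplicit false

universe u

namespace Cfsg.Agent.Classical.Elusive.OTwo

open Module QuadraticMap
open Cfsg.Agent.Classical (ORefl.Iso)
open Cfsg.Agent.Classical.Elusive.OType (gdet SameClass)
open Cfsg.Agent.Small

variable {F : Type u} [Field F] [Fintype F] {V : Type u} [AddCommGroup V] [Module F V] [FiniteDimensional F V]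
  {Q : QuadraticForm F V}

/-- An involution fixes members of every odd dimension and class. -/
theorem fixed_invol (h2 : (2 : F) ≠ 0) (hQ : OCount.PND Q) {g : Module.End F V} (hgg : ∀ v, g (g v) = v)
    (hiso : ∀ v, Q (g v) = Q v) {W₀ : Submodule F V} (hW₀ : QuadBasis.Nondeg Q W₀) (hm : 1 ≤ finrank F W₀)
    (hmn : finrank F W₀ < finrank F V) (hn : 3 ≤ finrank F V) :
    ∃ W : Submodule F V, finrank F W = finrank F W₀ ∧ QuadBasis.Nondeg Q W ∧ SameClass Q W W₀ ∧
      ∀ x ∈ W, g x ∈ W := by
  classical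
  let E : F → Submodule F V := fun σ => LinearMap.ker (g - σ • 1)
  have hE : ∀ σ x, x ∈ E σ ↔ g x = σ • x := fun σ x => by
    simp [E, LinearMap.mem_ker, sub_eq_zero]
  have hpol : ∀ u v, polar Q (g u) (g v) = polar Q u v := fun u v => by simp only [polar, ← map_add, hiso]
  have hperp : ∀ x ∈ E 1, ∀ y ∈ E (-1), polar Q x y = 0 := fun x hx y hy => by
    have h := hpol x y
    rw [(hE _ _).mp hx, (hE _ _).mp hy, one_smul, QuadBasis.p_smul_right] at h
    exact (mul_eq_zero.mp (show (2 : F) * polar Q x y = 0 by linear_combination -h)).resolve_left h2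
  have hsplit : ∀ v, ∃ a ∈ E 1, ∃ b ∈ E (-1), v = a + b := fun v => by
    refine ⟨(2 : F)⁻¹ • (v + g v), (hE _ _).mpr ?_, (2 : F)⁻¹ • (v - g v), (hE _ _).mpr ?_, ?_⟩
    · rw [map_smul, map_add, hgg, one_smul, add_comm]
    · rw [map_smul, map_sub, hgg, neg_one_smul, ← smul_neg, neg_sub]
    · rw [← smul_add, add_add_sub_cancel, ← two_smul F v, smul_smul, inv_mul_cancel₀ h2, one_smul]
  have hnd : QuadBasis.Nondeg Q (E 1) ∧ QuadBasis.Nondeg Q (E (-1)) := by
    constructor <;> intro x hx h <;> refine hQ x fun v => ?_ <;>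
      obtain ⟨a, ha, b, hb, rfl⟩ := hsplit v <;> rw [polar_add_right]
    · rw [h a ha, hperp x hx b hb, add_zero]
    · rw [polar_comm _ x a, hperp a ha x hx, h b hb, zero_add]
  have hdim : finrank F (E 1) + finrank F (E (-1)) = finrank F V := by
    refine Submodule.finrank_add_eq_of_isCompl ⟨Submodule.disjoint_def.mpr fun x h1 h1' => ?_,
      codisjoint_iff.mpr (eq_top_iff.mpr fun v _ => ?_)⟩
    · have e1 := ((hE _ _).mp h1).symm.trans ((hE _ _).mp h1')
      rw [one_smul, neg_one_smul] at e1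
      have : (2 : F) • x = 0 := by rw [two_smul]; exact eq_neg_iff_add_eq_zero.mp e1
      exact (smul_eq_zero.mp this).resolve_left h2
    · obtain ⟨a, ha, b, hb, rfl⟩ := hsplit v
      exact Submodule.mem_sup.mpr ⟨a, ha, b, hb, rfl⟩
  obtain ⟨m, hmdef⟩ : ∃ m, m = finrank F W₀ := ⟨_, rfl⟩
  rw [← hmdef] at hm hmn
  have close : ∀ (σ : F) (U A : Submodule F V), A = E σ → QuadBasis.Nondeg Q U → (∀ x ∈ U, g x ∈ U) →
      QuadBasis.Nondeg Q A → (∀ x ∈ U, ∀ y ∈ A, polar Q x y = 0) → finrank F U < m →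
      m < finrank F U + finrank F A → ∃ W : Submodule F V, finrank F W = finrank F W₀ ∧ QuadBasis.Nondeg Q W ∧
        SameClass Q W W₀ ∧ ∀ x ∈ W, g x ∈ W := by
    intro σ U A hA hUn hU hAn hp h1 h3
    obtain ⟨T, hT, hn, hd, hP⟩ := OType.exists_class h2 hUn hAn hp hW₀ (s := m - finrank F U) (by omega) (by omega)
      (by omega)
    refine ⟨U ⊔ T, hd, hn, hP, fun x hx => ?_⟩
    obtain ⟨a, ha, b, hb, rfl⟩ := Submodule.mem_sup.mp hx
    have hbE := hT hb
    rw [hA, hE] at hbE
    rw [map_add, hbE]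
    exact Submodule.add_mem _ (Submodule.mem_sup_left (hU a ha)) (Submodule.mem_sup_right (T.smul_mem σ hb))
  rcases lt_or_ge m (finrank F (E 1)) with h | h
  · exact close 1 ⊥ (E 1) rfl (fun x hx _ => (Submodule.mem_bot F).mp hx)
      (fun x hx => by rw [(Submodule.mem_bot F).mp hx, map_zero]; exact zero_mem _) hnd.1
      (fun x hx y _ => by rw [(Submodule.mem_bot F).mp hx, polar_zero_left]) (by rw [finrank_bot]; omega)
      (by rw [finrank_bot]; omega)
  · rcases eq_or_lt_of_le h with h | h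
    · rcases eq_or_lt_of_le hm with h1 | h1
      · exact close (-1) ⊥ (E (-1)) rfl (fun x hx _ => (Submodule.mem_bot F).mp hx)
          (fun x hx => by rw [(Submodule.mem_bot F).mp hx, map_zero]; exact zero_mem _) hnd.2
          (fun x hx y _ => by rw [(Submodule.mem_bot F).mp hx, polar_zero_left]) (by rw [finrank_bot]; omega)
          (by rw [finrank_bot]; omega)
      · obtain ⟨U, hUE, hUn, hUd⟩ := OType.exists_nondeg_sub h2 hnd.2 (a := 1) (by omega)
        refine close 1 U (E 1) rfl hUn (fun x hx => ?_) hnd.1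
          (fun x hx y hy => by rw [polar_comm]; exact hperp y hy x (hUE hx)) (by omega) (by omega)
        rw [(hE _ _).mp (hUE hx)]; exact U.smul_mem _ hx
    · exact close (-1) (E 1) (E (-1)) rfl hnd.1
        (fun x hx => by rw [(hE _ _).mp hx, one_smul]; exact hx) hnd.2 hperp h (by omega)

/-- Pairs rotated by a square root of minus one. -/
theorem exists_pairs (h2 : (2 : F) ≠ 0) {g : Module.End F V} (hgg : ∀ v, g (g v) = -v)
    (hiso : ∀ v, Q (g v) = Q v) :
    ∀ (N : ℕ) (Y : Submodule F V), finrank F Y ≤ N → QuadBasis.Nondeg Q Y → (∀ y ∈ Y, g y ∈ Y) →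
      ∃ (k : ℕ) (e : Fin k → V), finrank F Y = 2 * k ∧ (∀ j, e j ∈ Y ∧ Q (e j) ≠ 0) ∧
        ∀ i j, i ≠ j → polar Q (e i) (e j) = 0 ∧ polar Q (e i) (g (e j)) = 0 := by
  have hpol : ∀ u v, polar Q (g u) (g v) = polar Q u v := fun u v => by simp only [polar, ← map_add, hiso]
  have hself : ∀ e, polar Q e (g e) = 0 := fun e => by
    have h := hpol e (g e)
    rw [hgg, polar_neg_right, polar_comm] at h
    exact (mul_eq_zero.mp (show (2 : F) * polar Q e (g e) = 0 by linear_combination -h)).resolve_left h2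
  intro N
  induction N with
  | zero =>
    intro Y hN _ _
    exact ⟨0, Fin.elim0, by omega, fun j => j.elim0, fun i => i.elim0⟩
  | succ N ih =>
    intro Y hN hY hinv
    rcases eq_or_ne Y ⊥ with rfl | hne
    · exact ⟨0, Fin.elim0, by simp, fun j => j.elim0, fun i => i.elim0⟩
    obtain ⟨e, he, hQe⟩ := QuadBasis.exists_ne_zero_value Q hY hne
    obtain ⟨hn1, hd1⟩ := QuadBasis.split_line Q h2 hY he hQe
    have hge : g e ∈ Y ⊓ LinearMap.ker (polarBilin Q e) := ⟨hinv e he, by
      rw [SetLike.mem_coe, LinearMap.mem_ker, polarBilin_apply_apply]; exact hself e⟩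
    obtain ⟨hn2, hd2⟩ := QuadBasis.split_line Q h2 hn1 hge (by rw [hiso]; exact hQe)
    obtain ⟨k, es, hk, hes, hperp⟩ := ih
      (Y ⊓ LinearMap.ker (polarBilin Q e) ⊓ LinearMap.ker (polarBilin Q (g e))) (by omega) hn2 (by
        intro y hy
        simp only [Submodule.mem_inf, LinearMap.mem_ker, polarBilin_apply_apply] at hy ⊢
        refine ⟨⟨hinv y hy.1.1, ?_⟩, by rw [hpol]; exact hy.1.2⟩
        have h := hpol e (g y)
        rw [hgg, polar_neg_right, hy.2, neg_zero] at h
        exact h.symm)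
    have hmem : ∀ j, es j ∈ Y ∧ polar Q e (es j) = 0 ∧ polar Q (g e) (es j) = 0 := fun j => by
      have := (hes j).1
      simp only [Submodule.mem_inf, LinearMap.mem_ker, polarBilin_apply_apply] at this
      exact ⟨this.1.1, this.1.2, this.2⟩
    refine ⟨k + 1, Fin.cons e es, by omega, fun j => Fin.cases ⟨he, hQe⟩ (fun j => ⟨(hmem j).1, (hes j).2⟩) j,
      fun i j hij => ?_⟩
    cases i using Fin.cases with
    | zero =>
      cases j using Fin.cases with
      | zero => exact absurd rfl hij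
      | succ j =>
        simp only [Fin.cons_zero, Fin.cons_succ]
        refine ⟨(hmem j).2.1, ?_⟩
        have h := hpol e (g (es j))
        rw [hgg, polar_neg_right, (hmem j).2.2, neg_zero] at h
        exact h.symm
    | succ i =>
      cases j using Fin.cases with
      | zero =>
        simp only [Fin.cons_zero, Fin.cons_succ]
        exact ⟨by rw [polar_comm]; exact (hmem i).2.1, by rw [polar_comm]; exact (hmem i).2.2⟩
      | succ j =>
        simp only [Fin.cons_succ]
        exact hperp i j fun h => hij (h ▸ rfl)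

/-- Discriminant and membership in the derived group. -/
theorem rot_facts (h2 : (2 : F) ≠ 0) (hQ : OCount.PND Q) {d : ℕ} (hV : finrank F V = 2 * d)
    (G : ↥(ORefl.Iso Q)) (hgg : ∀ v, G.1 (G.1 v) = -v) :
    (∃ z : Fin d × Fin 2 → V, gdet Q z ≠ 0 ∧ IsSquare (gdet Q z)) ∧
      (G ∈ commutator ↥(ORefl.Iso Q) ↔ IsSquare ((2 : F) ^ d)) := by
  classical
  obtain ⟨g, hg⟩ : ∃ g : Module.End F V, g = (G.1 : V →ₗ[F] V) := ⟨_, rfl⟩
  have hga : ∀ v, g v = G.1 v := fun v => by rw [hg]; rfl
  have hiso : ∀ v, Q (g v) = Q v := fun v => by rw [hga]; exact G.2 v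
  have hgg' : ∀ v, g (g v) = -v := fun v => by rw [hga, hga, hgg]
  obtain ⟨k, e, hk, he, hperp⟩ := exists_pairs (Q := Q) h2 hgg' hiso (finrank F V) ⊤ (by rw [finrank_top])
    (fun x _ h => hQ x fun w => h w trivial) fun _ _ => trivial
  obtain rfl : k = d := by rw [finrank_top, hV] at hk; omega
  have hpol : ∀ u v, polar Q (g u) (g v) = polar Q u v := fun u v => by simp only [polar, ← map_add, hiso]
  have hself : ∀ e, polar Q e (g e) = 0 := fun e => by
    have h := hpol e (g e)
    rw [hgg', polar_neg_right, polar_comm] at h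
    exact (mul_eq_zero.mp (show (2 : F) * polar Q e (g e) = 0 by linear_combination -h)).resolve_left h2
  let z : Fin k × Fin 2 → V := fun a => if a.2 = 0 then e a.1 else g (e a.1)
  have hz : (Matrix.of fun a b => polar Q (z a) (z b)) = Matrix.diagonal fun a => 2 * Q (e a.1) := by
    ext ⟨i, s⟩ ⟨j, t⟩
    simp only [Matrix.of_apply, Matrix.diagonal_apply, Prod.ext_iff, z]
    rcases eq_or_ne i j with rfl | hij
    · fin_cases s <;> fin_cases t <;> simp [hself, polar_comm _ (g (e i)) (e i), hiso]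
    · fin_cases s <;> fin_cases t <;>
        simp [hij, hpol, (hperp i j hij).1, (hperp i j hij).2, polar_comm _ (g (e i)) (e j), (hperp j i hij.symm).2]
  have hdet : gdet Q z = ∏ j, (2 * Q (e j)) * (2 * Q (e j)) := by
    rw [gdet, hz, Matrix.det_diagonal, Fintype.prod_prod_type]
    exact Finset.prod_congr rfl fun j _ => by rw [Fin.prod_univ_two]
  have hdet0 : gdet Q z ≠ 0 := by
    rw [hdet]
    exact Finset.prod_ne_zero_iff.mpr fun j _ =>
      mul_ne_zero (mul_ne_zero h2 (he j).2) (mul_ne_zero h2 (he j).2)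
  refine ⟨⟨z, hdet0, ∏ j, (2 * Q (e j)), by rw [hdet, Finset.prod_mul_distrib]⟩, ?_⟩
  -- the word
  let pr : Fin k → List V := fun j => [e j - g (e j), g (e j)]
  have hQsub : ∀ j, Q (e j - g (e j)) = 2 * Q (e j) := fun j => by
    rw [ORefl.map_sub_two, hiso, hself]; ring
  have act : ∀ l : List (Fin k), l.Nodup → ∀ j,
      (Orth.prodRf Q (l.flatMap pr)).1 (e j) = (if j ∈ l then g (e j) else e j) ∧
      (Orth.prodRf Q (l.flatMap pr)).1 (g (e j)) = (if j ∈ l then -(e j) else g (e j)) := by
    intro l hl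
    induction l with
    | nil => intro j; simp [Orth.prodRf_nil]
    | cons i l ih =>
      rw [List.nodup_cons] at hl
      intro j
      obtain ⟨h1, h3⟩ := ih hl.2 j
      have step : ∀ v, (Orth.prodRf Q ((i :: l).flatMap pr)).1 v =
          ORefl.refl Q (e i - g (e i)) (ORefl.refl Q (g (e i)) ((Orth.prodRf Q (l.flatMap pr)).1 v)) := fun v => by
        rw [List.flatMap_cons, Orth.prodRf_append, Orth.prodRf_pair]; rfl
      rw [step, step, h1, h3]
      rcases eq_or_ne j i with rfl | hji
      · rw [if_neg hl.1, if_neg hl.1, if_pos List.mem_cons_self, if_pos List.mem_cons_self]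
        have hQg : Q (g (e j)) ≠ 0 := by rw [hiso]; exact (he j).2
        have hne : Q (e j - g (e j)) ≠ 0 := by rw [hQsub]; exact mul_ne_zero h2 (he j).2
        have e1 : ORefl.refl Q (g (e j)) (e j) = e j := ORefl.refl_fix (by rw [polar_comm]; exact hself _)
        have e2 : ORefl.refl Q (e j - g (e j)) (e j) = g (e j) := ORefl.refl_sub_apply (hiso _).symm hne
        refine ⟨by rw [e1, e2], ?_⟩
        rw [ORefl.refl_self hQg, map_neg]
        have h5 : ORefl.refl Q (e j - g (e j)) (ORefl.refl Q (e j - g (e j)) (e j)) = e j :=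
          congrArg (fun f : V ≃ₗ[F] V => f (e j)) (ORefl.refl_mul_self (Q := Q) (e j - g (e j)))
        rw [e2] at h5
        rw [h5]
      · have hfix : ∀ v, (v = e j ∨ v = g (e j) ∨ v = -(e j)) →
            ORefl.refl Q (e i - g (e i)) (ORefl.refl Q (g (e i)) v) = v := by
          intro v hv
          have a1 : polar Q (e i) v = 0 ∧ polar Q (g (e i)) v = 0 := by
            rcases hv with rfl | rfl | rfl
            · exact ⟨(hperp i j hji.symm).1, by rw [polar_comm]; exact (hperp j i hji).2⟩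
            · exact ⟨(hperp i j hji.symm).2, by rw [hpol]; exact (hperp i j hji.symm).1⟩
            · rw [polar_neg_right, polar_neg_right, (hperp i j hji.symm).1, polar_comm _ (g (e i)),
                (hperp j i hji).2, neg_zero]
              exact ⟨rfl, rfl⟩
          rw [ORefl.refl_fix a1.2, ORefl.refl_fix (by rw [polar_sub_left, a1.1, a1.2, sub_zero])]
        simp only [List.mem_cons, hji, false_or]
        constructor <;> split_ifs <;> refine hfix _ ?_ <;> simp
  have hG : Orth.prodRf Q ((List.finRange k).flatMap pr) = G := by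
    refine Subtype.ext (LinearEquiv.toLinearMap_injective ?_)
    refine LinearMap.ext_on_range (v := z) (OType.span_eq_top hdet0 (by simp [hV, mul_comm])) fun a => ?_
    obtain ⟨j, s⟩ := a
    obtain ⟨h1, h3⟩ := act _ (List.nodup_finRange k) j
    rw [if_pos (List.mem_finRange j)] at h1 h3
    fin_cases s <;> simp only [z]
    · exact h1.trans (hga _)
    · exact h3.trans ((hgg' _).symm.trans (hga _))
  have hne : ∀ v ∈ (List.finRange k).flatMap pr, Q v ≠ 0 := by
    intro v hv
    obtain ⟨j, -, hv⟩ := List.mem_flatMap.mp hv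
    simp only [pr, List.mem_cons, List.not_mem_nil, or_false] at hv
    rcases hv with rfl | rfl
    · rw [hQsub]; exact mul_ne_zero h2 (he j).2
    · rw [hiso]; exact (he j).2
  have hval : ∀ l : List (Fin k), Even (l.flatMap pr).length ∧
      ∃ t : F, t ≠ 0 ∧ ((l.flatMap pr).map fun v => Q v).prod = 2 ^ l.length * (t * t) := by
    intro l
    induction l with
    | nil => exact ⟨by simp, 1, one_ne_zero, by simp⟩
    | cons i l ih =>
      obtain ⟨h1, t, ht, h3⟩ := ih
      rw [List.flatMap_cons]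
      refine ⟨by rw [List.length_append]; exact (show Even (pr i).length from ⟨1, rfl⟩).add h1,
        Q (e i) * t, mul_ne_zero (he i).2 ht, ?_⟩
      rw [List.map_append, List.prod_append, h3, List.length_cons, pow_succ]
      simp [pr, hQsub, hiso]
      ring
  obtain ⟨hev, t, ht, hprod⟩ := hval (List.finRange k)
  rw [← hG, Orth.mem_commutator_iff hQ _ hne, hprod, List.length_finRange,
    Orth.isSquare_mul_iff (IsSquare.mul_self t) (mul_ne_zero ht ht)]
  exact and_iff_right hev

/-- A square root of minus one when the discriminant is a square. -/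
theorem exists_rot (h2 : (2 : F) ≠ 0) {d : ℕ} (hV : finrank F V = 2 * d) (z : Fin d × Fin 2 → V)
    (hz : gdet Q z ≠ 0) (hsq : IsSquare (gdet Q z)) :
    ∃ G : ↥(ORefl.Iso Q), ∀ v, G.1 (G.1 v) = -v := by
  classical
  obtain ⟨Q', hQ'⟩ : ∃ Q' : QuadraticForm F (Fin d × Fin 2 → F),
      Q' = QuadraticMap.weightedSumSquares F fun _ : Fin d × Fin 2 => (1 : F) := ⟨_, rfl⟩
  have hQ'a : ∀ v, Q' v = ∑ a, v a * v a := fun v => by
    rw [hQ']; simp [QuadraticMap.weightedSumSquares_apply]
  have hg' : gdet Q' (fun a => Pi.single a 1) = (2 : F) ^ d * 2 ^ d := by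
    have h : (Matrix.of fun a b => polar Q' (Pi.single a 1) (Pi.single b 1)) = Matrix.diagonal fun _ => (2 : F) := by
      ext a b
      rcases eq_or_ne a b with rfl | hab
      · rw [Matrix.of_apply, Matrix.diagonal_apply_eq, ORefl.polar_self_two, hQ'a,
          Finset.sum_eq_single a (fun c _ hc => by simp [hc]) (by simp)]
        simp
      · rw [Matrix.of_apply, Matrix.diagonal_apply_ne _ hab, polar, hQ'a, hQ'a, hQ'a, ← Finset.sum_sub_distrib,
          ← Finset.sum_sub_distrib]
        refine Finset.sum_eq_zero fun c _ => ?_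
        rcases eq_or_ne c a with rfl | hca
        · simp [hab]
        · simp [hca]
    rw [gdet, h, Matrix.det_diagonal, Finset.prod_const, Finset.card_univ, Fintype.card_prod, Fintype.card_fin,
      Fintype.card_fin, mul_comm, two_mul, pow_add]
  obtain ⟨φ, hφ⟩ := OType.iso_of_disc h2 (Q := Q') (Q' := Q) (fun a => Pi.single a 1) z
    (hg' ▸ mul_ne_zero (pow_ne_zero _ h2) (pow_ne_zero _ h2)) hz (by simp) (by simp [hV, mul_comm])
    (by rw [hg']; exact (IsSquare.mul_self _).mul hsq)
  let rot : (Fin d × Fin 2 → F) →ₗ[F] (Fin d × Fin 2 → F) :=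
    { toFun := fun v a => if a.2 = 0 then -(v (a.1, 1)) else v (a.1, 0)
      map_add' := fun u v => by funext a; by_cases h : a.2 = 0 <;> simp [h]; ring
      map_smul' := fun c v => by funext a; by_cases h : a.2 = 0 <;> simp [h] }
  have hrot : ∀ v a, rot v a = if a.2 = 0 then -(v (a.1, 1)) else v (a.1, 0) := fun _ _ => rfl
  have hrr : ∀ v, rot (rot v) = -v := fun v => by
    funext a
    obtain ⟨i, s⟩ := a
    fin_cases s <;> simp [hrot]
  have hQr : ∀ v, Q' (rot v) = Q' v := fun v => by
    rw [hQ'a, hQ'a, Fintype.sum_prod_type, Fintype.sum_prod_type]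
    refine Finset.sum_congr rfl fun i _ => ?_
    simp [Fin.sum_univ_two, hrot]
    ring
  let E : (Fin d × Fin 2 → F) ≃ₗ[F] (Fin d × Fin 2 → F) := LinearEquiv.ofLinear rot (-rot)
    (LinearMap.ext fun v => by simp [hrr]) (LinearMap.ext fun v => by simp [hrr])
  refine ⟨⟨φ.symm.trans (E.trans φ), fun v => ?_⟩, fun v => ?_⟩
  · show Q (φ (rot (φ.symm v))) = Q v
    rw [hφ, hQr, ← hφ, φ.apply_symm_apply]
  · show φ (rot (φ.symm (φ (rot (φ.symm v))))) = -v
    rw [φ.symm_apply_apply, hrr, map_neg, φ.apply_symm_apply]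

/-- The type is given by the discriminant. -/
theorem plus_iff_disc (h2 : (2 : F) ≠ 0) (hQ : OCount.PND Q) {d : ℕ} (hd : 1 ≤ d) (hV : finrank F V = 2 * d)
    (z : Fin d × Fin 2 → V) (hz : gdet Q z ≠ 0) :
    OType.IsPlus Q ⊤ ↔ IsSquare ((-1 : F) ^ d * gdet Q z) := by
  classical
  obtain ⟨Qp, hQp⟩ : ∃ Qp : QuadraticForm F (Fin d ⊕ Fin d → F), ⇑Qp = Cfsg.quadFormPlus d F :=
    ⟨_, OOmega.coe_plus d⟩
  obtain ⟨w, hw⟩ : ∃ w : Fin d × Fin 2 → (Fin d ⊕ Fin d → F),
      w = fun a => Sum.elim (Pi.single a.1 1) (Pi.single a.1 (if a.2 = 0 then 1 else -1)) := ⟨_, rfl⟩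
  have hpp : ∀ u v, polar Qp u v = ∑ l, (u (.inl l) * v (.inr l) + u (.inr l) * v (.inl l)) := fun u v => by
    simp only [polar, hQp, Cfsg.quadFormPlus, Pi.add_apply, ← Finset.sum_sub_distrib]
    exact Finset.sum_congr rfl fun l _ => by ring
  have hgw : gdet Qp w = (-1 : F) ^ d * (2 ^ d * 2 ^ d) := by
    have h : (Matrix.of fun a b => polar Qp (w a) (w b)) =
        Matrix.diagonal fun a : Fin d × Fin 2 => if a.2 = 0 then (2 : F) else -2 := by
      ext ⟨i, s⟩ ⟨j, t⟩
      rw [Matrix.of_apply, hpp, hw]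
      simp only [Sum.elim_inl, Sum.elim_inr]
      rcases eq_or_ne i j with rfl | hij
      · rw [Finset.sum_eq_single i (fun c _ hc => by simp [hc]) (by simp)]
        fin_cases s <;> fin_cases t <;> simp <;> norm_num
      · rw [Finset.sum_eq_zero fun c _ => by rcases eq_or_ne c i with rfl | hc <;> simp [*],
          Matrix.diagonal_apply_ne]
        simp [hij]
    rw [gdet, h, Matrix.det_diagonal, Fintype.prod_prod_type]
    simp only [Fin.prod_univ_two, if_true, Fin.one_eq_zero_iff, OfNat.ofNat_ne_one, if_false]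
    rw [Finset.prod_const, Finset.card_univ, Fintype.card_fin, ← mul_pow, ← mul_pow]
    congr 1
    ring
  have hgw0 : gdet Qp w ≠ 0 := by
    rw [hgw]
    exact mul_ne_zero (pow_ne_zero _ (neg_ne_zero.mpr one_ne_zero)) (mul_ne_zero (pow_ne_zero _ h2) (pow_ne_zero _ h2))
  have hcard : Fintype.card (Fin d × Fin 2) = finrank F (Fin d ⊕ Fin d → F) := by simp; omega
  have e2 : IsSquare (gdet Qp w * gdet Q z) ↔ IsSquare ((-1 : F) ^ d * gdet Q z) := by
    rw [hgw, show (-1 : F) ^ d * (2 ^ d * 2 ^ d) * gdet Q z = (-1) ^ d * gdet Q z * (2 ^ d * 2 ^ d) by ring]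
    exact Orth.isSquare_mul_iff (IsSquare.mul_self _) (mul_ne_zero (pow_ne_zero _ h2) (pow_ne_zero _ h2))
  rw [← e2]
  constructor
  · intro hp
    obtain ⟨a, c, hac⟩ := QuadModels.exists_aniso (F := F)
    rcases OType.model (Q := Q) (W := ⊤) (fun x _ h => hQ x fun v => h v trivial) (e := d) hd
      (by rw [finrank_top, hV]) a c hac with ⟨-, L, hL⟩ | ⟨h, -⟩
    · have e : gdet Qp w = gdet Q fun a => (L (w a) : V) := by
        simp only [gdet, polar, hQp, ← hL, map_add, Submodule.coe_add]
      rw [e, mul_comm]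
      exact OType.sq_of_mem z _ fun a => by rw [OType.span_eq_top hz (by simp [hV]; omega)]; trivial
    · exact absurd hp h
  · intro hsq
    obtain ⟨φ, hφ⟩ := OType.iso_of_disc h2 (Q := Qp) (Q' := Q) w z hgw0 hz hcard (by simp [hV]; omega) hsq
    let S : (Fin d → F) →ₗ[F] (Fin d ⊕ Fin d → F) :=
      { toFun := fun x => Sum.elim x 0
        map_add' := fun x y => by funext i; rcases i with i | i <;> simp
        map_smul' := fun r x => by funext i; rcases i with i | i <;> simp }
    refine ⟨LinearMap.range (φ.toLinearMap ∘ₗ S), le_top, ?_, ?_⟩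
    · rintro _ ⟨x, rfl⟩
      exact (hφ _).trans (by rw [hQp]; simp [Cfsg.quadFormPlus, S])
    · rw [LinearMap.finrank_range_of_inj, Module.finrank_fin_fun, finrank_top, hV]
      exact φ.injective.comp fun x y h => funext fun i => congrFun h (.inl i)

end Cfsg.Agent.Classical.Elusive.OTwo
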