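import Mathlib

/-!
# Plane decompositions permuted by a symplectic square root of a scalar
-/

set_option autoImplicit false

namespace Cfsg.Agent.Classical.Elusive

universe u v

variable {F : Type u} [Field F] {V : Type v} [AddCommGroup V] [Module F V]

/-- Hyperbolic pairs inside a subspace, pairwise orthogonal. -/
def IsPairs (B : V →ₗ[F] V →ₗ[F] F) (Y : Submodule F V) {ι : Type} [DecidableEq ι] (e f : ι → V) : Prop :=
  (∀ l, e l ∈ Y ∧ f l ∈ Y) ∧
    ∀ l m, B (e l) (e m) = 0 ∧ B (f l) (f m) = 0 ∧ B (e l) (f m) = if l = m then 1 else 0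

/-- A nonempty step: pairs in a subspace permuted by an involution of the indices. -/
def HasPiece (B : V →ₗ[F] V →ₗ[F] F) (R : V → V → V → V → Prop) (Y : Submodule F V) : Prop :=
  ∃ (ι : Type) (_ : Fintype ι) (_ : DecidableEq ι) (π : ι → ι) (e f : ι → V),
    Nonempty ι ∧ (∀ l, π (π l) = l) ∧ IsPairs B Y e f ∧ ∀ l, R (e l) (f l) (e (π l)) (f (π l))

theorem form_swap_of_alt {B : V →ₗ[F] V →ₗ[F] F} (hA : ∀ v, B v v = 0) (u w : V) : B w u = - B u w := by
  have := hA (u + w)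
  simp only [map_add, LinearMap.add_apply, hA] at this
  linear_combination this

section

variable [FiniteDimensional F V] {B : V →ₗ[F] V →ₗ[F] F} (hA : ∀ v, B v v = 0)
  {x : Module.End F V} (hB : ∀ u w, B (x u) (x w) = B u w) {c : F} (hc : c ≠ 0) (hx : ∀ w, x (x w) = c • w)
  {R : V → V → V → V → Prop}
  (hR : ∀ e f e' f', R e f e' f' → (∃ a b : F, x e = a • e' + b • f') ∧ ∃ a b : F, x f = a • e' + b • f')

include hA hB hc hx hR in
theorem exists_planes_aux
    (step : ∀ Y : Submodule F V, Y ≠ ⊥ → (∀ y ∈ Y, x y ∈ Y) → (∀ y ∈ Y, (∀ z ∈ Y, B y z = 0) → y = 0) →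
      HasPiece B R Y) :
    ∀ (N : ℕ) (Y : Submodule F V), Module.finrank F Y ≤ N → (∀ y ∈ Y, x y ∈ Y) →
      (∀ y ∈ Y, (∀ z ∈ Y, B y z = 0) → y = 0) →
      ∃ (ι : Type) (_ : Fintype ι) (_ : DecidableEq ι) (π : ι → ι) (e f : ι → V),
        (∀ l, π (π l) = l) ∧ IsPairs B Y e f ∧ (∀ l, R (e l) (f l) (e (π l)) (f (π l))) ∧
        Y ≤ Submodule.span F (Set.range e ∪ Set.range f) := by
  classical
  intro N
  induction N with
  | zero =>
    intro Y hN _ _
    refine ⟨Empty, inferInstance, inferInstance, id, Empty.elim, Empty.elim, fun l => l.elim,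
      ⟨fun l => l.elim, fun l => l.elim⟩, fun l => l.elim, ?_⟩
    rw [Submodule.finrank_eq_zero.mp (Nat.le_zero.mp hN)]
    exact bot_le
  | succ N ih =>
    intro Y hN hinv hnd
    by_cases hY : Y = ⊥
    · exact ih Y (by rw [hY, finrank_bot]; omega) hinv hnd
    obtain ⟨ι, hι, hdι, π, e, f, ⟨l₀⟩, hπ, ⟨hmem, hp⟩, hRl⟩ := step Y hY hinv hnd
    let Y' : Submodule F V := Y ⊓ ⨅ l, (LinearMap.ker (B.flip (e l)) ⊓ LinearMap.ker (B.flip (f l)))
    have hY' : ∀ y, y ∈ Y' ↔ y ∈ Y ∧ ∀ l, B y (e l) = 0 ∧ B y (f l) = 0 := fun y => by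
      simp only [Y', Submodule.mem_inf, Submodule.mem_iInf, LinearMap.mem_ker, LinearMap.flip_apply]
    let pr : V → V := fun y => y - ∑ l, (B y (f l) • e l - B y (e l) • f l)
    have hfe : ∀ l m, B (f l) (e m) = if l = m then (-1 : F) else 0 := fun l m => by
      rw [form_swap_of_alt hA (e m) (f l), (hp m l).2.2]
      by_cases h : l = m
      · simp [h]
      · simp [h, Ne.symm h]
    have hpr : ∀ y ∈ Y, pr y ∈ Y' := by
      intro y hy
      rw [hY']
      refine ⟨Y.sub_mem hy (Y.sum_mem fun l _ =>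
        Y.sub_mem (Y.smul_mem _ (hmem l).1) (Y.smul_mem _ (hmem l).2)), fun m => ⟨?_, ?_⟩⟩
      · simp [pr, (hp _ m).1, hfe]
      · simp [pr, (hp _ m).2.1, (hp _ m).2.2]
    have hinv' : ∀ y ∈ Y', x y ∈ Y' := by
      intro y hy
      rw [hY'] at hy ⊢
      refine ⟨hinv y hy.1, fun l => ?_⟩
      obtain ⟨⟨a, b, he⟩, a', b', hf⟩ := hR _ _ _ _ (hRl l)
      have key : ∀ w, B y (x w) = 0 → B (x y) w = 0 := fun w hw => by
        have h := hB y (x w)
        rw [hx, map_smul, hw, smul_eq_mul] at h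
        exact (mul_eq_zero.mp h).resolve_left hc
      exact ⟨key _ (by rw [he]; simp [(hy.2 (π l)).1, (hy.2 (π l)).2]),
        key _ (by rw [hf]; simp [(hy.2 (π l)).1, (hy.2 (π l)).2])⟩
    have hnd' : ∀ y ∈ Y', (∀ z ∈ Y', B y z = 0) → y = 0 := by
      intro y hy h
      rw [hY'] at hy
      refine hnd y hy.1 fun z hz => ?_
      have := h _ (hpr z hz)
      simpa [pr, (hy.2 _).1, (hy.2 _).2] using this
    have hlt : Y' < Y := by
      refine lt_of_le_of_ne inf_le_left fun h => ?_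
      have := (((hY' _).mp (h.symm ▸ (hmem l₀).1)).2 l₀).2
      rw [(hp l₀ l₀).2.2, if_pos rfl] at this
      exact one_ne_zero this
    obtain ⟨κ, hκ, hdκ, π', e', f', hπ', ⟨hmem', hp'⟩, hRl', hsp⟩ := ih Y'
      (by have := Submodule.finrank_lt_finrank_of_lt hlt; omega) hinv' hnd'
    have hcross : ∀ k l, (B (e' k) (e l) = 0 ∧ B (e' k) (f l) = 0) ∧ (B (f' k) (e l) = 0 ∧ B (f' k) (f l) = 0) :=
      fun k l => ⟨((hY' _).mp (hmem' k).1).2 l, ((hY' _).mp (hmem' k).2).2 l⟩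
    refine ⟨ι ⊕ κ, inferInstance, inferInstance, Sum.map π π', Sum.elim e e', Sum.elim f f', ?_, ⟨?_, ?_⟩, ?_, ?_⟩
    · rintro (l | l) <;> simp [hπ, hπ']
    · rintro (l | l)
      · exact hmem l
      · exact ⟨((hY' _).mp (hmem' l).1).1, ((hY' _).mp (hmem' l).2).1⟩
    · rintro (l | l) (m | m)
      · simpa using hp l m
      · simp [form_swap_of_alt hA (e' m) (e l), form_swap_of_alt hA (f' m) (f l),
          form_swap_of_alt hA (f' m) (e l), hcross]
      · simp [hcross]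
      · simpa using hp' l m
    · rintro (l | l)
      · exact hRl l
      · exact hRl' l
    · intro y hy
      have h1 : pr y ∈ Submodule.span F (Set.range (Sum.elim e e') ∪ Set.range (Sum.elim f f')) :=
        Submodule.span_mono (by
          rintro _ (⟨k, rfl⟩ | ⟨k, rfl⟩)
          · exact Or.inl ⟨Sum.inr k, rfl⟩
          · exact Or.inr ⟨Sum.inr k, rfl⟩) (hsp (hpr y hy))
      have h2 : ∑ l, (B y (f l) • e l - B y (e l) • f l) ∈
          Submodule.span F (Set.range (Sum.elim e e') ∪ Set.range (Sum.elim f f')) :=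
        Submodule.sum_mem _ fun l _ => Submodule.sub_mem _
          (Submodule.smul_mem _ _ (Submodule.subset_span (Or.inl ⟨Sum.inl l, rfl⟩)))
          (Submodule.smul_mem _ _ (Submodule.subset_span (Or.inr ⟨Sum.inl l, rfl⟩)))
      have h3 := Submodule.add_mem _ h1 h2
      simpa [pr] using h3

include hA hB hc hx hR in
theorem exists_planes (hnd : ∀ w, (∀ z, B w z = 0) → w = 0)
    (step : ∀ Y : Submodule F V, Y ≠ ⊥ → (∀ y ∈ Y, x y ∈ Y) → (∀ y ∈ Y, (∀ z ∈ Y, B y z = 0) → y = 0) →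
      HasPiece B R Y) :
    ∃ (ι : Type) (_ : Fintype ι) (_ : DecidableEq ι) (π : ι → ι) (e f : ι → V) (b : Module.Basis (ι ⊕ ι) F V),
      (∀ l, π (π l) = l) ∧ IsPairs B ⊤ e f ∧ (∀ l, R (e l) (f l) (e (π l)) (f (π l))) ∧
      ⇑b = Sum.elim e f := by
  classical
  obtain ⟨ι, hι, hdι, π, e, f, hπ, hp, hRl, hsp⟩ := exists_planes_aux hA hB hc hx hR step _ ⊤ le_rfl
    (fun _ _ => trivial) (fun y _ h => hnd y fun z => h z trivial)
  have hli : LinearIndependent F (Sum.elim e f) := by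
    rw [Fintype.linearIndependent_iff]
    intro g hg
    simp only [Fintype.sum_sum_type, Sum.elim_inl, Sum.elim_inr] at hg
    rintro (m | m)
    · have := congrArg (fun v => B v (f m)) hg
      simpa [(hp.2 _ m).2.1, (hp.2 _ m).2.2] using this
    · have hfe : ∀ l, B (f l) (e m) = - (if m = l then 1 else 0) := fun l => by
        rw [form_swap_of_alt hA (e m) (f l), (hp.2 m l).2.2]
      have := congrArg (fun v => B v (e m)) hg
      simpa [(hp.2 _ m).1, hfe] using this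
  refine ⟨ι, hι, hdι, π, e, f, Module.Basis.mk hli (by rwa [Set.Sum.elim_range]), hπ, hp, hRl, Module.Basis.coe_mk _ _⟩

end

/-- The piece made of one pair. -/
theorem hasPiece_one {B : V →ₗ[F] V →ₗ[F] F} (hA : ∀ v, B v v = 0) {R : V → V → V → V → Prop} {Y : Submodule F V}
    {e f : V} (he : e ∈ Y) (hf : f ∈ Y) (h : B e f = 1) (hR : R e f e f) : HasPiece B R Y :=
  ⟨Unit, inferInstance, inferInstance, id, fun _ => e, fun _ => f, ⟨()⟩, fun _ => rfl,
    ⟨fun _ => ⟨he, hf⟩, fun _ _ => ⟨hA e, hA f, by simp [h]⟩⟩, fun _ => hR⟩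

/-- Each pair is fixed, each of the two vectors being an eigenvector. -/
def RFix (x : Module.End F V) (e f e' f' : V) : Prop :=
  e' = e ∧ f' = f ∧ (∃ a : F, x e = a • e) ∧ ∃ a : F, x f = a • f

/-- Each pair is fixed, the two vectors being interchanged up to scalars. -/
def RSwap (x : Module.End F V) (e f e' f' : V) : Prop :=
  e' = e ∧ f' = f ∧ (∃ a : F, x e = a • f) ∧ ∃ a : F, x f = a • e

/-- The span of a pair goes to the span of another pair. -/
def RPlane (x : Module.End F V) (e f e' f' : V) : Prop :=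
  (∃ a b : F, x e = a • e' + b • f') ∧ ∃ a b : F, x f = a • e' + b • f'

theorem rFix_plane {x : Module.End F V} {e f e' f' : V} (h : RFix x e f e' f') : RPlane x e f e' f' := by
  obtain ⟨rfl, rfl, ⟨a, ha⟩, b, hb⟩ := h
  exact ⟨⟨a, 0, by rw [ha, zero_smul, add_zero]⟩, 0, b, by rw [hb, zero_smul, zero_add]⟩

theorem rSwap_plane {x : Module.End F V} {e f e' f' : V} (h : RSwap x e f e' f') : RPlane x e f e' f' := by
  obtain ⟨rfl, rfl, ⟨a, ha⟩, b, hb⟩ := h
  exact ⟨⟨0, a, by rw [ha, zero_smul, zero_add]⟩, b, 0, by rw [hb, zero_smul, add_zero]⟩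

section

variable {B : V →ₗ[F] V →ₗ[F] F} (hA : ∀ v, B v v = 0)
  {x : Module.End F V} (hB : ∀ u w, B (x u) (x w) = B u w)

include hA hB

/-- Involutory isometries in odd characteristic: pairs of eigenvectors. -/
theorem step_one (h2 : (2 : F) ≠ 0) (hx : ∀ w, x (x w) = w) (Y : Submodule F V) (hY : Y ≠ ⊥)
    (hinv : ∀ y ∈ Y, x y ∈ Y) (hnd : ∀ y ∈ Y, (∀ z ∈ Y, B y z = 0) → y = 0) : HasPiece B (RFix x) Y := by
  obtain ⟨y, hy, hy0⟩ := Y.exists_mem_ne_zero_of_ne_bot hY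
  obtain ⟨e, he, he0, s, hs, hxe⟩ : ∃ e ∈ Y, e ≠ 0 ∧ ∃ s : F, s * s = 1 ∧ x e = s • e := by
    by_cases h : y + x y = 0
    · exact ⟨y, hy, hy0, -1, by ring, by rw [neg_one_smul]; exact eq_neg_of_add_eq_zero_right h⟩
    · exact ⟨y + x y, Y.add_mem hy (hinv y hy), h, 1, one_mul 1, by rw [map_add, hx, one_smul, add_comm]⟩
  obtain ⟨z, hz, hez⟩ : ∃ z ∈ Y, B e z ≠ 0 := by
    by_contra h
    push_neg at h
    exact he0 (hnd e he h)
  have hxz : B e (x z) = s * B e z := by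
    have h := hB (x e) z
    rw [hx, hxe, map_smul, LinearMap.smul_apply, smul_eq_mul] at h
    exact h
  refine hasPiece_one hA he (f := (2 * B e z)⁻¹ • (z + s • x z))
    (Y.smul_mem _ (Y.add_mem hz (Y.smul_mem _ (hinv z hz)))) ?_ ⟨rfl, rfl, ⟨s, hxe⟩, s, ?_⟩
  · rw [map_smul, map_add, map_smul, hxz, smul_eq_mul, smul_eq_mul,
      show B e z + s * (s * B e z) = 2 * B e z by rw [← mul_assoc, hs]; ring]
    exact inv_mul_cancel₀ (mul_ne_zero h2 hez)
  · rw [map_smul, map_add, map_smul, hx, smul_comm s, smul_add, smul_add, smul_add, smul_smul s s, hs, one_smul]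
    abel

/-- Square roots of a negative identity in odd characteristic: pairs interchanged up to scalars. -/
theorem step_neg (h2 : (2 : F) ≠ 0) (hx : ∀ w, x (x w) = -w) (Y : Submodule F V) (hY : Y ≠ ⊥)
    (hinv : ∀ y ∈ Y, x y ∈ Y) (hnd : ∀ y ∈ Y, (∀ z ∈ Y, B y z = 0) → y = 0) : HasPiece B (RSwap x) Y := by
  obtain ⟨y, hy, hy0⟩ : ∃ y ∈ Y, B y (x y) ≠ 0 := by
    by_contra h
    push_neg at h
    obtain ⟨y, hy, hy0⟩ := Y.exists_mem_ne_zero_of_ne_bot hY
    refine hy0 (hnd y hy fun z hz => ?_)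
    have h1 := h (y + x z) (Y.add_mem hy (hinv z hz))
    simp only [map_add, LinearMap.add_apply, h y hy, h (x z) (hinv z hz), zero_add, add_zero, hx, map_neg] at h1
    have h3 : B (x z) (x y) = - B y z := by rw [hB, form_swap_of_alt hA]
    rw [h3] at h1
    have h0 : B (x z) z = 0 := by rw [form_swap_of_alt hA z (x z), h z hz, neg_zero]
    exact (mul_eq_zero.mp (show (2 : F) * B y z = 0 by linear_combination -h1 - h0)).resolve_left h2
  refine hasPiece_one hA hy (f := (B y (x y))⁻¹ • x y) (Y.smul_mem _ (hinv y hy)) ?_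
    ⟨rfl, rfl, ⟨B y (x y), ?_⟩, -(B y (x y))⁻¹, ?_⟩
  · rw [map_smul, smul_eq_mul, inv_mul_cancel₀ hy0]
  · rw [smul_smul, mul_inv_cancel₀ hy0, one_smul]
  · rw [map_smul, hx, smul_neg, neg_smul]

/-- Involutory isometries in characteristic two. -/
theorem step_two (h2 : (2 : F) = 0) (hx : ∀ w, x (x w) = w) (Y : Submodule F V) (hY : Y ≠ ⊥)
    (hinv : ∀ y ∈ Y, x y ∈ Y) (hnd : ∀ y ∈ Y, (∀ z ∈ Y, B y z = 0) → y = 0) : HasPiece B (RPlane x) Y := by
  by_cases hd : ∃ y ∈ Y, B y (x y) ≠ 0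
  · obtain ⟨y, hy, hy0⟩ := hd
    refine hasPiece_one hA hy (f := (B y (x y))⁻¹ • x y) (Y.smul_mem _ (hinv y hy)) ?_
      ⟨⟨0, B y (x y), ?_⟩, (B y (x y))⁻¹, 0, ?_⟩
    · rw [map_smul, smul_eq_mul, inv_mul_cancel₀ hy0]
    · rw [smul_smul, mul_inv_cancel₀ hy0, one_smul, zero_smul, zero_add]
    · rw [map_smul, hx, zero_smul, add_zero]
  push_neg at hd
  by_cases h1 : ∀ y ∈ Y, x y = y
  · obtain ⟨y, hy, hy0⟩ := Y.exists_mem_ne_zero_of_ne_bot hY
    obtain ⟨z, hz, hyz⟩ : ∃ z ∈ Y, B y z ≠ 0 := by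
      by_contra h
      push_neg at h
      exact hy0 (hnd y hy h)
    refine hasPiece_one hA hy (f := (B y z)⁻¹ • z) (Y.smul_mem _ hz) ?_
      ⟨⟨1, 0, ?_⟩, 0, 1, ?_⟩
    · rw [map_smul, smul_eq_mul, inv_mul_cancel₀ hyz]
    · rw [h1 y hy, one_smul, zero_smul, add_zero]
    · rw [h1 _ (Y.smul_mem _ hz), one_smul, zero_smul, zero_add]
  push_neg at h1
  obtain ⟨u, hu, hxu⟩ := h1
  have hw : ∃ w ∈ Y, B (x u) w = 0 ∧ B u w = 1 := by
    obtain ⟨z, hz, hz1⟩ : ∃ z ∈ Y, B (x u) z ≠ 0 := by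
      by_contra h
      push_neg at h
      have : x u = 0 := hnd _ (hinv u hu) h
      exact hxu (by rw [this, ← hx u, this, map_zero])
    obtain ⟨w, hw, hw0, hw1⟩ : ∃ w ∈ Y, B (x u) w = 0 ∧ B u w ≠ 0 := by
      by_contra h
      push_neg at h
      have heq : u = (B u z * (B (x u) z)⁻¹) • x u := by
        refine sub_eq_zero.mp (hnd _ (Y.sub_mem hu (Y.smul_mem _ (hinv u hu))) fun w hw => ?_)
        have := h (w - ((B (x u) z)⁻¹ * B (x u) w) • z) (Y.sub_mem hw (Y.smul_mem _ hz))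
          (by rw [map_sub, map_smul, smul_eq_mul, mul_comm _ (B (x u) w), mul_assoc, inv_mul_cancel₀ hz1, mul_one,
            sub_self])
        rw [map_sub, map_smul, smul_eq_mul] at this
        rw [map_sub, map_smul, LinearMap.sub_apply, LinearMap.smul_apply, smul_eq_mul]
        linear_combination this
      obtain ⟨a, ha⟩ : ∃ a, a = B u z * (B (x u) z)⁻¹ := ⟨_, rfl⟩
      rw [← ha] at heq
      have heq' : x u = a • u := by
        conv_lhs => rw [heq, map_smul, hx]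
      have haa : (a * a - 1) • u = 0 := by
        rw [sub_smul, one_smul, mul_smul, ← heq', ← heq, sub_self]
      rcases smul_eq_zero.mp haa with h' | h'
      · have h'' : (a - 1) * (a - 1) = 0 := by linear_combination h' - (a - 1) * h2
        rw [sub_eq_zero.mp (mul_self_eq_zero.mp h''), one_smul] at heq'
        exact hxu heq'
      · exact hxu (by rw [h', map_zero])
    exact ⟨(B u w)⁻¹ • w, Y.smul_mem _ hw, by rw [map_smul, hw0, smul_zero],
      by rw [map_smul, smul_eq_mul, inv_mul_cancel₀ hw1]⟩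
  obtain ⟨w, hw, hw0, hw1⟩ := hw
  have h4 : B u (x w) = 0 := by rw [← hB, hx]; exact hw0
  refine ⟨Bool, inferInstance, inferInstance, Bool.not, fun l => if l then x u else u,
    fun l => if l then x w else w, ⟨true⟩, Bool.not_not, ⟨?_, ?_⟩, ?_⟩
  · rintro (_ | _) <;> simp [hu, hw, hinv]
  · rintro (_ | _) (_ | _) <;>
      simp [hA, hd u hu, hd w hw, form_swap_of_alt hA u (x u), form_swap_of_alt hA w (x w), hB, hw0, hw1, h4]
  · rintro (_ | _)
    · exact ⟨⟨1, 0, by simp⟩, 0, 1, by simp⟩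
    · exact ⟨⟨1, 0, by simp [hx]⟩, 0, 1, by simp [hx]⟩

end

end Cfsg.Agent.Classical.Elusive
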