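import Mathlib
import Cfsg.Prelude.Def_ClassicalGeometry
import Cfsg.Agent.Lib.Lead.SympBasic
import Cfsg.Agent.Lib.Classical.Elusive.SympPlanes

/-!
# The standard symplectic space of a symplectic matrix
-/

set_option autoImplicit false

namespace Cfsg.Agent.Classical.Elusive

open Matrix Cfsg

variable {F : Type*} [Field F] {d : ℕ}

/-- The standard alternating form as a bilinear map. -/
def sympB (d : ℕ) (F : Type*) [Field F] : (Fin d ⊕ Fin d → F) →ₗ[F] (Fin d ⊕ Fin d → F) →ₗ[F] F :=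
  LinearMap.mk₂ F (fun u v => sympForm d F u v)
    (fun a b c => by simp [sympForm, add_dotProduct])
    (fun a b c => by simp [sympForm, smul_dotProduct])
    (fun a b c => by simp [sympForm, Matrix.mulVec_add, dotProduct_add])
    (fun a b c => by simp [sympForm, Matrix.mulVec_smul, dotProduct_smul])

theorem sympB_apply (u v : Fin d ⊕ Fin d → F) : sympB d F u v = sympForm d F u v := rfl

theorem sympB_self (v : Fin d ⊕ Fin d → F) : sympB d F v v = 0 := Lead.Symp.form_self v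

theorem sympB_nondeg (v : Fin d ⊕ Fin d → F) (h : ∀ w, sympB d F v w = 0) : v = 0 := by
  by_contra hv
  obtain ⟨z, hz⟩ := Lead.Symp.exists_form_ne hv
  exact hz (h z)

theorem sympB_toLin (x : ↥(Matrix.symplecticGroup (Fin d) F)) (u v : Fin d ⊕ Fin d → F) :
    sympB d F (Matrix.toLin' (x : Matrix (Fin d ⊕ Fin d) (Fin d ⊕ Fin d) F) u)
      (Matrix.toLin' (x : Matrix (Fin d ⊕ Fin d) (Fin d ⊕ Fin d) F) v) = sympB d F u v := by
  rw [Matrix.toLin'_apply, Matrix.toLin'_apply]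
  exact Lead.Symp.form_preserved x.2 u v

/-- A square root of a scalar in the symplectic group squares to a sign. -/
theorem sympB_sq (hd : 1 ≤ d) (x : ↥(Matrix.symplecticGroup (Fin d) F)) {z : F}
    (hz : ((x ^ 2 : ↥(Matrix.symplecticGroup (Fin d) F)) : Matrix (Fin d ⊕ Fin d) (Fin d ⊕ Fin d) F) =
      z • (1 : Matrix (Fin d ⊕ Fin d) (Fin d ⊕ Fin d) F)) :
    (z = 1 ∨ z = -1) ∧ ∀ w, Matrix.toLin' (x : Matrix (Fin d ⊕ Fin d) (Fin d ⊕ Fin d) F)
      (Matrix.toLin' (x : Matrix (Fin d ⊕ Fin d) (Fin d ⊕ Fin d) F) w) = z • w := by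
  have hx : ∀ w, Matrix.toLin' (x : Matrix (Fin d ⊕ Fin d) (Fin d ⊕ Fin d) F)
      (Matrix.toLin' (x : Matrix (Fin d ⊕ Fin d) (Fin d ⊕ Fin d) F) w) = z • w := by
    intro w
    rw [Matrix.toLin'_apply, Matrix.toLin'_apply, Matrix.mulVec_mulVec, ← pow_two,
      ← SubmonoidClass.coe_pow, hz, Matrix.smul_mulVec, Matrix.one_mulVec]
  refine ⟨?_, hx⟩
  let i : Fin d ⊕ Fin d := Sum.inl ⟨0, by omega⟩
  have hne : (Pi.single i (1 : F) : Fin d ⊕ Fin d → F) ≠ 0 := fun h => by simpa using congrFun h i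
  obtain ⟨w, hw⟩ := Lead.Symp.exists_form_ne hne
  have h := sympB_toLin x (Matrix.toLin' (x : Matrix (Fin d ⊕ Fin d) (Fin d ⊕ Fin d) F) (Pi.single i 1))
    (Matrix.toLin' (x : Matrix (Fin d ⊕ Fin d) (Fin d ⊕ Fin d) F) w)
  rw [hx, hx, sympB_toLin] at h
  simp only [map_smul, LinearMap.smul_apply, smul_eq_mul, ← mul_assoc] at h
  rw [← mul_self_eq_one_iff]
  exact mul_right_cancel₀ hw (h.trans (one_mul _).symm)

end Cfsg.Agent.Classical.Elusive
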