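import Mathlib
import Cfsg.Prelude.Def_ClassicalGeometry
import Cfsg.Agent.Lib.Classical.Elusive.FreeModels
import Cfsg.Agent.Lib.Classical.Elusive.SympSetup
import Cfsg.Agent.Lib.Lead.SympDerangement
import Cfsg.Agent.Lib.Small.QuadBasis

/-!
# Totally isotropic subspaces fixed by symplectic elements of prime order
-/

set_option autoImplicit false
set_option linter.unusedSectionVars false

universe u

namespace Cfsg.Agent.Classical.Elusive.TsSymp

open Module Free

variable {F : Type u} [Field F] [Fintype F]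

section General

variable {V : Type u} [AddCommGroup V] [Module F V] [FiniteDimensional F V] {B : LinearMap.BilinForm F V}

omit [Fintype F] in
theorem refl_of_alt (h : SpCount.IsAltND B) : Refl B :=
  ⟨⟨-1, fun u v => by rw [h.swap u v]; ring⟩, h.nondeg⟩

omit [Fintype F] in
theorem alt_restrict (h : SpCount.IsAltND B) {W : Submodule F V} (hW : W ⊓ B.orthogonal W = ⊥) :
    SpCount.IsAltND (B.restrict W) :=
  ⟨fun v => h.self v.1, (refl_restrict (refl_of_alt h) hW).nondeg⟩

omit [Fintype F] in
theorem even_dim (h : SpCount.IsAltND B) : Even (finrank F V) :=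
  Lead.SympDerangement.even_finrank _ h le_rfl

omit [Fintype F] in
theorem perp_inf_card (h : SpCount.IsAltND B) {j : ℕ} {S : Submodule F V} (hS : finrank F S = j) :
    finrank F (B.orthogonal S) = finrank F V - j := by
  rw [LinearMap.BilinForm.finrank_orthogonal (refl_of_alt h).nondegenerate, hS]

/-- Isotropic independent tuples. -/
def Tup (B : LinearMap.BilinForm F V) (m : ℕ) : Type u :=
  {v : Fin m → V // LinearIndependent F v ∧ ∀ a b, B (v a) (v b) = 0}

/-- The number of isotropic independent tuples. -/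
theorem card_tup (h : SpCount.IsAltND B) : ∀ m : ℕ, Nat.card (Tup B m) =
    ∏ j ∈ Finset.range m, (Fintype.card F ^ (finrank F V - j) - Fintype.card F ^ j) := by
  intro m
  induction m with
  | zero =>
    rw [Finset.range_zero, Finset.prod_empty, Nat.card_eq_one_iff_unique]
    exact ⟨⟨fun a b => Subtype.ext (funext fun i => i.elim0)⟩,
      ⟨⟨Fin.elim0, linearIndependent_empty_type, fun a => a.elim0⟩⟩⟩
  | succ m ih =>
    classical
    haveI : Finite V := Module.finite_of_finite F
    haveI : Finite (Tup B m) := Subtype.finite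
    haveI := Fintype.ofFinite (Tup B m)
    let fib : Tup B m → Type u := fun t =>
      {w : B.orthogonal (Submodule.span F (Set.range t.1)) // (w : V) ∉ Submodule.span F (Set.range t.1)}
    have hfib : ∀ t : Tup B m, Nat.card (fib t) =
        Fintype.card F ^ (finrank F V - m) - Fintype.card F ^ m := by
      intro t
      set S := Submodule.span F (Set.range t.1)
      have hS : finrank F S = m := by rw [finrank_span_eq_card t.2.1, Fintype.card_fin]
      have hle : S ≤ B.orthogonal S := by
        have h1 : ∀ x ∈ S, ∀ y ∈ S, B x y = 0 := fun x hx y hy => by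
          have e : S ≤ LinearMap.ker (B.flip y) := by
            refine Submodule.span_le.mpr ?_
            rintro _ ⟨a, rfl⟩
            have e2 : S ≤ LinearMap.ker (B (t.1 a)) := by
              refine Submodule.span_le.mpr ?_
              rintro _ ⟨b, rfl⟩
              exact t.2.2 a b
            exact e2 hy
          exact e hx
        exact fun x hx y hy => h1 y hy x hx
      haveI := Fintype.ofFinite (B.orthogonal S)
      show Nat.card {w : B.orthogonal S // (w : V) ∉ S} = _
      rw [Nat.card_eq_fintype_card, Fintype.card_subtype_compl, ← Nat.card_eq_fintype_card,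
        Module.natCard_eq_pow_finrank (K := F), perp_inf_card h hS, Nat.card_eq_fintype_card,
        ← Nat.card_eq_fintype_card (α := {x : B.orthogonal S // (x : V) ∈ S}),
        Nat.card_congr ((Equiv.subtypeSubtypeEquivSubtype fun {x} hx => hle hx) :
          {x : B.orthogonal S // (x : V) ∈ S} ≃ {x : V // x ∈ S}),
        show Nat.card {x : V // x ∈ S} = Nat.card S from rfl, Module.natCard_eq_pow_finrank (K := F) (V := S), hS,
        Nat.card_eq_fintype_card]
    let e : Tup B (m + 1) ≃ Σ t : Tup B m, fib t :=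
      { toFun := fun v => ⟨⟨Fin.tail v.1, by
            have := v.2.1
            rw [← Fin.cons_self_tail v.1, linearIndependent_finCons] at this
            exact this.1, fun a b => v.2.2 _ _⟩,
          ⟨⟨v.1 0, fun y hy => by
              have e : Submodule.span F (Set.range (Fin.tail v.1)) ≤ LinearMap.ker (B.flip (v.1 0)) := by
                refine Submodule.span_le.mpr ?_
                rintro _ ⟨a, rfl⟩
                exact v.2.2 a.succ 0
              exact e hy⟩, by
            have := v.2.1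
            rw [← Fin.cons_self_tail v.1, linearIndependent_finCons] at this
            exact this.2⟩⟩
        invFun := fun s => ⟨Fin.cons (s.2.1 : V) s.1.1, linearIndependent_finCons.mpr ⟨s.1.2.1, s.2.2⟩, by
          have hperp : ∀ a, B (s.1.1 a) (s.2.1 : V) = 0 := fun a => s.2.1.2 _ (Submodule.subset_span ⟨a, rfl⟩)
          intro a b
          cases a using Fin.cases <;> cases b using Fin.cases <;> simp only [Fin.cons_zero, Fin.cons_succ]
          · exact h.self _
          · exact (refl_of_alt h).zero_swap (hperp _)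
          · exact hperp _
          · exact s.1.2.2 _ _⟩
        left_inv := fun v => Subtype.ext (Fin.cons_self_tail v.1)
        right_inv := fun s => by
          obtain ⟨⟨t, ht⟩, ⟨w, hw⟩, hw'⟩ := s
          rfl }
    rw [Nat.card_congr e, Nat.card_sigma, Finset.sum_congr rfl fun t _ => hfib t, Finset.sum_const, Finset.card_univ,
      smul_eq_mul, ← Nat.card_eq_fintype_card, ih, Finset.prod_range_succ]

/-- The number of totally isotropic subspaces. -/
theorem card_subspaces_mul (h : SpCount.IsAltND B) (m : ℕ) :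
    Nat.card {W : Submodule F V // finrank F W = m ∧ ∀ u ∈ W, ∀ v ∈ W, B u v = 0} *
        ∏ k ∈ Finset.range m, (Fintype.card F ^ m - Fintype.card F ^ k) =
      ∏ j ∈ Finset.range m, (Fintype.card F ^ (finrank F V - j) - Fintype.card F ^ j) := by
  classical
  haveI : Finite V := Module.finite_of_finite F
  haveI : Finite (Submodule F V) := Finite.of_injective _ SetLike.coe_injective
  let P := {W : Submodule F V // finrank F W = m ∧ ∀ u ∈ W, ∀ v ∈ W, B u v = 0}
  haveI := Fintype.ofFinite P
  have hfib : ∀ W : P, Nat.card {v : Fin m → W.1 // LinearIndependent F v} =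
      ∏ k ∈ Finset.range m, (Fintype.card F ^ m - Fintype.card F ^ k) := fun W => by
    rw [card_linearIndependent (K := F) (V := W.1) (k := m) W.2.1.ge, W.2.1,
      Finset.prod_range (fun k => Fintype.card F ^ m - Fintype.card F ^ k)]
  let e : (Σ W : P, {v : Fin m → W.1 // LinearIndependent F v}) → Tup B m := fun s =>
    ⟨fun a => (s.2.1 a : V), s.2.2.map' s.1.1.subtype (Submodule.ker_subtype _),
      fun a b => s.1.2.2 _ (s.2.1 a).2 _ (s.2.1 b).2⟩
  have hspan : ∀ s : Σ W : P, {v : Fin m → W.1 // LinearIndependent F v},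
      Submodule.span F (Set.range (e s).1) = s.1.1 := fun s =>
    Submodule.eq_of_le_of_finrank_eq (Submodule.span_le.mpr (by rintro _ ⟨a, rfl⟩; exact (s.2.1 a).2))
      (by rw [finrank_span_eq_card (e s).2.1, Fintype.card_fin, s.1.2.1])
  have hbij : Function.Bijective e := by
    refine ⟨fun s s' h => ?_, fun t => ?_⟩
    · have h1 := hspan s
      rw [h, hspan s'] at h1
      obtain ⟨⟨W, hW⟩, v⟩ := s
      obtain ⟨⟨W', hW'⟩, v'⟩ := s'
      change W' = W at h1
      subst h1
      have hv : v = v' := Subtype.ext (funext fun a => Subtype.ext (congrFun (congrArg Subtype.val h) a))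
      rw [hv]
    · have hS : ∀ x ∈ Submodule.span F (Set.range t.1), ∀ y ∈ Submodule.span F (Set.range t.1), B x y = 0 :=
        fun x hx y hy => by
          have e : Submodule.span F (Set.range t.1) ≤ LinearMap.ker (B.flip y) := by
            refine Submodule.span_le.mpr ?_
            rintro _ ⟨a, rfl⟩
            have e2 : Submodule.span F (Set.range t.1) ≤ LinearMap.ker (B (t.1 a)) := by
              refine Submodule.span_le.mpr ?_
              rintro _ ⟨b, rfl⟩
              exact t.2.2 a b
            exact e2 hy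
          exact e hx
      exact ⟨⟨⟨Submodule.span F (Set.range t.1), by rw [finrank_span_eq_card t.2.1, Fintype.card_fin], hS⟩,
        fun a => ⟨t.1 a, Submodule.subset_span ⟨a, rfl⟩⟩, LinearIndependent.of_comp (Submodule.subtype _) t.2.1⟩,
        rfl⟩
  have := Nat.card_congr (Equiv.ofBijective e hbij)
  rw [card_tup h, Nat.card_sigma, Finset.sum_congr rfl fun W _ => hfib W, Finset.sum_const, Finset.card_univ,
    smul_eq_mul, ← Nat.card_eq_fintype_card (α := P)] at this
  exact this

/-- A prime dividing the number of totally isotropic `m`-subspaces is not the characteristic and divides some factor. -/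
theorem prime_dvd_subspaces {p : ℕ} [Fact p.Prime] [CharP F p] (h : SpCount.IsAltND B) {d m : ℕ}
    (hV : finrank F V = 2 * d) (hmd : m ≤ d) {r : ℕ} (hr : r.Prime)
    (hdvd : r ∣ Nat.card {W : Submodule F V // finrank F W = m ∧ ∀ u ∈ W, ∀ v ∈ W, B u v = 0}) :
    r ≠ p ∧ ∃ j < m, r ∣ Fintype.card F ^ (2 * (d - j)) - 1 := by
  set q := Fintype.card F with hq
  have e := card_subspaces_mul h m
  have h1 : ∀ j ∈ Finset.range m, q ^ (finrank F V - j) - q ^ j = q ^ j * (q ^ (2 * (d - j)) - 1) := fun j hj => by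
    rw [Finset.mem_range] at hj
    rw [Nat.mul_sub, mul_one, ← pow_add, hV, show j + 2 * (d - j) = 2 * d - j by omega]
  have h2 : ∀ j ∈ Finset.range m, q ^ m - q ^ j = q ^ j * (q ^ (m - j) - 1) := fun j hj => by
    rw [Finset.mem_range] at hj
    rw [Nat.mul_sub, mul_one, ← pow_add, show j + (m - j) = m by omega]
  rw [← hq, Finset.prod_congr rfl h2, Finset.prod_congr rfl h1, Finset.prod_mul_distrib, Finset.prod_mul_distrib,
    mul_left_comm] at e
  have e' := Nat.eq_of_mul_eq_mul_left (Finset.prod_pos fun j _ => pow_pos Fintype.card_pos j) e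
  have hd : r ∣ ∏ j ∈ Finset.range m, (q ^ (2 * (d - j)) - 1) := by
    rw [← e']; exact hdvd.mul_right _
  obtain ⟨j, hj, hjr⟩ := (hr.prime.dvd_finsetProd_iff _).mp hd
  rw [Finset.mem_range] at hj
  refine ⟨fun hrp => ?_, j, hj, hjr⟩
  obtain ⟨n, hn0, hn⟩ := FiniteField.card F p
  have hpq : r ∣ q ^ (2 * (d - j)) := by
    rw [hq, hn, ← pow_mul, hrp]
    exact dvd_pow_self p (Nat.mul_pos n.2 (by omega)).ne'
  have h3 := Nat.dvd_sub hpq hjr
  rw [Nat.sub_sub_self (Nat.one_le_pow _ _ Fintype.card_pos)] at h3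
  exact hr.one_lt.ne' (Nat.eq_one_of_dvd_one h3)

/-- A square root of `-1` in even dimensions: invariant totally isotropic subspaces of even dimension. -/
theorem exists_ts_complex (h : SpCount.IsAltND B) {d : ℕ} (hV : finrank F V = 2 * d) (h2 : (2 : F) ≠ 0)
    (hns : ¬ IsSquare (-1 : F)) {g : Module.End F V} (hgg : ∀ x, g (g x) = -x)
    (hiso : ∀ u v, B (g u) (g v) = B u v) : ∀ l, 2 * l ≤ d →
      ∃ U : Submodule F V, (∀ x ∈ U, g x ∈ U) ∧ finrank F U = 2 * l ∧ ∀ x ∈ U, ∀ y ∈ U, B x y = 0 := by
  classical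
  intro l
  induction l with
  | zero =>
    exact fun _ => ⟨⊥, fun x hx => by rw [(Submodule.mem_bot F).mp hx, map_zero]; exact zero_mem _, by simp,
      fun x hx y _ => by simp [(Submodule.mem_bot F).mp hx]⟩
  | succ l ih =>
    intro hl
    obtain ⟨U, hU, hd, hts⟩ := ih (by omega)
    have hB := refl_of_alt h
    have hperp : ∀ x ∈ B.orthogonal U, g x ∈ B.orthogonal U := fun x hx y hy => by
      have e : y = g (-g y) := by rw [map_neg, hgg, neg_neg]
      show B y (g x) = 0
      rw [e, hiso, map_neg, LinearMap.neg_apply, show B (g y) x = 0 from hx _ (hU y hy), neg_zero]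
    have hUle : U ≤ B.orthogonal U := fun x hx y hy => hts y hy x hx
    have hss : g.IsSemisimple := by
      refine Elusive.isSemisimple_of_pow (r := 2) (c := -1) (by exact_mod_cast h2) (neg_ne_zero.mpr one_ne_zero) ?_
      exact LinearMap.ext fun x => by simp [pow_two, hgg]
    obtain ⟨Z, hZ, hc⟩ := Module.End.isSemisimple_iff.1 hss U (fun x hx => hU x hx)
    set C := Z ⊓ B.orthogonal U with hC
    have hdec : ∀ x ∈ B.orthogonal U, ∃ u ∈ U, ∃ c ∈ C, x = u + c := fun x hx => by
      obtain ⟨u, hu, c, hcc, rfl⟩ := Submodule.mem_sup.mp (hc.sup_eq_top.symm ▸ Submodule.mem_top : x ∈ U ⊔ Z)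
      exact ⟨u, hu, c, ⟨hcc, by simpa using (B.orthogonal U).sub_mem hx (hUle hu)⟩, rfl⟩
    have hsup : U ⊔ C = B.orthogonal U := le_antisymm (sup_le hUle inf_le_right) fun x hx => by
      obtain ⟨u, hu, c, hcc, rfl⟩ := hdec x hx
      exact Submodule.add_mem_sup hu hcc
    have hinf : U ⊓ C = ⊥ := eq_bot_iff.mpr fun x hx => hc.disjoint.le_bot ⟨hx.1, hx.2.1⟩
    have hCd : 3 ≤ finrank F C := by
      have h1 := Submodule.finrank_sup_add_finrank_inf_eq U C
      rw [hsup, hinf, finrank_bot, perp_inf_card h hd, hV] at h1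
      omega
    let Q : QuadraticForm F V := LinearMap.BilinMap.toQuadraticMap (B.compl₂ g)
    obtain ⟨v, hv, hv0, hQv⟩ := Small.QuadBasis.exists_singular Q hCd
    have hq : B v (g v) = 0 := hQv
    have hB2 : B (g v) v = 0 := hB.zero_swap hq
    have hgv : g v ∈ C := ⟨hZ hv.1, hperp _ hv.2⟩
    have hli : LinearIndependent F ![v, g v] := by
      rw [LinearIndependent.pair_iff]
      intro a b hab
      by_cases hb : b = 0
      · subst hb
        rw [zero_smul, add_zero, smul_eq_zero] at hab
        exact ⟨hab.resolve_right hv0, rfl⟩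
      · exfalso
        have e : g v = (-(a / b)) • v := by
          have h1 : b • g v = -(a • v) := eq_neg_of_add_eq_zero_right hab
          rw [div_eq_inv_mul, neg_smul, mul_smul, ← smul_neg, ← h1, smul_smul, inv_mul_cancel₀ hb, one_smul]
        have e2 := hgg v
        rw [e, map_smul, e, smul_smul] at e2
        refine hns ⟨-(a / b), ?_⟩
        have e3 : ((-(a / b)) * (-(a / b)) + 1) • v = 0 := by rw [add_smul, one_smul, e2, neg_add_cancel]
        linear_combination -((smul_eq_zero.mp e3).resolve_right hv0)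
    set P := Submodule.span F (Set.range ![v, g v]) with hP
    have hPC : P ≤ C := Submodule.span_le.mpr (by rintro _ ⟨i, rfl⟩; fin_cases i; exacts [hv, hgv])
    refine ⟨U ⊔ P, ?_, ?_, ?_⟩
    · intro x hx
      obtain ⟨u, hu, y, hy, rfl⟩ := Submodule.mem_sup.mp hx
      rw [map_add]
      refine Submodule.add_mem_sup (hU u hu) ?_
      have : P ≤ P.comap g := Submodule.span_le.mpr (by
        rintro _ ⟨i, rfl⟩
        fin_cases i
        · exact Submodule.subset_span ⟨1, rfl⟩
        · show g (g v) ∈ P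
          rw [hgg]
          exact P.neg_mem (Submodule.subset_span ⟨0, rfl⟩))
      exact this hy
    · have h1 := Submodule.finrank_sup_add_finrank_inf_eq U P
      have h0 : U ⊓ P = ⊥ := le_bot_iff.mp ((inf_le_inf_left U hPC).trans hinf.le)
      rw [h0, finrank_bot, finrank_span_eq_card hli, Fintype.card_fin, hd] at h1
      omega
    · have hPP : ∀ y ∈ P, ∀ y' ∈ P, B y y' = 0 := fun y hy y' hy' => by
        have e : P ≤ LinearMap.ker (B.flip y') := by
          refine Submodule.span_le.mpr ?_
          rintro _ ⟨i, rfl⟩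
          have e2 : P ≤ LinearMap.ker (B (![v, g v] i)) := by
            refine Submodule.span_le.mpr ?_
            rintro _ ⟨k, rfl⟩
            fin_cases i <;> fin_cases k
            exacts [h.self v, hq, hB2, h.self (g v)]
          exact e2 hy'
        exact e hy
      intro x hx x' hx'
      obtain ⟨u, hu, y, hy, rfl⟩ := Submodule.mem_sup.mp hx
      obtain ⟨u', hu', y', hy', rfl⟩ := Submodule.mem_sup.mp hx'
      simp [hts u hu u' hu', show B u y' = 0 from (hPC hy').2 u hu, hB.zero_swap ((hPC hy).2 u' hu' : B u' y = 0),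
        hPP y hy y' hy']

end General

/-! ### Matrices -/

variable {d : ℕ}

theorem std_alt : SpCount.IsAltND (sympB d F) := ⟨sympB_self, sympB_nondeg⟩

omit [Fintype F] in
theorem finrank_std : finrank F (Fin d ⊕ Fin d → F) = 2 * d := by
  rw [finrank_fintype_fun_eq_card, Fintype.card_sum, Fintype.card_fin]; ring

/-- An isometry of finite order of an alternating space of dimension `2d` as a symplectic matrix. -/
theorem exists_element {M : Type u} [AddCommGroup M] [Module F M] [FiniteDimensional F M]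
    {B : LinearMap.BilinForm F M} (hB : SpCount.IsAltND B) (hM : finrank F M = 2 * d) {g : Module.End F M}
    (hiso : ∀ u v, B (g u) (g v) = B u v) :
    ∃ (x : ↥(Matrix.symplecticGroup (Fin d) F)) (φ : M ≃ₗ[F] (Fin d ⊕ Fin d → F)),
      (∀ u, Matrix.toLin' (x : Matrix (Fin d ⊕ Fin d) (Fin d ⊕ Fin d) F) (φ u) = φ (g u)) ∧
      ∀ u v, Cfsg.sympForm d F (φ u) (φ v) = B u v := by
  classical
  obtain ⟨f⟩ := SpCount.exists_fam d hB hM
  have hstd : SpCount.IsAltND (SpCount.stdForm d F) := SpCount.stdForm_isAltND d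
  obtain ⟨f'⟩ := SpCount.exists_fam d hstd finrank_std
  let b := SpCount.famBasis hB hM f
  let b' := SpCount.famBasis hstd finrank_std f'
  let φ := b.equiv b' (Equiv.refl _)
  have hφ : ∀ u v, Cfsg.sympForm d F (φ u) (φ v) = B u v := by
    have e : (SpCount.stdForm d F).compl₁₂ φ.toLinearMap φ.toLinearMap = B := by
      refine LinearMap.ext_basis b b fun i j => ?_
      simp only [LinearMap.compl₁₂_apply, LinearEquiv.coe_coe, φ, Basis.equiv_apply, Equiv.refl_apply]
      simp only [b, b', SpCount.famBasis, Basis.mk_apply]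
      rw [f'.2, f.2]
    intro u v
    rw [← LinearMap.congr_fun (LinearMap.congr_fun e u) v, LinearMap.compl₁₂_apply, SpCount.stdForm_apply]
    rfl
  let X : Module.End F (Fin d ⊕ Fin d → F) := φ.conj g
  have hX : ∀ u, X (φ u) = φ (g u) := fun u => by simp [X, LinearEquiv.conj_apply_apply]
  refine ⟨⟨LinearMap.toMatrix' X, ?_⟩, φ, fun u => ?_, hφ⟩
  · rw [SymplecticGroup.mem_iff']
    refine Matrix.ext fun i j => ?_
    obtain ⟨u, hu⟩ := φ.surjective (Pi.single i 1)
    obtain ⟨v, hv⟩ := φ.surjective (Pi.single j 1)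
    have h : Cfsg.sympForm d F (Matrix.mulVec (LinearMap.toMatrix' X) (Pi.single i 1))
        (Matrix.mulVec (LinearMap.toMatrix' X) (Pi.single j 1)) =
        Cfsg.sympForm d F (Pi.single i 1) (Pi.single j 1) := by
      rw [LinearMap.toMatrix'_mulVec, LinearMap.toMatrix'_mulVec, ← hu, ← hv, hX, hX, hφ, hφ, hiso]
    rw [sympForm, sympForm, Matrix.mulVec_mulVec, ← Matrix.vecMul_transpose, ← Matrix.dotProduct_mulVec,
      Matrix.mulVec_mulVec, ← Matrix.mul_assoc] at h
    simpa [dotProduct, Pi.single_apply] using h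
  · show Matrix.toLin' (LinearMap.toMatrix' X) (φ u) = φ (g u)
    rw [Matrix.toLin'_toMatrix', hX]

/-- An element with few invariant subspaces: a free part and a fixed part. -/
theorem exists_counterexample {r : ℕ} (hr : r.Prime) {M : Type u} [AddCommGroup M] [Module F M]
    [FiniteDimensional F M] {B : LinearMap.BilinForm F M} (hB : SpCount.IsAltND B) {g : Module.End F M}
    (hg : IsFree B g r) {a n : ℕ} (hM : finrank F M = 2 * n) (hd : n + a = d) (hn : 0 < n) :
    ∃ x : ↥(Matrix.symplecticGroup (Fin d) F),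
      (∃ z : F, ((x ^ r : ↥(Matrix.symplecticGroup (Fin d) F)) : Matrix (Fin d ⊕ Fin d) (Fin d ⊕ Fin d) F) = z • 1) ∧
      (∀ z : F, (x : Matrix (Fin d ⊕ Fin d) (Fin d ⊕ Fin d) F) ≠ z • 1) ∧
      ∀ W : Submodule F (Fin d ⊕ Fin d → F), (∀ u ∈ W, ∀ v ∈ W, Cfsg.sympForm d F u v = 0) →
        W.map (Matrix.toLin' (x : Matrix (Fin d ⊕ Fin d) (Fin d ⊕ Fin d) F)) ≤ W →
        ∃ U : Submodule F M, (∀ u ∈ U, g u ∈ U) ∧ (∀ u ∈ U, ∀ v ∈ U, B u v = 0) ∧
          finrank F U ≤ finrank F W ∧ finrank F W ≤ finrank F U + a := by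
  classical
  let B' : LinearMap.BilinForm F (M × (Fin a ⊕ Fin a → F)) :=
    B.compl₁₂ (LinearMap.fst F _ _) (LinearMap.fst F _ _) + (sympB a F).compl₁₂ (LinearMap.snd F _ _) (LinearMap.snd F _ _)
  have hB' : ∀ u v, B' u v = B u.1 v.1 + sympB a F u.2 v.2 := fun _ _ => rfl
  have hB'alt : SpCount.IsAltND B' := ⟨fun u => by rw [hB', hB.self, sympB_self, add_zero], fun u hu =>
    Prod.ext (hB.nondeg _ fun v => by simpa [hB'] using hu (v, 0))
      (sympB_nondeg _ fun v => by simpa [hB'] using hu (0, v))⟩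
  let g' : Module.End F (M × (Fin a ⊕ Fin a → F)) := g.prodMap 1
  have hg' : ∀ u, g' u = (g u.1, u.2) := fun _ => rfl
  have hgr : ∀ (k : ℕ) u, (g' ^ k) u = ((g ^ k) u.1, u.2) := by
    intro k
    induction k with
    | zero => intro u; rfl
    | succ k ih => intro u; rw [pow_succ', Module.End.mul_apply, ih, hg', pow_succ', Module.End.mul_apply]
  have htame : IsTame B' g' r := ⟨hg.ne_zero, LinearMap.ext fun u => by rw [hgr, hg.pow_eq]; rfl,
    fun u v => by rw [hB', hB', hg', hg', hg.isometry]⟩
  have hdim : finrank F (M × (Fin a ⊕ Fin a → F)) = 2 * d := by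
    rw [Module.finrank_prod, hM, finrank_fintype_fun_eq_card, Fintype.card_sum, Fintype.card_fin]; omega
  obtain ⟨x, φ, hx, hφ⟩ := exists_element hB'alt hdim htame.isometry
  have hpow : ∀ (k : ℕ) u, Matrix.toLin' (((x ^ k : ↥(Matrix.symplecticGroup (Fin d) F))) :
      Matrix (Fin d ⊕ Fin d) (Fin d ⊕ Fin d) F) (φ u) = φ ((g' ^ k) u) := by
    intro k
    induction k with
    | zero => intro u; simp
    | succ k ih =>
      intro u
      rw [pow_succ', Submonoid.coe_mul, Matrix.toLin'_mul, LinearMap.comp_apply, ih, hx, pow_succ',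
        Module.End.mul_apply]
  refine ⟨x, ⟨1, ?_⟩, fun z hz => ?_, fun W hW hWx => ?_⟩
  · refine Matrix.toLin'.injective (LinearMap.ext fun w => ?_)
    obtain ⟨u, rfl⟩ := φ.surjective w
    rw [hpow, htame.pow_eq, one_smul, Matrix.toLin'_one, Module.End.one_apply, LinearMap.id_apply]
  · haveI : Nontrivial M := Module.nontrivial_of_finrank_pos (R := F) (by omega)
    obtain ⟨v, hv⟩ := exists_ne (0 : M)
    have e : ∀ u, z • φ u = φ (g' u) := fun u => by
      rw [← hx, hz, Matrix.toLin'_apply, Matrix.smul_mulVec, Matrix.one_mulVec]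
    have e1 : g v = z • v := congrArg Prod.fst (φ.injective (by rw [← e, map_smul] : φ (g' (v, 0)) = φ (z • (v, 0))))
    have hit : ∀ k : ℕ, (g ^ k) v = z ^ k • v := by
      intro k
      induction k with
      | zero => simp
      | succ k ih => rw [pow_succ', Module.End.mul_apply, ih, map_smul, e1, smul_smul, pow_succ]
    obtain ⟨w, hw⟩ : ∃ w, B v w ≠ 0 := by
      by_contra hc
      push Not at hc
      exact hv (hB.nondeg v hc)
    have hzr : z ^ r = 1 := by
      have h1 := hit r
      rw [hg.pow_eq, Module.End.one_apply] at h1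
      by_contra hne
      exact hv ((smul_eq_zero.mp (show (z ^ r - 1) • v = 0 by rw [sub_smul, one_smul, ← h1, sub_self])).resolve_left
        (sub_ne_zero.mpr hne))
    have e2 : g w = z • w := congrArg Prod.fst (φ.injective (by rw [← e, map_smul] : φ (g' (w, 0)) = φ (z • (w, 0))))
    have hz2 : z * z = 1 := by
      have h1 := hg.isometry v w
      rw [e1, e2, map_smul, map_smul, LinearMap.smul_apply, smul_eq_mul, smul_eq_mul, ← mul_assoc] at h1
      exact mul_right_cancel₀ hw (h1.trans (one_mul _).symm)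
    obtain ⟨k, hk⟩ := hr.odd_of_ne_two hg.odd
    rw [hk, pow_succ, pow_mul, pow_two, hz2, one_pow, one_mul] at hzr
    exact hv (hg.fixfree v (by rw [e1, hzr, one_smul]))
  · set U' := W.comap φ.toLinearMap with hU'
    have hinv : ∀ u ∈ U', g' u ∈ U' := fun u hu => by
      show φ (g' u) ∈ W
      rw [← hx]
      exact hWx ⟨φ u, hu, rfl⟩
    have hts : ∀ u ∈ U', ∀ v ∈ U', B' u v = 0 := fun u hu v hv => by rw [← hφ]; exact hW _ hu _ hv
    have hWd : finrank F U' = finrank F W := by
      rw [hU', Submodule.comap_equiv_eq_map_symm, LinearEquiv.finrank_map_eq]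
    have hfix : ∀ u, u ∈ fixSpace g' ↔ u.1 = 0 := fun u => by
      rw [mem_fixSpace, hg']
      exact ⟨fun h => hg.fixfree _ (congrArg Prod.fst h), fun h => Prod.ext (by simp [h]) rfl⟩
    have hmov : ∀ u ∈ moved g', u.2 = 0 := by
      rintro _ ⟨y, rfl⟩
      simp [hg']
    let ι₁ : M →ₗ[F] M × (Fin a ⊕ Fin a → F) := LinearMap.inl F M _
    refine ⟨U'.comap ι₁, fun u hu => ?_, fun u hu v hv => ?_, ?_, ?_⟩
    · show ι₁ (g u) ∈ U'
      have := hinv _ hu
      rwa [hg'] at this
    · have := hts _ hu _ hv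
      simpa [hB', ι₁] using this
    · rw [← hWd]
      exact (LinearEquiv.finrank_eq (Submodule.equivMapOfInjective ι₁ LinearMap.inl_injective (U'.comap ι₁))).trans_le
        (Submodule.finrank_mono (Submodule.map_comap_le _ _))
    · rw [← hWd, htame.finrank_split hinv]
      have h1 : finrank F ↥(U' ⊓ moved g') ≤ finrank F (U'.comap ι₁) := by
        refine le_of_le_of_eq ?_
          (LinearEquiv.finrank_eq (Submodule.equivMapOfInjective ι₁ LinearMap.inl_injective (U'.comap ι₁))).symm
        refine Submodule.finrank_mono fun u hu => ?_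
        have e : ι₁ u.1 = u := Prod.ext rfl (hmov u hu.2).symm
        exact ⟨u.1, by show ι₁ u.1 ∈ U'; rw [e]; exact hu.1, e⟩
      have h2 := two_mul_finrank_le' (refl_of_alt hB'alt) (htame.fix_nondeg (refl_of_alt hB'alt))
        (inf_le_right : U' ⊓ fixSpace g' ≤ _) fun u hu v hv => hts u hu.1 v hv.1
      have h3 : finrank F (fixSpace g') ≤ 2 * a := by
        have : fixSpace g' ≤ LinearMap.range (LinearMap.inr F M (Fin a ⊕ Fin a → F)) :=
          fun u hu => ⟨u.2, Prod.ext ((hfix u).mp hu).symm rfl⟩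
        refine (Submodule.finrank_mono this).trans ((LinearMap.finrank_range_le _).trans ?_)
        rw [finrank_fintype_fun_eq_card, Fintype.card_sum, Fintype.card_fin]; omega
      omega

/-- Sufficiency for odd primes. -/
theorem exists_ts_of_tame {V : Type u} [AddCommGroup V] [Module F V] [FiniteDimensional F V]
    {B : LinearMap.BilinForm F V} (hB : SpCount.IsAltND B) (hV : finrank F V = 2 * d) {g : Module.End F V} {r : ℕ}
    (hr : r.Prime) (hr2 : r ≠ 2) (hg : IsTame B g r) {m c : ℕ} (hmd : m ≤ d)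
    (hc : c = if Even (orderOf (Fintype.card F : ZMod r)) then orderOf (Fintype.card F : ZMod r)
      else 2 * orderOf (Fintype.card F : ZMod r))
    (hcond : 2 * (m % orderOf (Fintype.card F : ZMod r)) ≤ (2 * d) % c ∧
      (Odd (orderOf (Fintype.card F : ZMod r)) ∨ (r - 1) / orderOf (Fintype.card F : ZMod r) +
        2 * (m / orderOf (Fintype.card F : ZMod r)) ≤ (2 * d) / orderOf (Fintype.card F : ZMod r))) :
    ∃ U : Submodule F V, (∀ x ∈ U, g x ∈ U) ∧ finrank F U = m ∧ ∀ x ∈ U, ∀ y ∈ U, B x y = 0 := by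
  classical
  set i := orderOf (Fintype.card F : ZMod r) with hi
  have hRB := refl_of_alt hB
  have hfree := hg.free_moved hr hr2
  have hipos : 0 < i := hfree.order_pos
  have hMalt := alt_restrict hB (hg.moved_nondeg hRB)
  have hFalt := alt_restrict hB (hg.fix_nondeg hRB)
  obtain ⟨s, hs⟩ := (hfree.exists_irred (U := ⊤) fun _ _ => Submodule.mem_top).1
  rw [finrank_top, ← hi] at hs
  obtain ⟨a, ha⟩ := even_dim hFalt
  have hsum := Submodule.finrank_add_eq_of_isCompl hg.isCompl
  rw [hV, ha, hs] at hsum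
  have hMeven := even_dim hMalt
  rw [hs] at hMeven
  obtain ⟨l, hl, hlm, hla⟩ : ∃ l, (l = 0 ∨ i * (slack F r + 2 * l) ≤ i * s + i) ∧ i * l ≤ m ∧ m - i * l ≤ a := by
    have hdm := Nat.div_add_mod m i
    have hmlt := Nat.mod_lt m hipos
    by_cases he : Even i
    · rw [if_pos he] at hc
      subst hc
      obtain ⟨hc1, hc2⟩ := hcond
      have hc2 := hc2.resolve_left (Nat.not_odd_iff_even.mpr he)
      have hsl : slack F r = (r - 1) / i := by rw [slack, if_pos he]
      set t := (r - 1) / i
      have hdd := Nat.div_add_mod (2 * d) i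
      have hsle : s ≤ 2 * d / i := (Nat.le_div_iff_mul_le hipos).mpr (by rw [mul_comm]; omega)
      refine ⟨min (m / i) ((s + 1 - t) / 2), ?_, ?_, ?_⟩
      · rcases Nat.eq_zero_or_pos ((s + 1 - t) / 2) with h0 | h0
        · left; omega
        · right
          rw [hsl]
          calc i * (t + 2 * min (m / i) ((s + 1 - t) / 2)) ≤ i * (s + 1) := Nat.mul_le_mul_left _ (by omega)
            _ = i * s + i := by ring
      · exact le_trans (Nat.mul_le_mul_left _ (min_le_left _ _)) (by omega)
      · rcases Nat.le_total (m / i) ((s + 1 - t) / 2) with hle | hle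
        · rw [min_eq_left hle]
          have h1 : i * s ≤ i * (2 * d / i) := Nat.mul_le_mul_left _ hsle
          omega
        · rw [min_eq_right hle]
          have h1 : i * s ≤ i * (t + 2 * ((s + 1 - t) / 2)) := Nat.mul_le_mul_left _ (by omega)
          have h2 : i * (t + 2 * (m / i)) ≤ i * (2 * d / i) := Nat.mul_le_mul_left _ hc2
          rw [Nat.mul_add, mul_left_comm] at h1 h2
          omega
    · rw [if_neg he] at hc
      subst hc
      have hsl : slack F r = 0 := by rw [slack, if_neg he]
      obtain ⟨s', hs'⟩ := (Nat.even_mul.mp hMeven).resolve_left he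
      subst hs'
      have hc1 := hcond.1
      rw [Nat.mul_mod_mul_left] at hc1
      have hdd := Nat.div_add_mod d i
      have hs'le : s' ≤ d / i := (Nat.le_div_iff_mul_le hipos).mpr (by rw [mul_comm]; rw [Nat.mul_add] at hsum; omega)
      refine ⟨min (m / i) s', ?_, ?_, ?_⟩
      · right
        rw [hsl, zero_add]
        calc i * (2 * min (m / i) s') ≤ i * (s' + s') := Nat.mul_le_mul_left _ (by omega)
          _ ≤ i * (s' + s') + i := Nat.le_add_right _ _
      · exact le_trans (Nat.mul_le_mul_left _ (min_le_left _ _)) (by omega)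
      · rw [Nat.mul_add] at hsum
        rcases Nat.le_total (m / i) s' with hle | hle
        · rw [min_eq_left hle]
          have h1 : i * s' ≤ i * (d / i) := Nat.mul_le_mul_left _ hs'le
          omega
        · rw [min_eq_right hle]
          omega
  obtain ⟨U, hU, hUd, hUts⟩ := exists_ts l (B.restrict (moved g)) _ hfree (refl_restrict hRB (hg.moved_nondeg hRB))
    (by rw [← hi, hs]; exact hl)
  rw [← hi] at hUd
  obtain ⟨T, hTd, hTts⟩ := exists_ts_alt hFalt (k := m - i * l) (D := a) (by rw [ha]; omega) (by rw [ha]; ring)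
  refine ⟨T.map (fixSpace g).subtype ⊔ U.map (moved g).subtype, ?_, ?_, ?_⟩
  · intro x hx
    obtain ⟨_, ⟨t, ht, rfl⟩, _, ⟨u, hu, rfl⟩, rfl⟩ := Submodule.mem_sup.mp hx
    rw [map_add]
    exact Submodule.add_mem_sup ⟨t, ht, (mem_fixSpace.mp t.2).symm⟩ ⟨_, hU u hu, rfl⟩
  · have h0 : T.map (fixSpace g).subtype ⊓ U.map (moved g).subtype = ⊥ :=
      le_bot_iff.mp ((inf_le_inf (Submodule.map_subtype_le _ _) (Submodule.map_subtype_le _ _)).trans
        hg.isCompl.inf_eq_bot.le)
    have := Submodule.finrank_sup_add_finrank_inf_eq (T.map (fixSpace g).subtype) (U.map (moved g).subtype)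
    rw [h0, finrank_bot, Submodule.finrank_map_subtype_eq, Submodule.finrank_map_subtype_eq, hTd, hUd] at this
    omega
  · intro x hx y hy
    obtain ⟨_, ⟨t, ht, rfl⟩, _, ⟨u, hu, rfl⟩, rfl⟩ := Submodule.mem_sup.mp hx
    obtain ⟨_, ⟨t', ht', rfl⟩, _, ⟨u', hu', rfl⟩, rfl⟩ := Submodule.mem_sup.mp hy
    simp [show B (t : V) (t' : V) = 0 from hTts t ht t' ht', show B (u : V) (u' : V) = 0 from hUts u hu u' hu',
      show B (t : V) (u' : V) = 0 from hg.perp t.2 u'.2, hRB.zero_swap (hg.perp t'.2 u.2)]

/-- An involutory isometry fixes totally isotropic subspaces of every dimension. -/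
theorem exists_ts_involution {V : Type u} [AddCommGroup V] [Module F V] [FiniteDimensional F V]
    {B : LinearMap.BilinForm F V} (hB : SpCount.IsAltND B) (hV : finrank F V = 2 * d) {g : Module.End F V}
    (hg : IsTame B g 2) {m : ℕ} (hmd : m ≤ d) :
    ∃ U : Submodule F V, (∀ x ∈ U, g x ∈ U) ∧ finrank F U = m ∧ ∀ x ∈ U, ∀ y ∈ U, B x y = 0 := by
  classical
  have hRB := refl_of_alt hB
  have hMalt := alt_restrict hB (hg.moved_nondeg hRB)
  have hFalt := alt_restrict hB (hg.fix_nondeg hRB)
  obtain ⟨a, ha⟩ := even_dim hFalt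
  obtain ⟨b, hb⟩ := even_dim hMalt
  have hsum := Submodule.finrank_add_eq_of_isCompl hg.isCompl
  rw [hV, ha, hb] at hsum
  have hmov : ∀ x ∈ moved g, g x = -x := by
    rintro _ ⟨y, rfl⟩
    have e : g (g y) = y := LinearMap.congr_fun (show g * g = 1 by rw [← pow_two]; exact hg.pow_eq) y
    simp [e]
  obtain ⟨T, hTd, hTts⟩ := exists_ts_alt hFalt (k := min m a) (D := a) (by omega) (by omega)
  obtain ⟨U, hUd, hUts⟩ := exists_ts_alt hMalt (k := m - min m a) (D := b) (by omega) (by omega)
  refine ⟨T.map (fixSpace g).subtype ⊔ U.map (moved g).subtype, ?_, ?_, ?_⟩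
  · intro x hx
    obtain ⟨_, ⟨t, ht, rfl⟩, _, ⟨u, hu, rfl⟩, rfl⟩ := Submodule.mem_sup.mp hx
    rw [map_add]
    exact Submodule.add_mem_sup ⟨t, ht, (mem_fixSpace.mp t.2).symm⟩
      ⟨-u, U.neg_mem hu, by simp [hmov _ u.2]⟩
  · have h0 : T.map (fixSpace g).subtype ⊓ U.map (moved g).subtype = ⊥ :=
      le_bot_iff.mp ((inf_le_inf (Submodule.map_subtype_le _ _) (Submodule.map_subtype_le _ _)).trans
        hg.isCompl.inf_eq_bot.le)
    have := Submodule.finrank_sup_add_finrank_inf_eq (T.map (fixSpace g).subtype) (U.map (moved g).subtype)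
    rw [h0, finrank_bot, Submodule.finrank_map_subtype_eq, Submodule.finrank_map_subtype_eq, hTd, hUd] at this
    omega
  · intro x hx y hy
    obtain ⟨_, ⟨t, ht, rfl⟩, _, ⟨u, hu, rfl⟩, rfl⟩ := Submodule.mem_sup.mp hx
    obtain ⟨_, ⟨t', ht', rfl⟩, _, ⟨u', hu', rfl⟩, rfl⟩ := Submodule.mem_sup.mp hy
    simp [show B (t : V) (t' : V) = 0 from hTts t ht t' ht', show B (u : V) (u' : V) = 0 from hUts u hu u' hu',
      show B (t : V) (u' : V) = 0 from hg.perp t.2 u'.2, hRB.zero_swap (hg.perp t'.2 u.2)]

end Cfsg.Agent.Classical.Elusive.TsSymp
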