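import Cfsg.Agent.Lib.Classical.Elusive.OrthFree
import Cfsg.Agent.Lib.Classical.Elusive.TsSymp

/-!
# Invariant nondegenerate pieces of isometries of alternating spaces
-/

set_option autoImplicit false

universe u v

namespace Cfsg.Agent.Classical.Elusive.SpNd

open Module Polynomial
open Cfsg.Agent.Classical (SpCount.IsAltND)

variable {F : Type u} [Field F] {V : Type u} [AddCommGroup V] [Module F V] [FiniteDimensional F V]
  {B : LinearMap.BilinForm F V} {g : Module.End F V}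

/-- The restriction of the form to the subspace is nondegenerate. -/
def ND (B : LinearMap.BilinForm F V) (W : Submodule F V) : Prop := ∀ x ∈ W, (∀ y ∈ W, B x y = 0) → x = 0

theorem nd_top (h : SpCount.IsAltND B) : ND B ⊤ := fun x _ hx => h.nondeg x fun w => hx w trivial

theorem nd_iff (h : SpCount.IsAltND B) {W : Submodule F V} : ND B W ↔ W ⊓ B.orthogonal W = ⊥ := by
  rw [eq_bot_iff]
  constructor
  · intro hW x hx
    exact (Submodule.mem_bot F).mpr (hW x hx.1 fun y hy => by rw [h.swap, show B y x = 0 from hx.2 y hy, neg_zero])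
  · intro hW x hx h0
    exact (Submodule.mem_bot F).mp (hW ⟨hx, fun y hy => show B y x = 0 by rw [h.swap, h0 y hy, neg_zero]⟩)

theorem alt_restrict (h : SpCount.IsAltND B) {W : Submodule F V} (hW : ND B W) : SpCount.IsAltND (B.restrict W) :=
  ⟨fun v => h.self v.1, fun v hv => Subtype.ext (hW v.1 v.2 fun y hy => hv ⟨y, hy⟩)⟩

theorem nd_even [Fintype F] (h : SpCount.IsAltND B) {W : Submodule F V} (hW : ND B W) : Even (finrank F W) :=
  TsSymp.even_dim (alt_restrict h hW)

theorem range_facts {M : Type v} [AddCommGroup M] [Module F M] (T : M →ₗ[F] V)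
    (hT : ∀ c, (∀ c', B (T c) (T c') = 0) → c = 0) :
    ND B (LinearMap.range T) ∧ finrank F (LinearMap.range T) = finrank F M := by
  refine ⟨?_, LinearMap.finrank_range_of_inj ((injective_iff_map_eq_zero T).mpr fun c hc => hT c fun c' => by simp [hc])⟩
  rintro _ ⟨c, rfl⟩ h
  rw [hT c fun c' => h _ ⟨c', rfl⟩, map_zero]

/-- A plane. -/
theorem plane (h : SpCount.IsAltND B) {Y : Submodule F V} {u v : V} (hu : u ∈ Y) (hv : v ∈ Y) (huv : B u v ≠ 0) :
    ∃ P ≤ Y, ND B P ∧ finrank F P = 2 ∧ u ∈ P ∧ v ∈ P ∧ ∀ x ∈ P, ∃ a b : F, x = a • u + b • v := by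
  let T : (F × F) →ₗ[F] V := (LinearMap.id (R := F) (M := F)).smulRight u |>.coprod ((LinearMap.id (R := F) (M := F)).smulRight v)
  have hTa : ∀ c : F × F, T c = c.1 • u + c.2 • v := fun c => rfl
  obtain ⟨h1, h2⟩ := range_facts (B := B) T fun c hc => by
    have e1 := hc (0, 1)
    have e2 := hc (1, 0)
    rw [hTa, hTa] at e1 e2
    simp [h.self, h.swap v u, huv] at e1 e2
    exact Prod.ext e1 e2
  refine ⟨LinearMap.range T, ?_, h1, by rw [h2]; simp, ⟨(1, 0), by simp [hTa]⟩, ⟨(0, 1), by simp [hTa]⟩, ?_⟩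
  · rintro _ ⟨c, rfl⟩
    rw [hTa]
    exact Y.add_mem (Y.smul_mem _ hu) (Y.smul_mem _ hv)
  · rintro _ ⟨c, rfl⟩
    exact ⟨c.1, c.2, hTa c⟩

theorem iso_injective (h : SpCount.IsAltND B) (hiso : ∀ u v, B (g u) (g v) = B u v) : Function.Injective g :=
  (injective_iff_map_eq_zero g).mpr fun u hu => h.nondeg u fun v => by rw [← hiso, hu]; simp

/-- Splitting off a nondegenerate invariant piece. -/
theorem glue (h : SpCount.IsAltND B) (hiso : ∀ u v, B (g u) (g v) = B u v) {Y P : Submodule F V} (hY : ND B Y)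
    (hYi : ∀ x ∈ Y, g x ∈ Y) (hPY : P ≤ Y) (hP : ND B P) (hPi : ∀ x ∈ P, g x ∈ P) :
    ND B (Y ⊓ B.orthogonal P) ∧ (∀ x ∈ Y ⊓ B.orthogonal P, g x ∈ Y ⊓ B.orthogonal P) ∧
      finrank F P + finrank F ↥(Y ⊓ B.orthogonal P) = finrank F Y ∧
      ∀ W ≤ Y ⊓ B.orthogonal P, ND B W → (∀ x ∈ W, g x ∈ W) →
        ND B (P ⊔ W) ∧ (∀ x ∈ P ⊔ W, g x ∈ P ⊔ W) ∧ finrank F ↥(P ⊔ W) = finrank F P + finrank F W := by
  have hB : Free.Refl B := TsSymp.refl_of_alt h
  have hbot : P ⊓ B.orthogonal P = ⊥ := (nd_iff h).mp hP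
  have hc : IsCompl P (B.orthogonal P) :=
    (LinearMap.BilinForm.isCompl_orthogonal_iff_disjoint hB.isRefl).mpr (disjoint_iff.mpr hbot)
  have hperp : ∀ {a b : V}, a ∈ P → b ∈ B.orthogonal P → B a b = 0 ∧ B b a = 0 := fun ha hb =>
    ⟨hb _ ha, by rw [h.swap, show B _ _ = 0 from hb _ ha, neg_zero]⟩
  have hsplit : ∀ y ∈ Y, ∃ a ∈ P, ∃ b ∈ Y ⊓ B.orthogonal P, y = a + b := by
    intro y hy
    obtain ⟨a, ha, b, hb, rfl⟩ := Submodule.mem_sup.mp (hc.sup_eq_top.ge (Submodule.mem_top (x := y)))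
    exact ⟨a, ha, b, ⟨by simpa using Y.sub_mem hy (hPY ha), hb⟩, rfl⟩
  have hinv : ∀ x ∈ B.orthogonal P, g x ∈ B.orthogonal P := by
    intro x hx z hz
    have hs : Function.Surjective (g.restrict hPi) :=
      LinearMap.injective_iff_surjective.mp fun a b hab => Subtype.ext (iso_injective h hiso (congrArg Subtype.val hab))
    obtain ⟨w, hw⟩ := hs ⟨z, hz⟩
    rw [show z = g w from (congrArg Subtype.val hw).symm]
    show B (g w) (g x) = 0
    rw [hiso]
    exact hx w.1 w.2
  refine ⟨fun x hx h0 => hY x hx.1 fun y hy => ?_, fun x hx => ⟨hYi x hx.1, hinv x hx.2⟩, ?_, ?_⟩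
  · obtain ⟨a, ha, b, hb, rfl⟩ := hsplit y hy
    rw [map_add, (hperp ha hx.2).2, h0 b hb, add_zero]
  · have he : P ⊔ (Y ⊓ B.orthogonal P) = Y := le_antisymm (sup_le hPY inf_le_left) fun y hy => by
      obtain ⟨a, ha, b, hb, rfl⟩ := hsplit y hy
      exact Submodule.add_mem_sup ha hb
    have h1 := Submodule.finrank_sup_add_finrank_inf_eq P (Y ⊓ B.orthogonal P)
    rw [he, show P ⊓ (Y ⊓ B.orthogonal P) = ⊥ from eq_bot_iff.mpr fun x hx => hbot.le ⟨hx.1, hx.2.2⟩, finrank_bot] at h1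
    omega
  · intro W hW hWn hWi
    refine ⟨fun x hx h0 => ?_, ?_, ?_⟩
    · obtain ⟨a, ha, b, hb, rfl⟩ := Submodule.mem_sup.mp hx
      have ha0 : a = 0 := hP a ha fun y hy => by
        have := h0 y (Submodule.mem_sup_left hy)
        rwa [map_add, LinearMap.add_apply, (hperp hy (hW hb).2).2, add_zero] at this
      have hb0 : b = 0 := hWn b hb fun y hy => by
        have := h0 y (Submodule.mem_sup_right hy)
        rwa [map_add, LinearMap.add_apply, (hperp ha (hW hy).2).1, zero_add] at this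
      rw [ha0, hb0, add_zero]
    · intro x hx
      obtain ⟨a, ha, b, hb, rfl⟩ := Submodule.mem_sup.mp hx
      rw [map_add]
      exact Submodule.add_mem_sup (hPi a ha) (hWi b hb)
    · have h1 := Submodule.finrank_sup_add_finrank_inf_eq P W
      rw [show P ⊓ W = ⊥ from eq_bot_iff.mpr fun x hx => hbot.le ⟨hx.1, (hW hx.2).2⟩, finrank_bot] at h1
      omega

/-- Repeated splitting. -/
theorem exists_pieces {α : Type v} (h : SpCount.IsAltND B) (hiso : ∀ u v, B (g u) (g v) = B u v) (sz : α → ℕ)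
    (OK : α → Prop) (hpos : ∀ a, OK a → 0 < sz a)
    (step : ∀ Y : Submodule F V, ND B Y → (∀ x ∈ Y, g x ∈ Y) → Y ≠ ⊥ →
      ∃ P ≤ Y, ND B P ∧ (∀ x ∈ P, g x ∈ P) ∧ ∃ a, OK a ∧ finrank F P = sz a) :
    ∃ A : Multiset α, (∀ a ∈ A, OK a) ∧ (A.map sz).sum = finrank F V ∧
      ∀ A' ≤ A, ∃ W : Submodule F V, ND B W ∧ (∀ x ∈ W, g x ∈ W) ∧ finrank F W = (A'.map sz).sum := by
  classical
  suffices key : ∀ (N : ℕ) (Y : Submodule F V), finrank F Y ≤ N → ND B Y → (∀ x ∈ Y, g x ∈ Y) →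
      ∃ A : Multiset α, (∀ a ∈ A, OK a) ∧ (A.map sz).sum = finrank F Y ∧
        ∀ A' ≤ A, ∃ W ≤ Y, ND B W ∧ (∀ x ∈ W, g x ∈ W) ∧ finrank F W = (A'.map sz).sum by
    obtain ⟨A, h1, h2, h3⟩ := key _ ⊤ le_rfl (nd_top h) fun _ _ => trivial
    refine ⟨A, h1, by rw [h2, finrank_top], fun A' hA' => ?_⟩
    obtain ⟨W, -, hW⟩ := h3 A' hA'
    exact ⟨W, hW⟩
  intro N
  induction N using Nat.strong_induction_on with
  | _ N ih =>
    intro Y hN hY hYi
    rcases eq_or_ne Y ⊥ with rfl | hne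
    · refine ⟨0, by simp, by simp, fun A' hA' => ?_⟩
      rw [Multiset.le_zero.mp hA']
      exact ⟨⊥, le_rfl, fun x hx _ => (Submodule.mem_bot F).mp hx, hYi, by simp⟩
    obtain ⟨P, hPY, hP, hPi, a, ha, hPd⟩ := step Y hY hYi hne
    obtain ⟨hn, hi, hd, hsup⟩ := glue h hiso hY hYi hPY hP hPi
    have hapos := hpos a ha
    obtain ⟨A, hA, hAs, hAW⟩ := ih (finrank F ↥(Y ⊓ B.orthogonal P)) (by omega) _ le_rfl hn hi
    refine ⟨a ::ₘ A, fun b hb => (Multiset.mem_cons.mp hb).elim (fun e => e ▸ ha) (hA b),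
      by rw [Multiset.map_cons, Multiset.sum_cons, hAs]; omega, fun A' hA' => ?_⟩
    by_cases hm : a ∈ A'
    · obtain ⟨A₁, rfl⟩ := Multiset.exists_cons_of_mem hm
      obtain ⟨W, hWle, hWn, hWi, hWd⟩ := hAW A₁ ((Multiset.cons_le_cons_iff a).mp hA')
      obtain ⟨h1, h2, h3⟩ := hsup W hWle hWn hWi
      exact ⟨P ⊔ W, sup_le hPY (hWle.trans inf_le_left), h1, h2, by
        rw [h3, hPd, hWd, Multiset.map_cons, Multiset.sum_cons]⟩
    · obtain ⟨W, hWle, hW⟩ := hAW A' ((Multiset.le_cons_of_notMem hm).mp hA')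
      exact ⟨W, hWle.trans inf_le_left, hW⟩

/-! ### Steps -/

theorem step_one (h : SpCount.IsAltND B) (h2 : (2 : F) ≠ 0) (hiso : ∀ u v, B (g u) (g v) = B u v)
    (hgg : ∀ v, g (g v) = v) (Y : Submodule F V) (hY : ND B Y) (hYi : ∀ x ∈ Y, g x ∈ Y) (hne : Y ≠ ⊥) :
    ∃ P ≤ Y, ND B P ∧ (∀ x ∈ P, g x ∈ P) ∧ ∃ a : ℕ, a = 2 ∧ finrank F P = a := by
  obtain ⟨y, hy, hy0⟩ := Y.exists_mem_ne_zero_of_ne_bot hne
  obtain ⟨e, he, he0, s, hs, hge⟩ : ∃ e ∈ Y, e ≠ 0 ∧ ∃ s : F, s * s = 1 ∧ g e = s • e := by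
    by_cases hp : y + g y = 0
    · exact ⟨y, hy, hy0, -1, by ring, by rw [neg_one_smul]; exact eq_neg_of_add_eq_zero_right hp⟩
    · exact ⟨y + g y, Y.add_mem hy (hYi y hy), hp, 1, one_mul 1, by rw [map_add, hgg, one_smul, add_comm]⟩
  obtain ⟨w, hw, hew⟩ : ∃ w ∈ Y, B e w ≠ 0 := by
    by_contra hc
    push Not at hc
    exact he0 (hY e he hc)
  have hf : g (w + s • g w) = s • (w + s • g w) := by
    rw [map_add, map_smul, hgg, smul_add, smul_smul, hs, one_smul, add_comm]
  have hef : B e (w + s • g w) ≠ 0 := by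
    have e1 : B e (g w) = s * B e w := by
      have := hiso e (g w)
      rw [hge, hgg, map_smul, LinearMap.smul_apply, smul_eq_mul] at this
      exact this.symm
    rw [map_add, map_smul, smul_eq_mul, e1, ← mul_assoc, hs, one_mul, ← two_mul]
    exact mul_ne_zero h2 hew
  obtain ⟨P, hPY, hP, hd, huP, hvP, hspan⟩ := plane h he (Y.add_mem hw (Y.smul_mem _ (hYi w hw))) hef
  refine ⟨P, hPY, hP, fun x hx => ?_, 2, rfl, hd⟩
  obtain ⟨a, b, rfl⟩ := hspan x hx
  rw [map_add, map_smul, map_smul, hge, hf]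
  exact P.add_mem (P.smul_mem _ (P.smul_mem _ huP)) (P.smul_mem _ (P.smul_mem _ hvP))

theorem step_neg (h : SpCount.IsAltND B) (h2 : (2 : F) ≠ 0) (hiso : ∀ u v, B (g u) (g v) = B u v)
    (hgg : ∀ v, g (g v) = -v) (Y : Submodule F V) (hY : ND B Y) (hYi : ∀ x ∈ Y, g x ∈ Y) (hne : Y ≠ ⊥) :
    ∃ P ≤ Y, ND B P ∧ (∀ x ∈ P, g x ∈ P) ∧ ∃ a : ℕ, a = 2 ∧ finrank F P = a := by
  obtain ⟨y, hy, hy0⟩ : ∃ y ∈ Y, B y (g y) ≠ 0 := by
    by_contra hc
    push Not at hc
    obtain ⟨e, he, he0⟩ := Y.exists_mem_ne_zero_of_ne_bot hne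
    refine he0 (hY e he fun w hw => ?_)
    have e1 := hc (e + g w) (Y.add_mem he (hYi w hw))
    have e2 : B (g w) (g e) = B w e := hiso w e
    have e3 : B e (g (g w)) = -B e w := by rw [hgg, map_neg]
    simp only [map_add, LinearMap.add_apply, hc e he, hc (g w) (hYi w hw), e2, e3, h.swap w e, zero_add, add_zero] at e1
    exact (mul_eq_zero.mp (show (2 : F) * B e w = 0 by linear_combination -e1)).resolve_left h2
  obtain ⟨P, hPY, hP, hd, huP, hvP, hspan⟩ := plane h hy (hYi y hy) hy0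
  refine ⟨P, hPY, hP, fun x hx => ?_, 2, rfl, hd⟩
  obtain ⟨a, b, rfl⟩ := hspan x hx
  rw [map_add, map_smul, map_smul, hgg]
  exact P.add_mem (P.smul_mem _ hvP) (P.smul_mem _ (P.neg_mem huP))

section Unipotent

variable {g' : Module.End F V}

/-- A piece of an isometry with `(g - 1) ^ n = 0`: one or two chains of maximal length. -/
theorem step_unipotent [Fintype F] (h : SpCount.IsAltND B) (hiso : ∀ u v, B (g u) (g v) = B u v)
    (hg' : g * g' = 1) {n : ℕ} (hN : (g - 1) ^ n = 0) (Y : Submodule F V) (hY : ND B Y)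
    (hYi : ∀ x ∈ Y, g x ∈ Y) (hne : Y ≠ ⊥) :
    ∃ P ≤ Y, ND B P ∧ (∀ x ∈ P, g x ∈ P) ∧ ∃ a : ℕ × Bool, (1 ≤ a.1 ∧ a.1 ≤ n ∧ (a.2 = true → Even a.1) ∧
      (a.2 = false → Odd a.1 ∨ (2 : F) = 0)) ∧ finrank F P = if a.2 then a.1 else 2 * a.1 := by
  classical
  obtain ⟨N, hNdef⟩ : ∃ N : Module.End F V, N = g - 1 := ⟨_, rfl⟩
  rw [← hNdef] at hN
  have hgN : ∀ x, g x = x + N x := fun x => by rw [hNdef]; simp
  have hYN : ∀ x ∈ Y, N x ∈ Y := fun x hx => by rw [hNdef]; simpa using Y.sub_mem (hYi x hx) hx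
  have hYNk : ∀ (k : ℕ), ∀ x ∈ Y, (N ^ k) x ∈ Y := by
    intro k
    induction k with
    | zero => exact fun x hx => hx
    | succ k ih => intro x hx; rw [pow_succ, Module.End.mul_apply]; exact ih _ (hYN x hx)
  have hex : ∃ k, ∀ x ∈ Y, (N ^ k) x = 0 := ⟨n, fun x _ => by rw [hN]; rfl⟩
  obtain ⟨k, hk⟩ : ∃ k, k = Nat.find hex := ⟨_, rfl⟩
  have hk0 : ∀ x ∈ Y, (N ^ k) x = 0 := hk ▸ Nat.find_spec hex
  have hkn : k ≤ n := hk ▸ Nat.find_le fun x _ => by rw [hN]; rfl
  have hk1 : 1 ≤ k := by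
    refine Nat.pos_of_ne_zero fun h0 => ?_
    obtain ⟨y, hy, hy0⟩ := Y.exists_mem_ne_zero_of_ne_bot hne
    have := hk0 y hy
    rw [h0, pow_zero] at this
    exact hy0 this
  obtain ⟨z, hz, hz0⟩ : ∃ z ∈ Y, (N ^ (k - 1)) z ≠ 0 := by
    have hnot := Nat.find_min hex (m := k - 1) (by omega)
    push Not at hnot
    exact hnot
  have hg'g : g' * g = 1 := LinearMap.ext fun x => iso_injective h hiso (by
    rw [Module.End.mul_apply, ← Module.End.mul_apply g g', hg']; rfl)
  have hcomm : ∀ (j : ℕ) x, (N ^ j) (g' x) = g' ((N ^ j) x) := by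
    have hc : Commute N g' := by
      show N * g' = g' * N
      rw [hNdef, sub_mul, mul_sub, hg', hg'g, one_mul, mul_one]
    exact fun j x => LinearMap.congr_fun (hc.pow_left j).eq x
  have hYg' : ∀ x ∈ Y, g' x ∈ Y := fun x hx => by
    obtain ⟨w, hw⟩ := (LinearMap.injective_iff_surjective.mp
      (fun a b hab => Subtype.ext (iso_injective h hiso (congrArg Subtype.val hab))) : Function.Surjective (g.restrict hYi)) ⟨x, hx⟩
    rw [show x = g w from (congrArg Subtype.val hw).symm, ← Module.End.mul_apply, hg'g]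
    exact w.2
  have hadj : ∀ u v, B (N u) v = -B u (N (g' v)) := fun u v => by
    have e : B (g u) v = B u (g' v) := by
      conv_lhs => rw [show v = g (g' v) by rw [← Module.End.mul_apply, hg']; rfl]
      rw [hiso]
    have e2 : N (g' v) = v - g' v := by
      rw [hNdef, LinearMap.sub_apply, ← Module.End.mul_apply, hg']; rfl
    rw [e2, map_sub, hNdef, LinearMap.sub_apply, map_sub, LinearMap.sub_apply, e, Module.End.one_apply]
    ring
  have hzero : ∀ a b, k ≤ a + b → ∀ u v, v ∈ Y → B ((N ^ a) u) ((N ^ b) v) = 0 := by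
    intro a
    induction a with
    | zero =>
      intro b hb u v hv
      rw [show b = (b - k) + k by omega, pow_add, Module.End.mul_apply, hk0 v hv, map_zero, map_zero]
    | succ a ih =>
      intro b hb u v hv
      rw [pow_succ', Module.End.mul_apply, hadj, ← hcomm, ← Module.End.mul_apply, ← pow_succ',
        ih (b + 1) (by omega) u (g' v) (hYg' v hv), neg_zero]
  have hmain : ∀ a b, a + b + 1 = k → ∀ u v, v ∈ Y →
      B ((N ^ a) u) ((N ^ b) v) = (-1) ^ a * B u ((N ^ (k - 1)) v) := by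
    intro a
    induction a with
    | zero => intro b hb u v _; rw [show b = k - 1 by omega, pow_zero, pow_zero, one_mul]; rfl
    | succ a ih =>
      intro b hb u v hv
      have e1 : g' v = v - N (g' v) := by
        rw [hNdef, LinearMap.sub_apply, ← Module.End.mul_apply, hg']; simp
      have e2 : B ((N ^ a) u) ((N ^ (b + 1)) (g' v)) = B ((N ^ a) u) ((N ^ (b + 1)) v) := by
        conv_lhs => rw [e1]
        rw [map_sub, map_sub, ← Module.End.mul_apply, ← pow_succ, hzero a (b + 1 + 1) (by omega) u _ (hYg' v hv),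
          sub_zero]
      rw [pow_succ', Module.End.mul_apply, hadj, ← hcomm, ← Module.End.mul_apply, ← pow_succ', e2,
        ih (b + 1) (by omega) u v hv, pow_succ]
      ring
  have hswap : ∀ u v, u ∈ Y → v ∈ Y → B v ((N ^ (k - 1)) u) = (-1) ^ k * B u ((N ^ (k - 1)) v) := by
    intro u v _ hv
    have := hmain (k - 1) 0 (by omega) u v hv
    rw [pow_zero, Module.End.one_apply] at this
    rw [h.swap, this, show k = k - 1 + 1 by omega, pow_succ, Nat.add_sub_cancel]
    ring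
  have build : ∀ (s : ℕ) (w : Fin s → V), (∀ j, w j ∈ Y) →
      (∀ c : Fin s → F, (∀ j', ∑ j, c j * B (w j) ((N ^ (k - 1)) (w j')) = 0) → c = 0) →
      ∃ P ≤ Y, ND B P ∧ (∀ x ∈ P, g x ∈ P) ∧ finrank F P = k * s := by
    intro s w hw hM
    let T : (Fin k × Fin s → F) →ₗ[F] V := Fintype.linearCombination F fun x => (N ^ (x.1 : ℕ)) (w x.2)
    have hTa : ∀ c, T c = ∑ x : Fin k × Fin s, c x • (N ^ (x.1 : ℕ)) (w x.2) := fun c =>
      Fintype.linearCombination_apply F _ c
    have hTs : ∀ x : Fin k × Fin s, T (Pi.single x 1) = (N ^ (x.1 : ℕ)) (w x.2) := fun x => by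
      rw [Fintype.linearCombination_apply_single, one_smul]
    obtain ⟨h1, h2⟩ := range_facts (B := B) T fun c hc => by
      have key : ∀ (a : ℕ) (ha : a < k) (j : Fin s), c (⟨a, ha⟩, j) = 0 := by
        intro a
        induction a using Nat.strong_induction_on with
        | _ a iha =>
          intro ha j
          refine congrFun (hM (fun j => c (⟨a, ha⟩, j)) fun j' => ?_) j
          have e := hc (Pi.single (⟨k - 1 - a, by omega⟩, j') 1)
          rw [hTs, hTa, map_sum, LinearMap.sum_apply, Fintype.sum_prod_type,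
            Finset.sum_eq_single (⟨a, ha⟩ : Fin k) ?_ (by simp)] at e
          · simp only [map_smul, LinearMap.smul_apply, smul_eq_mul, hmain a (k - 1 - a) (by omega) _ _ (hw j')] at e
            have e' : (-1 : F) ^ a * ∑ j, c (⟨a, ha⟩, j) * B (w j) ((N ^ (k - 1)) (w j')) = 0 := by
              rw [Finset.mul_sum, ← e]
              exact Finset.sum_congr rfl fun j _ => by ring
            exact (mul_eq_zero.mp e').resolve_left (pow_ne_zero _ (by norm_num))
          · intro a' _ ha'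
            refine Finset.sum_eq_zero fun j _ => ?_
            rw [map_smul, LinearMap.smul_apply, smul_eq_mul]
            rcases lt_or_gt_of_ne (fun e => ha' (Fin.ext e) : (a' : ℕ) ≠ a) with hlt | hgt
            · rw [iha a' hlt a'.2 j, zero_mul]
            · rw [hzero a' (k - 1 - a) (by omega) _ _ (hw j'), mul_zero]
      exact funext fun x => key x.1 x.1.2 x.2
    refine ⟨LinearMap.range T, ?_, h1, ?_, by rw [h2]; simp⟩
    · rintro _ ⟨c, rfl⟩
      rw [hTa]
      exact Y.sum_mem fun x _ => Y.smul_mem _ (hYNk _ _ (hw _))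
    · rintro _ ⟨c, rfl⟩
      rw [hTa, map_sum]
      refine Submodule.sum_mem _ fun x _ => ?_
      rw [map_smul, hgN, ← hTs]
      refine Submodule.smul_mem _ _ (add_mem ⟨_, rfl⟩ ?_)
      rw [hTs, ← Module.End.mul_apply, ← pow_succ']
      by_cases hlt : (x.1 : ℕ) + 1 < k
      · exact ⟨Pi.single (⟨x.1 + 1, hlt⟩, x.2) 1, hTs _⟩
      · rw [show (x.1 : ℕ) + 1 = k by omega, hk0 _ (hw _)]
        exact zero_mem _
  obtain ⟨u, hu, huz⟩ : ∃ u ∈ Y, B u ((N ^ (k - 1)) z) ≠ 0 := by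
    by_contra hc
    push Not at hc
    exact hz0 (hY _ (hYNk _ z hz) fun y hy => by rw [h.swap, hc y hy, neg_zero])
  by_cases hd : ∃ y ∈ Y, B y ((N ^ (k - 1)) y) ≠ 0
  · obtain ⟨y, hy, hy0⟩ := hd
    obtain ⟨P, hPY, hP, hPi, hPd⟩ := build 1 ![y] (fun j => by fin_cases j; exact hy) fun c hc => by
      have := hc 0
      simp [hy0] at this
      funext j; fin_cases j; exact this
    refine ⟨P, hPY, hP, hPi, (k, true), ⟨hk1, hkn, fun _ => ?_, by simp⟩, by simpa using hPd⟩
    have := nd_even h hP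
    rwa [hPd, mul_one] at this
  · push Not at hd
    have hvu : B z ((N ^ (k - 1)) u) ≠ 0 := by
      rw [hswap u z hu hz]
      exact mul_ne_zero (pow_ne_zero _ (by norm_num)) huz
    obtain ⟨P, hPY, hP, hPi, hPd⟩ := build 2 ![u, z] (fun j => by fin_cases j <;> assumption) fun c hc => by
      have e0 := hc 0
      have e1 := hc 1
      simp [Fin.sum_univ_two, hd u hu, hd z hz, huz, hvu] at e0 e1
      funext j; fin_cases j <;> assumption
    refine ⟨P, hPY, hP, hPi, (k, false), ⟨hk1, hkn, by simp, fun _ => ?_⟩, by simp [hPd, mul_comm]⟩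
    rcases Nat.even_or_odd k with he | ho
    · refine Or.inr ?_
      have e := hd (u + z) (Y.add_mem hu hz)
      simp only [map_add, LinearMap.add_apply, hd u hu, hd z hz, hswap u z hu hz, he.neg_one_pow, one_mul, zero_add,
        add_zero, ← two_mul] at e
      exact (mul_eq_zero.mp e).resolve_right huz
    · exact Or.inl ho

end Unipotent

/-! ### Free isometries of odd prime order -/

variable [Fintype F] {r : ℕ}

/-- A nondegenerate unit inside a free alternating space. -/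
theorem exists_unit (hg : Free.IsFree B g r) (h : SpCount.IsAltND B) (hV : 0 < finrank F V) :
    ∃ U : Submodule F V, (∀ x ∈ U, g x ∈ U) ∧ finrank F U = OFree.unit F r ∧ ND B U := by
  classical
  have hB : Free.Refl B := TsSymp.refl_of_alt h
  have hne : (⊤ : Submodule F V) ≠ ⊥ := fun e => by
    rw [← finrank_top F V, e, finrank_bot] at hV
    exact lt_irrefl _ hV
  obtain ⟨W, -, hW, hWd⟩ := (hg.exists_irred (U := ⊤) fun _ _ => Submodule.mem_top).2 hne
  rcases hg.ts_or_nondeg hW hWd with hts | hn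
  swap
  · have he := nd_even h ((nd_iff h).mpr hn)
    exact ⟨W, hW, by rw [OFree.unit, if_pos (hWd ▸ he), hWd], (nd_iff h).mpr hn⟩
  obtain ⟨W', hW', hWd', hdis, hH⟩ := hg.exists_partner hB hW hWd hts
  have hHinv : ∀ x ∈ W ⊔ W', g x ∈ W ⊔ W' := by
    intro x hx
    obtain ⟨y, hy, z, hz, rfl⟩ := Submodule.mem_sup.mp hx
    rw [map_add]
    exact Submodule.mem_sup.mpr ⟨_, hW y hy, _, hW' z hz, rfl⟩
  have hHd : finrank F ↥(W ⊔ W') = 2 * orderOf (Fintype.card F : ZMod r) := by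
    have h1 := Submodule.finrank_sup_add_finrank_inf_eq W W'
    rw [hdis, finrank_bot, hWd, hWd'] at h1
    omega
  by_cases he : Even (orderOf (Fintype.card F : ZMod r))
  swap
  · exact ⟨W ⊔ W', hHinv, by rw [OFree.unit, if_neg he, hHd], (nd_iff h).mpr hH⟩
  obtain ⟨n, hn2⟩ := he
  rw [← two_mul] at hn2
  have hn0 : 0 < n := by have := hg.order_pos; omega
  obtain ⟨f, hf⟩ : ∃ f, f = LinearMap.charpoly (g.restrict hW') := ⟨_, rfl⟩
  have hfd : f.natDegree = orderOf (Fintype.card F : ZMod r) := by rw [hf, LinearMap.charpoly_natDegree, hWd']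
  have hres : ∀ (U : Submodule F V) (hU : ∀ x ∈ U, g x ∈ U) (P : F[X]) (x : U),
      ((aeval (g.restrict hU) P x : U) : V) = aeval g P (x : V) := by
    intro U hU P x
    induction P using Polynomial.induction_on' with
    | add a b ha hb => simp [ha, hb]
    | monomial m a =>
      simp only [aeval_monomial, Module.End.mul_apply, Module.algebraMap_end_apply, SetLike.val_smul]
      rw [Free.restrict_pow hU m x]
  have hkill' : ∀ x ∈ W', aeval g f x = 0 := fun x hx => by
    rw [← hres W' hW' f ⟨x, hx⟩, hf, LinearMap.aeval_self_charpoly]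
    rfl
  have hinvP : ∀ (U : Submodule F V), (∀ x ∈ U, g x ∈ U) → ∀ (P : F[X]) x, x ∈ U → aeval g P x ∈ U :=
    fun U hU P x hx => by rw [← hres U hU P ⟨x, hx⟩]; exact Subtype.coe_prop _
  obtain ⟨g', hg'⟩ : ∃ g', g' = g ^ (r - 1) := ⟨_, rfl⟩
  have hadj : ∀ u v, B (g' u) v = B u (g v) := fun u v => by
    rw [← hg.isometry (g' u) v, hg', ← Module.End.mul_apply, ← pow_succ',
      Nat.sub_add_cancel hg.prime.one_le, hg.pow_eq, Module.End.one_apply]
  have hg'pow : g ^ (Fintype.card F ^ n) = g' := by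
    haveI : Fact r.Prime := ⟨hg.prime⟩
    have e1 : ((Fintype.card F ^ n : ℕ) : ZMod r) = ((r - 1 : ℕ) : ZMod r) := by
      rw [Nat.cast_pow, OFree.half_pow hg.prime hn2 hn0, Nat.cast_sub hg.prime.one_le, ZMod.natCast_self, Nat.cast_one,
        zero_sub]
    rw [hg', pow_eq_pow_mod (Fintype.card F ^ n) hg.pow_eq, (ZMod.natCast_eq_natCast_iff' _ _ _).mp e1,
      Nat.mod_eq_of_lt (by have := hg.prime.one_le; omega)]
  have hnilW : ∀ x ∈ W, ((aeval g f) ^ (Fintype.card F ^ n)) x = 0 := by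
    intro x hx
    rw [OFree.aeval_pow_card, hg'pow]
    have hmem : aeval g' f x ∈ W := by
      rw [← hg'pow, ← OFree.aeval_pow_card, ← map_pow]
      exact hinvP W hW _ x hx
    refine (Submodule.mem_bot F).mp (hH.le ⟨Submodule.mem_sup_left hmem, fun z hz => ?_⟩)
    obtain ⟨a, ha, b, hb, rfl⟩ := Submodule.mem_sup.mp hz
    show B (a + b) (aeval g' f x) = 0
    rw [map_add, LinearMap.add_apply, hts a ha _ hmem, h.swap b, OFree.aeval_adjoint hadj, hkill' b hb, map_zero,
      neg_zero, add_zero]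
  have hkillW : ∀ x ∈ W, aeval g f x = 0 := by
    by_contra hc
    push Not at hc
    obtain ⟨x, hx, hx0⟩ := hc
    obtain ⟨T, hT⟩ : ∃ T, T = aeval (g.restrict hW) f := ⟨_, rfl⟩
    have hT0 : T ≠ 0 := fun e => hx0 (by rw [← hres W hW f ⟨x, hx⟩, ← hT, e]; rfl)
    have hbij := Free.exists_cyclic (hg.restrict hW) hWd T (fun y => by
      refine Subtype.ext ?_
      show ((T (g.restrict hW y) : W) : V) = g ((T y : W) : V)
      rw [hT, hres, hres]
      show aeval g f (g (y : V)) = g (aeval g f (y : V))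
      have h1 : aeval g (f * X) = aeval g (X * f) := by rw [mul_comm]
      rw [map_mul, map_mul, aeval_X] at h1
      exact LinearMap.congr_fun h1 _) hT0
    have hinj : ∀ k : ℕ, Function.Injective ⇑(T ^ k) := by
      intro k
      induction k with
      | zero => exact fun a b e => e
      | succ k ih => rw [pow_succ]; exact ih.comp hbij.1
    have hTk : ∀ (k : ℕ) (y : W), (((T ^ k) y : W) : V) = ((aeval g f) ^ k) (y : V) := by
      intro k y
      rw [← map_pow, hT, ← map_pow, hres]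
    have := hinj (Fintype.card F ^ n) (a₁ := ⟨x, hx⟩) (a₂ := 0) (Subtype.ext (by
      rw [map_zero, hTk]
      exact hnilW x hx))
    exact hx0 (by rw [show x = 0 from congrArg Subtype.val this, map_zero])
  have hkillH : ∀ x ∈ W ⊔ W', aeval g f x = 0 := by
    intro x hx
    obtain ⟨y, hy, z, hz, rfl⟩ := Submodule.mem_sup.mp hx
    rw [map_add, hkillW y hy, hkill' z hz, add_zero]
  obtain ⟨v, hv, hvv⟩ : ∃ v ∈ W ⊔ W', B (g v) v ≠ 0 := by
    by_contra hc
    push Not at hc
    obtain ⟨x, hx, hx0⟩ := Submodule.exists_mem_ne_zero_of_ne_bot (p := W ⊔ W') fun e => by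
      rw [e, finrank_bot] at hHd
      have := hg.order_pos
      omega
    have hg'x : g' x ∈ W ⊔ W' := by
      have := hinvP _ hHinv (X ^ (r - 1)) x hx
      rwa [map_pow, aeval_X, ← hg'] at this
    have h1 : g x - g' x = 0 := (nd_iff h).mpr hH _ ((W ⊔ W').sub_mem (hHinv x hx) hg'x) fun y hy => by
      have e := hc (x + y) ((W ⊔ W').add_mem hx hy)
      simp only [map_add, LinearMap.add_apply, hc x hx, hc y hy, zero_add, add_zero] at e
      rw [map_sub, LinearMap.sub_apply, hadj, show B x (g y) = - B (g y) x from h.swap _ _, sub_neg_eq_add]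
      linear_combination e
    have h2 : g (g x) = x := by
      rw [sub_eq_zero.mp h1, hg', ← Module.End.mul_apply, ← pow_succ', Nat.sub_add_cancel hg.prime.one_le, hg.pow_eq]
      rfl
    have h3 : ∀ j : ℕ, (g ^ (2 * j)) x = x := by
      intro j
      induction j with
      | zero => rfl
      | succ j ih => rw [Nat.mul_succ, pow_add, pow_two, Module.End.mul_apply, Module.End.mul_apply, h2, ih]
    obtain ⟨j, hj⟩ := hg.prime.odd_of_ne_two hg.odd
    refine hx0 (hg.fixfree x ?_)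
    have h4 : (g ^ (2 * j + 1)) x = x := by rw [← hj, hg.pow_eq]; rfl
    rwa [pow_succ', Module.End.mul_apply, h3] at h4
  let ev : F[X] →ₗ[F] V := (LinearMap.applyₗ v).comp (aeval g).toLinearMap
  have hfm : f.Monic := hf ▸ LinearMap.charpoly_monic _
  have hrange : LinearMap.range ev = (Polynomial.degreeLT F (orderOf (Fintype.card F : ZMod r))).map ev := by
    refine le_antisymm ?_ (LinearMap.map_le_range)
    rintro _ ⟨P, rfl⟩
    refine ⟨P %ₘ f, Polynomial.mem_degreeLT.mpr ?_, ?_⟩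
    · rw [← hfd, ← degree_eq_natDegree hfm.ne_zero]
      exact degree_modByMonic_lt P hfm
    · show aeval g (P %ₘ f) v = aeval g P v
      conv_rhs => rw [← modByMonic_add_div P f, map_add, map_mul, LinearMap.add_apply, Module.End.mul_apply]
      rw [hkillH _ (hinvP _ hHinv _ v hv), add_zero]
  have hUinv : ∀ x ∈ LinearMap.range ev, g x ∈ LinearMap.range ev := by
    rintro _ ⟨P, rfl⟩
    refine ⟨X * P, ?_⟩
    show aeval g (X * P) v = g (aeval g P v)
    rw [map_mul, aeval_X, Module.End.mul_apply]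
  have hvU : v ∈ LinearMap.range ev := ⟨1, by show aeval g (1 : F[X]) v = v; rw [map_one]; rfl⟩
  have hUd : finrank F (LinearMap.range ev) = orderOf (Fintype.card F : ZMod r) := by
    have h1 : finrank F (LinearMap.range ev) ≤ orderOf (Fintype.card F : ZMod r) := by
      rw [hrange]
      haveI : Module.Finite F (Polynomial.degreeLT F (orderOf (Fintype.card F : ZMod r))) :=
        Module.Finite.equiv (Polynomial.degreeLTEquiv F _).symm
      refine (Submodule.finrank_map_le _ _).trans ?_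
      rw [(Polynomial.degreeLTEquiv F _).finrank_eq, Module.finrank_fin_fun]
    refine le_antisymm h1 (Nat.le_of_dvd ?_ (hg.exists_irred hUinv).1)
    refine Nat.pos_of_ne_zero fun h0 => hvv ?_
    rw [Submodule.finrank_eq_zero] at h0
    rw [show v = 0 from (Submodule.mem_bot F).mp (h0.le hvU)]
    simp
  rcases hg.ts_or_nondeg hUinv hUd with h1 | h1
  · exact absurd (h1 _ (hUinv v hvU) v hvU) hvv
  · exact ⟨_, hUinv, by rw [hUd, OFree.unit, if_pos ⟨n, by omega⟩], (nd_iff h).mpr h1⟩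

/-- The steps for an isometry of odd prime order prime to the characteristic: a fixed plane or a unit. -/
theorem step_tame (h : SpCount.IsAltND B) (hr : r.Prime) (hr2 : r ≠ 2) (hg : Free.IsTame B g r)
    (Y : Submodule F V) (hY : ND B Y) (hYi : ∀ x ∈ Y, g x ∈ Y) (hne : Y ≠ ⊥) :
    ∃ P ≤ Y, ND B P ∧ (∀ x ∈ P, g x ∈ P) ∧
      ∃ a : Bool, True ∧ finrank F P = if a then 2 else OFree.unit F r := by
  have hpowY : ∀ (k : ℕ) x, x ∈ Y → (g ^ k) x ∈ Y := by
    intro k
    induction k with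
    | zero => exact fun x hx => hx
    | succ k ih => intro x hx; rw [pow_succ', Module.End.mul_apply]; exact hYi _ (ih x hx)
  by_cases hf : ∃ y ∈ Y, y ≠ 0 ∧ g y = y
  · obtain ⟨y, hy, hy0, hgy⟩ := hf
    obtain ⟨w, hw, hyw⟩ : ∃ w ∈ Y, B y w ≠ 0 := by
      by_contra hc
      push Not at hc
      exact hy0 (hY y hy hc)
    have havY : Free.avg g r w ∈ Y := by
      simp only [Free.avg, LinearMap.smul_apply, LinearMap.sum_apply]
      exact Y.smul_mem _ (Y.sum_mem fun k _ => hpowY k w hw)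
    have hB' : B y (Free.avg g r w) ≠ 0 := by
      rw [← sub_sub_cancel w (Free.avg g r w), map_sub, hg.perp (Free.mem_fixSpace.mpr hgy) (hg.sub_avg_mem w), sub_zero]
      exact hyw
    obtain ⟨P, hPY, hP, hd, huP, hvP, hspan⟩ := plane h hy havY hB'
    refine ⟨P, hPY, hP, fun x hx => ?_, true, trivial, by simpa using hd⟩
    obtain ⟨a, b, rfl⟩ := hspan x hx
    rw [map_add, map_smul, map_smul, hgy, Free.mem_fixSpace.mp (hg.avg_mem w)]
    exact hx
  · push Not at hf
    have hfree : Free.IsFree (B.restrict Y) (g.restrict hYi) r :=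
      ⟨hr, hr2, hg.ne_zero, LinearMap.ext fun x => Subtype.ext (by
        rw [Free.restrict_pow hYi r x, hg.pow_eq]; rfl),
        fun x hx => Subtype.ext (by
          by_contra hx0
          exact hf x.1 x.2 hx0 (congrArg Subtype.val hx)),
        fun u v => hg.isometry u.1 v.1⟩
    obtain ⟨U, hUi, hUd, hUn⟩ := exists_unit hfree (alt_restrict h hY) (by
      rw [Nat.pos_iff_ne_zero, ne_eq, Submodule.finrank_eq_zero]; exact hne)
    refine ⟨U.map Y.subtype, Submodule.map_subtype_le _ _, ?_, ?_, false, trivial,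
      by rw [Submodule.finrank_map_subtype_eq, hUd]; rfl⟩
    · rintro _ ⟨x, hx, rfl⟩ h0
      rw [hUn x hx fun y hy => h0 _ ⟨y, hy, rfl⟩, map_zero]
    · rintro _ ⟨x, hx, rfl⟩
      exact ⟨_, hUi x hx, rfl⟩

end Cfsg.Agent.Classical.Elusive.SpNd
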