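import Cfsg.Agent.Lib.Classical.Elusive.OrthEvenTypes
import Cfsg.Agent.Lib.Classical.Elusive.OrthEvenTwo
import Cfsg.Agent.Lib.Classical.OrthCenter
import Cfsg.Agent.Lib.Classical.Elusive.SpPieces

/-!
# Involutions and square-zero unipotent elements on members of given even dimension and type
-/

set_option autoImplicit false
set_option linter.unusedSectionVars false

universe u

namespace Cfsg.Agent.Classical.Elusive.OInv

open Module QuadraticMap
open Cfsg.Agent.Small

variable {F : Type u} [Field F] [Fintype F] {V : Type u} [AddCommGroup V] [Module F V] [FiniteDimensional F V]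
  {Q : QuadraticForm F V}

/-- An involution in odd characteristic fixes members of both types. -/
theorem fixed_both (h2 : (2 : F) ≠ 0) (hQ : OCount.PND Q) {g : Module.End F V} (hgg : ∀ v, g (g v) = v)
    (hiso : ∀ v, Q (g v) = Q v) {m : ℕ} (hm : 2 ≤ m) (hme : Even m) (hmn : m < finrank F V) (P : Prop) :
    ∃ W : Submodule F V, finrank F W = m ∧ QuadBasis.Nondeg Q W ∧ (OType.IsPlus Q W ↔ P) ∧ ∀ x ∈ W, g x ∈ W := by
  classical
  obtain ⟨e, he⟩ := hme
  rw [← two_mul] at he
  let E : F → Submodule F V := fun σ => LinearMap.ker (g - σ • 1)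
  have hE : ∀ σ x, x ∈ E σ ↔ g x = σ • x := fun σ x => by
    simp [E, LinearMap.mem_ker, sub_eq_zero]
  have hpol : ∀ u v, polar Q (g u) (g v) = polar Q u v := fun u v => by simp only [polar, ← map_add, hiso]
  have hperp : ∀ x ∈ E 1, ∀ y ∈ E (-1), polar Q x y = 0 := fun x hx y hy => by
    have h := hpol x y
    rw [(hE _ _).mp hx, (hE _ _).mp hy, one_smul, QuadBasis.p_smul_right] at h
    exact (mul_eq_zero.mp (show (2 : F) * polar Q x y = 0 by linear_combination -h)).resolve_left h2
  have hsplit : ∀ v, ∃ a ∈ E 1, ∃ b ∈ E (-1), v = a + b := fun v => by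
    refine ⟨(2 : F)⁻¹ • (v + g v), (hE _ _).mpr ?_, (2 : F)⁻¹ • (v - g v), (hE _ _).mpr ?_, ?_⟩
    · rw [map_smul, map_add, hgg, one_smul, add_comm]
    · rw [map_smul, map_sub, hgg, neg_one_smul, ← smul_neg, neg_sub]
    · rw [← smul_add, add_add_sub_cancel, ← two_smul F v, smul_smul, inv_mul_cancel₀ h2, one_smul]
  have hnd : QuadBasis.Nondeg Q (E 1) ∧ QuadBasis.Nondeg Q (E (-1)) := by
    constructor <;> intro x hx h <;> refine hQ x fun v => ?_ <;>
      obtain ⟨a, ha, b, hb, rfl⟩ := hsplit v <;> rw [polar_add_right]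
    · rw [h a ha, hperp x hx b hb, add_zero]
    · rw [polar_comm _ x a, hperp a ha x hx, h b hb, zero_add]
  have hdim : finrank F (E 1) + finrank F (E (-1)) = finrank F V := by
    refine Submodule.finrank_add_eq_of_isCompl ⟨Submodule.disjoint_def.mpr fun x h1 h1' => ?_,
      codisjoint_iff.mpr (eq_top_iff.mpr fun v _ => ?_)⟩
    · have e1 := ((hE _ _).mp h1).symm.trans ((hE _ _).mp h1')
      rw [one_smul, neg_one_smul] at e1
      have : (2 : F) • x = 0 := by rw [two_smul]; exact eq_neg_iff_add_eq_zero.mp e1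
      exact (smul_eq_zero.mp this).resolve_left h2
    · obtain ⟨a, ha, b, hb, rfl⟩ := hsplit v
      exact Submodule.mem_sup.mpr ⟨a, ha, b, hb, rfl⟩
  have close : ∀ (σ τ : F) (U : Submodule F V), U ≤ E τ → QuadBasis.Nondeg Q U → QuadBasis.Nondeg Q (E σ) →
      (∀ x ∈ U, ∀ y ∈ E σ, polar Q x y = 0) → finrank F U < m → m < finrank F U + finrank F (E σ) →
      ∃ W : Submodule F V, finrank F W = m ∧ QuadBasis.Nondeg Q W ∧ (OType.IsPlus Q W ↔ P) ∧
        ∀ x ∈ W, g x ∈ W := by
    intro σ τ U hUE hU hA hp h1 h3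
    obtain ⟨T, hT, hn, hd, hP⟩ := OType.exists_adjust h2 hU hA hp (s := m - finrank F U) (e := e) (by omega)
      (by omega) (by omega) P
    refine ⟨U ⊔ T, hd.trans he.symm, hn, hP, fun x hx => ?_⟩
    obtain ⟨a, ha, b, hb, rfl⟩ := Submodule.mem_sup.mp hx
    rw [map_add, (hE _ _).mp (hUE ha), (hE _ _).mp (hT hb)]
    exact Submodule.add_mem _ (Submodule.mem_sup_left (U.smul_mem τ ha)) (Submodule.mem_sup_right (T.smul_mem σ hb))
  rcases le_or_gt m (finrank F (E (-1))) with h | h
  · rcases Nat.eq_zero_or_pos (finrank F (E 1)) with h0 | h0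
    · exact close (-1) 1 ⊥ bot_le OType.nondeg_bot hnd.2
        (fun x hx y _ => by rw [(Submodule.mem_bot F).mp hx, polar_zero_left]) (by rw [finrank_bot]; omega)
        (by rw [finrank_bot]; omega)
    obtain ⟨U, hUE, hUn, hUd⟩ := OType.exists_nondeg_sub h2 hnd.1 (a := 1) h0
    exact close (-1) 1 U hUE hUn hnd.2 (fun x hx y hy => hperp x (hUE hx) y hy) (by omega) (by omega)
  · exact close 1 (-1) (E (-1)) le_rfl hnd.2 hnd.1 (fun x hx y hy => by rw [polar_comm]; exact hperp y hy x hx) h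
      (by omega)

/-! ### Square roots of minus one -/

/-- The type of an invariant subspace. -/
theorem type_rot (h2 : (2 : F) ≠ 0) {g : Module.End F V} (hgg : ∀ v, g (g v) = -v) (hiso : ∀ v, Q (g v) = Q v)
    {W : Submodule F V} (hW : QuadBasis.Nondeg Q W) (hinv : ∀ x ∈ W, g x ∈ W) {e : ℕ} (he : 1 ≤ e)
    (hd : finrank F W = 2 * e) : OType.IsPlus Q W ↔ IsSquare ((-1 : F) ^ e) := by
  classical
  obtain ⟨g', hg'⟩ : ∃ g', g' = g.restrict hinv := ⟨_, rfl⟩
  have hga : ∀ w, (g' w : V) = g (w : V) := fun w => by rw [hg']; rfl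
  have hgg' : ∀ w, g' (g' w) = -w := fun w => Subtype.ext (by rw [hga, hga, hgg]; rfl)
  have hiso' : ∀ w, Q.comp W.subtype (g' w) = Q.comp W.subtype w := fun w => by
    simp only [QuadraticMap.comp_apply, Submodule.coe_subtype, hga, hiso]
  have hQW := QuadModels.pnd_res Q hW
  obtain ⟨G, hG⟩ : ∃ G : ↥(ORefl.Iso (Q.comp W.subtype)), ∀ w, G.1 w = g' w :=
    ⟨⟨LinearEquiv.ofLinear g' (-g') (LinearMap.ext fun w => by simp [hgg']) (LinearMap.ext fun w => by simp [hgg']),
      fun w => hiso' w⟩, fun _ => rfl⟩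
  obtain ⟨⟨z, hz, hzsq⟩, -⟩ := OTwo.rot_facts h2 hQW hd G fun w => by rw [hG, hG, hgg']
  have h := OTwo.plus_iff_disc h2 hQW he hd z hz
  rw [Orth.isSquare_mul_iff hzsq hz] at h
  refine Iff.trans ?_ h
  constructor
  · rintro ⟨U, hUW, hU, hUd⟩
    refine ⟨U.comap W.subtype, le_top, fun u hu => hU _ hu, ?_⟩
    rw [(Submodule.comapSubtypeEquivOfLe hUW).finrank_eq, hUd, finrank_top]
  · rintro ⟨U, -, hU, hUd⟩
    refine ⟨U.map W.subtype, Submodule.map_subtype_le _ _, ?_, ?_⟩
    · rintro _ ⟨u, hu, rfl⟩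
      exact hU u hu
    · rw [Submodule.finrank_map_subtype_eq, hUd, finrank_top]

/-- Invariant subspaces of every even dimension. -/
theorem rot_member (h2 : (2 : F) ≠ 0) (hQ : OCount.PND Q) {g : Module.End F V} (hgg : ∀ v, g (g v) = -v)
    (hiso : ∀ v, Q (g v) = Q v) {e : ℕ} (he : 2 * e ≤ finrank F V) :
    ∃ W : Submodule F V, finrank F W = 2 * e ∧ QuadBasis.Nondeg Q W ∧ ∀ x ∈ W, g x ∈ W := by
  classical
  obtain ⟨k, es, hk, hes, hperp⟩ := OTwo.exists_pairs (Q := Q) h2 hgg hiso (finrank F V) ⊤ (by rw [finrank_top])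
    (fun x _ h => hQ x fun w => h w trivial) fun _ _ => trivial
  rw [finrank_top] at hk
  let z : Fin e × Fin 2 → V := fun a =>
    if a.2 = 0 then es (Fin.castLE (by omega) a.1) else g (es (Fin.castLE (by omega) a.1))
  have hpol : ∀ u v, polar Q (g u) (g v) = polar Q u v := fun u v => by simp only [polar, ← map_add, hiso]
  have hself : ∀ x, polar Q x (g x) = 0 := fun x => by
    have h := hpol x (g x)
    rw [hgg, polar_neg_right, polar_comm] at h
    exact (mul_eq_zero.mp (show (2 : F) * polar Q x (g x) = 0 by linear_combination -h)).resolve_left h2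
  have hz : (Matrix.of fun a b => polar Q (z a) (z b)) =
      Matrix.diagonal fun a : Fin e × Fin 2 => 2 * Q (es (Fin.castLE (by omega) a.1)) := by
    ext ⟨i, s⟩ ⟨j, t⟩
    simp only [Matrix.of_apply, Matrix.diagonal_apply, Prod.ext_iff, z]
    rcases eq_or_ne i j with rfl | hij
    · fin_cases s <;> fin_cases t <;> simp [hself, polar_comm _ (g (es _)) (es _), hiso]
    · have hij' : Fin.castLE (show e ≤ k by omega) i ≠ Fin.castLE (show e ≤ k by omega) j :=
        fun h => hij (Fin.castLE_injective _ h)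
      fin_cases s <;> fin_cases t <;>
        simp [hij, hpol, (hperp _ _ hij').1, (hperp _ _ hij').2, polar_comm _ (g (es _)) (es _),
          (hperp _ _ hij'.symm).2]
  have hdet : (Matrix.of fun a b => polar Q (z a) (z b)).det ≠ 0 := by
    rw [hz, Matrix.det_diagonal]
    exact Finset.prod_ne_zero_iff.mpr fun a _ => mul_ne_zero h2 (hes _).2
  obtain ⟨-, hn, hd⟩ := OType.span_facts z hdet
  refine ⟨_, hd.trans (by simp [mul_comm]), hn, fun x hx => ?_⟩
  have hle : Submodule.span F (Set.range z) ≤ (Submodule.span F (Set.range z)).comap g := by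
    rw [Submodule.span_le]
    rintro _ ⟨⟨i, s⟩, rfl⟩
    have h0 : z (i, 0) = es (Fin.castLE (by omega) i) := if_pos rfl
    have h1 : z (i, 1) = g (es (Fin.castLE (by omega) i)) := if_neg (show ¬ ((1 : Fin 2) = 0) by decide)
    fin_cases s
    · show g (z (i, 0)) ∈ Submodule.span F (Set.range z)
      rw [h0, ← h1]
      exact Submodule.subset_span ⟨_, rfl⟩
    · show g (z (i, 1)) ∈ Submodule.span F (Set.range z)
      rw [h1, hgg, ← h0]
      exact Submodule.neg_mem _ (Submodule.subset_span ⟨_, rfl⟩)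
  exact hle hx

/-! ### Involutions in characteristic two -/

/-- A plane with given nonzero polar value. -/
theorem plane_facts (h2 : (2 : F) = 0) {x w : V} (hxw : polar Q x w ≠ 0) :
    ∃ P : Submodule F V, P = Submodule.span F {x, w} ∧ QuadBasis.Nondeg Q P ∧ finrank F P = 2 := by
  have hd : ∀ y : V, polar Q y y = 0 := fun y => by rw [QuadBasis.p_self, h2, zero_mul]
  have hli : LinearIndependent F ![x, w] := by
    rw [LinearIndependent.pair_iff]
    intro s t hst
    have h1 := congrArg (fun y => polar Q y x) hst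
    have h3 := congrArg (fun y => polar Q y w) hst
    simp only [polar_add_left, QuadBasis.p_smul_left, hd, polar_zero_left, mul_zero, zero_add, add_zero,
      polar_comm _ w x] at h1 h3
    exact ⟨(mul_eq_zero.mp h3).resolve_right hxw, (mul_eq_zero.mp h1).resolve_right hxw⟩
  refine ⟨_, rfl, fun y hy h => ?_, ?_⟩
  · obtain ⟨s, t, rfl⟩ := Submodule.mem_span_pair.mp hy
    have h1 := h x (Submodule.subset_span (by simp))
    have h3 := h w (Submodule.subset_span (by simp))
    simp only [polar_add_left, QuadBasis.p_smul_left, hd, mul_zero, zero_add, add_zero, polar_comm _ w x] at h1 h3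
    rw [(mul_eq_zero.mp h3).resolve_right hxw, (mul_eq_zero.mp h1).resolve_right hxw, zero_smul, zero_smul, add_zero]
  · rw [show ({x, w} : Set V) = Set.range ![x, w] by simp [Set.pair_comm], finrank_span_eq_card hli, Fintype.card_fin]

/-- A piece of an involution: a plane, or a hyperbolic space of dimension four. -/
theorem step_invol (h2 : (2 : F) = 0) {g : Module.End F V} (hgg : ∀ v, g (g v) = v) (hiso : ∀ v, Q (g v) = Q v)
    {Y : Submodule F V} (hY : QuadBasis.Nondeg Q Y) (hinv : ∀ y ∈ Y, g y ∈ Y) (hne : Y ≠ ⊥) :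
    ∃ P ≤ Y, QuadBasis.Nondeg Q P ∧ (∀ y ∈ P, g y ∈ P) ∧
      (finrank F P = 2 ∨ (finrank F P = 4 ∧ OType.IsPlus Q P)) := by
  classical
  have hd : ∀ y : V, polar Q y y = 0 := fun y => by rw [QuadBasis.p_self, h2, zero_mul]
  have hpol : ∀ u v, polar Q (g u) (g v) = polar Q u v := fun u v => by simp only [polar, ← map_add, hiso]
  have hswap : ∀ u v, polar Q (g u) v = polar Q u (g v) := fun u v => by rw [← hpol u (g v), hgg]
  have planeInv : ∀ x ∈ Y, ∀ w ∈ Y, polar Q x w ≠ 0 → g x ∈ Submodule.span F {x, w} →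
      g w ∈ Submodule.span F {x, w} → ∃ P ≤ Y, QuadBasis.Nondeg Q P ∧ (∀ y ∈ P, g y ∈ P) ∧
        (finrank F P = 2 ∨ (finrank F P = 4 ∧ OType.IsPlus Q P)) := by
    intro x hx w hw hxw hgx hgw
    obtain ⟨P, rfl, hP, hPd⟩ := plane_facts h2 hxw
    refine ⟨_, Submodule.span_le.mpr (by rintro _ (rfl | rfl) <;> assumption), hP, fun y hy => ?_, Or.inl hPd⟩
    obtain ⟨s, t, rfl⟩ := Submodule.mem_span_pair.mp hy
    rw [map_add, map_smul, map_smul]
    exact Submodule.add_mem _ (Submodule.smul_mem _ _ hgx) (Submodule.smul_mem _ _ hgw)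
  by_cases h1 : ∃ v ∈ Y, polar Q v (g v) ≠ 0
  · obtain ⟨v, hv, hvg⟩ := h1
    exact planeInv v hv (g v) (hinv v hv) hvg (Submodule.subset_span (by simp))
      (by rw [hgg]; exact Submodule.subset_span (by simp))
  push Not at h1
  by_cases hfix : ∀ y ∈ Y, g y = y
  · obtain ⟨x, hx, hx0⟩ := Submodule.exists_mem_ne_zero_of_ne_bot hne
    obtain ⟨w, hw, hxw⟩ : ∃ w ∈ Y, polar Q x w ≠ 0 := by
      by_contra h
      push Not at h
      exact hx0 (hY x hx h)
    exact planeInv x hx w hw hxw (by rw [hfix x hx]; exact Submodule.subset_span (by simp))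
      (by rw [hfix w hw]; exact Submodule.subset_span (by simp))
  push Not at hfix
  obtain ⟨v, hv, hgv⟩ := hfix
  obtain ⟨w, hwdef⟩ : ∃ w, w = g v + v := ⟨_, rfl⟩
  have hw : w ∈ Y := hwdef ▸ Y.add_mem (hinv v hv) hv
  have hchar : ∀ y : V, y + y = 0 := fun y => by rw [← two_smul F, h2, zero_smul]
  have hw0 : w ≠ 0 := fun h => hgv (by
    rw [hwdef] at h
    rw [eq_neg_of_add_eq_zero_left h, neg_eq_of_add_eq_zero_left (hchar v)])
  obtain ⟨u, hu, hwu⟩ : ∃ u ∈ Y, polar Q w u ≠ 0 := by
    by_contra h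
    push Not at h
    exact hw0 (hY w hw h)
  obtain ⟨t, htdef⟩ : ∃ t, t = g u + u := ⟨_, rfl⟩
  obtain ⟨δ, hδ⟩ : ∃ δ, δ = polar Q w u := ⟨_, rfl⟩
  rw [← hδ] at hwu
  have hsym : polar Q v (g u) = polar Q u (g v) := by
    have h := h1 (v + u) (Y.add_mem hv hu)
    rw [map_add, polar_add_left, polar_add_right, polar_add_right, h1 v hv, h1 u hu] at h
    linear_combination h - polar Q u (g v) * h2
  have ewv : polar Q w v = 0 := by rw [hwdef, polar_add_left, polar_comm, h1 v hv, hd, add_zero]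
  have etu : polar Q t u = 0 := by rw [htdef, polar_add_left, polar_comm, h1 u hu, hd, add_zero]
  have etv : polar Q t v = δ := by
    rw [hδ, htdef, hwdef, polar_add_left, polar_add_left, polar_comm _ (g u) v, polar_comm _ (g v) u, hsym,
      polar_comm _ u v]
  have ewt : polar Q w t = 0 := by
    rw [hwdef, htdef, polar_add_left, polar_add_right, polar_add_right, hpol, hswap]
    linear_combination (polar Q v (g u) + polar Q v u) * h2
  have qw : Q w = 0 := by
    rw [hwdef, QuadBasis.q_add, hiso, polar_comm, h1 v hv, ← two_mul, h2, zero_mul, add_zero]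
  have qt : Q t = 0 := by
    rw [htdef, QuadBasis.q_add, hiso, polar_comm, h1 u hu, ← two_mul, h2, zero_mul, add_zero]
  let L : (Fin 4 → F) →ₗ[F] V := (LinearMap.proj 0).smulRight v + (LinearMap.proj 1).smulRight u +
    (LinearMap.proj 2).smulRight w + (LinearMap.proj 3).smulRight t
  have hLa : ∀ z, L z = z 0 • v + z 1 • u + z 2 • w + z 3 • t := fun z => rfl
  have hpL : ∀ z, polar Q (L z) w = z 1 * δ ∧ polar Q (L z) t = z 0 * δ ∧
      polar Q (L z) u = z 0 * polar Q v u + z 2 * δ ∧ polar Q (L z) v = z 1 * polar Q u v + z 3 * δ := fun z => by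
    refine ⟨?_, ?_, ?_, ?_⟩ <;>
      simp only [hLa, polar_add_left, QuadBasis.p_smul_left, hd, polar_comm _ v w, polar_comm _ u w, ewv, ← hδ,
        polar_comm _ v t, polar_comm _ u t, etu, etv, polar_comm _ t w, ewt, mul_zero, add_zero, zero_add]
  have hker : ∀ z, (∀ y ∈ LinearMap.range L, polar Q (L z) y = 0) → z = 0 := fun z h => by
    have hmem : w ∈ LinearMap.range L ∧ t ∈ LinearMap.range L ∧ u ∈ LinearMap.range L ∧ v ∈ LinearMap.range L :=
      ⟨⟨Pi.single 2 1, by simp [hLa]⟩, ⟨Pi.single 3 1, by simp [hLa]⟩, ⟨Pi.single 1 1, by simp [hLa]⟩,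
        ⟨Pi.single 0 1, by simp [hLa]⟩⟩
    obtain ⟨e1, e2, e3, e4⟩ := hpL z
    rw [h w hmem.1] at e1
    rw [h t hmem.2.1] at e2
    rw [h u hmem.2.2.1] at e3
    rw [h v hmem.2.2.2] at e4
    have z1 := (mul_eq_zero.mp e1.symm).resolve_right hwu
    have z0 := (mul_eq_zero.mp e2.symm).resolve_right hwu
    rw [z0, zero_mul, zero_add] at e3
    rw [z1, zero_mul, zero_add] at e4
    funext i
    fin_cases i
    · exact z0
    · exact z1
    · exact (mul_eq_zero.mp e3.symm).resolve_right hwu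
    · exact (mul_eq_zero.mp e4.symm).resolve_right hwu
  have hinj : Function.Injective L := by
    rw [← LinearMap.ker_eq_bot, Submodule.eq_bot_iff]
    intro z hz
    exact hker z fun y _ => by rw [LinearMap.mem_ker.mp hz, polar_zero_left]
  have hgw : g w = w := by rw [hwdef, map_add, hgg, add_comm]
  have hgt : g t = t := by rw [htdef, map_add, hgg, add_comm]
  have hgv' : g v = v + w := by rw [hwdef, add_comm (g v), ← add_assoc, hchar, zero_add]
  have hgu' : g u = u + t := by rw [htdef, add_comm (g u), ← add_assoc, hchar, zero_add]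
  have hd4 : finrank F (LinearMap.range L) = 4 := by
    rw [LinearMap.finrank_range_of_inj hinj, Module.finrank_fin_fun]
  refine ⟨LinearMap.range L, ?_, ?_, ?_, Or.inr ⟨hd4, ?_⟩⟩
  · rintro _ ⟨z, rfl⟩
    exact Y.add_mem (Y.add_mem (Y.add_mem (Y.smul_mem _ hv) (Y.smul_mem _ hu)) (Y.smul_mem _ hw))
      (Y.smul_mem _ (htdef ▸ Y.add_mem (hinv u hu) hu))
  · rintro _ ⟨z, rfl⟩ h
    rw [hker z h, map_zero]
  · rintro _ ⟨z, rfl⟩
    refine ⟨![z 0, z 1, z 0 + z 2, z 1 + z 3], ?_⟩
    simp only [hLa, map_add, map_smul, hgw, hgt, hgv', hgu', Matrix.cons_val_zero, Matrix.cons_val_one, Matrix.cons_val]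
    module
  · let J : (Fin 2 → F) →ₗ[F] V := (LinearMap.proj 0).smulRight w + (LinearMap.proj 1).smulRight t
    have hJ : ∀ z, J z = z 0 • w + z 1 • t := fun z => rfl
    refine ⟨LinearMap.range J, ?_, ?_, ?_⟩
    · rintro _ ⟨z, rfl⟩
      exact ⟨![0, 0, z 0, z 1], by simp [hLa, hJ]⟩
    · rintro _ ⟨z, rfl⟩
      rw [hJ, QuadBasis.q_add, QuadBasis.q_smul, QuadBasis.q_smul, QuadBasis.p_smul_left, QuadBasis.p_smul_right,
        qw, qt, ewt]
      ring
    · rw [LinearMap.finrank_range_of_inj (fun a b hab => ?_), Module.finrank_fin_fun, hd4]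
      have := hinj (a₁ := ![0, 0, a 0, a 1]) (a₂ := ![0, 0, b 0, b 1]) (by
        simpa [hLa] using (show a 0 • w + a 1 • t = b 0 • w + b 1 • t from hab))
      funext i
      fin_cases i
      · simpa using congrFun this 2
      · simpa using congrFun this 3

/-- The pieces of an involution and the types of their sums. -/
theorem invol_pieces (h2 : (2 : F) = 0) (hQ : OCount.PND Q) {g : Module.End F V} (hgg : ∀ v, g (g v) = v)
    (hiso : ∀ v, Q (g v) = Q v) :
    ∀ (K : ℕ) (Y : Submodule F V), finrank F Y ≤ K → QuadBasis.Nondeg Q Y → (∀ y ∈ Y, g y ∈ Y) →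
      ∃ sp sm h : ℕ, 2 * (sp + sm) + 4 * h = finrank F Y ∧ ∀ a ≤ sp, ∀ b ≤ sm, ∀ u ≤ h, ∃ W ≤ Y,
        QuadBasis.Nondeg Q W ∧ (∀ y ∈ W, g y ∈ W) ∧ finrank F W = 2 * (a + b) + 4 * u ∧
          (OType.IsPlus Q W ↔ Even b) := by
  classical
  intro K
  induction K using Nat.strong_induction_on with
  | _ K ih =>
    intro Y hK hY hinv
    rcases eq_or_ne Y ⊥ with rfl | hne
    · refine ⟨0, 0, 0, by simp, fun a ha b hb u hu => ⟨⊥, le_rfl, hY, hinv, by simp; omega, ?_⟩⟩
      obtain rfl : b = 0 := by omega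
      exact iff_of_true OType.plus_bot Even.zero
    obtain ⟨P, hPY, hP, hPi, hPd⟩ := step_invol h2 hgg hiso hY hinv hne
    obtain ⟨R, hRY, hR, hperp, -, hdim, hRmem⟩ := OType.compl_in hQ hP hY hPY
    have hpol : ∀ u v, polar Q (g u) (g v) = polar Q u v := fun u v => by simp only [polar, ← map_add, hiso]
    have hRi : ∀ y ∈ R, g y ∈ R := fun y hy => hRmem _ (hinv y (hRY hy)) fun x hx => by
      rw [← hgg x, hpol, polar_comm]
      exact hperp _ (hPi x hx) y hy
    have hPpos : 0 < finrank F P := by rcases hPd with h | ⟨h, -⟩ <;> omega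
    obtain ⟨sp, sm, h, hsum, hW⟩ := ih (finrank F R) (by omega) R le_rfl hR hRi
    have join : ∀ W ≤ R, QuadBasis.Nondeg Q W → (∀ y ∈ W, g y ∈ W) → ∀ e e', finrank F P = 2 * e →
        finrank F W = 2 * e' → ∀ (x : Prop), (OType.IsPlus Q P ↔ OType.IsPlus Q W) = x →
        ∃ W' ≤ Y, QuadBasis.Nondeg Q W' ∧ (∀ y ∈ W', g y ∈ W') ∧ finrank F W' = finrank F P + finrank F W ∧
          (OType.IsPlus Q W' ↔ x) := by
      intro W hW hWn hWi e e' he he' x hx
      have hpp : ∀ x ∈ P, ∀ y ∈ W, polar Q x y = 0 := fun x hx y hy => hperp x hx y (hW hy)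
      obtain ⟨hn, -, hd⟩ := OType.sup_facts hP hWn hpp
      refine ⟨P ⊔ W, sup_le hPY (hW.trans hRY), hn, fun y hy => ?_, hd,
        hx ▸ OType.plus_sup_iff hP hWn hpp he he'⟩
      obtain ⟨a, ha, b, hb, rfl⟩ := Submodule.mem_sup.mp hy
      rw [map_add]
      exact Submodule.add_mem_sup (hPi a ha) (hWi b hb)
    rcases hPd with hP2 | ⟨hP4, hPp⟩
    · by_cases hp : OType.IsPlus Q P
      · refine ⟨sp + 1, sm, h, by omega, fun a ha b hb u hu => ?_⟩
        rcases Nat.eq_zero_or_pos a with rfl | ha0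
        · obtain ⟨W, h1, h3, h4, h5, h6⟩ := hW 0 (by omega) b hb u hu
          exact ⟨W, h1.trans hRY, h3, h4, h5, h6⟩
        obtain ⟨W, h1, h3, h4, h5, h6⟩ := hW (a - 1) (by omega) b hb u hu
        obtain ⟨W', k1, k2, k3, k4, k5⟩ := join W h1 h3 h4 1 (a - 1 + b + 2 * u) (by omega) (by omega) _ rfl
        exact ⟨W', k1, k2, k3, by omega, k5.trans ((iff_true_left hp).trans h6)⟩
      · refine ⟨sp, sm + 1, h, by omega, fun a ha b hb u hu => ?_⟩
        rcases Nat.eq_zero_or_pos b with rfl | hb0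
        · obtain ⟨W, h1, h3, h4, h5, h6⟩ := hW a ha 0 (by omega) u hu
          exact ⟨W, h1.trans hRY, h3, h4, h5, h6⟩
        obtain ⟨W, h1, h3, h4, h5, h6⟩ := hW a ha (b - 1) (by omega) u hu
        obtain ⟨W', k1, k2, k3, k4, k5⟩ := join W h1 h3 h4 1 (a + (b - 1) + 2 * u) (by omega) (by omega) _ rfl
        refine ⟨W', k1, k2, k3, by omega, k5.trans ((iff_false_left hp).trans ((not_congr h6).trans ?_))⟩
        rw [Nat.even_iff, Nat.even_iff]
        omega
    · refine ⟨sp, sm, h + 1, by omega, fun a ha b hb u hu => ?_⟩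
      rcases Nat.eq_zero_or_pos u with rfl | hu0
      · obtain ⟨W, h1, h3, h4, h5, h6⟩ := hW a ha b hb 0 (by omega)
        exact ⟨W, h1.trans hRY, h3, h4, h5, h6⟩
      obtain ⟨W, h1, h3, h4, h5, h6⟩ := hW a ha b hb (u - 1) (by omega)
      obtain ⟨W', k1, k2, k3, k4, k5⟩ := join W h1 h3 h4 2 (a + b + 2 * (u - 1)) (by omega) (by omega) _ rfl
      exact ⟨W', k1, k2, k3, by omega, k5.trans ((iff_true_left hPp).trans h6)⟩

/-- An involution in characteristic two fixes a hyperbolic member. -/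
theorem fixed_plus (h2 : (2 : F) = 0) (hQ : OCount.PND Q) {g : Module.End F V} (hgg : ∀ v, g (g v) = v)
    (hiso : ∀ v, Q (g v) = Q v) {d m : ℕ} (hV : finrank F V = 2 * d) (hm : 2 ≤ m) (hme : Even m) (hmn : m < 2 * d)
    (hc : m % 4 = 0 ∨ (OType.IsPlus Q ⊤ ↔ Odd d)) :
    ∃ W : Submodule F V, finrank F W = m ∧ QuadBasis.Nondeg Q W ∧ OType.IsPlus Q W ∧ ∀ x ∈ W, g x ∈ W := by
  classical
  obtain ⟨sp, sm, h, hsum, hW⟩ := invol_pieces h2 hQ hgg hiso (finrank F V) ⊤ (by rw [finrank_top])
    (fun x _ hx => hQ x fun w => hx w trivial) fun _ _ => trivial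
  rw [finrank_top, hV] at hsum
  -- the type of the whole space
  have htop : OType.IsPlus Q ⊤ ↔ Even sm := by
    obtain ⟨W, -, -, -, hWd, hWt⟩ := hW sp le_rfl sm le_rfl h le_rfl
    rwa [Submodule.eq_top_of_finrank_eq (show finrank F W = finrank F V by omega)] at hWt
  rw [htop, Nat.even_iff, Nat.odd_iff] at hc
  rw [Nat.even_iff] at hme
  obtain ⟨u, hu⟩ : ∃ u, u = min (m / 4) h := ⟨_, rfl⟩
  obtain ⟨r, hr⟩ : ∃ r, r = (m - 4 * u) / 2 := ⟨_, rfl⟩
  obtain ⟨b, hb⟩ : ∃ b, b = min r sm - min r sm % 2 := ⟨_, rfl⟩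
  obtain ⟨W, -, hWn, hWi, hWd, hWt⟩ := hW (r - b) (by omega) b (by omega) u (by omega)
  exact ⟨W, by omega, hWn, hWt.mpr (Nat.even_iff.mpr (by omega)), hWi⟩

/-! ### Square-zero elements with singular range -/

/-- An invariant member is hyperbolic or has a hyperbolic complement when the rank is maximal. -/
theorem square_zero_member (hQ : OCount.PND Q) {g : Module.End F V} (hiso : ∀ v, Q (g v) = Q v) {N : Module.End F V}
    (hN : g = 1 + N) (hNN : ∀ v, N (N v) = 0) (hts : ∀ v, Q (N v) = 0) (halt : ∀ v, polar Q (N v) v = 0)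
    {W : Submodule F V} (hW : QuadBasis.Nondeg Q W) (hinv : ∀ x ∈ W, g x ∈ W) :
    ∃ r r' : ℕ, Even r ∧ r + r' = finrank F (LinearMap.range N) ∧ 2 * r ≤ finrank F W ∧
      2 * r' + finrank F W ≤ finrank F V ∧ (2 * r = finrank F W → OType.IsPlus Q W) ∧
      (2 * r' + finrank F W = finrank F V → (OType.IsPlus Q W ↔ OType.IsPlus Q ⊤) ∨ Odd (finrank F W)) := by
  classical
  have hNW : ∀ x ∈ W, N x ∈ W := fun x hx => by
    have := W.sub_mem (hinv x hx) hx
    simpa [hN] using this
  obtain ⟨K, -, hK, hperp, hsup, hdim, hKmem⟩ := OType.compl_in hQ hW (show QuadBasis.Nondeg Q ⊤ from fun x _ h => hQ x fun w => h w trivial) le_top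
  have hskew : ∀ x y, polar Q (N x) y + polar Q x (N y) = 0 := fun x y => by
    have h := halt (x + y)
    rw [map_add, polar_add_left, polar_add_right, polar_add_right, halt, halt, polar_comm _ (N y) x] at h
    linear_combination h
  have hNK : ∀ x ∈ K, N x ∈ K := fun x hx => hKmem _ trivial fun y hy => by
    have h := hskew x y
    rwa [polar_comm _ x (N y), hperp _ (hNW y hy) x hx, add_zero] at h
  have hsub : ∀ X : Submodule F V, QuadBasis.Nondeg Q X → (∀ x ∈ X, N x ∈ X) →
      2 * finrank F (X.map N) ≤ finrank F X ∧ (2 * finrank F (X.map N) = finrank F X → OType.IsPlus Q X) := by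
    intro X hX hNX
    have hle : X.map N ≤ X := by rintro _ ⟨x, hx, rfl⟩; exact hNX x hx
    have hq : ∀ y ∈ X.map N, Q y = 0 := by rintro _ ⟨x, -, rfl⟩; exact hts x
    refine ⟨?_, fun h => ⟨_, hle, hq, h⟩⟩
    have h := Witt.finrank_le_half (Q.comp X.subtype) (QuadModels.nondegenerate (QuadModels.pnd_res Q hX))
      (W := (X.map N).comap X.subtype) fun w hw => hq _ hw
    rwa [(Submodule.comapSubtypeEquivOfLe hle).finrank_eq] at h
  obtain ⟨hr1, hr2⟩ := hsub W hW hNW
  obtain ⟨hk1, hk2⟩ := hsub K hK hNK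
  rw [finrank_top] at hdim
  refine ⟨finrank F (W.map N), finrank F (K.map N), ?_, ?_, hr1, by omega, hr2, fun h => ?_⟩
  · -- an alternating form on a complement of the kernel
    obtain ⟨C, hC⟩ := exists_isCompl (LinearMap.ker (N.domRestrict W))
    let β : LinearMap.BilinForm F C :=
      ((polarBilin Q).compl₁₂ (N ∘ₗ W.subtype ∘ₗ C.subtype) (W.subtype ∘ₗ C.subtype))
    have hβ : ∀ a b, β a b = polar Q (N ((a : W) : V)) ((b : W) : V) := fun _ _ => rfl
    have hβA : SpCount.IsAltND β := by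
      refine ⟨fun a => by rw [hβ]; exact halt _, fun a ha => ?_⟩
      have hker : (a : W) ∈ LinearMap.ker (N.domRestrict W) := by
        rw [LinearMap.mem_ker, LinearMap.domRestrict_apply]
        refine hW _ (hNW _ (a : W).2) fun y hy => ?_
        obtain ⟨k, hk, c, hc, hyc⟩ := Submodule.mem_sup.mp
          (show (⟨y, hy⟩ : W) ∈ LinearMap.ker (N.domRestrict W) ⊔ C by rw [hC.sup_eq_top]; trivial)
        have e : y = (k : V) + (c : V) := congrArg Subtype.val hyc.symm
        rw [e, polar_add_right, show polar Q (N ((a : W) : V)) (c : V) = 0 from ha ⟨c, hc⟩, add_zero]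
        have h := hskew ((a : W) : V) (k : V)
        rwa [show N (k : V) = 0 from hk, polar_zero_right, add_zero] at h
      exact Subtype.ext (Submodule.disjoint_def.mp hC.disjoint _ hker a.2)
    have := TsSymp.even_dim hβA
    have h1 := (N.domRestrict W).finrank_range_add_finrank_ker
    rw [LinearMap.range_domRestrict] at h1
    have h3 := Submodule.finrank_add_eq_of_isCompl hC
    rwa [show finrank F C = finrank F (W.map N) by omega] at this
  · have hmap : LinearMap.range N = W.map N ⊔ K.map N := by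
      rw [← Submodule.map_sup, hsup, Submodule.map_top]
    have hdis : Disjoint (W.map N) (K.map N) := (OType.sup_facts hW hK hperp).2.1.mono
      (by rintro _ ⟨x, hx, rfl⟩; exact hNW x hx) (by rintro _ ⟨x, hx, rfl⟩; exact hNK x hx)
    have h := Submodule.finrank_sup_add_finrank_inf_eq (W.map N) (K.map N)
    rw [hdis.eq_bot, finrank_bot, ← hmap] at h
    omega
  · rcases Nat.even_or_odd (finrank F W) with ⟨e, he⟩ | ho
    swap
    · exact Or.inr ho
    left
    have hKp := hk2 (by omega)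
    have h' := OType.plus_sup_iff hW hK hperp (e := e) (e' := finrank F (K.map N)) (by omega) (by omega)
    rw [hsup] at h'
    exact ⟨fun hw => h'.mpr (iff_of_true hw hKp), fun ht => (h'.mp ht).mpr hKp⟩

/-- A square-zero element of the derived group with given totally singular range. -/
theorem exists_square_zero (hQ : OCount.PND Q) (hn : Nat.card F ≠ 2 ∨ finrank F V ≠ 4) {k : ℕ}
    (w : Fin k × Fin 2 → V) (hli : LinearIndependent F w) (hw : ∀ a b, polar Q (w a) (w b) = 0)
    (hq : ∀ a, Q (w a) = 0) :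
    ∃ (G : ↥(ORefl.Iso Q)) (N : Module.End F V), G ∈ commutator ↥(ORefl.Iso Q) ∧ (∀ v, G.1 v = v + N v) ∧
      (∀ v, N (N v) = 0) ∧ (∀ v, Q (N v) = 0) ∧ (∀ v, polar Q (N v) v = 0) ∧
      finrank F (LinearMap.range N) = 2 * k := by
  classical
  let M : Fin k → Module.End F V := fun j =>
    (polarBilin Q (w (j, 0))).smulRight (w (j, 1)) - (polarBilin Q (w (j, 1))).smulRight (w (j, 0))
  have hM : ∀ j v, M j v = polar Q (w (j, 0)) v • w (j, 1) - polar Q (w (j, 1)) v • w (j, 0) := fun _ _ => rfl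
  have hMM : ∀ i j v, M i (M j v) = 0 := fun i j v => by
    simp only [hM, polar_sub_right, QuadBasis.p_smul_right, hw, mul_zero, sub_zero, zero_smul]
  have hex : ∀ l : List (Fin k), ∃ G : ↥(ORefl.Iso Q), G ∈ commutator ↥(ORefl.Iso Q) ∧
      ∀ v, G.1 v = v + (l.map fun j => M j v).sum := by
    intro l
    induction l with
    | nil => exact ⟨1, one_mem _, fun v => by simp⟩
    | cons j l ih =>
      obtain ⟨G, hG, hGv⟩ := ih
      refine ⟨⟨ORefl.siegel (hq (j, 0)) (hw (j, 0) (j, 1)), ORefl.siegel_mem _ _⟩ * G,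
        mul_mem (OOmega.siegel_mem_commutator hQ hn _ _) hG, fun v => ?_⟩
      have hs : ∀ x, ORefl.siegel (hq (j, 0)) (hw (j, 0) (j, 1)) x = x + M j x := fun x => by
        rw [ORefl.siegel_apply, hM, hq, zero_mul, add_zero]
        module
      have hz : M j ((l.map fun i => M i v).sum) = 0 := by
        rw [map_list_sum]
        exact List.sum_eq_zero fun x hx => by
          simp only [List.map_map, List.mem_map, Function.comp_apply] at hx
          obtain ⟨i, -, rfl⟩ := hx
          exact hMM j i v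
      show ORefl.siegel (hq (j, 0)) (hw (j, 0) (j, 1)) (G.1 v) = _
      rw [hs, hGv, map_add, hz, add_zero, List.map_cons, List.sum_cons]
      abel
  obtain ⟨G, hGc, hGv⟩ := hex (List.finRange k)
  obtain ⟨N, hN⟩ : ∃ N, N = ∑ j, M j := ⟨_, rfl⟩
  have hNa : ∀ v, N v = ∑ j, M j v := fun v => by rw [hN, LinearMap.sum_apply]
  have hsum : ∀ v, ((List.finRange k).map fun j => M j v).sum = N v := fun v => by
    rw [hNa, Fin.sum_univ_def]
  have hmem : ∀ v, N v ∈ Submodule.span F (Set.range w) := fun v => by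
    rw [hNa]
    exact Submodule.sum_mem _ fun j _ => Submodule.sub_mem _
      (Submodule.smul_mem _ _ (Submodule.subset_span ⟨_, rfl⟩)) (Submodule.smul_mem _ _ (Submodule.subset_span ⟨_, rfl⟩))
  have hspan : ∀ a, ∀ y ∈ Submodule.span F (Set.range w), polar Q (w a) y = 0 := fun a y hy => by
    refine (show Submodule.span F (Set.range w) ≤ LinearMap.ker (polarBilin Q (w a)) from ?_) hy
    rw [Submodule.span_le]
    rintro _ ⟨b, rfl⟩
    exact hw a b
  have hNN : ∀ v, N (N v) = 0 := fun v => by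
    rw [hNa (N v)]
    exact Finset.sum_eq_zero fun j _ => by
      rw [hM, hspan _ _ (hmem v), hspan _ _ (hmem v), zero_smul, zero_smul, sub_zero]
  refine ⟨G, N, hGc, fun v => by rw [hGv, hsum], hNN, fun v => ?_, fun v => ?_, ?_⟩
  · obtain ⟨c, hc⟩ := (Submodule.mem_span_range_iff_exists_fun F).mp (hmem v)
    rw [← hc, QuadBasis.q_sum]
    · exact Finset.sum_eq_zero fun a _ => by rw [QuadBasis.q_smul, hq, mul_zero]
    · intro a b _
      rw [QuadBasis.p_smul_left, QuadBasis.p_smul_right, hw, mul_zero, mul_zero]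
  · rw [hNa, ← polarBilin_apply_apply, map_sum, LinearMap.sum_apply]
    refine Finset.sum_eq_zero fun j _ => ?_
    rw [polarBilin_apply_apply, hM, polar_sub_left, QuadBasis.p_smul_left, QuadBasis.p_smul_left]
    ring
  · have he : LinearMap.range N = Submodule.span F (Set.range w) := by
      refine le_antisymm (by rintro _ ⟨v, rfl⟩; exact hmem v) (Submodule.span_le.mpr ?_)
      rintro _ ⟨⟨i, s⟩, rfl⟩
      let b := Basis.span hli
      obtain ⟨C, hC⟩ := exists_isCompl (Submodule.span F (Set.range w))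
      -- a dual vector
      obtain ⟨tgt, htgt⟩ : ∃ tgt : Fin k × Fin 2, tgt = (i, if s = 0 then 1 else 0) := ⟨_, rfl⟩
      obtain ⟨v, hv⟩ := ORefl.exists_polar hQ
        ((b.coord tgt) ∘ₗ Submodule.projectionOnto (Submodule.span F (Set.range w)) C hC)
      have hva : ∀ a, polar Q (w a) v = if a = tgt then 1 else 0 := fun a => by
        rw [polar_comm, hv, LinearMap.comp_apply,
          show w a = ((b a : Submodule.span F (Set.range w)) : V) from (congrArg Subtype.val (Basis.span_apply hli a)).symm,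
          Submodule.projectionOnto_apply_left, Basis.coord_apply, b.repr_self, Finsupp.single_apply]
      have hNv : N v = if s = 0 then -w (i, 0) else w (i, 1) := by
        rw [hNa, Finset.sum_eq_single i (fun j _ hj => by
          rw [hM, hva, hva, htgt, if_neg (fun h => hj (congrArg Prod.fst h)),
            if_neg (fun h => hj (congrArg Prod.fst h)), zero_smul, zero_smul, sub_zero]) (by simp), hM, hva, hva, htgt]
        fin_cases s <;> simp
      fin_cases s
      · refine ⟨-v, ?_⟩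
        rw [map_neg, hNv]
        simp
      · refine ⟨v, ?_⟩
        rw [hNv]
        simp
    rw [he, finrank_span_eq_card hli, Fintype.card_prod, Fintype.card_fin, Fintype.card_fin, mul_comm]

end Cfsg.Agent.Classical.Elusive.OInv
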