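import Cfsg.Agent.Lib.Classical.Elusive.OrthEvenUnits

/-!
# Isometries of odd prime order on members of given even dimension and type
-/

set_option autoImplicit false
set_option linter.unusedSectionVars false

universe u

namespace Cfsg.Agent.Classical.Elusive.OUnits

open Module QuadraticMap
open Cfsg.Agent.Small

variable {F : Type u} [Field F] [Fintype F] {V : Type u} [AddCommGroup V] [Module F V] [FiniteDimensional F V]
  {Q : QuadraticForm F V} {r : ℕ}

/-- When every element of order `r` keeps a member of type `P`; `T` is the type of the space. -/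
def Cond (F : Type u) [Fintype F] (r n m : ℕ) (T P : Prop) : Prop :=
  (n % OFree.unit F r = 0 ∧
      (¬ (T ↔ uT F r (n / OFree.unit F r)) ∨ (m % OFree.unit F r = 0 ∧ (P ↔ uT F r (m / OFree.unit F r))))) ∨
    (0 < n % OFree.unit F r ∧
      ((0 < m % OFree.unit F r ∧ m % OFree.unit F r < n % OFree.unit F r) ∨
        (m % OFree.unit F r = 0 ∧ (P ↔ uT F r (m / OFree.unit F r))) ∨
        (0 < m % OFree.unit F r ∧ m % OFree.unit F r = n % OFree.unit F r ∧
          (P ↔ (T ↔ uT F r (n / OFree.unit F r + m / OFree.unit F r))))))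

theorem iff_part {P U T : Prop} (h : T ↔ (P ↔ U)) : P ↔ (U ↔ T) := by
  by_cases P <;> by_cases U <;> simp_all

theorem iff_none {P U B : Prop} (hB : B) (h : P ↔ U) : P ↔ (U ↔ B) := by
  by_cases P <;> simp_all

theorem iff_mismatch {P J U T N X : Prop} (h1 : ¬ (P ↔ (J ↔ U))) (h2 : ¬ (T ↔ (N ↔ U))) (h3 : T ↔ (N ↔ X)) :
    P ↔ (J ↔ X) := by
  by_cases P <;> by_cases J <;> by_cases N <;> by_cases X <;> simp_all

theorem iff_full {P J T N X : Prop} (h1 : P ↔ (T ↔ (N ↔ J))) (h3 : T ↔ (N ↔ X)) : P ↔ (J ↔ X) := by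
  by_cases P <;> by_cases J <;> by_cases N <;> by_cases X <;> simp_all

theorem iff_back {W P J T N X : Prop} (h0 : W ↔ P) (h1 : W ↔ (J ↔ X)) (h3 : T ↔ (N ↔ X)) : P ↔ (T ↔ (N ↔ J)) := by
  by_cases P <;> by_cases J <;> by_cases N <;> by_cases X <;> simp_all

/-- Fixed and moved part give the type of the space. -/
theorem type_top (hQ : OCount.PND Q) (hr : r.Prime) (hr2 : r ≠ 2) (hr0 : (r : F) ≠ 0) (hVe : Even (finrank F V))
    {g : Module.End F V} (hgr : g ^ r = 1) (hiso : ∀ v, Q (g v) = Q v) {N : ℕ}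
    (hN : finrank F (Free.moved g) = OFree.unit F r * N) :
    OType.IsPlus Q ⊤ ↔ (uT F r N ↔ OType.IsPlus Q (Free.fixSpace g)) := by
  obtain ⟨hdim, -, hfix, hmov⟩ := OFree.parts_facts hQ hr hr2 hr0 hgr hiso
  obtain ⟨-, -, hue⟩ := OFree.unit_pos (F := F) hr hr0
  obtain ⟨u, hu⟩ := hue
  have hg := OFree.tame_of (Q := Q) hr0 hgr hiso
  obtain ⟨a, ha⟩ := hVe
  have hM2 : finrank F (Free.moved g) = 2 * (u * N) := by rw [hN, hu]; ring
  have h := OType.plus_sup_iff hmov hfix (fun x hx y hy => by rw [polar_comm]; exact hg.perp hy hx) hM2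
    (e' := a - u * N) (by omega)
  rw [sup_comm, hg.isCompl.sup_eq_top, units_type hr hr2 hr0 hgr hiso hmov
    (fun x hx => Free.moved_invariant hx) le_rfl hN] at h
  exact h

/-- Sufficiency. -/
theorem exists_member (hQ : OCount.PND Q) (hr : r.Prime) (hr2 : r ≠ 2) (hr0 : (r : F) ≠ 0)
    (hVe : Even (finrank F V)) {g : Module.End F V} (hgr : g ^ r = 1) (hiso : ∀ v, Q (g v) = Q v) {m : ℕ}
    (hm : 2 ≤ m) (hme : Even m) (hmn : m < finrank F V) (P : Prop)
    (hC : Cond F r (finrank F V) m (OType.IsPlus Q ⊤) P) :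
    ∃ W : Submodule F V, finrank F W = m ∧ QuadBasis.Nondeg Q W ∧ (OType.IsPlus Q W ↔ P) ∧ ∀ x ∈ W, g x ∈ W := by
  classical
  obtain ⟨-, hupos, hue⟩ := OFree.unit_pos (F := F) hr hr0
  obtain ⟨hdim, ⟨N, hN⟩, hfix, hmov⟩ := OFree.parts_facts hQ hr hr2 hr0 hgr hiso
  have htop := type_top hQ hr hr2 hr0 hVe hgr hiso hN
  have hg := OFree.tame_of (Q := Q) hr0 hgr hiso
  obtain ⟨u, hu⟩ := hue
  obtain ⟨a, ha⟩ := hVe
  obtain ⟨f, hf⟩ : ∃ f, f = finrank F (Free.fixSpace g) := ⟨_, rfl⟩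
  unfold Cond at hC
  obtain ⟨c, hc⟩ : ∃ c, c = OFree.unit F r := ⟨_, rfl⟩
  rw [← hc] at hN hupos hu hC
  rw [← hf] at hdim
  have hfe : f % 2 = 0 := by
    have : c * N = 2 * (u * N) := by rw [hu]; ring
    omega
  obtain ⟨e, he⟩ := hme
  -- a member from `j` units and `s` fixed dimensions
  have mem : ∀ j s, j ≤ N → c * j + s = m →
      ((0 < s ∧ s < f) ∨ (s = 0 ∧ (P ↔ uT F r j)) ∨
        (s = f ∧ (P ↔ (uT F r j ↔ OType.IsPlus Q (Free.fixSpace g))))) →
      ∃ W : Submodule F V, finrank F W = m ∧ QuadBasis.Nondeg Q W ∧ (OType.IsPlus Q W ↔ P) ∧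
        ∀ x ∈ W, g x ∈ W := by
    intro j s hj hjs hs
    obtain ⟨U, hUM, hU, hUd, hUn⟩ := units_in_moved hQ hr hr2 hr0 hgr hiso (hc ▸ hN) hj
    have hUt := units_type hr hr2 hr0 hgr hiso hUn hU hUM hUd
    have hUd2 : finrank F U = 2 * (u * j) := by rw [hUd, ← hc, hu]; ring
    have hcj : c * j = 2 * (u * j) := by rw [hu]; ring
    have build : ∀ T ≤ Free.fixSpace g, QuadBasis.Nondeg Q T → finrank F T = s →
        (P ↔ (uT F r j ↔ OType.IsPlus Q T)) →
        ∃ W : Submodule F V, finrank F W = m ∧ QuadBasis.Nondeg Q W ∧ (OType.IsPlus Q W ↔ P) ∧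
          ∀ x ∈ W, g x ∈ W := by
      intro T hT hTn hTd hP
      have hperp : ∀ x ∈ U, ∀ y ∈ T, polar Q x y = 0 := fun x hx y hy => by
        rw [polar_comm]; exact hg.perp (hT hy) (hUM hx)
      obtain ⟨hn, -, hd⟩ := OType.sup_facts hUn hTn hperp
      refine ⟨U ⊔ T, by omega, hn, ?_, fun x hx => ?_⟩
      · rw [OType.plus_sup_iff hUn hTn hperp hUd2 (e' := s / 2) (by omega), hUt, hP]
      · obtain ⟨a, ha, b, hb, rfl⟩ := Submodule.mem_sup.mp hx
        rw [map_add, Free.mem_fixSpace.mp (hT hb)]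
        exact Submodule.mem_sup.mpr ⟨_, hU a ha, b, hb, rfl⟩
    rcases hs with ⟨h0, h1⟩ | ⟨h0, hP⟩ | ⟨h0, hP⟩
    · obtain ⟨T, hT, hTn, hTd, hTP⟩ := OType.exists_sub hQ hfix (e := s / 2) (by omega) (by omega) (P ↔ uT F r j)
      exact build T hT hTn (by omega) (iff_part hTP)
    · refine build ⊥ bot_le OType.nondeg_bot (by rw [finrank_bot, h0]) ?_
      exact iff_none OType.plus_bot hP
    · exact build _ le_rfl hfix (by omega) hP
  have hdm := Nat.div_add_mod m c
  have hlt := Nat.mod_lt m hupos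
  have hnk : finrank F V % c = f % c := by rw [← hdim, hN, Nat.add_mul_mod_self_left]
  have hnd : f < c → finrank F V / c = N := fun h => by
    rw [← hdim, hN, Nat.add_mul_div_left _ _ hupos, Nat.div_eq_of_lt h, zero_add]
  have cA : 0 < m % c → m % c < f → ∃ W : Submodule F V, finrank F W = m ∧ QuadBasis.Nondeg Q W ∧
      (OType.IsPlus Q W ↔ P) ∧ ∀ x ∈ W, g x ∈ W := fun h0 h1 => by
    rcases le_or_gt (m / c) N with h | h
    · exact mem (m / c) (m % c) h hdm (Or.inl ⟨h0, h1⟩)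
    · have := Nat.mul_le_mul_left c h.le
      exact mem N (m - c * N) le_rfl (by omega) (Or.inl ⟨by omega, by omega⟩)
  have cC : m % c = 0 → (P ↔ uT F r (m / c)) → ∃ W : Submodule F V, finrank F W = m ∧ QuadBasis.Nondeg Q W ∧
      (OType.IsPlus Q W ↔ P) ∧ ∀ x ∈ W, g x ∈ W := fun h0 hP => by
    rcases le_or_gt (m / c) N with h | h
    · exact mem (m / c) 0 h (by omega) (Or.inr (Or.inl ⟨rfl, hP⟩))
    · have h' := Nat.mul_le_mul_left c h
      rw [Nat.mul_succ] at h'
      exact mem N (m - c * N) le_rfl (by omega) (Or.inl ⟨by omega, by omega⟩)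
  rcases hC with ⟨hk, hC⟩ | ⟨hk, hC⟩
  · rw [hnk] at hk
    obtain ⟨t, ht⟩ := Nat.dvd_of_mod_eq_zero hk
    rcases Nat.eq_zero_or_pos t with rfl | ht0
    · rw [mul_zero] at ht
      rw [hnd (by omega)] at hC
      rcases hC with h | ⟨h0, hP⟩
      · have hb : OType.IsPlus Q (Free.fixSpace g) := by
          rw [Submodule.finrank_eq_zero.mp (show finrank F (Free.fixSpace g) = 0 by omega)]
          exact OType.plus_bot
        exact absurd (htop.trans (iff_true_right hb)) h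
      · exact cC h0 hP
    · have hcf : c ≤ f := ht ▸ Nat.le_mul_of_pos_right c ht0
      rcases Nat.eq_zero_or_pos (m % c) with h0 | h0
      swap
      · exact cA h0 (by omega)
      rcases hcf.lt_or_eq with hlt' | heq
      · have hm1 : 1 ≤ m / c := Nat.pos_of_ne_zero fun h => by rw [h, mul_zero] at hdm; omega
        have hpred : c * (m / c - 1) = c * (m / c) - c := by rw [Nat.mul_sub, mul_one]
        have hcm : c ≤ c * (m / c) := Nat.le_mul_of_pos_right c hm1
        rcases le_or_gt (m / c - 1) N with h | h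
        · exact mem (m / c - 1) c h (by omega) (Or.inl ⟨by omega, by omega⟩)
        · have h' := Nat.mul_le_mul_left c h
          rw [Nat.mul_succ] at h'
          exact mem N (m - c * N) le_rfl (by omega) (Or.inl ⟨by omega, by omega⟩)
      · rw [show finrank F V / c = N + 1 by
          rw [← hdim, hN, ← heq, Nat.add_mul_div_left _ _ hupos, Nat.div_self hupos, add_comm]] at hC
        by_cases hP : P ↔ uT F r (m / c)
        · exact cC h0 hP
        have hT : ¬ (OType.IsPlus Q ⊤ ↔ uT F r (N + 1)) := hC.resolve_right fun h => hP h.2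
        have hm1 : 1 ≤ m / c := Nat.pos_of_ne_zero fun h => by rw [h, mul_zero] at hdm; omega
        have hjN : m / c ≤ N := by
          by_contra h
          have h' := Nat.mul_le_mul_left c (not_le.mp h)
          rw [Nat.mul_succ] at h'
          omega
        have hpred : c * (m / c - 1) = c * (m / c) - c := by rw [Nat.mul_sub, mul_one]
        have hcm : c ≤ c * (m / c) := Nat.le_mul_of_pos_right c hm1
        refine mem (m / c - 1) c (by omega) (by omega) (Or.inr (Or.inr ⟨heq, ?_⟩))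
        rw [show m / c = m / c - 1 + 1 by omega, uT_add] at hP
        rw [uT_add] at hT
        exact iff_mismatch hP hT htop
  · rw [hnk] at hk hC
    have hkf := Nat.mod_le f c
    rcases hC with ⟨h0, h1⟩ | ⟨h0, hP⟩ | ⟨h0, h1, hP⟩
    · exact cA h0 (by omega)
    · exact cC h0 hP
    · rcases lt_or_eq_of_le hkf with h | h
      · exact cA h0 (by omega)
      · have hfc : f < c := by omega
        rw [hnd hfc, uT_add] at hP
        have hjN : m / c ≤ N := by
          by_contra h'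
          have h'' := Nat.mul_le_mul_left c (not_le.mp h')
          rw [Nat.mul_succ] at h''
          omega
        exact mem (m / c) (m % c) hjN hdm (Or.inr (Or.inr ⟨by omega, iff_full hP htop⟩))

/-- An element fixing no member. -/
theorem exists_moving (hQ : OCount.PND Q) (hr : r.Prime) (hr2 : r ≠ 2) (hr0 : (r : F) ≠ 0)
    (hVe : Even (finrank F V)) {m : ℕ} (P : Prop) (hcn : OFree.unit F r ≤ finrank F V)
    (hC : ¬ Cond F r (finrank F V) m (OType.IsPlus Q ⊤) P) :
    ∃ g : Module.End F V, g ^ r = 1 ∧ (∀ v, Q (g v) = Q v) ∧ g ≠ 1 ∧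
      ∀ W : Submodule F V, finrank F W = m → QuadBasis.Nondeg Q W → (OType.IsPlus Q W ↔ P) →
        ¬ ∀ x ∈ W, g x ∈ W := by
  classical
  obtain ⟨-, hupos, hue⟩ := OFree.unit_pos (F := F) hr hr0
  obtain ⟨u, hu⟩ := hue
  obtain ⟨a, ha⟩ := hVe
  have hN : 1 ≤ finrank F V / OFree.unit F r := (Nat.one_le_div_iff hupos).mpr hcn
  have hdm := Nat.div_add_mod (finrank F V) (OFree.unit F r)
  obtain ⟨N, hNdef⟩ : ∃ N, N = finrank F V / OFree.unit F r := ⟨_, rfl⟩
  rw [← hNdef] at hN hdm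
  have hcN : OFree.unit F r * N = 2 * (u * N) := by rw [hu]; ring
  obtain ⟨A, hA, hAd, hAt⟩ : ∃ A : Submodule F V, QuadBasis.Nondeg Q A ∧
      finrank F A = OFree.unit F r * N ∧ (OType.IsPlus Q A ↔ uT F r N) := by
    rcases Nat.eq_zero_or_pos (finrank F V % OFree.unit F r) with h0 | h0
    · refine ⟨⊤, OFree.top_nondeg hQ, by rw [finrank_top]; omega, ?_⟩
      by_contra h
      exact hC (Or.inl ⟨h0, Or.inl (hNdef ▸ h)⟩)
    · obtain ⟨A, -, hA, hAd, hAt⟩ := OType.exists_sub hQ (OFree.top_nondeg hQ) (e := u * N)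
        (Nat.mul_pos (by omega) hN) (by rw [finrank_top]; omega) (uT F r N)
      exact ⟨A, hA, by omega, hAt⟩
  obtain ⟨g, hgr, hiso, hgf⟩ := exists_element hQ hr hr2 hr0 hA hN hAd hAt
  obtain ⟨hdim, -, hfix, hmov⟩ := OFree.parts_facts hQ hr hr2 hr0 hgr hiso
  have hg := OFree.tame_of (Q := Q) hr0 hgr hiso
  have htop := type_top hQ hr hr2 hr0 ⟨a, ha⟩ hgr hiso (N := N) (by omega)
  have hlt := Nat.mod_lt (finrank F V) hupos
  refine ⟨g, hgr, hiso, fun h => ?_, fun W hWd hW hWP hinv => hC ?_⟩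
  · have e : Free.fixSpace g = ⊤ := eq_top_iff.mpr fun v _ => Free.mem_fixSpace.mpr (by rw [h]; rfl)
    rw [e, finrank_top] at hgf
    have := Nat.mul_pos hupos hN
    omega
  have key : ∀ k : ℕ, ∀ x ∈ W, (g ^ k) x ∈ W := by
    intro k
    induction k with
    | zero => exact fun x hx => hx
    | succ k ih => intro x hx; rw [pow_succ', Module.End.mul_apply]; exact hinv _ (ih x hx)
  have hav : ∀ y ∈ W, Free.avg g r y ∈ W := fun y hy => by
    simp only [Free.avg, LinearMap.smul_apply, LinearMap.sum_apply]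
    exact W.smul_mem _ (W.sum_mem fun k _ => key k y hy)
  obtain ⟨Wm, hWm⟩ : ∃ Wm, Wm = W ⊓ Free.moved g := ⟨_, rfl⟩
  obtain ⟨Wf, hWf⟩ : ∃ Wf, Wf = W ⊓ Free.fixSpace g := ⟨_, rfl⟩
  have hWmn : QuadBasis.Nondeg Q Wm := fun x hx h => hW x (hWm.le hx).1 fun y hy => by
    rw [← add_sub_cancel (Free.avg g r y) y, polar_add_right, h (y - Free.avg g r y) (hWm ▸ ⟨W.sub_mem hy (hav y hy), hg.sub_avg_mem y⟩),
      polar_comm, show polar Q (Free.avg g r y) x = 0 from hg.perp (hg.avg_mem y) (hWm.le hx).2, zero_add]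
  have hWfn : QuadBasis.Nondeg Q Wf := fun x hx h => hW x (hWf.le hx).1 fun y hy => by
    rw [← add_sub_cancel (Free.avg g r y) y, polar_add_right, h (Free.avg g r y) (hWf ▸ ⟨hav y hy, hg.avg_mem y⟩),
      show polar Q x (y - Free.avg g r y) = 0 from hg.perp (hWf.le hx).2 (hg.sub_avg_mem y), zero_add]
  have hperp : ∀ x ∈ Wm, ∀ y ∈ Wf, polar Q x y = 0 := fun x hx y hy => by
    rw [polar_comm]; exact hg.perp (hWf.le hy).2 (hWm.le hx).2
  have hsup : Wm ⊔ Wf = W := by
    refine le_antisymm (sup_le (hWm ▸ inf_le_left) (hWf ▸ inf_le_left)) fun y hy => ?_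
    rw [← sub_add_cancel y (Free.avg g r y)]
    exact Submodule.add_mem_sup (hWm ▸ ⟨W.sub_mem hy (hav y hy), hg.sub_avg_mem y⟩) (hWf ▸ ⟨hav y hy, hg.avg_mem y⟩)
  obtain ⟨hWn', -, hdims⟩ := OType.sup_facts hWmn hWfn hperp
  rw [hsup, hWd] at hdims
  have hWmi : ∀ x ∈ Wm, g x ∈ Wm := fun x hx => hWm ▸ ⟨hinv x (hWm.le hx).1, Free.moved_invariant (hWm.le hx).2⟩
  obtain ⟨j, hj⟩ := (OFree.unit_type hWmn hWmi hr hr2 hr0 (fun x _ => by rw [hgr]; rfl)
    (fun x hx h => OFree.moved_fix hg (hWm.le hx).2 h) hiso).1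
  have hmt := units_type hr hr2 hr0 hgr hiso hWmn hWmi (hWm ▸ inf_le_right) hj
  have hb : finrank F Wf ≤ finrank F V % OFree.unit F r := by
    have := Submodule.finrank_mono (show Wf ≤ Free.fixSpace g from hWf ▸ inf_le_right)
    omega
  have hl : m % OFree.unit F r = finrank F Wf ∧ m / OFree.unit F r = j := by
    rw [hdims, hj, add_comm]
    exact ⟨by rw [Nat.add_mul_mod_self_left, Nat.mod_eq_of_lt (by omega)],
      by rw [Nat.add_mul_div_left _ _ hupos, Nat.div_eq_of_lt (by omega), zero_add]⟩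
  unfold Cond
  rw [hl.1, hl.2, ← hNdef]
  rcases Nat.eq_zero_or_pos (finrank F Wf) with h0 | h0
  · have hb0 : Wf = ⊥ := Submodule.finrank_eq_zero.mp h0
    rw [hb0, sup_bot_eq] at hsup
    rw [hsup] at hmt
    rcases Nat.eq_zero_or_pos (finrank F V % OFree.unit F r) with hk | hk
    · exact Or.inl ⟨hk, Or.inr ⟨h0, hWP.symm.trans hmt⟩⟩
    · exact Or.inr ⟨hk, Or.inr (Or.inl ⟨h0, hWP.symm.trans hmt⟩)⟩
  refine Or.inr ⟨by omega, ?_⟩
  rcases hb.lt_or_eq with h1 | h1
  · exact Or.inl ⟨h0, h1⟩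
  refine Or.inr (Or.inr ⟨h0, h1, ?_⟩)
  have e : Wf = Free.fixSpace g := Submodule.eq_of_le_of_finrank_le (hWf ▸ inf_le_right) (by omega)
  obtain ⟨i, hi⟩ : ∃ i, finrank F Wm = 2 * i := ⟨u * j, by rw [hj, hu]; ring⟩
  have hmcN : finrank F (Free.fixSpace g) % 2 = 0 := by omega
  have h := OType.plus_sup_iff hWmn hWfn hperp hi (e' := finrank F Wf / 2) (by rw [e]; omega)
  rw [hsup, e, hmt] at h
  rw [uT_add]
  exact iff_back hWP h htop

end Cfsg.Agent.Classical.Elusive.OUnits
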