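import Cfsg.Agent.Lib.Classical.Elusive.OrthEvenSame
import Cfsg.Agent.Lib.Classical.Elusive.OrthEvenInvol
import Cfsg.Agent.Lib.Classical.Elusive.OrthEvenIff

/-!
# Which prime orders always fix a member of given even dimension and type
-/

set_option autoImplicit false
set_option linter.unusedSectionVars false

universe u

namespace Cfsg.Agent.Classical.Elusive.OSame

open Module QuadraticMap
open Cfsg.Agent.Small

variable {F : Type u} [Field F] [Fintype F] {ι : Type} [Fintype ι] [DecidableEq ι] {Q : QuadraticForm F (ι → F)}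

/-- The members. -/
def Mem (Q : QuadraticForm F (ι → F)) (m : ℕ) (P : Prop) (W : Submodule F (ι → F)) : Prop :=
  finrank F W = m ∧ QuadBasis.Nondeg Q W ∧ (OType.IsPlus Q W ↔ P)

/-- Every element of order `r` fixes a member. -/
def All (Q : QuadraticForm F (ι → F)) (m r : ℕ) (P : Prop) : Prop :=
  ∀ x : GL ι F, x ∈ Cfsg.Geo.omegaGL ⇑Q →
    (∃ z : F, ((x ^ r : GL ι F) : Matrix ι ι F) = z • (1 : Matrix ι ι F)) →
    (∀ z : F, (x : Matrix ι ι F) ≠ z • (1 : Matrix ι ι F)) →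
    ∃ W : Submodule F (ι → F), Mem Q m P W ∧ W.map (Matrix.toLin' (x : Matrix ι ι F)) ≤ W

theorem exists_value (hQ : OCount.PND Q) (hn : 1 ≤ Fintype.card ι) : ∃ v, Q v ≠ 0 :=
  CharTwoQuad.exists_nonzero_value hQ hn

theorem scalar_power {x : GL ι F} (hx : x ∈ Cfsg.Geo.omegaGL ⇑Q) (hne : ∃ v, Q v ≠ 0) {r : ℕ} {z : F}
    (hz : ((x ^ r : GL ι F) : Matrix ι ι F) = z • (1 : Matrix ι ι F)) :
    z * z = 1 ∧ ∀ v, ((Matrix.toLin' (x : Matrix ι ι F)) ^ r) v = z • v := by
  have h1 : ∀ v, ((Matrix.toLin' (x : Matrix ι ι F)) ^ r) v = z • v := fun v => by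
    rw [← Matrix.toLin'_pow, ← Units.val_pow_eq_pow_val, hz]; simp
  obtain ⟨v₀, hv₀⟩ := hne
  have := CharTwoQuad.pow_invariant (OFree.omega_iso hx) r v₀
  rw [h1, QuadBasis.q_smul] at this
  exact ⟨(mul_eq_right₀ hv₀).mp this, h1⟩

/-- An isometry of odd prime order as an element of Ω. -/
theorem omega_of_end (hQ : OCount.PND Q) (hn : 5 ≤ Fintype.card ι) {r : ℕ} (hr : r.Prime) (hr2 : r ≠ 2)
    {f : Module.End F (ι → F)} (hfr : f ^ r = 1) (hf : ∀ v, Q (f v) = Q v) :
    ∃ x : GL ι F, x ∈ Cfsg.Geo.omegaGL ⇑Q ∧ x ^ r = 1 ∧ Matrix.toLin' (x : Matrix ι ι F) = f := by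
  by_cases h2 : (2 : F) = 0
  · haveI : CharP F 2 := CharTwo.of_one_ne_zero_of_two_eq_zero one_ne_zero h2
    have hval : ((CharTwoQuad.glOf f r hr.ne_zero hfr : GL ι F) : Matrix ι ι F) = LinearMap.toMatrixAlgEquiv' f := rfl
    have hlin : Matrix.toLin' ((CharTwoQuad.glOf f r hr.ne_zero hfr : GL ι F) : Matrix ι ι F) = f := by
      refine LinearMap.ext fun v => ?_
      rw [Matrix.toLin'_apply, CharTwoQuad.glOf_mulVec]
    refine ⟨_, CharTwoQuad.mem_omegaGL_of_odd hQ hn (CharTwoQuad.mem_isometry.mpr fun v => ?_)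
      (hr.odd_of_ne_two hr2) (CharTwoQuad.glOf_pow _ hfr), CharTwoQuad.glOf_pow _ hfr, hlin⟩
    rw [CharTwoQuad.glOf_mulVec, hf]
  · exact OFree.exists_omega_of_end h2 hQ (by omega) hr hr2 hfr hf

/-- Odd primes other than the characteristic. -/
theorem free_iff (hQ : OCount.PND Q) {d m : ℕ} (hn : Fintype.card ι = 2 * d) (hd : 3 ≤ d) (hm : 2 ≤ m) (hme : Even m)
    (hmn : m < 2 * d) (P : Prop) {r : ℕ} (hr : r.Prime) (hr2 : r ≠ 2) (hr0 : (r : F) ≠ 0)
    (hdvd : r ∣ Nat.card {W : Submodule F (ι → F) // Mem Q m P W}) :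
    All Q m r P ↔ OUnits.Cond F r (2 * d) m (OType.IsPlus Q ⊤) P := by
  classical
  have hV : finrank F (ι → F) = 2 * d := by rw [finrank_fintype_fun_eq_card, hn]
  have hVe : Even (finrank F (ι → F)) := hV ▸ even_two_mul d
  have hne := exists_value hQ (by omega)
  constructor
  · intro H
    by_contra hC
    have hex := OUnits.excluded hQ hr hr2 hr0 hm hme (by omega) P hdvd
    have hcn : OFree.unit F r ≤ finrank F (ι → F) := by
      by_contra hlt
      rw [Nat.mod_eq_of_lt (not_le.mp hlt)] at hex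
      omega
    obtain ⟨g, hgr, hgi, hg1, hnf⟩ := OUnits.exists_moving (m := m) hQ hr hr2 hr0 hVe P hcn (by rwa [hV])
    obtain ⟨x, hx, hxr, hxg⟩ := omega_of_end hQ (by omega) hr hr2 hgr hgi
    have hxs : ∀ z : F, (x : Matrix ι ι F) ≠ z • (1 : Matrix ι ι F) := fun z hz => by
      obtain ⟨v₀, hv₀⟩ := hne
      have hgz : ∀ v, g v = z • v := fun v => by rw [← hxg, hz]; simp
      have hzz : z * z = 1 := by
        have := hgi v₀
        rw [hgz, QuadBasis.q_smul] at this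
        exact (mul_eq_right₀ hv₀).mp this
      have hzr : ∀ j : ℕ, (g ^ j) v₀ = z ^ j • v₀ := by
        intro j
        induction j with
        | zero => simp
        | succ j ih => rw [pow_succ', Module.End.mul_apply, ih, map_smul, hgz, smul_smul, pow_succ]
      have h1 := hzr r
      rw [hgr, Module.End.one_apply] at h1
      obtain ⟨j, hj⟩ := hr.odd_of_ne_two hr2
      rw [hj, pow_succ, pow_mul, pow_two, hzz, one_pow, one_mul] at h1
      have hz1 : z = 1 := by
        have hv0 : v₀ ≠ 0 := fun h0 => hv₀ (by rw [h0, QuadraticMap.map_zero])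
        exact (smul_left_injective F hv0).eq_iff.mp (by simpa using h1.symm)
      exact hg1 (LinearMap.ext fun v => by rw [hgz, hz1, one_smul]; rfl)
    obtain ⟨W, ⟨hWd, hWn, hWP⟩, hWx⟩ := H x hx ⟨1, by rw [hxr, Units.val_one, one_smul]⟩ hxs
    exact hnf W hWd hWn hWP fun v hv => hxg ▸ hWx ⟨v, hv, rfl⟩
  · intro hC x hx ⟨z, hz⟩ _
    obtain ⟨hzz, hpow⟩ := scalar_power hx hne hz
    obtain ⟨g, hg⟩ : ∃ g : Module.End F (ι → F), g = z • Matrix.toLin' (x : Matrix ι ι F) := ⟨_, rfl⟩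
    have hgr : g ^ r = 1 := by
      obtain ⟨j, hj⟩ := hr.odd_of_ne_two hr2
      refine LinearMap.ext fun v => ?_
      rw [hg, smul_pow, LinearMap.smul_apply, hpow, smul_smul, ← pow_succ,
        show r + 1 = 2 * (j + 1) by omega, pow_mul, pow_two, hzz, one_pow, one_smul]
      rfl
    have hgi : ∀ v, Q (g v) = Q v := fun v => by
      rw [hg, LinearMap.smul_apply, QuadBasis.q_smul, hzz, one_mul, OFree.omega_iso hx]
    obtain ⟨W, hd', hn', hP, hinv⟩ := OUnits.exists_member hQ hr hr2 hr0 hVe hgr hgi hm hme (by omega) P (by rwa [hV])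
    refine ⟨W, ⟨hd', hn', hP⟩, ?_⟩
    rintro _ ⟨v, hv, rfl⟩
    have h := W.smul_mem z (hinv v hv)
    rwa [hg, LinearMap.smul_apply, smul_smul, hzz, one_smul] at h

/-- Elements of order two in odd characteristic. -/
theorem two_iff (h2 : (2 : F) ≠ 0) (hQ : OCount.PND Q) {d e : ℕ} (hn : Fintype.card ι = 2 * d) (hd : 1 ≤ d)
    (he : 1 ≤ e) (hed : e < d) (P : Prop) :
    All Q (2 * e) 2 P ↔ (¬ (IsSquare ((2 : F) ^ d) ∧ (OType.IsPlus Q ⊤ ↔ IsSquare ((-1 : F) ^ d))) ∨
      (P ↔ IsSquare ((-1 : F) ^ e))) := by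
  classical
  have hV : finrank F (ι → F) = 2 * d := by rw [finrank_fintype_fun_eq_card, hn]
  have hne := exists_value hQ (by omega)
  constructor
  · intro H
    by_contra hno
    push Not at hno
    obtain ⟨⟨hsq2, hplus⟩, hPe⟩ := hno
    obtain ⟨z, -, hz, -⟩ := OType.exists_family (κ := Fin d × Fin 2) (Q := Q) (W := ⊤)
      (OFree.top_nondeg hQ) (by rw [finrank_top, hV]; simp [mul_comm])
    have hzsq : IsSquare (OType.gdet Q z) := by
      rw [OTwo.plus_iff_disc h2 hQ hd hV z hz,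
        OOmega.isSquare_iff_mul h2 (pow_ne_zero _ (neg_ne_zero.mpr one_ne_zero)) hz] at hplus
      tauto
    obtain ⟨G, hG⟩ := OTwo.exists_rot h2 hV z hz hzsq
    have hGc := (OTwo.rot_facts h2 hQ hV G hG).2.mpr hsq2
    obtain ⟨x, hxdef⟩ : ∃ x : GL ι F, x = (ORefl.toMat Q G).1 := ⟨_, rfl⟩
    have hxG : ∀ v, Matrix.toLin' (x : Matrix ι ι F) v = G.1 v := fun v => by
      rw [hxdef, Matrix.toLin'_apply, ORefl.toMat_apply]
    have hxmem : x ∈ Cfsg.Geo.omegaGL ⇑Q := by
      refine ⟨ORefl.toMat Q G, ?_, hxdef.symm⟩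
      rw [SetLike.mem_coe, OOmega.omega_eq_map]
      exact ⟨G, hGc, rfl⟩
    obtain ⟨g, hg⟩ : ∃ g : Module.End F (ι → F), g = Matrix.toLin' (x : Matrix ι ι F) := ⟨_, rfl⟩
    have hgg : ∀ v, g (g v) = -v := fun v => by rw [hg, hxG, hxG, hG]
    have hgi : ∀ v, Q (g v) = Q v := fun v => by rw [hg, hxG]; exact G.2 v
    obtain ⟨W, ⟨hWd, hWn, hWP⟩, hWx⟩ := H x hxmem ⟨-1, Matrix.toLin'.injective (LinearMap.ext fun v => by
        rw [Units.val_pow_eq_pow_val, Matrix.toLin'_pow, pow_two, Module.End.mul_apply, hxG, hxG, hG]; simp)⟩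
      fun z hz => by
        obtain ⟨v₀, hv₀⟩ := hne
        have hgz : ∀ v, g v = z • v := fun v => by rw [hg, hz]; simp
        have hpol : polar Q (g v₀) (g (g v₀)) = polar Q v₀ (g v₀) := by
          simp only [polar, ← map_add, hgi]
        rw [hgg, polar_neg_right, polar_comm, hgz, QuadBasis.p_smul_right, QuadBasis.p_self] at hpol
        have hzero : z = 0 := by
          have : (2 : F) * (2 * Q v₀) * z = 0 := by linear_combination -hpol
          exact (mul_eq_zero.mp this).resolve_left (mul_ne_zero h2 (mul_ne_zero h2 hv₀))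
        have := hgg v₀
        rw [hgz, hzero, zero_smul] at this
        rw [neg_eq_zero.mp this.symm, QuadraticMap.map_zero] at hv₀
        exact hv₀ rfl
    have h := OInv.type_rot h2 hgg hgi hWn (fun v hv => hg ▸ hWx ⟨v, hv, rfl⟩) he hWd
    tauto
  · intro hC x hx ⟨z, hz⟩ _
    obtain ⟨hzz, hpow⟩ := scalar_power hx hne hz
    simp only [pow_two, Module.End.mul_apply] at hpow
    rcases mul_self_eq_one_iff.mp hzz with rfl | rfl
    · obtain ⟨W, hd', hn', hP, hinv⟩ := OInv.fixed_both h2 hQ (fun v => (hpow v).trans (one_smul F v))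
        (OFree.omega_iso hx) (m := 2 * e) (by omega) (even_two_mul e) (by omega) P
      refine ⟨W, ⟨hd', hn', hP⟩, ?_⟩
      rintro _ ⟨v, hv, rfl⟩
      exact hinv v hv
    · have hgg : ∀ v, Matrix.toLin' (x : Matrix ι ι F) (Matrix.toLin' (x : Matrix ι ι F) v) = -v := fun v =>
        (hpow v).trans (neg_one_smul F v)
      have hPe : P ↔ IsSquare ((-1 : F) ^ e) := by
        refine hC.resolve_left fun hno => hno ?_
        obtain ⟨y, hy, rfl⟩ := hx
        rw [SetLike.mem_coe, OOmega.omega_eq_map] at hy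
        obtain ⟨G, hG, rfl⟩ := hy
        have hGG : ∀ v, G.1 (G.1 v) = -v := fun v => by
          have h := hgg v
          simp only [Matrix.toLin'_apply] at h
          rw [← ORefl.toMat_apply G v, ← ORefl.toMat_apply G]
          exact h
        obtain ⟨⟨z, hz, hzsq⟩, hiff⟩ := OTwo.rot_facts h2 hQ hV G hGG
        refine ⟨hiff.mp hG, ?_⟩
        rw [OTwo.plus_iff_disc h2 hQ hd hV z hz, Orth.isSquare_mul_iff hzsq hz]
      obtain ⟨W, hd', hn', hinv⟩ := OInv.rot_member h2 hQ hgg (OFree.omega_iso hx) (e := e) (by omega)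
      refine ⟨W, ⟨hd', hn', (OInv.type_rot h2 hgg (OFree.omega_iso hx) hn' hinv he hd').trans hPe.symm⟩, ?_⟩
      rintro _ ⟨v, hv, rfl⟩
      exact hinv v hv

/-- An element of order the characteristic with square zero and singular range. -/
theorem exists_derangement_sq {p : ℕ} [Fact p.Prime] [CharP F p] (hQ : OCount.PND Q) {d m k : ℕ}
    (hn : Fintype.card ι = 2 * d) (hd : 3 ≤ d) (hk : 1 ≤ k) (hkd : 2 * k ≤ d - 1 ∨ (OType.IsPlus Q ⊤ ∧ 2 * k ≤ d))
    (P : Prop) (hme : Even m)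
    (hno : ∀ r r' : ℕ, Even r → r + r' = 2 * k → 2 * r ≤ m → 2 * r' + m ≤ 2 * d → (2 * r = m → P) →
      (2 * r' + m = 2 * d → (P ↔ OType.IsPlus Q ⊤)) → False) :
    ¬ All Q m p P := by
  classical
  intro H
  have hV : finrank F (ι → F) = 2 * d := by rw [finrank_fintype_fun_eq_card, hn]
  obtain ⟨U, hU, hUd⟩ : ∃ U : Submodule F (ι → F), (∀ u ∈ U, Q u = 0) ∧ 2 * k ≤ finrank F U := by
    rcases hkd with h | ⟨⟨U, -, hU, hUd⟩, h⟩
    · obtain ⟨A, -, -, hAd, U, -, hU, hUd⟩ := OType.exists_plus_sub (d - 1) (OFree.top_nondeg hQ)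
        (by rw [finrank_top]; omega)
      exact ⟨U, hU, by omega⟩
    · rw [finrank_top] at hUd
      exact ⟨U, hU, by omega⟩
  obtain ⟨b⟩ : Nonempty (Basis (Fin (finrank F U)) F U) := ⟨Module.finBasis F U⟩
  obtain ⟨σ⟩ : Nonempty (Fin k × Fin 2 ↪ Fin (finrank F U)) :=
    Function.Embedding.nonempty_of_card_le (by simp; omega)
  obtain ⟨G, N, hGc, hGN, hNN, hts, halt, hrk⟩ := OInv.exists_square_zero hQ (Or.inr (by omega))
    (fun a => (b (σ a) : ι → F))
    ((b.linearIndependent.map' U.subtype (Submodule.ker_subtype U)).comp σ σ.injective)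
    (fun a c => by rw [polar, hU _ (U.add_mem (b _).2 (b _).2), hU _ (b _).2, hU _ (b _).2]; ring)
    (fun a => hU _ (b _).2)
  obtain ⟨g, hg⟩ : ∃ g : Module.End F (ι → F), g = 1 + N := ⟨_, rfl⟩
  have hga : ∀ v, g v = G.1 v := fun v => by rw [hGN, hg]; rfl
  have hgi : ∀ v, Q (g v) = Q v := fun v => by rw [hga]; exact G.2 v
  obtain ⟨x, hxdef⟩ : ∃ x : GL ι F, x = (ORefl.toMat Q G).1 := ⟨_, rfl⟩
  have hxg : Matrix.toLin' (x : Matrix ι ι F) = g := LinearMap.ext fun v => by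
    rw [hga, hxdef, Matrix.toLin'_apply, ORefl.toMat_apply]
  have hxmem : x ∈ Cfsg.Geo.omegaGL ⇑Q := by
    refine ⟨ORefl.toMat Q G, ?_, hxdef.symm⟩
    rw [SetLike.mem_coe, OOmega.omega_eq_map]
    exact ⟨G, hGc, rfl⟩
  have hpow : ∀ (j : ℕ) v, (g ^ j) v = v + (j : F) • N v := by
    intro j
    induction j with
    | zero => simp
    | succ j ih =>
      intro v
      rw [pow_succ', Module.End.mul_apply, ih, map_add, map_smul, hg, LinearMap.add_apply, LinearMap.add_apply, hNN,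
        Module.End.one_apply, Module.End.one_apply, Nat.cast_succ, add_smul, one_smul, add_zero]
      abel
  have hxp : ∃ z : F, ((x ^ p : GL ι F) : Matrix ι ι F) = z • (1 : Matrix ι ι F) :=
    ⟨1, Matrix.toLin'.injective (LinearMap.ext fun v => by
      rw [Units.val_pow_eq_pow_val, Matrix.toLin'_pow, hxg, hpow, CharP.cast_eq_zero, zero_smul]
      simp)⟩
  have hxs : ∀ z : F, (x : Matrix ι ι F) ≠ z • (1 : Matrix ι ι F) := fun z hz => by
    have hgz : ∀ v, v + N v = z • v := fun v => by rw [← hGN, ← hga, ← hxg, hz]; simp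
    have hN0 : N = 0 := by
      refine LinearMap.ext fun v => ?_
      have h1 : z • N v = N v := by
        have := hgz (N v)
        rwa [hNN, add_zero, eq_comm] at this
      by_contra hv
      have hz1 : z = 1 := by
        have := sub_eq_zero.mpr h1
        rw [← one_smul F (N v), smul_smul, mul_one, ← sub_smul] at this
        exact sub_eq_zero.mp ((smul_eq_zero.mp this).resolve_right hv)
      exact hv (by simpa [hz1] using hgz v)
    rw [hN0, LinearMap.range_zero, finrank_bot] at hrk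
    omega
  obtain ⟨W, ⟨hWd, hWn, hWP⟩, hWx⟩ := H x hxmem hxp hxs
  obtain ⟨r, r', hre, hrr, hr1, hr2, hr3, hr4⟩ := OInv.square_zero_member hQ hgi hg hNN hts halt hWn
    fun v hv => hxg ▸ hWx ⟨v, hv, rfl⟩
  rw [hWd, hV] at hr2 hr4
  rw [hWd] at hr1 hr3
  rw [hrk] at hrr
  refine hno r r' hre hrr hr1 hr2 (fun h => hWP.mp (hr3 h)) fun h => ?_
  rcases hr4 h with h' | h'
  · exact hWP.symm.trans h'
  · exact absurd h' (Nat.not_odd_iff_even.mpr hme)

/-- Involutions in characteristic two and members of the type of the whole space. -/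
theorem two_same (h2 : (2 : F) = 0) (hQ : OCount.PND Q) {d m : ℕ} (hn : Fintype.card ι = 2 * d) (hm : 2 ≤ m)
    (hme : Even m) (hmn : m + 2 ≤ 2 * d) (P : Prop) (hP : P ↔ OType.IsPlus Q ⊤)
    (hc : (OType.IsPlus Q ⊤ ∧ (m % 4 = 0 ∨ Odd d)) ∨ (¬ OType.IsPlus Q ⊤ ∧ ((2 * d - m) % 4 = 0 ∨ Even d))) :
    All Q m 2 P := by
  intro x hx ⟨z, hz⟩ _
  have hV : finrank F (ι → F) = 2 * d := by rw [finrank_fintype_fun_eq_card, hn]
  obtain ⟨hzz, hpow⟩ := scalar_power hx (exists_value hQ (by omega)) hz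
  have hz1 : z = 1 := sub_eq_zero.mp (mul_self_eq_zero.mp (show (z - 1) * (z - 1) = 0 by
    linear_combination hzz + (1 - z) * h2))
  simp only [pow_two, Module.End.mul_apply, hz1, one_smul] at hpow
  have hiso := OFree.omega_iso hx
  rcases hc with ⟨hT, hc⟩ | ⟨hT, hc⟩
  · obtain ⟨W, h1, h3, h4, h5⟩ := OInv.fixed_plus h2 hQ hpow hiso hV hm hme (by omega)
      (hc.imp id fun ho => iff_of_true hT ho)
    refine ⟨W, ⟨h1, h3, iff_of_true h4 (hP.mpr hT)⟩, ?_⟩
    rintro _ ⟨v, hv, rfl⟩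
    exact h5 v hv
  · obtain ⟨W, h1, h3, h4, h5⟩ := OInv.fixed_plus h2 hQ hpow hiso hV (m := 2 * d - m) (by omega)
      (by obtain ⟨a, ha⟩ := hme; exact ⟨d - a, by omega⟩) (by omega)
      (hc.imp id fun he => iff_of_false hT (Nat.not_odd_iff_even.mpr he))
    obtain ⟨K, -, hK, hperp, hsup, hdim, hKmem⟩ := OType.compl_in hQ h3 (OFree.top_nondeg hQ) le_top
    rw [finrank_top] at hdim
    obtain ⟨a, ha⟩ := hme
    have h' := OType.plus_sup_iff h3 hK hperp (e := d - a) (e' := a) (by omega) (by omega)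
    rw [hsup] at h'
    refine ⟨K, ⟨by omega, hK, iff_of_false (fun hk => hT (h'.mpr (iff_of_true h4 hk))) fun hp => hT (hP.mp hp)⟩, ?_⟩
    rintro _ ⟨v, hv, rfl⟩
    refine hKmem _ trivial fun y hy => ?_
    have e : polar Q (Matrix.toLin' (x : Matrix ι ι F) v)
        (Matrix.toLin' (x : Matrix ι ι F) (Matrix.toLin' (x : Matrix ι ι F) y)) =
        polar Q v (Matrix.toLin' (x : Matrix ι ι F) y) := by
      simp only [polar, ← map_add, hiso]
    rw [hpow] at e
    rw [e, polar_comm]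
    exact hperp _ (h5 y hy) v hv

end Cfsg.Agent.Classical.Elusive.OSame
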