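import Cfsg.Agent.Lib.Classical.Elusive.OrthEvenSameIff

/-!
# Members of even dimension and given type: statement forms
-/

set_option autoImplicit false
set_option linter.unusedSectionVars false

universe u

namespace Cfsg.Agent.Classical.Elusive.OSame

open Module QuadraticMap
open Cfsg.Agent.Small

variable {F : Type u} [Field F] [Fintype F] {ι : Type} [Fintype ι] [DecidableEq ι] {Q : QuadraticForm F (ι → F)}

theorem geo_nondeg {W : Submodule F (ι → F)} :
    Cfsg.Geo.IsNondegenerateOn (polar ⇑Q) W ↔ QuadBasis.Nondeg Q W := by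
  constructor
  · intro h x hx h0
    by_contra hne
    obtain ⟨-, y, hy, hy0⟩ := h x hx hne
    exact hy0 (h0 y hy)
  · intro h w hw hne
    have : ∃ y ∈ W, polar Q w y ≠ 0 := by
      by_contra hno
      push Not at hno
      exact hne (h w hw hno)
    obtain ⟨y, hy, hy0⟩ := this
    exact ⟨⟨y, hy, by rwa [polar_comm]⟩, y, hy, hy0⟩

theorem geo_plus {W : Submodule F (ι → F)} : Cfsg.Geo.IsPlusTypeOn ⇑Q W ↔ OType.IsPlus Q W := Iff.rfl

theorem mem_elliptic {m : ℕ} (W : Submodule F (ι → F)) :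
    (finrank F W = m ∧ Cfsg.Geo.IsNondegenerateOn (polar ⇑Q) W ∧ ¬ Cfsg.Geo.IsPlusTypeOn ⇑Q W) ↔
      Mem Q m False W := by
  rw [Mem, geo_nondeg, geo_plus, iff_false]

theorem mem_hyperbolic {m : ℕ} (W : Submodule F (ι → F)) :
    (finrank F W = m ∧ (∀ u ∈ W, u ≠ 0 → ∃ v ∈ W, polar ⇑Q u v ≠ 0) ∧
      ∃ U : Submodule F (ι → F), U ≤ W ∧ 2 * finrank F U = m ∧ ∀ u ∈ U, Q u = 0) ↔
      Mem Q m True W := by
  rw [Mem, iff_true]
  constructor
  · rintro ⟨hd, hn, U, hUW, hUd, hU⟩
    refine ⟨hd, fun x hx h0 => ?_, U, hUW, hU, by rw [hUd, hd]⟩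
    by_contra hne
    obtain ⟨y, hy, hy0⟩ := hn x hx hne
    exact hy0 (h0 y hy)
  · rintro ⟨hd, hn, U, hUW, hU, hUd⟩
    refine ⟨hd, fun x hx hne => ?_, U, hUW, by rw [hUd, hd], hU⟩
    by_contra hno
    push Not at hno
    exact hne (hn x hx hno)

theorem all_congr {m r : ℕ} {P : Prop} {S : Submodule F (ι → F) → Prop} (h : ∀ W, S W ↔ Mem Q m P W) :
    (∀ x : GL ι F, x ∈ Cfsg.Geo.omegaGL ⇑Q →
      (∃ z : F, ((x ^ r : GL ι F) : Matrix ι ι F) = z • (1 : Matrix ι ι F)) →
      (∀ z : F, (x : Matrix ι ι F) ≠ z • (1 : Matrix ι ι F)) →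
      ∃ W : Submodule F (ι → F), S W ∧ W.map (Matrix.toLin' (x : Matrix ι ι F)) ≤ W) ↔ All Q m r P := by
  simp only [h]
  rfl

theorem dvd_congr {m r : ℕ} {P : Prop} {S : Submodule F (ι → F) → Prop} (h : ∀ W, S W ↔ Mem Q m P W)
    (hd : r ∣ Nat.card {W : Submodule F (ι → F) // S W}) :
    r ∣ Nat.card {W : Submodule F (ι → F) // Mem Q m P W} := by
  rwa [← Nat.card_congr (Equiv.subtypeEquivRight h)]

theorem step_div {n m c : ℕ} (h : m % c = n % c) : (n + m - 2 * (n % c)) / c = n / c + m / c := by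
  rcases Nat.eq_zero_or_pos c with rfl | hc
  · simp
  · have hn := Nat.div_add_mod n c
    have hm := Nat.div_add_mod m c
    rw [show n + m - 2 * (n % c) = c * (n / c + m / c) by rw [Nat.mul_add]; omega, Nat.mul_div_cancel_left _ hc]

theorem plus_model (d : ℕ) : OType.IsPlus (OOmega.formOf d (Equiv.sumEmpty (Fin d ⊕ Fin d) Empty).symm
    (0 : QuadraticForm F (Empty → F))) ⊤ := by
  let S : (Fin d → F) →ₗ[F] (Fin d ⊕ Fin d → F) :=
    { toFun := fun x => Sum.elim x 0
      map_add' := fun x y => by funext i; rcases i with i | i <;> simp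
      map_smul' := fun r x => by funext i; rcases i with i | i <;> simp }
  refine ⟨LinearMap.range S, le_top, ?_, ?_⟩
  · rintro _ ⟨x, rfl⟩
    rw [OOmega.coe_plus]
    simp [Cfsg.quadFormPlus, S]
  · rw [LinearMap.finrank_range_of_inj, Module.finrank_fin_fun, finrank_top, Module.finrank_fintype_fun_eq_card]
    · simp; omega
    · exact fun x y h => funext fun i => congrFun h (.inl i)

theorem minus_model {j : ℕ} {a b : F} (hab : ∀ x y : F, x ^ 2 + a * x * y + b * y ^ 2 = 0 → x = 0 ∧ y = 0) :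
    ¬ OType.IsPlus (OOmega.formOf j (Equiv.refl ((Fin j ⊕ Fin j) ⊕ Fin 2)) (OCount.planeForm a b)) ⊤ := by
  rintro ⟨U, -, hU, hUd⟩
  have h := OEven.minus_model_no_half hab (U := U) fun v hv => by
    rw [← OOmega.coe_minus]; exact hU v hv
  rw [finrank_top, Module.finrank_fintype_fun_eq_card] at hUd
  simp at hUd
  omega

/-- What the parity of `q` is. -/
theorem char_facts {p : ℕ} [Fact p.Prime] [CharP F p] {q : ℕ} (hq : Fintype.card F = q) :
    (p = 2 ↔ (2 : F) = 0) ∧ (p = 2 → q % 2 = 0) ∧ (p ≠ 2 → q % 2 = 1) := by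
  have hp : p.Prime := Fact.out
  obtain ⟨e, -, hpe⟩ := FiniteField.card F p
  have h2 : p = 2 ↔ (2 : F) = 0 := by
    constructor
    · rintro rfl
      exact_mod_cast CharP.cast_eq_zero F 2
    · intro h
      have h' : (p : ℕ) ∣ 2 := (CharP.cast_eq_zero_iff F p 2).mp (by exact_mod_cast h)
      exact (Nat.prime_dvd_prime_iff_eq hp Nat.prime_two).mp h'
  refine ⟨h2, fun h => ?_, fun h => ?_⟩
  · rw [← hq, hpe, h, Nat.pow_mod, Nat.mod_self, zero_pow e.ne_zero, Nat.zero_mod]
  · rw [← hq, hpe]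
    exact Nat.odd_iff.mp ((hp.odd_of_ne_two h).pow)

theorem cast_ne_iff {p r : ℕ} [Fact p.Prime] [CharP F p] (hr : r.Prime) : (r : F) ≠ 0 ↔ r ≠ p :=
  not_congr ⟨fun h => ((Nat.prime_dvd_prime_iff_eq (Fact.out : p.Prime) hr).mp
    ((CharP.cast_eq_zero_iff F p r).mp h)).symm, fun h => h ▸ CharP.cast_eq_zero F p⟩

variable {r n m i c : ℕ}

/-- Hyperbolic members of a space of plus type. -/
theorem cond_plus_plus (hcu : c = OFree.unit F r) (hiu : i = orderOf (Fintype.card F : ZMod r))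
    (hc : c = if Even i then i else 2 * i) (hm : 2 ≤ m)
    (hex : n % OFree.unit F r ≤ m ∧ ¬ (n % OFree.unit F r = m ∧
      (True ↔ (True ↔ OUnits.uT F r (n / OFree.unit F r))))) :
    OUnits.Cond F r n m True True ↔
      ((Odd i ∧ c ≤ m ∧ m % c ≤ n % c) ∨
       (Even i ∧
         ((n % c = 0 ∧ (Odd (n / i) ∨ (m % c = 0 ∧ Even (m / i)))) ∨
          (i ≤ m ∧ ((m % c < n % c ∧ 0 < m % c) ∨
                    (n % c = m % c ∧ 0 < m % c ∧ Even ((n + m - 2 * (n % c)) / i)) ∨
                    (0 < n % c ∧ m % c = 0 ∧ Even (m / i))))))) := by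
  unfold OUnits.Cond OUnits.uT at *
  rw [← hcu, ← hiu] at *
  have hstep := step_div (n := n) (m := m) (c := c)
  have hlt : m < c → m % c = m ∧ m / c = 0 := fun h => ⟨Nat.mod_eq_of_lt h, Nat.div_eq_of_lt h⟩
  rcases Nat.even_or_odd i with hie | hio
  · rw [if_pos hie] at hc
    subst hc
    have hni : ¬ Odd c := Nat.not_odd_iff_even.mpr hie
    simp only [hie, hni, false_or, true_iff, true_and, false_and, Nat.even_iff, Nat.odd_iff] at hex ⊢
    omega
  · have hni : ¬ Even i := Nat.not_even_iff_odd.mpr hio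
    simp only [hio, hni, true_or, and_true, not_true, false_or, or_false, true_and, false_and] at hex ⊢
    omega

/-- Elliptic members of a space of plus type. -/
theorem cond_plus_minus (hcu : c = OFree.unit F r) (hiu : i = orderOf (Fintype.card F : ZMod r))
    (hc : c = if Even i then i else 2 * i) (hm : 2 ≤ m)
    (hex : n % OFree.unit F r ≤ m ∧ ¬ (n % OFree.unit F r = m ∧
      (False ↔ (True ↔ OUnits.uT F r (n / OFree.unit F r))))) :
    OUnits.Cond F r n m True False ↔
      ((Odd i ∧ c ≤ m ∧ 0 < m % c ∧ m % c < n % c) ∨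
       (Even i ∧
         ((n % c = 0 ∧ (Odd (n / i) ∨ (m % c = 0 ∧ Odd (m / i)))) ∨
          (i ≤ m ∧ ((0 < m % c ∧ m % c < n % c) ∨
                    (0 < m % c ∧ m % c = n % c ∧ Odd ((n + m - 2 * (n % c)) / i)) ∨
                    (m % c = 0 ∧ 0 < n % c ∧ Odd (m / i))))))) := by
  unfold OUnits.Cond OUnits.uT at *
  rw [← hcu, ← hiu] at *
  have hstep := step_div (n := n) (m := m) (c := c)
  have hlt : m < c → m % c = m ∧ m / c = 0 := fun h => ⟨Nat.mod_eq_of_lt h, Nat.div_eq_of_lt h⟩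
  rcases Nat.even_or_odd i with hie | hio
  · rw [if_pos hie] at hc
    subst hc
    have hni : ¬ Odd c := Nat.not_odd_iff_even.mpr hie
    simp only [hie, hni, false_or, true_iff, false_iff, true_and, false_and, Nat.even_iff, Nat.odd_iff] at hex ⊢
    omega
  · have hni : ¬ Even i := Nat.not_even_iff_odd.mpr hio
    simp only [hio, hni, true_or, false_iff, not_true, and_false, false_or, or_false, true_and, false_and,
      not_false_iff, and_true] at hex ⊢
    omega

/-- Elliptic members of a space of minus type. -/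
theorem cond_minus_minus (hcu : c = OFree.unit F r) (hiu : i = orderOf (Fintype.card F : ZMod r))
    (hc : c = if Even i then i else 2 * i) (hm : 2 ≤ m)
    (hex : n % OFree.unit F r ≤ m ∧ ¬ (n % OFree.unit F r = m ∧
      (False ↔ (False ↔ OUnits.uT F r (n / OFree.unit F r))))) :
    OUnits.Cond F r n m False False ↔
      ((Odd i ∧ (n % c = 0 ∨ (c ≤ m ∧ 0 < m % c ∧ m % c ≤ n % c))) ∨
       (Even i ∧
         ((n % c = 0 ∧ (Even (n / i) ∨ (m % c = 0 ∧ Odd (m / i)))) ∨
          (0 < n % c ∧ i ≤ m ∧ ((0 < m % c ∧ m % c < n % c) ∨ (m % c = 0 ∧ Odd (m / i)) ∨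
                                (m % c = n % c ∧ Even ((n + m - 2 * (n % c)) / i))))))) := by
  unfold OUnits.Cond OUnits.uT at *
  rw [← hcu, ← hiu] at *
  have hstep := step_div (n := n) (m := m) (c := c)
  have hlt : m < c → m % c = m ∧ m / c = 0 := fun h => ⟨Nat.mod_eq_of_lt h, Nat.div_eq_of_lt h⟩
  rcases Nat.even_or_odd i with hie | hio
  · rw [if_pos hie] at hc
    subst hc
    have hni : ¬ Odd c := Nat.not_odd_iff_even.mpr hie
    simp only [hie, hni, false_or, false_iff, true_and, false_and, not_not, Nat.even_iff, Nat.odd_iff] at hex ⊢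
    omega
  · have hni : ¬ Even i := Nat.not_even_iff_odd.mpr hio
    simp only [hio, hni, true_or, false_iff, not_true, not_false_iff, and_false, false_or, or_false, true_and,
      false_and, and_true] at hex ⊢
    omega

end Cfsg.Agent.Classical.Elusive.OSame
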