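import Cfsg.Agent.Lib.Classical.Elusive.OrthEvenUnipotent
import Cfsg.Agent.Lib.Classical.WittIndex

/-!
# Types of orthogonal sums and subspaces of given type, all characteristics
-/

set_option autoImplicit false
set_option linter.unusedSectionVars false

universe u

namespace Cfsg.Agent.Classical.Elusive.OType

open Module QuadraticMap
open Cfsg.Agent.Small

variable {F : Type u} [Field F] [Fintype F] {V : Type u} [AddCommGroup V] [Module F V] [FiniteDimensional F V]
  {Q : QuadraticForm F V}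

theorem nondeg_bot : QuadBasis.Nondeg Q ⊥ := fun x hx _ => (Submodule.mem_bot F).mp hx

theorem plus_bot : IsPlus Q ⊥ :=
  ⟨⊥, le_rfl, fun u hu => by rw [(Submodule.mem_bot F).mp hu, QuadraticMap.map_zero], by simp⟩

/-- An orthogonal sum of nondegenerate subspaces. -/
theorem sup_facts {U T : Submodule F V} (hU : QuadBasis.Nondeg Q U) (hT : QuadBasis.Nondeg Q T)
    (hperp : ∀ x ∈ U, ∀ y ∈ T, polar Q x y = 0) :
    QuadBasis.Nondeg Q (U ⊔ T) ∧ Disjoint U T ∧ finrank F ↥(U ⊔ T) = finrank F U + finrank F T := by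
  have hdis : Disjoint U T := Submodule.disjoint_def.mpr fun x hx hx' => hU x hx fun y hy => by
    rw [polar_comm]; exact hperp y hy x hx'
  refine ⟨fun x hx h => ?_, hdis, ?_⟩
  · obtain ⟨a, ha, b, hb, rfl⟩ := Submodule.mem_sup.mp hx
    have ha0 : a = 0 := hU a ha fun y hy => by
      have := h y (Submodule.mem_sup_left hy)
      rwa [polar_add_left, polar_comm _ b, hperp y hy b hb, add_zero] at this
    have hb0 : b = 0 := hT b hb fun y hy => by
      have := h y (Submodule.mem_sup_right hy)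
      rwa [polar_add_left, hperp a ha y hy, zero_add] at this
    rw [ha0, hb0, add_zero]
  · have h := Submodule.finrank_sup_add_finrank_inf_eq U T
    rw [hdis.eq_bot, finrank_bot] at h
    omega

/-- The complement inside a nondegenerate subspace. -/
theorem compl_in (hQ : OCount.PND Q) {U A : Submodule F V} (hU : QuadBasis.Nondeg Q U) (hA : QuadBasis.Nondeg Q A)
    (hUA : U ≤ A) : ∃ B ≤ A, QuadBasis.Nondeg Q B ∧ (∀ x ∈ U, ∀ y ∈ B, polar Q x y = 0) ∧ U ⊔ B = A ∧
      finrank F U + finrank F B = finrank F A ∧ ∀ y, y ∈ A → (∀ x ∈ U, polar Q y x = 0) → y ∈ B := by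
  obtain ⟨hC, -, -⟩ := OUni.perp_facts hQ hU
  obtain ⟨B, hB⟩ : ∃ B, B = A ⊓ OUni.perp Q U := ⟨_, rfl⟩
  have hperp : ∀ x ∈ U, ∀ y ∈ B, polar Q x y = 0 := fun x hx y hy => by
    rw [polar_comm]; exact OUni.mem_perp.mp (hB.le hy).2 x hx
  have hsup : U ⊔ B = A := by
    refine le_antisymm (sup_le hUA (hB ▸ inf_le_left)) fun a ha => ?_
    obtain ⟨x, hx, y, hy, rfl⟩ := Submodule.mem_sup.mp
      (show a ∈ U ⊔ OUni.perp Q U by rw [hC.sup_eq_top]; trivial)
    refine Submodule.mem_sup.mpr ⟨x, hx, y, hB ▸ ⟨?_, hy⟩, rfl⟩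
    have h := A.sub_mem ha (hUA hx)
    rwa [add_sub_cancel_left] at h
  have hBn : QuadBasis.Nondeg Q B := fun x hx h => hA x (hB.le hx).1 fun y hy => by
    rw [← hsup] at hy
    obtain ⟨a, ha, b, hb, rfl⟩ := Submodule.mem_sup.mp hy
    rw [polar_add_right, h b hb, polar_comm, hperp a ha x hx, add_zero]
  refine ⟨B, hB ▸ inf_le_left, hBn, hperp, hsup, ?_, fun y hy h => hB ▸ ⟨hy, OUni.mem_perp.mpr h⟩⟩
  rw [← hsup, (sup_facts hU hBn hperp).2.2]

/-- A hyperbolic summand of a hyperbolic space has a hyperbolic complement. -/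
theorem plus_right {U T : Submodule F V} (hU : QuadBasis.Nondeg Q U) (hT : QuadBasis.Nondeg Q T)
    (hperp : ∀ x ∈ U, ∀ y ∈ T, polar Q x y = 0) (pU : IsPlus Q U) (pS : IsPlus Q (U ⊔ T)) : IsPlus Q T := by
  classical
  obtain ⟨hS, hdis, hdim⟩ := sup_facts hU hT hperp
  obtain ⟨X, hXU, hX, hXd⟩ := pU
  obtain ⟨L, hLS, hL, hLd⟩ := pS
  have hts : ∀ {Z : Submodule F V}, (∀ z ∈ Z, Q z = 0) → ∀ x ∈ Z, ∀ y ∈ Z, polar Q x y = 0 := fun {Z} h x hx y hy => by
    rw [polar, h _ (Z.add_mem hx hy), h x hx, h y hy]; ring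
  obtain ⟨φ, hφ⟩ : ∃ φ : L →ₗ[F] Module.Dual F X, φ = X.subtype.dualMap ∘ₗ polarBilin Q ∘ₗ L.subtype := ⟨_, rfl⟩
  have hφa : ∀ (l : L) (x : X), φ l x = polar Q (l : V) (x : V) := fun l x => by rw [hφ]; rfl
  obtain ⟨L', hL'⟩ : ∃ L', L' = (LinearMap.ker φ).map L.subtype := ⟨_, rfl⟩
  have hL'm : ∀ v, v ∈ L' ↔ v ∈ L ∧ ∀ x ∈ X, polar Q v x = 0 := by
    intro v
    rw [hL']
    constructor
    · rintro ⟨l, hl, rfl⟩
      refine ⟨l.2, fun x hx => ?_⟩
      have := LinearMap.congr_fun (LinearMap.mem_ker.mp hl) ⟨x, hx⟩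
      rw [hφa] at this
      exact this
    · rintro ⟨hv, h⟩
      exact ⟨⟨v, hv⟩, LinearMap.mem_ker.mpr (LinearMap.ext fun x => (hφa _ x).trans (h x x.2)), rfl⟩
  -- the image of `φ` kills the common part
  have h1 := φ.finrank_range_add_finrank_ker
  have h2 : finrank F (LinearMap.range φ) + finrank F ↥(L ⊓ X) ≤ finrank F X := by
    let K : Submodule F X := (L ⊓ X).comap X.subtype
    have hle : LinearMap.range φ ≤ K.dualAnnihilator := by
      rintro _ ⟨l, rfl⟩
      rw [Submodule.mem_dualAnnihilator]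
      intro x hx
      rw [hφa]
      exact hts hL _ l.2 _ hx.1
    have h := Submodule.finrank_mono hle
    have h' := Subspace.finrank_add_finrank_dualAnnihilator_eq K
    have hK : finrank F K = finrank F ↥(L ⊓ X) := (Submodule.comapSubtypeEquivOfLe inf_le_right).finrank_eq
    omega
  have h3 : finrank F L' = finrank F (LinearMap.ker φ) := by rw [hL', Submodule.finrank_map_subtype_eq]
  -- a half of the sum through `X`
  obtain ⟨M, hM⟩ : ∃ M, M = X ⊔ L' := ⟨_, rfl⟩
  have hMd : finrank F L ≤ finrank F M := by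
    have h := Submodule.finrank_sup_add_finrank_inf_eq X L'
    have h' : finrank F ↥(X ⊓ L') ≤ finrank F ↥(L ⊓ X) :=
      Submodule.finrank_mono fun v hv => ⟨((hL'm v).mp hv.2).1, hv.1⟩
    rw [← hM] at h
    omega
  have hMQ : ∀ v ∈ M, Q v = 0 ∧ ∀ x ∈ X, polar Q v x = 0 := by
    intro v hv
    rw [hM] at hv
    obtain ⟨a, ha, b, hb, rfl⟩ := Submodule.mem_sup.mp hv
    obtain ⟨hbL, hbX⟩ := (hL'm b).mp hb
    refine ⟨?_, fun x hx => by rw [polar_add_left, hts hX a ha x hx, hbX x hx, add_zero]⟩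
    rw [QuadBasis.q_add, hX a ha, hL b hbL, polar_comm, hbX a ha]
    ring
  have hMS : M ≤ U ⊔ T := hM ▸ sup_le (hXU.trans le_sup_left) fun v hv => hLS ((hL'm v).mp hv).1
  -- the part of `U` orthogonal to `X` is `X`
  have hperpX : ∀ u ∈ U, (∀ x ∈ X, polar Q u x = 0) → u ∈ X := by
    have hnd := QuadModels.nondegenerate (QuadModels.pnd_res Q hU)
    let X' : Submodule F U := X.comap U.subtype
    have hX' : finrank F X' = finrank F X := (Submodule.comapSubtypeEquivOfLe hXU).finrank_eq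
    have hle : X' ≤ LinearMap.BilinForm.orthogonal (polarBilin (Q.comp U.subtype)) X' := fun x hx y hy => by
      show polarBilin (Q.comp U.subtype) y x = 0
      rw [polarBilin_apply_apply, polar_comp]
      exact hts hX _ hy _ hx
    have heq := Submodule.eq_of_le_of_finrank_le hle (by
      rw [LinearMap.BilinForm.finrank_orthogonal hnd]; omega)
    intro u hu h
    have : (⟨u, hu⟩ : U) ∈ X' := by
      rw [heq]
      intro y hy
      show polarBilin (Q.comp U.subtype) y ⟨u, hu⟩ = 0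
      rw [polarBilin_apply_apply, polar_comp, polar_comm]
      exact h _ hy
    exact this
  -- projection to `T`
  obtain ⟨Y, hY⟩ : ∃ Y, Y = T ⊓ (X ⊔ M) := ⟨_, rfl⟩
  have hsplit : ∀ v ∈ M, ∃ a ∈ X, ∃ b ∈ Y, v = a + b := by
    intro v hv
    obtain ⟨a, ha, b, hb, rfl⟩ := Submodule.mem_sup.mp (hMS hv)
    have haX : a ∈ X := hperpX a ha fun x hx => by
      have := (hMQ _ hv).2 x hx
      rwa [polar_add_left, polar_comm _ b, hperp x (hXU hx) b hb, add_zero] at this
    refine ⟨a, haX, b, hY ▸ ⟨hb, ?_⟩, rfl⟩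
    have := (X ⊔ M).sub_mem (Submodule.mem_sup_right hv) (Submodule.mem_sup_left haX)
    rwa [add_sub_cancel_left] at this
  have hXM : X ⊔ M = M := sup_eq_right.mpr (hM ▸ le_sup_left)
  rw [hXM] at hY
  have hYQ : ∀ y ∈ Y, Q y = 0 := fun y hy => (hMQ y (hY.le hy).2).1
  have hle : M ≤ X ⊔ Y := fun v hv => by
    obtain ⟨a, ha, b, hb, rfl⟩ := hsplit v hv
    exact Submodule.add_mem_sup ha hb
  have h4 := Submodule.finrank_mono hle
  have h5 := Submodule.finrank_sup_add_finrank_inf_eq X Y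
  have h6 : 2 * finrank F Y ≤ finrank F T := by
    have h := Witt.finrank_le_half (Q.comp T.subtype) (QuadModels.nondegenerate (QuadModels.pnd_res Q hT))
      (W := Y.comap T.subtype) fun w hw => hYQ _ hw
    rwa [(Submodule.comapSubtypeEquivOfLe (show Y ≤ T from hY ▸ inf_le_left)).finrank_eq] at h
  exact ⟨Y, hY ▸ inf_le_left, hYQ, by omega⟩

/-- The norm form of the quadratic extension takes the value minus one. -/
theorem aniso_neg_one {a c : F} (hac : ∀ z₁ z₂ : F, z₁ ^ 2 + a * z₁ * z₂ + c * z₂ ^ 2 = 0 → z₁ = 0 ∧ z₂ = 0) :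
    ∃ s t : F, s ^ 2 + a * s * t + c * t ^ 2 = -1 := by
  by_cases h2 : (2 : F) = 0
  · exact ⟨1, 0, by linear_combination h2⟩
  · obtain ⟨e, he⟩ : ∃ e, e = c - a ^ 2 / 4 := ⟨_, rfl⟩
    have h4 : (4 : F) ≠ 0 := by
      rw [show (4 : F) = 2 * 2 by norm_num]
      exact mul_ne_zero h2 h2
    have he0 : e ≠ 0 := fun h => one_ne_zero (hac (-a / 2) 1 (by
      rw [he] at h
      field_simp at h ⊢
      linear_combination h)).2
    obtain ⟨s, t, hst⟩ := QuadBasis.exists_form_rep h2 1 e (-1) one_ne_zero he0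
    refine ⟨s - a / 2 * t, t, ?_⟩
    rw [he] at hst
    field_simp at hst ⊢
    linear_combination hst

/-- Two elliptic summands make a hyperbolic space. -/
theorem plus_of_minus {U T : Submodule F V} (hU : QuadBasis.Nondeg Q U) (hT : QuadBasis.Nondeg Q T)
    (hperp : ∀ x ∈ U, ∀ y ∈ T, polar Q x y = 0) {e e' : ℕ} (hUd : finrank F U = 2 * e)
    (hTd : finrank F T = 2 * e') (pU : ¬ IsPlus Q U) (pT : ¬ IsPlus Q T) : IsPlus Q (U ⊔ T) := by
  classical
  obtain ⟨hS, hdis, hdim⟩ := sup_facts hU hT hperp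
  have hpos : ∀ {W : Submodule F V} {j : ℕ}, finrank F W = 2 * j → ¬ IsPlus Q W → 1 ≤ j := fun {W j} hW h => by
    by_contra h0
    exact h (by rw [Submodule.finrank_eq_zero.mp (show finrank F W = 0 by omega)]; exact plus_bot)
  have he := hpos hUd pU
  have he' := hpos hTd pT
  obtain ⟨a, c, hac⟩ := QuadModels.exists_aniso (F := F)
  obtain ⟨L₁, hL₁⟩ := ((model hU he hUd a c hac).resolve_left fun h => pU h.1).2
  obtain ⟨L₂, hL₂⟩ := ((model hT he' hTd a c hac).resolve_left fun h => pT h.1).2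
  obtain ⟨s, t, hst⟩ := aniso_neg_one hac
  let A₁ : ((Fin (e - 1) → F) × (Fin (e' - 1) → F) × (Fin 2 → F)) →ₗ[F]
      ((Fin (e - 1) ⊕ Fin (e - 1)) ⊕ Fin 2 → F) :=
    { toFun := fun z => Sum.elim (Sum.elim z.1 0) z.2.2
      map_add' := fun z z' => by funext i; rcases i with (i | i) | i <;> simp
      map_smul' := fun r z => by funext i; rcases i with (i | i) | i <;> simp }
  let A₂ : ((Fin (e - 1) → F) × (Fin (e' - 1) → F) × (Fin 2 → F)) →ₗ[F]
      ((Fin (e' - 1) ⊕ Fin (e' - 1)) ⊕ Fin 2 → F) :=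
    { toFun := fun z => Sum.elim (Sum.elim z.2.1 0)
        ![z.2.2 0 * s - c * (z.2.2 1 * t), z.2.2 0 * t + z.2.2 1 * s + a * (z.2.2 1 * t)]
      map_add' := fun z z' => by
        funext i; rcases i with (i | i) | i
        · simp
        · simp
        · fin_cases i <;> simp <;> ring
      map_smul' := fun r z => by
        funext i; rcases i with (i | i) | i
        · simp
        · simp
        · fin_cases i <;> simp <;> ring }
  obtain ⟨Φ, hΦ⟩ : ∃ Φ, Φ = U.subtype ∘ₗ L₁.toLinearMap ∘ₗ A₁ + T.subtype ∘ₗ L₂.toLinearMap ∘ₗ A₂ := ⟨_, rfl⟩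
  have hΦa : ∀ z, Φ z = (L₁ (A₁ z) : V) + (L₂ (A₂ z) : V) := fun z => by rw [hΦ]; rfl
  have hinj : Function.Injective Φ := by
    rw [← LinearMap.ker_eq_bot, Submodule.eq_bot_iff]
    intro z hz
    rw [LinearMap.mem_ker, hΦa] at hz
    have h1 : (L₁ (A₁ z) : V) = 0 := Submodule.disjoint_def.mp hdis _ (L₁ _).2
      (by rw [eq_neg_of_add_eq_zero_left hz]; exact T.neg_mem (L₂ _).2)
    rw [h1, zero_add] at hz
    have e1 : A₁ z = 0 := L₁.injective (by rw [map_zero]; exact Subtype.ext h1)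
    have e2 : A₂ z = 0 := L₂.injective (by rw [map_zero]; exact Subtype.ext hz)
    refine Prod.ext (funext fun i => congrFun e1 (.inl (.inl i))) (Prod.ext (funext fun i => congrFun e2 (.inl (.inl i)))
      (funext fun i => congrFun e1 (.inr i)))
  refine ⟨LinearMap.range Φ, ?_, ?_, ?_⟩
  · rintro _ ⟨z, rfl⟩
    rw [hΦa]
    exact Submodule.add_mem_sup (L₁ _).2 (L₂ _).2
  · rintro _ ⟨z, rfl⟩
    rw [hΦa, QuadBasis.q_add, hperp _ (L₁ _).2 _ (L₂ _).2, hL₁, hL₂, add_zero]
    simp only [A₁, A₂, LinearMap.coe_mk, AddHom.coe_mk, Cfsg.quadFormMinus, Sum.elim_inl, Sum.elim_inr, Pi.zero_apply,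
      mul_zero, Finset.sum_const_zero, zero_add, Matrix.cons_val_zero, Matrix.cons_val_one, Matrix.cons_val_fin_one]
    linear_combination (z.2.2 0 ^ 2 + a * z.2.2 0 * z.2.2 1 + c * z.2.2 1 ^ 2) * hst
  · rw [LinearMap.finrank_range_of_inj hinj, finrank_prod, finrank_prod, Module.finrank_fin_fun,
      Module.finrank_fin_fun, Module.finrank_fin_fun]
    omega

/-- The type of an orthogonal sum. -/
theorem plus_sup_iff {U T : Submodule F V} (hU : QuadBasis.Nondeg Q U) (hT : QuadBasis.Nondeg Q T)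
    (hperp : ∀ x ∈ U, ∀ y ∈ T, polar Q x y = 0) {e e' : ℕ} (hUd : finrank F U = 2 * e)
    (hTd : finrank F T = 2 * e') : IsPlus Q (U ⊔ T) ↔ (IsPlus Q U ↔ IsPlus Q T) := by
  obtain ⟨-, hdis, hdim⟩ := sup_facts hU hT hperp
  by_cases hu : IsPlus Q U <;> by_cases ht : IsPlus Q T
  · refine iff_of_true ?_ (iff_of_true hu ht)
    obtain ⟨X, hX, hXQ, hXd⟩ := hu
    obtain ⟨Y, hY, hYQ, hYd⟩ := ht
    refine ⟨X ⊔ Y, sup_le_sup hX hY, fun v hv => ?_, ?_⟩
    · obtain ⟨a, ha, b, hb, rfl⟩ := Submodule.mem_sup.mp hv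
      rw [QuadBasis.q_add, hXQ a ha, hYQ b hb, hperp a (hX ha) b (hY hb)]
      ring
    · have h := Submodule.finrank_sup_add_finrank_inf_eq X Y
      rw [(hdis.mono hX hY).eq_bot, finrank_bot] at h
      omega
  · exact iff_of_false (fun h => ht (plus_right hU hT hperp hu h)) fun h => ht (h.mp hu)
  · refine iff_of_false (fun h => hu ?_) fun h => hu (h.mpr ht)
    exact plus_right hT hU (fun x hx y hy => by rw [polar_comm]; exact hperp y hy x hx) ht (sup_comm U T ▸ h)
  · exact iff_of_true (plus_of_minus hU hT hperp hUd hTd hu ht) (iff_of_false hu ht)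

/-- A hyperbolic plane on a singular vector. -/
theorem exists_hyperbolic {A : Submodule F V} (hA : QuadBasis.Nondeg Q A) (h3 : 3 ≤ finrank F A) :
    ∃ (x y : V), x ∈ A ∧ y ∈ A ∧ Q x = 0 ∧ Q y = 0 ∧ polar Q x y = 1 ∧
      ∃ R ≤ A, QuadBasis.Nondeg Q R ∧ finrank F R + 2 = finrank F A ∧
        ∀ z ∈ R, polar Q x z = 0 ∧ polar Q y z = 0 := by
  obtain ⟨x, hx, hx0, hQx⟩ := QuadBasis.exists_singular Q h3
  obtain ⟨y, hy, hQy, hxy, R, hR⟩ := QuadBasis.exists_pair Q hA hx hx0 hQx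
  exact ⟨x, y, hx, hy, hQx, hQy, hxy, R, hR⟩

/-- Hyperbolic subspaces. -/
theorem exists_plus_sub : ∀ (e : ℕ) {A : Submodule F V}, QuadBasis.Nondeg Q A → 2 * e + 1 ≤ finrank F A →
    ∃ U ≤ A, QuadBasis.Nondeg Q U ∧ finrank F U = 2 * e ∧ IsPlus Q U := by
  intro e
  induction e with
  | zero => exact fun {A} _ _ => ⟨⊥, bot_le, nondeg_bot, by simp, plus_bot⟩
  | succ e ih =>
    intro A hA hd
    obtain ⟨x, y, hx, hy, hQx, hQy, hxy, R, hRA, hR, hRd, hperp⟩ := exists_hyperbolic hA (by omega)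
    obtain ⟨U, hUR, hU, hUd, hUp⟩ := ih hR (by omega)
    let L : (Fin 2 → F) →ₗ[F] V := (LinearMap.proj 0).smulRight x + (LinearMap.proj 1).smulRight y
    have hLa : ∀ z, L z = z 0 • x + z 1 • y := fun z => rfl
    have hpx : ∀ z, polar Q (L z) x = z 1 ∧ polar Q (L z) y = z 0 := fun z => by
      rw [hLa, polar_add_left, polar_add_left, QuadBasis.p_smul_left, QuadBasis.p_smul_left, QuadBasis.p_smul_left,
        QuadBasis.p_smul_left, QuadBasis.p_self, QuadBasis.p_self, hQx, hQy, hxy, polar_comm _ y x, hxy]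
      constructor <;> ring
    have hPn : QuadBasis.Nondeg Q (LinearMap.range L) := by
      rintro _ ⟨z, rfl⟩ h
      have h1 := h x ⟨Pi.single 0 1, by simp [hLa]⟩
      have h2 := h y ⟨Pi.single 1 1, by simp [hLa]⟩
      rw [(hpx z).1] at h1
      rw [(hpx z).2] at h2
      rw [hLa, h1, h2, zero_smul, zero_smul, add_zero]
    have hinj : Function.Injective L := by
      rw [← LinearMap.ker_eq_bot, Submodule.eq_bot_iff]
      intro z hz
      funext i
      rw [LinearMap.mem_ker] at hz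
      obtain ⟨h1, h2⟩ := hpx z
      rw [hz, polar_zero_left] at h1 h2
      fin_cases i
      · exact h2.symm
      · exact h1.symm
    have hperp' : ∀ a ∈ LinearMap.range L, ∀ b ∈ U, polar Q a b = 0 := by
      rintro _ ⟨z, rfl⟩ b hb
      rw [hLa, polar_add_left, QuadBasis.p_smul_left, QuadBasis.p_smul_left, (hperp b (hUR hb)).1,
        (hperp b (hUR hb)).2]
      ring
    have hd2 : finrank F (LinearMap.range L) = 2 * 1 := by
      rw [LinearMap.finrank_range_of_inj hinj, Module.finrank_fin_fun]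
    obtain ⟨hn, -, hdim⟩ := sup_facts hPn hU hperp'
    refine ⟨_, sup_le ?_ (hUR.trans hRA), hn, by rw [hdim, hd2, hUd]; ring,
      (plus_sup_iff hPn hU hperp' hd2 hUd).mpr (iff_of_true ?_ hUp)⟩
    · rintro _ ⟨z, rfl⟩
      exact A.add_mem (A.smul_mem _ hx) (A.smul_mem _ hy)
    · refine ⟨Submodule.span F {x}, (Submodule.span_singleton_le_iff_mem _ _).mpr ⟨Pi.single 0 1, by simp [hLa]⟩,
        fun u hu => ?_, ?_⟩
      · obtain ⟨r, rfl⟩ := Submodule.mem_span_singleton.mp hu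
        rw [QuadBasis.q_smul, hQx, mul_zero]
      · rw [finrank_span_singleton fun h => one_ne_zero (hxy.symm.trans (by rw [h, polar_zero_left])), hd2]

/-- An elliptic plane. -/
theorem exists_minus_plane {A : Submodule F V} (hA : QuadBasis.Nondeg Q A) (h4 : 4 ≤ finrank F A) :
    ∃ U ≤ A, QuadBasis.Nondeg Q U ∧ finrank F U = 2 ∧ ¬ IsPlus Q U := by
  obtain ⟨x, y, hx, hy, hQx, hQy, hxy, R, hRA, hR, hRd, hperp⟩ := exists_hyperbolic hA (by omega)
  have noline : ∀ {U : Submodule F V}, finrank F U = 2 → (∀ v ∈ U, v ≠ 0 → Q v ≠ 0) → ¬ IsPlus Q U := by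
    rintro U hd h ⟨X, hXU, hX, hXd⟩
    obtain ⟨v, hv, hv0⟩ := Submodule.exists_mem_ne_zero_of_ne_bot (p := X) fun e => by
      rw [e, finrank_bot] at hXd; omega
    exact h v (hXU hv) hv0 (hX v hv)
  by_cases hs : ∃ z ∈ R, z ≠ 0 ∧ Q z = 0
  · obtain ⟨z, hz, hz0, hQz⟩ := hs
    obtain ⟨w, hw, hQw, hzw, -⟩ := QuadBasis.exists_pair Q hR hz hz0 hQz
    obtain ⟨a, c, hac⟩ := QuadModels.exists_aniso (F := F)
    let L : (Fin 2 → F) →ₗ[F] V := (LinearMap.proj 0).smulRight (x + y) + (LinearMap.proj 1).smulRight (a • y + z + c • w)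
    have hLa : ∀ v, L v = v 0 • (x + y) + v 1 • (a • y + z + c • w) := fun v => rfl
    have hQL : ∀ v, Q (L v) = (v 0) ^ 2 + a * v 0 * v 1 + c * (v 1) ^ 2 := fun v => by
      rw [hLa]
      simp only [QuadBasis.q_add, QuadBasis.q_smul, polar_add_left, polar_add_right, QuadBasis.p_smul_left,
        QuadBasis.p_smul_right, QuadBasis.p_self, hQx, hQy, hQz, hQw, hxy, hzw, (hperp z hz).1, (hperp z hz).2,
        (hperp w hw).1, (hperp w hw).2]
      ring
    have hinj : Function.Injective L := by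
      rw [← LinearMap.ker_eq_bot, Submodule.eq_bot_iff]
      intro v hv
      have := hQL v
      rw [LinearMap.mem_ker.mp hv, QuadraticMap.map_zero] at this
      obtain ⟨h0, h1⟩ := hac _ _ this.symm
      funext i
      fin_cases i <;> assumption
    have hpL : ∀ u v, polar Q (L u) (L v) = polar (OCount.planeForm a c) u v := fun u v => by
      simp only [polar, ← map_add, hQL, OCount.planeForm_apply]
    have hd2 : finrank F (LinearMap.range L) = 2 := by
      rw [LinearMap.finrank_range_of_inj hinj, Module.finrank_fin_fun]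
    refine ⟨LinearMap.range L, ?_, ?_, hd2, noline hd2 ?_⟩
    · rintro _ ⟨v, rfl⟩
      exact A.add_mem (A.smul_mem _ (A.add_mem hx hy))
        (A.smul_mem _ (A.add_mem (A.add_mem (A.smul_mem _ hy) (hRA hz)) (A.smul_mem _ (hRA hw))))
    · rintro _ ⟨v, rfl⟩ h
      rw [OOmega.pnd_plane hac v fun w => by rw [← hpL]; exact h _ ⟨w, rfl⟩, map_zero]
    · rintro _ ⟨v, rfl⟩ hv hq
      rw [hQL] at hq
      obtain ⟨h0, h1⟩ := hac _ _ hq
      exact hv (by rw [hLa, h0, h1, zero_smul, zero_smul, add_zero])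
  · push Not at hs
    have hR2 : finrank F R = 2 := by
      rcases Nat.lt_or_ge (finrank F R) 3 with h | h
      · omega
      · obtain ⟨z, hz, hz0, hQz⟩ := QuadBasis.exists_singular Q h
        exact absurd hQz (hs z hz hz0)
    exact ⟨R, hRA, hR, hR2, noline hR2 hs⟩

/-- Subspaces of either type. -/
theorem exists_sub (hQ : OCount.PND Q) {A : Submodule F V} (hA : QuadBasis.Nondeg Q A) {e : ℕ} (he : 1 ≤ e)
    (hd : 2 * e + 2 ≤ finrank F A) (P : Prop) :
    ∃ U ≤ A, QuadBasis.Nondeg Q U ∧ finrank F U = 2 * e ∧ (IsPlus Q U ↔ P) := by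
  by_cases hP : P
  · obtain ⟨U, h1, h2, h3, h4⟩ := exists_plus_sub e hA (by omega)
    exact ⟨U, h1, h2, h3, iff_of_true h4 hP⟩
  obtain ⟨P₂, hPA, hPn, hPd, hPm⟩ := exists_minus_plane hA (by omega)
  obtain ⟨R, hRA, hR, hperp, -, hdim, -⟩ := compl_in hQ hPn hA hPA
  obtain ⟨U, hUR, hU, hUd, hUp⟩ := exists_plus_sub (e - 1) hR (by omega)
  have hperp' : ∀ x ∈ P₂, ∀ y ∈ U, polar Q x y = 0 := fun x hx y hy => hperp x hx y (hUR hy)
  obtain ⟨hn, -, hdd⟩ := sup_facts hPn hU hperp'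
  refine ⟨P₂ ⊔ U, sup_le hPA (hUR.trans hRA), hn, by omega, ?_⟩
  rw [plus_sup_iff hPn hU hperp' (e := 1) (by omega) hUd]
  exact iff_of_false (fun h => hPm (h.mpr hUp)) hP

end Cfsg.Agent.Classical.Elusive.OType
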