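import Cfsg.Agent.Lib.Classical.Elusive.OrthEvenTypes
import Cfsg.Agent.Lib.Classical.Elusive.CharTwoModels
import Cfsg.Agent.Lib.Classical.Elusive.SpPieces

/-!
# Units of isometries of odd prime order and their types, all characteristics
-/

set_option autoImplicit false
set_option linter.unusedSectionVars false

universe u

namespace Cfsg.Agent.Classical.Elusive.OUnits

open Module QuadraticMap
open Cfsg.Agent.Small

variable {F : Type u} [Field F] [Fintype F] {V : Type u} [AddCommGroup V] [Module F V] [FiniteDimensional F V]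
  {Q : QuadraticForm F V} {r : ℕ}

/-- The type of `j` units. -/
def uT (F : Type u) [Fintype F] (r j : ℕ) : Prop := Odd (orderOf (Fintype.card F : ZMod r)) ∨ Even j

theorem uT_zero : uT F r 0 := Or.inr Even.zero

theorem uT_add (a b : ℕ) : uT F r (a + b) ↔ (uT F r a ↔ uT F r b) := by
  unfold uT
  rw [Nat.even_add]
  tauto

theorem alt_of_two (h2 : (2 : F) = 0) (hQ : OCount.PND Q) : SpCount.IsAltND (polarBilin Q) :=
  ⟨fun v => by rw [polarBilin_apply_apply, QuadBasis.p_self, h2, zero_mul], fun v hv => hQ v hv⟩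

/-- A form polarising to an alternating form in characteristic two. -/
theorem exists_quad (h2 : (2 : F) = 0) (B : LinearMap.BilinForm F V) (hB : ∀ u, B u u = 0) :
    ∃ Q' : QuadraticForm F V, ∀ u v, polar Q' u v = B u v := by
  classical
  obtain ⟨n, hn⟩ : ∃ n, n = finrank F V := ⟨_, rfl⟩
  let b : Basis (Fin n) F V := Module.finBasisOfFinrankEq F V hn.symm
  obtain ⟨C, hC⟩ := (LinearMap.toMatrix₂ b b : (V →ₗ[F] V →ₗ[F] F) ≃ₗ[F] _).surjective
    (Matrix.of fun i j => if i < j then B (b i) (b j) else 0)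
  have hCb : ∀ i j, C (b i) (b j) = if i < j then B (b i) (b j) else 0 := fun i j => by
    rw [← LinearMap.toMatrix₂_apply, hC, Matrix.of_apply]
  refine ⟨LinearMap.BilinMap.toQuadraticMap C, fun u v => ?_⟩
  have e : C + C.flip = B := by
    refine LinearMap.ext_basis b b fun i j => ?_
    simp only [LinearMap.add_apply, LinearMap.flip_apply, hCb]
    have hswap : B (b j) (b i) = B (b i) (b j) := by
      have h := hB (b i + b j)
      simp only [map_add, LinearMap.add_apply, hB, zero_add, add_zero] at h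
      linear_combination h - B (b i) (b j) * h2
    rcases lt_trichotomy i j with h | rfl | h
    · rw [if_pos h, if_neg (not_lt.mpr h.le), add_zero]
    · rw [if_neg (lt_irrefl i), add_zero, hB]
    · rw [if_neg (not_lt.mpr h.le), if_pos h, zero_add, hswap]
  have h := LinearMap.congr_fun (LinearMap.congr_fun e u) v
  simp only [LinearMap.add_apply, LinearMap.flip_apply] at h
  simp only [polar, LinearMap.BilinMap.toQuadraticMap_apply, map_add, LinearMap.add_apply]
  rw [← h]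
  ring

/-- Units inside the moved space. -/
theorem units_in_moved (hQ : OCount.PND Q) (hr : r.Prime) (hr2 : r ≠ 2) (hr0 : (r : F) ≠ 0) {g : Module.End F V}
    (hgr : g ^ r = 1) (hiso : ∀ v, Q (g v) = Q v) {j N : ℕ}
    (hN : finrank F (Free.moved g) = OFree.unit F r * N) (hj : j ≤ N) :
    ∃ U ≤ Free.moved g, (∀ x ∈ U, g x ∈ U) ∧ finrank F U = OFree.unit F r * j ∧ QuadBasis.Nondeg Q U := by
  classical
  obtain ⟨-, hupos, -⟩ := OFree.unit_pos (F := F) hr hr0
  have hg := OFree.tame_of (Q := Q) hr0 hgr hiso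
  by_cases h2 : (2 : F) = 0
  swap
  · obtain ⟨U, hU, hUd, hUn⟩ := OFree.exists_units j (hg.free_moved hr hr2) h2
      (fun u v => by show polar Q (v : V) (u : V) = polar Q (u : V) (v : V); exact polar_comm _ _ _)
      (Free.refl_restrict (OFree.refl_of_pnd hQ) (hg.moved_nondeg (OFree.refl_of_pnd hQ))).nondeg
      (by rw [hN]; exact Nat.mul_le_mul_left _ hj)
    refine ⟨U.map (Free.moved g).subtype, Submodule.map_subtype_le _ _, ?_,
      by rw [Submodule.finrank_map_subtype_eq, hUd], ?_⟩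
    · rintro _ ⟨x, hx, rfl⟩
      exact ⟨_, hU x hx, rfl⟩
    · rintro _ ⟨x, hx, rfl⟩ h
      rw [(Submodule.mem_bot F).mp (hUn.le ⟨hx, fun y hy => by
        show polar Q (y : V) (x : V) = 0
        rw [polar_comm]
        exact h _ ⟨y, hy, rfl⟩⟩)]
      rfl
  have hfree := hg.free_moved hr hr2
  have hMn := (OFree.parts_facts hQ hr hr2 hr0 hgr hiso).2.2.2
  obtain ⟨B, hBdef⟩ : ∃ B : LinearMap.BilinForm F (Free.moved g),
      B = LinearMap.BilinForm.restrict (polarBilin Q) (Free.moved g) := ⟨_, rfl⟩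
  rw [← hBdef] at hfree
  have hB : SpCount.IsAltND B := by
    rw [hBdef]
    exact SpNd.alt_restrict (alt_of_two h2 hQ) fun x hx h => hMn x hx h
  obtain ⟨A, -, hAs, hAW⟩ := SpNd.exists_pieces hB hfree.isometry (fun _ : Unit => OFree.unit F r) (fun _ => True)
    (fun _ _ => hupos) fun Y hY hYi hne => by
      obtain ⟨U, hUi, hUd, hUn⟩ := SpNd.exists_unit (hfree.restrict hYi) (SpNd.alt_restrict hB hY) (by
        rw [Nat.pos_iff_ne_zero, ne_eq, Submodule.finrank_eq_zero]; exact hne)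
      refine ⟨U.map Y.subtype, Submodule.map_subtype_le _ _, ?_, ?_, (), trivial,
        by rw [Submodule.finrank_map_subtype_eq, hUd]⟩
      · rintro _ ⟨x, hx, rfl⟩ h0
        rw [hUn x hx fun y hy => h0 _ ⟨y, hy, rfl⟩, map_zero]
      · rintro _ ⟨x, hx, rfl⟩
        exact ⟨_, hUi x hx, rfl⟩
  obtain ⟨k, rfl⟩ : ∃ k, A = Multiset.replicate k () := ⟨Multiset.card A, Multiset.eq_replicate_card.mpr fun _ _ => rfl⟩
  rw [Multiset.map_replicate, Multiset.sum_replicate, smul_eq_mul, hN, mul_comm] at hAs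
  have hkN : k = N := Nat.eq_of_mul_eq_mul_left hupos hAs
  obtain ⟨W, hWn, hWi, hWd⟩ := hAW (Multiset.replicate j ()) ((Multiset.replicate_le_replicate _).mpr (by omega))
  refine ⟨W.map (Free.moved g).subtype, Submodule.map_subtype_le _ _, ?_, ?_, ?_⟩
  · rintro _ ⟨x, hx, rfl⟩
    exact ⟨_, hWi x hx, rfl⟩
  · rw [Submodule.finrank_map_subtype_eq, hWd, Multiset.map_replicate, Multiset.sum_replicate, smul_eq_mul, mul_comm]
  · rintro _ ⟨x, hx, rfl⟩ h0
    rw [hWn x hx fun y hy => by rw [hBdef]; exact h0 _ ⟨y, hy, rfl⟩, map_zero]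

/-- The type of a free invariant subspace. -/
theorem units_type (hr : r.Prime) (hr2 : r ≠ 2) (hr0 : (r : F) ≠ 0) {g : Module.End F V} (hgr : g ^ r = 1)
    (hiso : ∀ v, Q (g v) = Q v) {U : Submodule F V} (hU : QuadBasis.Nondeg Q U) (hinv : ∀ x ∈ U, g x ∈ U)
    (hUM : U ≤ Free.moved g) {j : ℕ} (hd : finrank F U = OFree.unit F r * j) :
    OType.IsPlus Q U ↔ uT F r j := by
  rcases Nat.eq_zero_or_pos j with rfl | hj
  · rw [mul_zero] at hd
    rw [Submodule.finrank_eq_zero.mp hd]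
    exact iff_of_true OType.plus_bot uT_zero
  · exact (OFree.unit_type hU hinv hr hr2 hr0 (fun x _ => by rw [hgr]; rfl)
      (fun x hx h => OFree.moved_fix (OFree.tame_of (Q := Q) hr0 hgr hiso) (hUM hx) h) hiso).2 j hj hd

/-- A space without common fixed vector of an `r`-group of isometries: its type. -/
theorem type_of_dvd {C : Submodule F V} (hC : QuadBasis.Nondeg Q C) (hr : r.Prime) (hr2 : r ≠ 2) (hr0 : (r : F) ≠ 0)
    (hdvd : r ∣ Nat.card {v : C // Q (v : V) = 1}) {j : ℕ} (hj : 1 ≤ j) (hd : finrank F C = OFree.unit F r * j) :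
    OType.IsPlus Q C ↔ uT F r j := by
  haveI : Fact r.Prime := ⟨hr⟩
  obtain ⟨hipos, -, hue⟩ := OFree.unit_pos (F := F) hr hr0
  obtain ⟨u, hu⟩ := hue
  obtain ⟨a, c, hac⟩ := QuadModels.exists_aniso (F := F)
  have he : finrank F C = 2 * (u * j) := by rw [hd, hu]; ring
  have hu0 : 1 ≤ u := by
    have := (OFree.unit_pos (F := F) hr hr0).2.1
    omega
  have hq := OFree.card_ne_zero (F := F) hr hr0
  have key : (OType.IsPlus Q C ∧ (Fintype.card F : ZMod r) ^ (u * j) = 1) ∨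
      (¬ OType.IsPlus Q C ∧ (Fintype.card F : ZMod r) ^ (u * j) = -1) := by
    rcases OType.model hC (Nat.mul_pos hu0 hj) he a c hac with ⟨hp, L, hL⟩ | ⟨hp, L, hL⟩
    · refine Or.inl ⟨hp, ?_⟩
      rw [← Nat.card_congr (L.toEquiv.subtypeEquiv fun v => show Cfsg.quadFormPlus (u * j) F v = 1 ↔ Q (L v : V) = 1 by
          rw [hL]), QuadModels.card_one_plus, ← ZMod.natCast_eq_zero_iff, Nat.cast_mul, mul_eq_zero,
        Nat.cast_sub (Nat.one_le_pow _ _ Fintype.card_pos), Nat.cast_pow, Nat.cast_pow, Nat.cast_one, sub_eq_zero] at hdvd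
      exact hdvd.resolve_right (pow_ne_zero _ hq)
    · refine Or.inr ⟨hp, ?_⟩
      rw [← Nat.card_congr (L.toEquiv.subtypeEquiv fun v =>
          show Cfsg.quadFormMinus (u * j - 1) F a c v = 1 ↔ Q (L v : V) = 1 by rw [hL]),
        QuadModels.card_one_minus _ a c hac, ← ZMod.natCast_eq_zero_iff, Nat.cast_mul, mul_eq_zero,
        Nat.cast_add, Nat.cast_pow, Nat.cast_pow, Nat.cast_one, Nat.sub_add_cancel (Nat.mul_pos hu0 hj)] at hdvd
      exact eq_neg_of_add_eq_zero_left (hdvd.resolve_right (pow_ne_zero _ hq))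
  have hne := OFree.minus_one_ne_one (r := r) hr hr2
  unfold uT
  rw [OFree.unit] at hu
  rcases Nat.even_or_odd (orderOf (Fintype.card F : ZMod r)) with hev | hod
  · rw [if_pos hev] at hu
    have hqe : (Fintype.card F : ZMod r) ^ (u * j) = (-1) ^ j := by
      rw [pow_mul, OFree.half_pow hr (show orderOf (Fintype.card F : ZMod r) = 2 * u by omega) (by omega)]
    rw [or_iff_right (Nat.not_odd_iff_even.mpr hev)]
    rcases Nat.even_or_odd j with hje | hjo
    · rw [hje.neg_one_pow] at hqe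
      rcases key with ⟨hp, -⟩ | ⟨-, h'⟩
      · exact iff_of_true hp hje
      · exact absurd (h'.symm.trans hqe) hne
    · rw [hjo.neg_one_pow] at hqe
      rcases key with ⟨-, h'⟩ | ⟨hp, -⟩
      · exact absurd (hqe.symm.trans h') hne
      · exact iff_of_false hp (Nat.not_even_iff_odd.mpr hjo)
  · rw [if_neg (Nat.not_even_iff_odd.mpr hod)] at hu
    rcases key with ⟨hp, -⟩ | ⟨-, h'⟩
    · exact iff_of_true hp (Or.inl hod)
    · rw [show u = orderOf (Fintype.card F : ZMod r) by omega, pow_mul, pow_orderOf_eq_one, one_pow] at h'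
      exact absurd h'.symm hne

/-- A free isometry of a space of the type it forces. -/
theorem exists_model (hQ : OCount.PND Q) (hr : r.Prime) (hr2 : r ≠ 2) (hr0 : (r : F) ≠ 0)
    {N : ℕ} (hN : 1 ≤ N) (hV : finrank F V = OFree.unit F r * N) (ht : OType.IsPlus Q ⊤ ↔ uT F r N) :
    ∃ f : Module.End F V, f ^ r = 1 ∧ (∀ v, Q (f v) = Q v) ∧ ∀ v, f v = v → v = 0 := by
  classical
  obtain ⟨-, hupos, hue⟩ := OFree.unit_pos (F := F) hr hr0
  by_cases h2 : (2 : F) = 0
  swap
  · obtain ⟨f, h1, h3, h4⟩ := OFree.exists_model_top h2 hQ hr hr2 hr0 hN hV ht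
    refine ⟨f, h1, h3, fun v hv => ?_⟩
    have := Free.mem_fixSpace.mpr hv
    rwa [Submodule.finrank_eq_zero.mp h4, Submodule.mem_bot] at this
  obtain ⟨M, _, _, _, B, g, hfree, halt, hM⟩ : ∃ (M : Type u) (_ : AddCommGroup M) (_ : Module F M)
      (_ : FiniteDimensional F M) (B : LinearMap.BilinForm F M) (g : Module.End F M),
      Free.IsFree B g r ∧ SpCount.IsAltND B ∧ finrank F M = OFree.unit F r * N := by
    unfold OFree.unit
    by_cases he : Even (orderOf (Fintype.card F : ZMod r))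
    · obtain ⟨M, i1, i2, i3, B, g, h1, h2', h3, -⟩ := Free.exists_spread (F := F) hr hr2 hr0 he N
      exact ⟨M, i1, i2, i3, B, g, h1, h2', by rw [h3, if_pos he]⟩
    · obtain ⟨M, i1, i2, i3, B, g, h1, h2', h3⟩ := Free.exists_paired (F := F) hr hr2 hr0 N
      exact ⟨M, i1, i2, i3, B, g, h1, h2', by rw [h3, if_neg he]; ring⟩
  obtain ⟨Q₀, hQ₀⟩ := exists_quad h2 B halt.self
  obtain ⟨QM, hQMp', hQMiso⟩ := CharTwoQuad.exists_average h2 Q₀ (hr.odd_of_ne_two hr2) hfree.pow_eq
    fun u v => by rw [hQ₀, hQ₀]; exact hfree.isometry u v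
  have hQMp : OCount.PND QM := fun u hu => halt.nondeg u fun v => by rw [← hQ₀, ← hQMp']; exact hu v
  obtain ⟨e, he⟩ : Even (finrank F M) := by rw [hM]; exact hue.mul_right N
  have hMpos : 0 < finrank F M := by rw [hM]; exact Nat.mul_pos hupos hN
  have htM : OType.IsPlus QM ⊤ ↔ uT F r N := by
    have h := (OFree.type_of_no_fix hQMp hr hr2 hr0 hfree.pow_eq hQMiso (Submodule.finrank_eq_zero.mpr
      ((Submodule.eq_bot_iff _).mpr fun v hv => hfree.fixfree v (Free.mem_fixSpace.mp hv))) hMpos).2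
    rwa [hM, Nat.mul_div_cancel_left _ hupos] at h
  obtain ⟨a, c, hac⟩ := QuadModels.exists_aniso (F := F)
  have hdM : finrank F (⊤ : Submodule F M) = 2 * e := by rw [finrank_top, he, two_mul]
  have hdV : finrank F (⊤ : Submodule F V) = 2 * e := by rw [finrank_top, hV, ← hM, he, two_mul]
  obtain ⟨φ, hφ⟩ : ∃ φ : M ≃ₗ[F] V, ∀ v, Q (φ v) = QM v := by
    rcases OType.model (OFree.top_nondeg hQMp) (e := e) (by omega) hdM a c hac with ⟨p₁, L₁, hL₁⟩ | ⟨p₁, L₁, hL₁⟩ <;>
      rcases OType.model (OFree.top_nondeg hQ) (e := e) (by omega) hdV a c hac with ⟨p₂, L₂, hL₂⟩ | ⟨p₂, L₂, hL₂⟩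
    · exact ⟨Submodule.topEquiv.symm.trans ((L₁.symm.trans L₂).trans Submodule.topEquiv), fun v => by
        simp only [LinearEquiv.trans_apply, Submodule.topEquiv_apply]
        rw [hL₂, ← hL₁, L₁.apply_symm_apply]; rfl⟩
    · exact absurd (ht.mpr (htM.mp p₁)) p₂
    · exact absurd (htM.mpr (ht.mp p₂)) p₁
    · exact ⟨Submodule.topEquiv.symm.trans ((L₁.symm.trans L₂).trans Submodule.topEquiv), fun v => by
        simp only [LinearEquiv.trans_apply, Submodule.topEquiv_apply]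
        rw [hL₂, ← hL₁, L₁.apply_symm_apply]; rfl⟩
  obtain ⟨f, hf⟩ : ∃ f : Module.End F V, ∀ u, f (φ u) = φ (g u) :=
    ⟨φ.toLinearMap ∘ₗ g ∘ₗ φ.symm.toLinearMap, fun u => by simp⟩
  have hpow : ∀ (j : ℕ) u, (f ^ j) (φ u) = φ ((g ^ j) u) := by
    intro j
    induction j with
    | zero => intro u; rfl
    | succ j ih => intro u; rw [pow_succ, Module.End.mul_apply, hf, ih, pow_succ, Module.End.mul_apply]
  refine ⟨f, LinearMap.ext fun v => ?_, fun v => ?_, fun v hv => ?_⟩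
  · obtain ⟨u, rfl⟩ := φ.surjective v
    rw [hpow, hfree.pow_eq]; rfl
  · obtain ⟨u, rfl⟩ := φ.surjective v
    rw [hf, hφ, hφ, hQMiso]
  · obtain ⟨u, rfl⟩ := φ.surjective v
    rw [hf] at hv
    rw [hfree.fixfree u (φ.injective hv), map_zero]

/-- An element moving exactly a given subspace, freely. -/
theorem exists_element (hQ : OCount.PND Q) (hr : r.Prime) (hr2 : r ≠ 2) (hr0 : (r : F) ≠ 0) {A : Submodule F V}
    (hA : QuadBasis.Nondeg Q A) {N : ℕ} (hN : 1 ≤ N) (hAd : finrank F A = OFree.unit F r * N)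
    (ht : OType.IsPlus Q A ↔ uT F r N) :
    ∃ g : Module.End F V, g ^ r = 1 ∧ (∀ v, Q (g v) = Q v) ∧
      finrank F (Free.fixSpace g) + OFree.unit F r * N = finrank F V := by
  classical
  have hQA : OType.IsPlus (Q.comp A.subtype) ⊤ ↔ OType.IsPlus Q A := by
    constructor
    · rintro ⟨U, -, hU, hUd⟩
      refine ⟨U.map A.subtype, Submodule.map_subtype_le _ _, ?_, ?_⟩
      · rintro _ ⟨u, hu, rfl⟩
        exact hU u hu
      · rw [Submodule.finrank_map_subtype_eq, hUd, finrank_top]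
    · rintro ⟨U, hUA, hU, hUd⟩
      refine ⟨U.comap A.subtype, le_top, fun u hu => hU _ hu, ?_⟩
      rw [(Submodule.comapSubtypeEquivOfLe hUA).finrank_eq, hUd, finrank_top]
  obtain ⟨f, hfr, hfi, hff⟩ := exists_model (Q := Q.comp A.subtype) (QuadModels.pnd_res Q hA) hr hr2 hr0 hN hAd
    (hQA.trans ht)
  obtain ⟨B, -, hBn, hperp, hsup, hdim, -⟩ := OType.compl_in hQ hA (OFree.top_nondeg hQ) le_top
  have hC : IsCompl A B := ⟨(OType.sup_facts hA hBn hperp).2.1, codisjoint_iff.mpr hsup⟩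
  obtain ⟨g, hg⟩ : ∃ g : Module.End F V, ∀ (a : A) (b : B), g ((a : V) + b) = (f a : V) + b :=
    ⟨LinearMap.ofIsCompl hC (A.subtype ∘ₗ f) B.subtype, fun a b => by simp⟩
  have hall : ∀ v, ∃ (a : A) (b : B), (a : V) + b = v := fun v => by
    obtain ⟨a, ha, b, hb, h⟩ := Submodule.mem_sup.mp (show v ∈ A ⊔ B by rw [hsup]; trivial)
    exact ⟨⟨a, ha⟩, ⟨b, hb⟩, h⟩
  have hpow : ∀ (k : ℕ) (a : A) (b : B), (g ^ k) ((a : V) + b) = ((f ^ k) a : V) + b := by
    intro k
    induction k with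
    | zero => intro a b; rfl
    | succ k ih => intro a b; rw [pow_succ, Module.End.mul_apply, hg, ih, pow_succ, Module.End.mul_apply]
  refine ⟨g, LinearMap.ext fun v => ?_, fun v => ?_, ?_⟩
  · obtain ⟨a, b, rfl⟩ := hall v
    rw [hpow, hfr]; rfl
  · obtain ⟨a, b, rfl⟩ := hall v
    rw [hg, QuadBasis.q_add, QuadBasis.q_add, hperp _ (f a).2 _ b.2, hperp _ a.2 _ b.2]
    have := hfi a
    simp only [QuadraticMap.comp_apply, Submodule.coe_subtype] at this
    rw [this]
  · have e : Free.fixSpace g = B := by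
      ext v
      rw [Free.mem_fixSpace]
      obtain ⟨a, b, rfl⟩ := hall v
      rw [hg]
      constructor
      · intro h
        rw [hff a (Subtype.ext (add_right_cancel h)), ZeroMemClass.coe_zero, zero_add]
        exact b.2
      · intro h
        have : (a : V) = 0 := Submodule.disjoint_def.mp hC.disjoint _ a.2 (by
          simpa using B.sub_mem h b.2)
        rw [show a = 0 from Subtype.ext this, map_zero]
    rw [e, ← hAd, add_comm, hdim, finrank_top]

/-- An `r`-group of isometries keeps a member of the wanted type when the dimensions allow it. -/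
theorem excluded (hQ : OCount.PND Q) (hr : r.Prime) (hr2 : r ≠ 2) (hr0 : (r : F) ≠ 0) {m : ℕ} (hm : 2 ≤ m)
    (hme : Even m) (hmn : m < finrank F V) (P : Prop)
    (hdvd : r ∣ Nat.card {W : Submodule F V // finrank F W = m ∧ QuadBasis.Nondeg Q W ∧ (OType.IsPlus Q W ↔ P)}) :
    finrank F V % OFree.unit F r ≤ m ∧ ¬ (finrank F V % OFree.unit F r = m ∧
      (P ↔ (OType.IsPlus Q ⊤ ↔ uT F r (finrank F V / OFree.unit F r)))) := by
  classical
  haveI : Fact r.Prime := ⟨hr⟩
  haveI : Finite V := Module.finite_of_finite F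
  haveI : Finite (V ≃ₗ[F] V) := Finite.of_injective (fun h : V ≃ₗ[F] V => (h : V → V)) DFunLike.coe_injective
  obtain ⟨S⟩ : Nonempty (Sylow r ↥(ORefl.Iso Q)) := inferInstance
  obtain ⟨P', hP'⟩ : ∃ P', P' = (S : Subgroup ↥(ORefl.Iso Q)).map (ORefl.Iso Q).subtype := ⟨_, rfl⟩
  have hP'le : P' ≤ ORefl.Iso Q := hP' ▸ Subgroup.map_subtype_le _
  have hP'p : IsPGroup r P' := hP' ▸ S.2.map _
  obtain ⟨C, hCn, hCf, hCd⟩ := OFree.exists_fixed_sub (finrank F V) le_rfl hQ hr hr2 hr0 P' hP'le hP'p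
  obtain ⟨-, hupos, hue⟩ := OFree.unit_pos (F := F) hr hr0
  obtain ⟨e, he⟩ := hme
  rw [← two_mul] at he
  -- no member is fixed by the group
  have no : ∀ T : Submodule F V, finrank F T = m → QuadBasis.Nondeg Q T → (OType.IsPlus Q T ↔ P) →
      (∀ h ∈ P', ∀ x ∈ T, h x = x) → False := by
    intro T hd hn hP hfix
    let X := {W : Submodule F V // finrank F W = m ∧ QuadBasis.Nondeg Q W ∧ (OType.IsPlus Q W ↔ P)}
    have hmapX : ∀ (g : ↥(ORefl.Iso Q)) (W : X), finrank F (W.1.map ((g : V ≃ₗ[F] V) : V →ₗ[F] V)) = m ∧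
        QuadBasis.Nondeg Q (W.1.map ((g : V ≃ₗ[F] V) : V →ₗ[F] V)) ∧
        (OType.IsPlus Q (W.1.map ((g : V ≃ₗ[F] V) : V →ₗ[F] V)) ↔ P) := fun g W => by
      refine ⟨by rw [LinearEquiv.finrank_map_eq]; exact W.2.1, ?_, ?_⟩
      · rintro _ ⟨x, hx, rfl⟩ h
        rw [W.2.2.1 x hx fun y hy => by
          have := h _ ⟨y, hy, rfl⟩
          simpa [polar, ← map_add, show ∀ v, Q ((g : V ≃ₗ[F] V) v) = Q v from g.2] using this]
        exact map_zero _
      · refine Iff.trans ⟨fun h => ?_, OFree.plus_map (g := (g : V ≃ₗ[F] V)) g.2⟩ W.2.2.2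
        have := OFree.plus_map (g := ((g⁻¹ : ↥(ORefl.Iso Q)) : V ≃ₗ[F] V)) (g⁻¹).2 h
        rwa [← Submodule.map_comp, ← LinearEquiv.coe_trans,
          show (g : V ≃ₗ[F] V).trans ((g⁻¹ : ↥(ORefl.Iso Q)) : V ≃ₗ[F] V) = LinearEquiv.refl F V from
            LinearEquiv.ext fun x => by
              show ((g⁻¹ : ↥(ORefl.Iso Q)) : V ≃ₗ[F] V) ((g : V ≃ₗ[F] V) x) = x
              rw [← LinearEquiv.mul_apply, ← Subgroup.coe_mul, inv_mul_cancel]; rfl,
          LinearEquiv.refl_toLinearMap, Submodule.map_id] at this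
    letI : MulAction ↥(ORefl.Iso Q) X :=
      { smul := fun g W => ⟨W.1.map ((g : V ≃ₗ[F] V) : V →ₗ[F] V), hmapX g W⟩
        one_smul := fun W => Subtype.ext (Submodule.map_id W.1)
        mul_smul := fun a b W => Subtype.ext (Submodule.map_comp _ _ W.1) }
    haveI : MulAction.IsPretransitive ↥(ORefl.Iso Q) X := ⟨fun W₁ W₂ => by
      obtain ⟨φ, hφ⟩ := OType.exists_isometry W₁.2.2.1 W₂.2.2.1 (e := e) (by omega) (W₁.2.1.trans he)
        (W₂.2.1.trans he) (W₁.2.2.2.trans W₂.2.2.2.symm)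
      obtain ⟨g, hg, hgW⟩ := ORefl.witt hQ W₁.1 (W₂.1.subtype ∘ₗ φ.toLinearMap)
        (W₂.1.injective_subtype.comp φ.injective) hφ
      refine ⟨⟨g, hg⟩, Subtype.ext ?_⟩
      show W₁.1.map (g : V →ₗ[F] V) = W₂.1
      refine Submodule.eq_of_le_of_finrank_le ?_ (by rw [LinearEquiv.finrank_map_eq, W₁.2.1, W₂.2.1])
      rintro _ ⟨x, hx, rfl⟩
      rw [show (g : V →ₗ[F] V) x = _ from hgW ⟨x, hx⟩]
      exact (φ ⟨x, hx⟩).2⟩
    obtain ⟨W₀, hW₀⟩ : ∃ W₀ : X, W₀.1 = T := ⟨⟨T, hd, hn, hP⟩, rfl⟩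
    have hle : (S : Subgroup ↥(ORefl.Iso Q)) ≤ MulAction.stabilizer ↥(ORefl.Iso Q) W₀ := fun g hg => by
      refine MulAction.mem_stabilizer_iff.mpr (Subtype.ext ?_)
      show W₀.1.map ((g : V ≃ₗ[F] V) : V →ₗ[F] V) = W₀.1
      rw [hW₀]
      have hfix' : ∀ x ∈ T, (g : V ≃ₗ[F] V) x = x := fun x hx => hfix _ (hP' ▸ ⟨g, hg, rfl⟩) x hx
      refine le_antisymm ?_ fun x hx => ⟨x, hx, hfix' x hx⟩
      rintro _ ⟨x, hx, rfl⟩
      rw [show ((g : V ≃ₗ[F] V) : V →ₗ[F] V) x = x from hfix' x hx]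
      exact hx
    have h1 := MulAction.index_stabilizer_of_transitive ↥(ORefl.Iso Q) W₀
    exact S.not_dvd_index (dvd_trans hdvd (h1 ▸ Subgroup.index_dvd_of_le hle))
  have sub : ∀ D : Submodule F V, QuadBasis.Nondeg Q D → (∀ h ∈ P', ∀ x ∈ D, h x = x) →
      m < finrank F D → False := fun D hD hDf hd => by
    by_cases h2 : (2 : F) = 0
    · have hDe : Even (finrank F D) := SpNd.nd_even (alt_of_two h2 hQ) fun x hx h => hD x hx h
      obtain ⟨d, hd'⟩ := hDe
      obtain ⟨T, hT, hn, hdT, hP⟩ := OType.exists_sub hQ hD (e := e) (by omega) (by omega) P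
      exact no T (hdT.trans he.symm) hn hP fun h hh x hx => hDf h hh x (hT hx)
    · obtain ⟨T, hT, hn, hdT, hP⟩ := OType.exists_adjust h2 (U := ⊥) OType.nondeg_bot hD
        (fun x hx y _ => by rw [(Submodule.mem_bot F).mp hx, polar_zero_left]) (s := m) (e := e) (by omega) hd
        (by rw [finrank_bot]; omega) P
      rw [bot_sup_eq] at hn hdT hP
      exact no T (hdT.trans he.symm) hn hP fun h hh x hx => hDf h hh x (hT hx)
  obtain ⟨t, ht⟩ := hCd
  have hCle := Submodule.finrank_le C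
  obtain ⟨c, hc⟩ : ∃ c, c = OFree.unit F r := ⟨_, rfl⟩
  rw [← hc] at hupos hue ht ⊢
  have hdimC : finrank F V = finrank F C + c * t := by omega
  have hmod : finrank F V % c = finrank F C % c := by rw [hdimC, Nat.add_mul_mod_self_left]
  have hk := Nat.mod_le (finrank F C) c
  have hCm : finrank F C ≤ m := not_lt.mp (sub C hCn hCf)
  refine ⟨by omega, ?_⟩
  rintro ⟨hkm, hP⟩
  have hCd : finrank F C = m := by omega
  -- the common fixed vectors
  obtain ⟨Fx, hFx⟩ : ∃ Fx : Submodule F V, ∀ x, x ∈ Fx ↔ ∀ h ∈ P', h x = x :=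
    ⟨⨅ h ∈ P', LinearMap.ker ((h : V →ₗ[F] V) - 1), fun x => by simp [LinearMap.mem_ker, sub_eq_zero]⟩
  haveI : Finite P' := inferInstance
  haveI := Fintype.ofFinite P'
  have hcard : (Fintype.card P' : F) ≠ 0 := by
    obtain ⟨a, ha⟩ := hP'p.exists_card_eq
    rw [Nat.card_eq_fintype_card] at ha
    rw [ha, Nat.cast_pow]
    exact pow_ne_zero _ hr0
  have hFn : QuadBasis.Nondeg Q Fx := fun x hx h => hQ x fun v => by
    have hs : (∑ g : P', (g : V ≃ₗ[F] V) v) ∈ Fx := (hFx _).mpr fun k hk => by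
      rw [map_sum]
      exact Fintype.sum_equiv (Equiv.mulLeft (⟨k, hk⟩ : P')) _ _ fun g => rfl
    have h1 := h _ hs
    rw [← polarBilin_apply_apply, map_sum] at h1
    have h2 : ∀ g : P', polarBilin Q x ((g : V ≃ₗ[F] V) v) = polar Q x v := fun g => by
      have := ORefl.polar_iso (hP'le g.2) x v
      rw [(hFx x).mp hx _ g.2] at this
      exact this
    rw [Finset.sum_congr rfl fun g _ => h2 g, Finset.sum_const, Finset.card_univ, nsmul_eq_mul] at h1
    exact (mul_eq_zero.mp h1).resolve_left hcard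
  have hCF : C = Fx := Submodule.eq_of_le_of_finrank_le (fun x hx => (hFx x).mpr fun h hh => hCf h hh x hx) (by
    have := not_lt.mp (sub Fx hFn fun h hh x hx => (hFx x).mp hx h hh)
    omega)
  obtain ⟨D, -, hD, hperp, hsup, hdim, hDmem⟩ := OType.compl_in hQ hCn (OFree.top_nondeg hQ) le_top
  rw [finrank_top] at hdim
  have hDd : finrank F D = c * t := by omega
  have ht1 : 1 ≤ t := Nat.pos_of_ne_zero fun h0 => by rw [h0, mul_zero] at hDd; omega
  have hdis := (OType.sup_facts hCn hD hperp).2.1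
  have hinvD : ∀ g : P', ∀ x ∈ D, (g : V ≃ₗ[F] V) x ∈ D := fun g x hx => hDmem _ trivial fun y hy => by
    rw [← hCf _ g.2 y hy, ORefl.polar_iso (hP'le g.2), polar_comm]
    exact hperp y hy x hx
  have hdvdD : r ∣ Nat.card {v : D // Q (v : V) = 1} := by
    letI : MulAction P' {v : D // Q (v : V) = 1} :=
      { smul := fun g v => ⟨⟨(g : V ≃ₗ[F] V) v.1, hinvD g _ v.1.2⟩, (hP'le g.2 _).trans v.2⟩
        one_smul := fun v => Subtype.ext (Subtype.ext rfl)
        mul_smul := fun a b v => Subtype.ext (Subtype.ext rfl) }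
    have h0 : Nat.card (MulAction.fixedPoints P' {v : D // Q (v : V) = 1}) = 0 := by
      rw [Nat.card_eq_zero]
      refine Or.inl ⟨fun ⟨v, hv⟩ => ?_⟩
      have hmem : ((v.1 : D) : V) ∈ C := by
        rw [hCF, hFx]
        intro k hk
        exact congrArg (fun w : {v : D // Q (v : V) = 1} => ((w.1 : D) : V)) (hv ⟨k, hk⟩)
      have h1 := v.2
      rw [Submodule.disjoint_def.mp hdis _ hmem v.1.2, QuadraticMap.map_zero] at h1
      exact zero_ne_one h1
    have := hP'p.card_modEq_card_fixedPoints {v : D // Q (v : V) = 1}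
    rw [h0] at this
    exact Nat.modEq_zero_iff_dvd.mp this
  have hDt : OType.IsPlus Q D ↔ uT F r t := type_of_dvd hD hr hr2 hr0 hdvdD ht1 (by rw [← hc]; exact hDd)
  obtain ⟨u, hu⟩ := hue
  have htop := OType.plus_sup_iff hCn hD hperp (e := e) (e' := u * t) (hCd.trans he) (by rw [hDd, hu]; ring)
  rw [hsup, hDt] at htop
  have hdiv : finrank F V / c = t := by
    rw [hdimC, Nat.add_mul_div_left _ _ hupos, hCd, Nat.div_eq_of_lt (hkm ▸ Nat.mod_lt _ hupos), zero_add]
  rw [hdiv] at hP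
  exact no C hCd hCn (by tauto) hCf

end Cfsg.Agent.Classical.Elusive.OUnits
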