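import Cfsg.Agent.Lib.Classical.Elusive.OrthTypes
import Cfsg.Agent.Lib.Classical.Elusive.TsSymp

/-!
# Free isometries of quadratic spaces: dimensions, types and units
-/

set_option autoImplicit false
set_option linter.unusedSectionVars false

universe u

namespace Cfsg.Agent.Classical.Elusive.OFree

open Module QuadraticMap Polynomial
open Cfsg.Agent.Small

variable {F : Type u} [Field F] [Fintype F] {V : Type u} [AddCommGroup V] [Module F V] [FiniteDimensional F V]
  {r : ℕ}

/-- The size of a unit. -/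
noncomputable def unit (F : Type u) [Fintype F] (r : ℕ) : ℕ :=
  if Even (orderOf (Fintype.card F : ZMod r)) then orderOf (Fintype.card F : ZMod r)
  else 2 * orderOf (Fintype.card F : ZMod r)

theorem twist_facts {B : LinearMap.BilinForm F V} {g : Module.End F V} (hg : Free.IsFree B g r)
    (hnd : ∀ v, (∀ w, B v w = 0) → v = 0) :
    ∀ u, (∀ v, (B.comp g LinearMap.id - B.comp LinearMap.id g) u v = 0) → u = 0 := by
  intro u hu
  have h1 : ∀ v, B (g u) v = B ((g ^ (r - 1)) u) v := fun v => by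
    have h := hu v
    simp only [LinearMap.sub_apply, LinearMap.BilinForm.comp_apply, LinearMap.id_apply, sub_eq_zero] at h
    have hu' : g ((g ^ (r - 1)) u) = u := by
      rw [← Module.End.mul_apply, ← pow_succ', Nat.sub_add_cancel hg.prime.one_le, hg.pow_eq, Module.End.one_apply]
    rw [h, ← hg.isometry ((g ^ (r - 1)) u) v, hu']
  have h2 : g u = (g ^ (r - 1)) u := sub_eq_zero.mp (hnd _ fun v => by
    rw [map_sub, LinearMap.sub_apply, h1, sub_self])
  have h3 : (g ^ 2) u = u := by
    rw [pow_two, Module.End.mul_apply, h2, ← Module.End.mul_apply, ← pow_succ',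
      Nat.sub_add_cancel hg.prime.one_le, hg.pow_eq, Module.End.one_apply]
  obtain ⟨j, hj⟩ := hg.prime.odd_of_ne_two hg.odd
  have h4 : ∀ k : ℕ, ((g ^ 2) ^ k) u = u := by
    intro k
    induction k with
    | zero => rfl
    | succ k ih => rw [pow_succ, Module.End.mul_apply, h3, ih]
  refine hg.fixfree u ?_
  have h5 : (g ^ r) u = g u := by rw [hj, pow_succ', Module.End.mul_apply, pow_mul, h4]
  rw [hg.pow_eq, Module.End.one_apply] at h5
  exact h5.symm

/-- A symmetric form with a free isometry lives in even dimension. -/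
theorem even_dim {B : LinearMap.BilinForm F V} {g : Module.End F V} (hg : Free.IsFree B g r)
    (hs : ∀ u v, B v u = B u v) (hnd : ∀ v, (∀ w, B v w = 0) → v = 0) : Even (finrank F V) := by
  refine TsSymp.even_dim (B := B.comp g LinearMap.id - B.comp LinearMap.id g) ⟨fun u => ?_, twist_facts hg hnd⟩
  simp only [LinearMap.sub_apply, LinearMap.BilinForm.comp_apply, LinearMap.id_apply]
  rw [hs, sub_self]

theorem refl_of_pnd {Q : QuadraticForm F V} (hQ : OCount.PND Q) : Free.Refl (polarBilin Q) :=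
  ⟨⟨1, fun u v => by rw [one_mul, polarBilin_apply_apply, polarBilin_apply_apply, polar_comm]⟩, hQ⟩

theorem nondeg_iff {Q : QuadraticForm F V} {U : Submodule F V} :
    QuadBasis.Nondeg Q U ↔ U ⊓ LinearMap.BilinForm.orthogonal (polarBilin Q) U = ⊥ := by
  rw [eq_bot_iff]
  constructor
  · intro h x hx
    refine (Submodule.mem_bot F).mpr (h x hx.1 fun y hy => ?_)
    rw [polar_comm]
    exact hx.2 y hy
  · intro h x hx hperp
    exact (Submodule.mem_bot F).mp (h ⟨hx, fun y hy => by
      show polarBilin Q y x = 0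
      rw [polarBilin_apply_apply, polar_comm]
      exact hperp y hy⟩)

/-- A free map of order `r` permutes each set of values freely. -/
theorem dvd_card_values {Q : QuadraticForm F V} {g : Module.End F V} (hr : r.Prime) (hgr : g ^ r = 1)
    (hfix : ∀ v, g v = v → v = 0) (hiso : ∀ v, Q (g v) = Q v) :
    r ∣ Nat.card {v : V // Q v = 1} := by
  classical
  haveI : Finite V := Module.finite_of_finite F
  haveI := Fintype.ofFinite {v : V // Q v = 1}
  haveI : Fact r.Prime := ⟨hr⟩
  have hisok : ∀ (k : ℕ) v, Q ((g ^ k) v) = Q v := by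
    intro k
    induction k with
    | zero => intro v; rfl
    | succ k ih => intro v; rw [pow_succ', Module.End.mul_apply, hiso, ih]
  have h1 : ∀ v, g ((g ^ (r - 1)) v) = v ∧ (g ^ (r - 1)) (g v) = v := fun v => by
    rw [← Module.End.mul_apply, ← Module.End.mul_apply, ← pow_succ', ← pow_succ, Nat.sub_add_cancel hr.one_le, hgr,
      Module.End.one_apply]
    exact ⟨rfl, rfl⟩
  let σ : Equiv.Perm {v : V // Q v = 1} :=
    { toFun := fun v => ⟨g v, (hiso v).trans v.2⟩
      invFun := fun v => ⟨(g ^ (r - 1)) v, (hisok _ v).trans v.2⟩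
      left_inv := fun v => Subtype.ext (h1 v).2
      right_inv := fun v => Subtype.ext (h1 v).1 }
  have hσk : ∀ (k : ℕ) v, ((σ ^ k) v : V) = (g ^ k) (v : V) := by
    intro k
    induction k with
    | zero => intro v; rfl
    | succ k ih =>
      intro v
      rw [pow_succ', pow_succ', Equiv.Perm.mul_apply, Module.End.mul_apply, ← ih]
      rfl
  have hσ : σ ^ r ^ 1 = 1 := Equiv.ext fun v => Subtype.ext (by rw [pow_one, hσk, hgr]; rfl)
  rw [Nat.card_eq_fintype_card, ← Nat.modEq_zero_iff_dvd]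
  have h2 : Fintype.card (Function.fixedPoints σ) = 0 := Fintype.card_eq_zero_iff.mpr ⟨fun v => by
    have h := hfix (v.1 : V) (congrArg Subtype.val v.2)
    have h' := v.1.2
    rw [h, QuadraticMap.map_zero] at h'
    exact zero_ne_one h'⟩
  let s : Function.End {v : V // Q v = 1} := ⇑σ
  have h4 : ∀ k : ℕ, s ^ k = ⇑(σ ^ k) := by
    intro k
    induction k with
    | zero => rfl
    | succ k ih => rw [pow_succ, pow_succ, ih]; rfl
  have h3 : Fintype.card {v : V // Q v = 1} ≡ Fintype.card (Function.fixedPoints σ) [MOD r] :=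
    Equiv.Perm.card_fixedPoints_modEq (f := s) (n := 1) (by rw [h4, hσ]; rfl)
  rwa [h2] at h3

theorem card_ne_zero (hr : r.Prime) (hr0 : (r : F) ≠ 0) : (Fintype.card F : ZMod r) ≠ 0 := by
  haveI : Fact r.Prime := ⟨hr⟩
  intro h
  rw [ZMod.natCast_eq_zero_iff] at h
  obtain ⟨p, hp⟩ := CharP.exists F
  haveI := hp
  haveI : Fact p.Prime := ⟨CharP.char_is_prime F p⟩
  obtain ⟨n, -, hn⟩ := FiniteField.card F p
  rw [hn] at h
  exact hr0 (by rw [(Nat.prime_dvd_prime_iff_eq hr Fact.out).mp (hr.dvd_of_dvd_pow h), CharP.cast_eq_zero])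

/-- The type of a free space. -/
theorem free_type {Q : QuadraticForm F V} {g : Module.End F V} {W : Submodule F V} (hW : QuadBasis.Nondeg Q W)
    (hinv : ∀ x ∈ W, g x ∈ W) (hr : r.Prime) (hr2 : r ≠ 2) (hr0 : (r : F) ≠ 0)
    (hgr : ∀ x ∈ W, (g ^ r) x = x) (hfix : ∀ x ∈ W, g x = x → x = 0) (hiso : ∀ v, Q (g v) = Q v) {e : ℕ}
    (he : 1 ≤ e) (hd : finrank F W = 2 * e) :
    (OType.IsPlus Q W ∧ (Fintype.card F : ZMod r) ^ e = 1) ∨
      (¬ OType.IsPlus Q W ∧ (Fintype.card F : ZMod r) ^ e = -1) := by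
  haveI : Fact r.Prime := ⟨hr⟩
  obtain ⟨a, c, hac⟩ := QuadModels.exists_aniso (F := F)
  obtain ⟨gW, hgW⟩ : ∃ gW, gW = g.restrict hinv := ⟨_, rfl⟩
  have hpow : ∀ (k : ℕ) (x : W), (((gW ^ k) x : W) : V) = (g ^ k) (x : V) := by
    intro k x
    induction k with
    | zero => rfl
    | succ k ih => rw [pow_succ', pow_succ', Module.End.mul_apply, Module.End.mul_apply, ← ih, hgW]; rfl
  have hdvd : r ∣ Nat.card {v : W // Q (v : V) = 1} :=
    dvd_card_values (Q := Q.comp W.subtype) (g := gW) hr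
      (LinearMap.ext fun x => Subtype.ext (by rw [hpow, hgr x x.2]; rfl))
      (fun x hx => Subtype.ext (hfix x x.2 (by
        have := congrArg Subtype.val hx
        rwa [hgW] at this)))
      (fun x => by rw [hgW, QuadraticMap.comp_apply, QuadraticMap.comp_apply]; exact hiso _)
  have hq := card_ne_zero (F := F) hr hr0
  rcases OType.model hW he hd a c hac with ⟨hp, L, hL⟩ | ⟨hp, L, hL⟩
  · left
    refine ⟨hp, ?_⟩
    rw [← Nat.card_congr (L.toEquiv.subtypeEquiv fun v => show Cfsg.quadFormPlus e F v = 1 ↔ Q (L v : V) = 1 by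
        rw [hL]), QuadModels.card_one_plus, ← ZMod.natCast_eq_zero_iff, Nat.cast_mul, mul_eq_zero,
      Nat.cast_sub (Nat.one_le_pow _ _ Fintype.card_pos), Nat.cast_pow, Nat.cast_pow, Nat.cast_one, sub_eq_zero] at hdvd
    exact hdvd.resolve_right (pow_ne_zero _ hq)
  · right
    refine ⟨hp, ?_⟩
    rw [← Nat.card_congr (L.toEquiv.subtypeEquiv fun v =>
        show Cfsg.quadFormMinus (e - 1) F a c v = 1 ↔ Q (L v : V) = 1 by rw [hL]),
      QuadModels.card_one_minus _ a c hac, ← ZMod.natCast_eq_zero_iff, Nat.cast_mul, mul_eq_zero,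
      Nat.cast_add, Nat.cast_pow, Nat.cast_pow, Nat.cast_one, Nat.sub_add_cancel he] at hdvd
    exact eq_neg_of_add_eq_zero_left (hdvd.resolve_right (pow_ne_zero _ hq))

theorem minus_one_ne_one (hr : r.Prime) (hr2 : r ≠ 2) : (-1 : ZMod r) ≠ 1 := by
  haveI : Fact r.Prime := ⟨hr⟩
  intro h
  have : ((2 : ℕ) : ZMod r) = 0 := by push_cast; linear_combination -h
  rw [ZMod.natCast_eq_zero_iff] at this
  exact hr2 ((Nat.prime_dvd_prime_iff_eq hr Nat.prime_two).mp this)

theorem half_pow (hr : r.Prime) {h : ℕ} (hh : orderOf (Fintype.card F : ZMod r) = 2 * h) (h0 : 0 < h) :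
    (Fintype.card F : ZMod r) ^ h = -1 := by
  haveI : Fact r.Prime := ⟨hr⟩
  refine (mul_self_eq_one_iff.mp ?_).resolve_left fun e => ?_
  · rw [← pow_add, ← two_mul, ← hh, pow_orderOf_eq_one]
  · have := Nat.le_of_dvd h0 (orderOf_dvd_of_pow_eq_one e)
    omega

/-- Dimensions and types of free spaces in units. -/
theorem unit_type {Q : QuadraticForm F V} {g : Module.End F V} {W : Submodule F V} (hW : QuadBasis.Nondeg Q W)
    (hinv : ∀ x ∈ W, g x ∈ W) (hr : r.Prime) (hr2 : r ≠ 2) (hr0 : (r : F) ≠ 0)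
    (hgr : ∀ x ∈ W, (g ^ r) x = x) (hfix : ∀ x ∈ W, g x = x → x = 0) (hiso : ∀ v, Q (g v) = Q v) :
    unit F r ∣ finrank F W ∧ ∀ j, 1 ≤ j → finrank F W = unit F r * j →
      (OType.IsPlus Q W ↔ (Odd (orderOf (Fintype.card F : ZMod r)) ∨ Even j)) := by
  haveI : Fact r.Prime := ⟨hr⟩
  obtain ⟨gW, hgW⟩ : ∃ gW, gW = g.restrict hinv := ⟨_, rfl⟩
  have hpow : ∀ (k : ℕ) (x : W), (((gW ^ k) x : W) : V) = (g ^ k) (x : V) := by
    intro k x
    induction k with
    | zero => rfl
    | succ k ih => rw [pow_succ', pow_succ', Module.End.mul_apply, Module.End.mul_apply, ← ih, hgW]; rfl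
  have hfree : Free.IsFree (polarBilin (Q.comp W.subtype)) gW r :=
    ⟨hr, hr2, hr0, LinearMap.ext fun x => Subtype.ext (by rw [hpow, hgr x x.2]; rfl),
      fun x hx => Subtype.ext (hfix x x.2 (by
        have := congrArg Subtype.val hx
        rwa [hgW] at this)),
      fun u v => by
        rw [polarBilin_apply_apply, polarBilin_apply_apply, OType.polar_comp, OType.polar_comp, hgW]
        simp only [Submodule.coe_subtype, LinearMap.restrict_apply, polar, ← map_add, hiso]⟩
  obtain ⟨e, he⟩ := even_dim hfree (fun u v => by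
    rw [polarBilin_apply_apply, polarBilin_apply_apply, polar_comm]) (QuadModels.pnd_res Q hW)
  rcases Nat.eq_zero_or_pos e with rfl | he0
  · refine ⟨by simp [he], fun j hj hd => ?_⟩
    have h1 := hfree.order_pos
    rw [he] at hd
    exfalso
    have : 0 < unit F r := by unfold unit; split_ifs <;> omega
    have := Nat.mul_pos this hj
    omega
  rw [← two_mul] at he
  have htype := free_type hW hinv hr hr2 hr0 hgr hfix hiso he0 he
  have hipos := hfree.order_pos
  obtain ⟨hi1, hi2⟩ : orderOf (Fintype.card F : ZMod r) ∣ 2 * e ∧ (Odd (orderOf (Fintype.card F : ZMod r)) →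
      orderOf (Fintype.card F : ZMod r) ∣ e) := by
    have h : orderOf (Fintype.card F : ZMod r) ∣ 2 * e := orderOf_dvd_of_pow_eq_one (by
      rcases htype with ⟨-, h⟩ | ⟨-, h⟩ <;> rw [two_mul, pow_add, h] <;> ring)
    exact ⟨h, fun ho => (Nat.Coprime.dvd_mul_left (Nat.coprime_two_right.mpr ho)).mp h⟩
  refine ⟨?_, fun j hj hd => ?_⟩
  · rw [he, unit]
    split_ifs with h
    · exact hi1
    · exact Nat.mul_dvd_mul_left 2 (hi2 (Nat.not_even_iff_odd.mp h))
  rw [he, unit] at hd
  rcases Nat.even_or_odd (orderOf (Fintype.card F : ZMod r)) with hev | hod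
  · obtain ⟨h, hh⟩ := hev
    rw [← two_mul] at hh
    rw [if_pos ⟨h, by omega⟩, hh, mul_assoc] at hd
    have hqh := half_pow (F := F) hr hh (by omega)
    have hqe : (Fintype.card F : ZMod r) ^ e = (-1) ^ j := by
      rw [show e = h * j by omega, pow_mul, hqh]
    rw [or_iff_right (Nat.not_odd_iff_even.mpr ⟨h, by omega⟩)]
    rcases Nat.even_or_odd j with hje | hjo
    · rw [hje.neg_one_pow] at hqe
      rcases htype with ⟨hp, -⟩ | ⟨-, h'⟩
      · exact iff_of_true hp hje
      · exact absurd (h'.symm.trans hqe) (minus_one_ne_one hr hr2)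
    · rw [hjo.neg_one_pow] at hqe
      rcases htype with ⟨-, h'⟩ | ⟨hp, -⟩
      · exact absurd (hqe.symm.trans h') (minus_one_ne_one hr hr2)
      · exact iff_of_false hp (Nat.not_even_iff_odd.mpr hjo)
  · rcases htype with ⟨hp, -⟩ | ⟨-, h'⟩
    · exact iff_of_true hp (Or.inl hod)
    · obtain ⟨t, ht⟩ := hi2 hod
      rw [ht, pow_mul, pow_orderOf_eq_one, one_pow] at h'
      exact absurd h'.symm (minus_one_ne_one hr hr2)

theorem aeval_pow_card (g : Module.End F V) (P : F[X]) : ∀ n : ℕ,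
    (aeval g P) ^ (Fintype.card F ^ n) = aeval (g ^ (Fintype.card F ^ n)) P := by
  intro n
  induction n with
  | zero => simp
  | succ n ih => rw [pow_succ, pow_mul, ih, ← map_pow, ← FiniteField.expand_card, expand_aeval, ← pow_mul]

theorem aeval_adjoint {B : LinearMap.BilinForm F V} {g g' : Module.End F V} (h : ∀ u v, B (g' u) v = B u (g v))
    (P : F[X]) : ∀ u v, B (aeval g' P u) v = B u (aeval g P v) := by
  induction P using Polynomial.induction_on' with
  | add a b ha hb => intro u v; simp [ha, hb]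
  | monomial m a =>
    have hm : ∀ (k : ℕ) u v, B ((g' ^ k) u) v = B u ((g ^ k) v) := by
      intro k
      induction k with
      | zero => intro u v; rfl
      | succ k ih => intro u v; rw [pow_succ, Module.End.mul_apply, ih, h, pow_succ', Module.End.mul_apply]
    intro u v
    simp [aeval_monomial, Module.algebraMap_end_apply, hm]

/-- A free space contains a nondegenerate unit. -/
theorem exists_unit {B : LinearMap.BilinForm F V} {g : Module.End F V} (hg : Free.IsFree B g r)
    (h2 : (2 : F) ≠ 0) (hs : ∀ u v, B v u = B u v) (hnd : ∀ v, (∀ w, B v w = 0) → v = 0) (hV : 0 < finrank F V) :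
    ∃ U : Submodule F V, (∀ x ∈ U, g x ∈ U) ∧ finrank F U = unit F r ∧ U ⊓ B.orthogonal U = ⊥ := by
  classical
  have hB : Free.Refl B := ⟨⟨1, fun u v => by rw [hs, one_mul]⟩, hnd⟩
  have hrestr : ∀ (U : Submodule F V) (hU : ∀ x ∈ U, g x ∈ U), U ⊓ B.orthogonal U = ⊥ → Even (finrank F U) :=
    fun U hU hn => even_dim (hg.restrict hU) (fun u v => hs u v) (Free.refl_restrict hB hn).nondeg
  have hne : (⊤ : Submodule F V) ≠ ⊥ := fun h => by
    rw [← finrank_top F V, h, finrank_bot] at hV
    exact lt_irrefl _ hV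
  obtain ⟨W, -, hW, hWd⟩ := (hg.exists_irred (U := ⊤) fun _ _ => Submodule.mem_top).2 hne
  rcases hg.ts_or_nondeg hW hWd with hts | hn
  swap
  · refine ⟨W, hW, ?_, hn⟩
    rw [unit, if_pos (hWd ▸ hrestr W hW hn), hWd]
  obtain ⟨W', hW', hWd', hdis, hH⟩ := hg.exists_partner hB hW hWd hts
  have hHinv : ∀ x ∈ W ⊔ W', g x ∈ W ⊔ W' := by
    intro x hx
    obtain ⟨y, hy, z, hz, rfl⟩ := Submodule.mem_sup.mp hx
    rw [map_add]
    exact Submodule.mem_sup.mpr ⟨_, hW y hy, _, hW' z hz, rfl⟩
  have hHd : finrank F ↥(W ⊔ W') = 2 * orderOf (Fintype.card F : ZMod r) := by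
    have h := Submodule.finrank_sup_add_finrank_inf_eq W W'
    rw [hdis, finrank_bot, hWd, hWd'] at h
    omega
  by_cases he : Even (orderOf (Fintype.card F : ZMod r))
  swap
  · exact ⟨W ⊔ W', hHinv, by rw [unit, if_neg he, hHd], hH⟩
  obtain ⟨n, hn2⟩ := he
  rw [← two_mul] at hn2
  have hn0 : 0 < n := by have := hg.order_pos; omega
  obtain ⟨f, hf⟩ : ∃ f, f = LinearMap.charpoly (g.restrict hW') := ⟨_, rfl⟩
  have hfd : f.natDegree = orderOf (Fintype.card F : ZMod r) := by rw [hf, LinearMap.charpoly_natDegree, hWd']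
  have hres : ∀ (U : Submodule F V) (hU : ∀ x ∈ U, g x ∈ U) (P : F[X]) (x : U),
      ((aeval (g.restrict hU) P x : U) : V) = aeval g P (x : V) := by
    intro U hU P x
    induction P using Polynomial.induction_on' with
    | add a b ha hb => simp [ha, hb]
    | monomial m a =>
      simp only [aeval_monomial, Module.End.mul_apply, Module.algebraMap_end_apply, SetLike.val_smul]
      rw [Free.restrict_pow hU m x]
  have hkill' : ∀ x ∈ W', aeval g f x = 0 := fun x hx => by
    rw [← hres W' hW' f ⟨x, hx⟩, hf, LinearMap.aeval_self_charpoly]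
    rfl
  have hinvP : ∀ (U : Submodule F V), (∀ x ∈ U, g x ∈ U) → ∀ (P : F[X]) x, x ∈ U → aeval g P x ∈ U :=
    fun U hU P x hx => by rw [← hres U hU P ⟨x, hx⟩]; exact Subtype.coe_prop _
  obtain ⟨g', hg'⟩ : ∃ g', g' = g ^ (r - 1) := ⟨_, rfl⟩
  have hadj : ∀ u v, B (g' u) v = B u (g v) := fun u v => by
    rw [← hg.isometry (g' u) v, hg', ← Module.End.mul_apply, ← pow_succ',
      Nat.sub_add_cancel hg.prime.one_le, hg.pow_eq, Module.End.one_apply]
  have hg'pow : g ^ (Fintype.card F ^ n) = g' := by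
    haveI : Fact r.Prime := ⟨hg.prime⟩
    have e1 : ((Fintype.card F ^ n : ℕ) : ZMod r) = ((r - 1 : ℕ) : ZMod r) := by
      rw [Nat.cast_pow, half_pow hg.prime hn2 hn0, Nat.cast_sub hg.prime.one_le, ZMod.natCast_self, Nat.cast_one,
        zero_sub]
    rw [hg', pow_eq_pow_mod (Fintype.card F ^ n) hg.pow_eq, (ZMod.natCast_eq_natCast_iff' _ _ _).mp e1,
      Nat.mod_eq_of_lt (by have := hg.prime.one_le; omega)]
  have hnilW : ∀ x ∈ W, ((aeval g f) ^ (Fintype.card F ^ n)) x = 0 := by
    intro x hx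
    rw [aeval_pow_card, hg'pow]
    have hmem : aeval g' f x ∈ W := by
      rw [← hg'pow, ← aeval_pow_card, ← map_pow]
      exact hinvP W hW _ x hx
    refine (Submodule.mem_bot F).mp (hH.le ⟨Submodule.mem_sup_left hmem, fun z hz => ?_⟩)
    obtain ⟨a, ha, b, hb, rfl⟩ := Submodule.mem_sup.mp hz
    show B (a + b) (aeval g' f x) = 0
    rw [map_add, LinearMap.add_apply, hts a ha _ hmem, hs, aeval_adjoint hadj, hkill' b hb, map_zero, add_zero]
  have hkillW : ∀ x ∈ W, aeval g f x = 0 := by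
    by_contra hc
    push Not at hc
    obtain ⟨x, hx, hx0⟩ := hc
    obtain ⟨T, hT⟩ : ∃ T, T = aeval (g.restrict hW) f := ⟨_, rfl⟩
    have hT0 : T ≠ 0 := fun h => hx0 (by rw [← hres W hW f ⟨x, hx⟩, ← hT, h]; rfl)
    have hbij := Free.exists_cyclic (hg.restrict hW) hWd T (fun y => by
      refine Subtype.ext ?_
      show ((T (g.restrict hW y) : W) : V) = g ((T y : W) : V)
      rw [hT, hres, hres]
      show aeval g f (g (y : V)) = g (aeval g f (y : V))
      have h1 : aeval g (f * X) = aeval g (X * f) := by rw [mul_comm]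
      rw [map_mul, map_mul, aeval_X] at h1
      exact LinearMap.congr_fun h1 _) hT0
    have hinj : ∀ k : ℕ, Function.Injective ⇑(T ^ k) := by
      intro k
      induction k with
      | zero => exact fun a b h => h
      | succ k ih => rw [pow_succ]; exact ih.comp hbij.1
    have hTk : ∀ (k : ℕ) (y : W), (((T ^ k) y : W) : V) = ((aeval g f) ^ k) (y : V) := by
      intro k y
      rw [← map_pow, hT, ← map_pow, hres]
    have := hinj (Fintype.card F ^ n) (a₁ := ⟨x, hx⟩) (a₂ := 0) (Subtype.ext (by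
      rw [map_zero, hTk]
      exact hnilW x hx))
    exact hx0 (by rw [show x = 0 from congrArg Subtype.val this, map_zero])
  have hkillH : ∀ x ∈ W ⊔ W', aeval g f x = 0 := by
    intro x hx
    obtain ⟨y, hy, z, hz, rfl⟩ := Submodule.mem_sup.mp hx
    rw [map_add, hkillW y hy, hkill' z hz, add_zero]
  obtain ⟨v, hv, hvv⟩ : ∃ v ∈ W ⊔ W', B v v ≠ 0 := by
    by_contra hc
    push Not at hc
    obtain ⟨x, hx, hx0⟩ := Submodule.exists_mem_ne_zero_of_ne_bot (p := W ⊔ W') fun h => by
      rw [h, finrank_bot] at hHd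
      have := hg.order_pos
      omega
    refine hx0 ((Submodule.mem_bot F).mp (hH.le ⟨hx, fun y hy => ?_⟩))
    have h := hc (y + x) ((W ⊔ W').add_mem hy hx)
    simp only [map_add, LinearMap.add_apply, hc x hx, hc y hy, hs y x, zero_add, add_zero, ← two_mul] at h
    exact (mul_eq_zero.mp h).resolve_left h2
  let ev : F[X] →ₗ[F] V := (LinearMap.applyₗ v).comp (aeval g).toLinearMap
  have hfm : f.Monic := hf ▸ LinearMap.charpoly_monic _
  have hrange : LinearMap.range ev = (Polynomial.degreeLT F (orderOf (Fintype.card F : ZMod r))).map ev := by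
    refine le_antisymm ?_ (LinearMap.map_le_range)
    rintro _ ⟨P, rfl⟩
    refine ⟨P %ₘ f, Polynomial.mem_degreeLT.mpr ?_, ?_⟩
    · rw [← hfd, ← degree_eq_natDegree hfm.ne_zero]
      exact degree_modByMonic_lt P hfm
    · show aeval g (P %ₘ f) v = aeval g P v
      conv_rhs => rw [← modByMonic_add_div P f, map_add, map_mul, LinearMap.add_apply, Module.End.mul_apply]
      rw [hkillH _ (hinvP _ hHinv _ v hv), add_zero]
  have hUinv : ∀ x ∈ LinearMap.range ev, g x ∈ LinearMap.range ev := by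
    rintro _ ⟨P, rfl⟩
    refine ⟨X * P, ?_⟩
    show aeval g (X * P) v = g (aeval g P v)
    rw [map_mul, aeval_X, Module.End.mul_apply]
  have hvU : v ∈ LinearMap.range ev := ⟨1, by show aeval g (1 : F[X]) v = v; rw [map_one]; rfl⟩
  have hUd : finrank F (LinearMap.range ev) = orderOf (Fintype.card F : ZMod r) := by
    have h1 : finrank F (LinearMap.range ev) ≤ orderOf (Fintype.card F : ZMod r) := by
      rw [hrange]
      haveI : Module.Finite F (Polynomial.degreeLT F (orderOf (Fintype.card F : ZMod r))) :=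
        Module.Finite.equiv (Polynomial.degreeLTEquiv F _).symm
      refine (Submodule.finrank_map_le _ _).trans ?_
      rw [(Polynomial.degreeLTEquiv F _).finrank_eq, Module.finrank_fin_fun]
    refine le_antisymm h1 (Nat.le_of_dvd ?_ (hg.exists_irred hUinv).1)
    refine Nat.pos_of_ne_zero fun h0 => hvv ?_
    rw [Submodule.finrank_eq_zero] at h0
    rw [show v = 0 from (Submodule.mem_bot F).mp (h0.le hvU)]
    simp
  rcases hg.ts_or_nondeg hUinv hUd with h | h
  · exact absurd (h v hvU v hvU) hvv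
  · exact ⟨_, hUinv, by rw [hUd, unit, if_pos ⟨n, by omega⟩], h⟩

/-- A free space contains nondegenerate invariant subspaces of every number of units. -/
theorem exists_units : ∀ (j : ℕ) {V : Type u} [AddCommGroup V] [Module F V] [FiniteDimensional F V]
    {B : LinearMap.BilinForm F V} {g : Module.End F V} {r : ℕ}, Free.IsFree B g r → (2 : F) ≠ 0 →
    (∀ u v, B v u = B u v) → (∀ v, (∀ w, B v w = 0) → v = 0) → unit F r * j ≤ finrank F V →
    ∃ U : Submodule F V, (∀ x ∈ U, g x ∈ U) ∧ finrank F U = unit F r * j ∧ U ⊓ B.orthogonal U = ⊥ := by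
  intro j
  induction j with
  | zero =>
    intro V _ _ _ B g r _ _ _ _ _
    exact ⟨⊥, fun x hx => by rw [(Submodule.mem_bot F).mp hx, map_zero]; exact zero_mem _, by simp, bot_inf_eq _⟩
  | succ j ih =>
    intro V _ _ _ B g r hg h2 hs hnd hle
    have hupos : 0 < unit F r := by
      have := hg.order_pos
      unfold unit
      split_ifs <;> omega
    rw [Nat.mul_succ] at hle ⊢
    obtain ⟨U₁, hU₁, hd₁, hn₁⟩ := exists_unit hg h2 hs hnd (by omega)
    have hB : Free.Refl B := ⟨⟨1, fun u v => by rw [hs, one_mul]⟩, hnd⟩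
    obtain ⟨hc, hdim⟩ := Free.orth_inf_of_compl hB hn₁
    have hinv : ∀ x ∈ B.orthogonal U₁, g x ∈ B.orthogonal U₁ := fun x hx => hg.orth_invariant hU₁ hx
    obtain ⟨U₂, hU₂, hd₂, hn₂⟩ := ih (hg.restrict hinv) h2 (fun u v => hs u v) (Free.refl_restrict hB hc).nondeg
      (by omega)
    have hperp : ∀ a ∈ U₁, ∀ b ∈ U₂.map (B.orthogonal U₁).subtype, B a b = 0 := by
      rintro a ha _ ⟨b, -, rfl⟩
      exact b.2 a ha
    refine ⟨U₁ ⊔ U₂.map (B.orthogonal U₁).subtype, ?_, ?_, ?_⟩
    · intro x hx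
      obtain ⟨a, ha, _, ⟨b, hb, rfl⟩, rfl⟩ := Submodule.mem_sup.mp hx
      rw [map_add]
      exact Submodule.mem_sup.mpr ⟨_, hU₁ a ha, _, ⟨_, hU₂ b hb, rfl⟩, rfl⟩
    · have hdis : U₁ ⊓ U₂.map (B.orthogonal U₁).subtype = ⊥ := eq_bot_iff.mpr fun x hx =>
        hn₁.le ⟨hx.1, (Submodule.map_subtype_le _ U₂) hx.2⟩
      have h := Submodule.finrank_sup_add_finrank_inf_eq U₁ (U₂.map (B.orthogonal U₁).subtype)
      rw [hdis, finrank_bot, Submodule.finrank_map_subtype_eq, hd₁, hd₂] at h
      omega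
    · refine eq_bot_iff.mpr fun x hx => (Submodule.mem_bot F).mpr ?_
      obtain ⟨a, ha, _, ⟨b, hb, rfl⟩, rfl⟩ := Submodule.mem_sup.mp hx.1
      have ha0 : a = 0 := (Submodule.mem_bot F).mp (hn₁.le ⟨ha, fun z hz => by
        have h : B z (a + (b : V)) = 0 := hx.2 z (Submodule.mem_sup_left hz)
        rw [map_add, show B z (b : V) = 0 from b.2 z hz, add_zero] at h
        exact h⟩)
      have hb0 : b = 0 := (Submodule.mem_bot F).mp (hn₂.le ⟨hb, fun z hz => by
        have h : B (z : V) (a + (b : V)) = 0 := hx.2 _ (Submodule.mem_sup_right ⟨z, hz, rfl⟩)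
        rw [ha0, zero_add] at h
        exact h⟩)
      rw [ha0, hb0]; simp

end Cfsg.Agent.Classical.Elusive.OFree
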