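import Cfsg.Agent.Lib.Classical.Elusive.SympSetup
import Cfsg.Agent.Lib.Classical.SymplecticCount

/-!
# Normal forms of symplectic involutions and of skew square roots of scalars
-/

set_option autoImplicit false
set_option linter.unusedSectionVars false

namespace Cfsg.Agent.Classical.SkewBlocks

open Module Matrix Cfsg Cfsg.Agent.Classical

universe u

variable {F : Type u} [Field F]

section Abstract

variable {V : Type u} [AddCommGroup V] [Module F V] [FiniteDimensional F V] {B : LinearMap.BilinForm F V}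

/-- A symplectic basis of pairs adapted to an operator which is self-adjoint or skew. -/
theorem exists_fam (hB : SpCount.IsAltND B) (T : Module.End F V) {c : F} (hc : c ≠ 0)
    (hT : ∀ u v, B (T u) v = c * B u (T v)) (φ : V → V → Prop)
    (hstep : ∀ W : Submodule F V, (∀ x ∈ W, T x ∈ W) → (∀ x ∈ W, (∀ y ∈ W, B x y = 0) → x = 0) → W ≠ ⊥ →
      ∃ e ∈ W, ∃ e' ∈ W, B e' e = 1 ∧ (∃ a b : F, T e = a • e + b • e') ∧ (∃ a b : F, T e' = a • e + b • e') ∧
        φ e e') :
    ∀ (k : ℕ) (W : Submodule F V), (∀ x ∈ W, T x ∈ W) → (∀ x ∈ W, (∀ y ∈ W, B x y = 0) → x = 0) →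
      finrank F W = 2 * k →
      ∃ f : Fin k ⊕ Fin k → V, (∀ s, f s ∈ W) ∧ (∀ i j, B (f (Sum.inl i)) (f (Sum.inl j)) = 0) ∧
        (∀ i j, B (f (Sum.inr i)) (f (Sum.inr j)) = 0) ∧
        (∀ i j, B (f (Sum.inr i)) (f (Sum.inl j)) = if i = j then 1 else 0) ∧
        ∀ j, φ (f (Sum.inl j)) (f (Sum.inr j)) := by
  intro k
  induction k with
  | zero =>
    intro W _ _ _
    exact ⟨Sum.elim Fin.elim0 Fin.elim0, fun s => s.elim (fun i => i.elim0) fun i => i.elim0, fun i => i.elim0,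
      fun i => i.elim0, fun i => i.elim0, fun i => i.elim0⟩
  | succ k ih =>
    intro W hW hnd hd
    obtain ⟨e, he, e', he', h1, ⟨a, b, hTe⟩, ⟨a', b', hTe'⟩, hφ⟩ := hstep W hW hnd fun h => by
      rw [h, finrank_bot] at hd; omega
    have h2 : B e e' = -1 := by rw [hB.swap e e', h1]
    let W' : Submodule F V := W ⊓ (LinearMap.ker (B e) ⊓ LinearMap.ker (B e'))
    have hmem : ∀ y, y ∈ W' ↔ y ∈ W ∧ B e y = 0 ∧ B e' y = 0 := fun y => by
      simp [W', Submodule.mem_inf]
    have hsplit : ∀ y ∈ W, y - B e' y • e + B e y • e' ∈ W' := fun y hy => by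
      rw [hmem]
      refine ⟨W.add_mem (W.sub_mem hy (W.smul_mem _ he)) (W.smul_mem _ he'), ?_, ?_⟩
      · simp only [map_add, map_sub, map_smul, hB.self, h2, smul_eq_mul]; ring
      · simp only [map_add, map_sub, map_smul, hB.self, h1, smul_eq_mul]; ring
    have hW' : ∀ y ∈ W', T y ∈ W' := by
      intro y hy
      obtain ⟨hyW, hy1, hy2⟩ := (hmem y).mp hy
      refine (hmem _).mpr ⟨hW y hyW, ?_, ?_⟩
      · have h := hT e y
        rw [hTe] at h
        simp only [map_add, map_smul, LinearMap.add_apply, LinearMap.smul_apply, hy1, hy2, smul_zero, add_zero] at h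
        exact (mul_eq_zero.mp h.symm).resolve_left hc
      · have h := hT e' y
        rw [hTe'] at h
        simp only [map_add, map_smul, LinearMap.add_apply, LinearMap.smul_apply, hy1, hy2, smul_zero, add_zero] at h
        exact (mul_eq_zero.mp h.symm).resolve_left hc
    have hnd' : ∀ x ∈ W', (∀ y ∈ W', B x y = 0) → x = 0 := by
      intro x hx hxy
      obtain ⟨hxW, hx1, hx2⟩ := (hmem x).mp hx
      refine hnd x hxW fun y hy => ?_
      have h := hxy _ (hsplit y hy)
      simp only [map_add, map_sub, map_smul, hB.swap x e, hB.swap x e', hx1, hx2, neg_zero, smul_zero, sub_zero,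
        add_zero] at h
      exact h
    let ψ : W →ₗ[F] F × F := ((B e).comp W.subtype).prod ((B e').comp W.subtype)
    have hψ : LinearMap.range ψ = ⊤ := by
      rw [eq_top_iff]
      rintro ⟨s, t⟩ -
      refine ⟨t • (⟨e, he⟩ : W) - s • (⟨e', he'⟩ : W), ?_⟩
      simp [ψ, hB.self, h1, h2]
    have hker : finrank F (LinearMap.ker ψ) = finrank F W' := by
      have hle : W' ≤ W := inf_le_left
      rw [← (Submodule.comapSubtypeEquivOfLe hle).finrank_eq]
      have e : LinearMap.ker ψ = Submodule.comap W.subtype W' := by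
        ext y
        simp [ψ, hmem, Prod.ext_iff]
      rw [e]
    have hrk := ψ.finrank_range_add_finrank_ker
    rw [hψ, finrank_top, Module.finrank_prod, finrank_self, hker, hd] at hrk
    obtain ⟨f, hfW, hll, hrr, hrl, hfφ⟩ := ih W' hW' hnd' (by omega)
    have hperp : ∀ s, B e (f s) = 0 ∧ B e' (f s) = 0 ∧ B (f s) e = 0 ∧ B (f s) e' = 0 := fun s => by
      obtain ⟨-, h3, h4⟩ := (hmem _).mp (hfW s)
      exact ⟨h3, h4, by rw [hB.swap, h3, neg_zero], by rw [hB.swap, h4, neg_zero]⟩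
    refine ⟨Sum.elim (Fin.cons e fun j => f (Sum.inl j)) (Fin.cons e' fun j => f (Sum.inr j)), ?_, ?_, ?_, ?_, ?_⟩
    · rintro (i | i) <;> refine Fin.cases ?_ (fun j => ?_) i <;>
        first | exact he | exact he' | exact ((hmem _).mp (hfW _)).1
    · intro i j
      refine Fin.cases (Fin.cases ?_ (fun j => ?_) j) (fun i => Fin.cases ?_ (fun j => ?_) j) i <;>
        simp [hB.self, hll, hperp]
    · intro i j
      refine Fin.cases (Fin.cases ?_ (fun j => ?_) j) (fun i => Fin.cases ?_ (fun j => ?_) j) i <;>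
        simp [hB.self, hrr, hperp]
    · intro i j
      refine Fin.cases (Fin.cases ?_ (fun j => ?_) j) (fun i => Fin.cases ?_ (fun j => ?_) j) i <;>
        simp [h1, hrl, hperp, (Fin.succ_ne_zero _).symm, Fin.succ_ne_zero]
    · intro j
      refine Fin.cases ?_ (fun j => ?_) j
      · simpa using hφ
      · simpa using hfφ j

end Abstract

variable {d : ℕ}

/-- A family with the Gram matrix of the standard form gives a symplectic change of basis. -/
theorem exists_conj (f : Fin d ⊕ Fin d → (Fin d ⊕ Fin d → F))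
    (hll : ∀ i j, sympForm d F (f (Sum.inl i)) (f (Sum.inl j)) = 0)
    (hrr : ∀ i j, sympForm d F (f (Sum.inr i)) (f (Sum.inr j)) = 0)
    (hrl : ∀ i j, sympForm d F (f (Sum.inr i)) (f (Sum.inl j)) = if i = j then 1 else 0)
    (A N : Matrix (Fin d ⊕ Fin d) (Fin d ⊕ Fin d) F) (hA : ∀ s, A *ᵥ f s = ∑ t, N t s • f t) :
    ∃ g ∈ Cfsg.spGL d F, A * (g : Matrix (Fin d ⊕ Fin d) (Fin d ⊕ Fin d) F) =
      (g : Matrix (Fin d ⊕ Fin d) (Fin d ⊕ Fin d) F) * N := by
  classical
  let P : Matrix (Fin d ⊕ Fin d) (Fin d ⊕ Fin d) F := Matrix.of fun t s => f s t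
  have hcol : ∀ s, P *ᵥ Pi.single s 1 = f s := fun s => by
    rw [Matrix.mulVec_single_one]; rfl
  have hstd : ∀ s t, sympForm d F (f s) (f t) =
      sympForm d F (Pi.single s (1 : F)) (Pi.single t 1) := by
    rintro (i | i) (j | j)
    · rw [hll]; simp [Lead.Symp.form_eq, Pi.single_apply]
    · rw [Lead.Symp.form_swap, hrl]; simp [Lead.Symp.form_eq, Pi.single_apply, eq_comm]
    · rw [hrl]; simp [Lead.Symp.form_eq, Pi.single_apply, eq_comm]
    · rw [hrr]; simp [Lead.Symp.form_eq, Pi.single_apply]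
  have hPmem : P ∈ Matrix.symplecticGroup (Fin d) F := by
    rw [SymplecticGroup.mem_iff']
    refine Matrix.ext fun i j => ?_
    have h : sympForm d F (P *ᵥ Pi.single i 1) (P *ᵥ Pi.single j 1) =
        sympForm d F (Pi.single i (1 : F)) (Pi.single j 1) := by rw [hcol, hcol, hstd]
    rw [sympForm, sympForm, Matrix.mulVec_mulVec, ← Matrix.vecMul_transpose, ← Matrix.dotProduct_mulVec,
      Matrix.mulVec_mulVec, ← Matrix.mul_assoc] at h
    simpa [dotProduct, Pi.single_apply] using h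
  let A' : ↥(Matrix.symplecticGroup (Fin d) F) := ⟨P, hPmem⟩
  refine ⟨⟨P, (A'⁻¹).1, by rw [show P = A'.1 from rfl, ← Submonoid.coe_mul, mul_inv_cancel, Submonoid.coe_one],
    by rw [show P = A'.1 from rfl, ← Submonoid.coe_mul, inv_mul_cancel, Submonoid.coe_one]⟩,
    fun u v => Lead.Symp.form_preserved hPmem u v, ?_⟩
  refine Matrix.ext_of_mulVec_single fun s => ?_
  show (A * P) *ᵥ Pi.single s 1 = (P * N) *ᵥ Pi.single s 1
  rw [← Matrix.mulVec_mulVec, hcol, hA, ← Matrix.mulVec_mulVec, Matrix.mulVec_single_one]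
  funext t
  simp [Matrix.mulVec, dotProduct, P, mul_comm]

/-- The standard skew square root of `ν`. -/
def S (d : ℕ) (ν : F) : Matrix (Fin d ⊕ Fin d) (Fin d ⊕ Fin d) F := Matrix.fromBlocks 0 (ν • 1) 1 0

theorem S_sq (ν : F) : S d ν * S d ν = ν • 1 := by
  simp [S, Matrix.fromBlocks_multiply, ← Matrix.fromBlocks_one, Matrix.fromBlocks_smul]

variable [Fintype F]

theorem exists_norm {ν : F} (hν : ν ≠ 0) (h2 : (2 : F) ≠ 0) (c : F) : ∃ a b : F, a ^ 2 - ν * b ^ 2 = c := by
  classical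
  have hR : Fintype.card F % 2 = 1 := by
    refine FiniteField.odd_card_of_char_ne_two fun h => h2 ?_
    have := ringChar.Nat.cast_ringChar (R := F)
    rw [h] at this
    exact_mod_cast this
  obtain ⟨a, b, hab⟩ := FiniteField.exists_root_sum_quadratic (f := (Polynomial.X ^ 2 : Polynomial F))
    (g := Polynomial.C (-ν) * Polynomial.X ^ 2 + Polynomial.C (-c)) (Polynomial.degree_X_pow 2)
    (by compute_degree! <;> simpa using hν) hR
  refine ⟨a, b, ?_⟩
  simp at hab
  linear_combination hab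

/-- Skew square roots of a scalar are all conjugate. -/
theorem exists_skew_normal {ν : F} (hν : ν ≠ 0) (h2 : (2 : F) ≠ 0) {A : Matrix (Fin d ⊕ Fin d) (Fin d ⊕ Fin d) F}
    (hA : A * A = ν • 1) (hskew : ∀ u v, sympForm d F (A *ᵥ u) v = -sympForm d F u (A *ᵥ v)) :
    ∃ g ∈ Cfsg.spGL d F, A * (g : Matrix (Fin d ⊕ Fin d) (Fin d ⊕ Fin d) F) =
      (g : Matrix (Fin d ⊕ Fin d) (Fin d ⊕ Fin d) F) * S d ν := by
  classical
  set B := Elusive.sympB d F with hBdef
  have hB : SpCount.IsAltND B := ⟨Elusive.sympB_self, Elusive.sympB_nondeg⟩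
  set T := Matrix.toLin' A with hTdef
  have hTT : ∀ u, T (T u) = ν • u := fun u => by
    rw [hTdef, Matrix.toLin'_apply, Matrix.toLin'_apply, Matrix.mulVec_mulVec, hA, Matrix.smul_mulVec,
      Matrix.one_mulVec]
  have hT : ∀ u v, B (T u) v = (-1) * B u (T v) := fun u v => by
    rw [neg_one_mul]
    exact hskew u v
  suffices hstep : ∀ W : Submodule F (Fin d ⊕ Fin d → F), (∀ x ∈ W, T x ∈ W) →
      (∀ x ∈ W, (∀ y ∈ W, B x y = 0) → x = 0) → W ≠ ⊥ →
      ∃ e ∈ W, ∃ e' ∈ W, B e' e = 1 ∧ (∃ a b : F, T e = a • e + b • e') ∧ (∃ a b : F, T e' = a • e + b • e') ∧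
        e' = T e by
    obtain ⟨f, -, hll, hrr, hrl, hφ⟩ := exists_fam hB T (neg_ne_zero.mpr one_ne_zero) hT
      (fun e e' => e' = T e) hstep d ⊤ (fun _ _ => trivial) (fun x _ h => hB.nondeg x fun y => h y trivial) (by
        rw [finrank_top, finrank_fintype_fun_eq_card, Fintype.card_sum, Fintype.card_fin]; ring)
    refine exists_conj f hll hrr hrl A (S d ν) ?_
    rintro (j | j)
    · have h : A *ᵥ f (Sum.inl j) = f (Sum.inr j) := (hφ j).symm
      rw [h]
      simp [S, Fintype.sum_sum_type, Matrix.one_apply]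
    · have h : A *ᵥ f (Sum.inr j) = ν • f (Sum.inl j) := by
        rw [hφ j]
        exact hTT _
      rw [h]
      simp [S, Fintype.sum_sum_type, Matrix.one_apply]
  intro W hW hnd hne
  obtain ⟨u, hu, huT⟩ : ∃ u ∈ W, B (T u) u ≠ 0 := by
    by_contra hc
    push Not at hc
    obtain ⟨x, hx, hx0⟩ := Submodule.exists_mem_ne_zero_of_ne_bot hne
    refine hx0 ?_
    have hTx : T x = 0 := hnd _ (hW x hx) fun v hv => by
      have e := hc (x + v) (W.add_mem hx hv)
      simp only [map_add, LinearMap.add_apply, hc x hx, hc v hv, zero_add, add_zero] at e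
      have e2 : B (T v) x = B (T x) v := by
        rw [hT v x, hB.swap v (T x)]; ring
      rw [e2, ← two_mul] at e
      exact (mul_eq_zero.mp e).resolve_left h2
    have h := hTT x
    rw [hTx, map_zero] at h
    exact (smul_eq_zero.mp h.symm).resolve_left hν
  obtain ⟨a, b, hab⟩ := exists_norm hν h2 (B (T u) u)⁻¹
  have hTe : T (a • u + b • T u) = (ν * b) • u + a • T u := by
    rw [map_add, map_smul, map_smul, hTT, smul_smul, add_comm, mul_comm]
  refine ⟨a • u + b • T u, W.add_mem (W.smul_mem _ hu) (W.smul_mem _ (hW u hu)), _,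
    hW _ (W.add_mem (W.smul_mem _ hu) (W.smul_mem _ (hW u hu))), ?_, ⟨0, 1, by rw [zero_smul, one_smul, zero_add]⟩,
    ⟨ν, 0, by rw [hTT, zero_smul, add_zero]⟩, rfl⟩
  rw [hTe]
  simp only [map_add, map_smul, LinearMap.add_apply, LinearMap.smul_apply, smul_eq_mul, hB.self,
    hB.swap u (T u)]
  have := inv_mul_cancel₀ huT
  rw [← hab] at this
  linear_combination this

/-- Symplectic involutions are conjugate to diagonal signs. -/
theorem exists_invol_normal (h2 : (2 : F) ≠ 0) {A : Matrix (Fin d ⊕ Fin d) (Fin d ⊕ Fin d) F}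
    (hA : A * A = 1) (hself : ∀ u v, sympForm d F (A *ᵥ u) v = sympForm d F u (A *ᵥ v)) :
    ∃ g ∈ Cfsg.spGL d F, ∃ s : Fin d → F, A * (g : Matrix (Fin d ⊕ Fin d) (Fin d ⊕ Fin d) F) =
      (g : Matrix (Fin d ⊕ Fin d) (Fin d ⊕ Fin d) F) * Matrix.diagonal (Sum.elim s s) := by
  classical
  set B := Elusive.sympB d F with hBdef
  have hB : SpCount.IsAltND B := ⟨Elusive.sympB_self, Elusive.sympB_nondeg⟩
  set T := Matrix.toLin' A with hTdef
  have hTT : ∀ u, T (T u) = u := fun u => by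
    rw [hTdef, Matrix.toLin'_apply, Matrix.toLin'_apply, Matrix.mulVec_mulVec, hA, Matrix.one_mulVec]
  have hT : ∀ u v, B (T u) v = 1 * B u (T v) := fun u v => by
    rw [one_mul]
    exact hself u v
  suffices hstep : ∀ W : Submodule F (Fin d ⊕ Fin d → F), (∀ x ∈ W, T x ∈ W) →
      (∀ x ∈ W, (∀ y ∈ W, B x y = 0) → x = 0) → W ≠ ⊥ →
      ∃ e ∈ W, ∃ e' ∈ W, B e' e = 1 ∧ (∃ a b : F, T e = a • e + b • e') ∧ (∃ a b : F, T e' = a • e + b • e') ∧
        ∃ σ : F, T e = σ • e ∧ T e' = σ • e' by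
    obtain ⟨f, -, hll, hrr, hrl, hφ⟩ := exists_fam hB T one_ne_zero hT
      (fun e e' => ∃ σ : F, T e = σ • e ∧ T e' = σ • e') hstep d ⊤ (fun _ _ => trivial)
      (fun x _ h => hB.nondeg x fun y => h y trivial) (by
        rw [finrank_top, finrank_fintype_fun_eq_card, Fintype.card_sum, Fintype.card_fin]; ring)
    choose s hs hs' using hφ
    obtain ⟨g, hg, e⟩ := exists_conj f hll hrr hrl A (Matrix.diagonal (Sum.elim s s)) (by
      rintro (j | j)
      · rw [show A *ᵥ f (Sum.inl j) = s j • f (Sum.inl j) from hs j]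
        simp [Fintype.sum_sum_type, Matrix.diagonal_apply]
      · rw [show A *ᵥ f (Sum.inr j) = s j • f (Sum.inr j) from hs' j]
        simp [Fintype.sum_sum_type, Matrix.diagonal_apply])
    exact ⟨g, hg, s, e⟩
  intro W hW hnd hne
  obtain ⟨e, he, he0, σ, hσ, hσ2⟩ : ∃ e ∈ W, e ≠ 0 ∧ ∃ σ : F, T e = σ • e ∧ σ * σ = 1 := by
    obtain ⟨x, hx, hx0⟩ := Submodule.exists_mem_ne_zero_of_ne_bot hne
    by_cases hp : x + T x = 0
    · exact ⟨x, hx, hx0, -1, by rw [neg_one_smul]; exact eq_neg_of_add_eq_zero_right hp, by ring⟩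
    · exact ⟨x + T x, W.add_mem hx (hW x hx), hp, 1, by rw [map_add, hTT, one_smul, add_comm], one_mul 1⟩
  obtain ⟨y, hy, hye⟩ : ∃ y ∈ W, B y e ≠ 0 := by
    by_contra hc
    push Not at hc
    exact he0 (hnd e he fun y hy => by rw [hB.swap e y, hc y hy, neg_zero])
  have hy' : B (y + σ • T y) e = 2 * B y e := by
    rw [map_add, map_smul, LinearMap.add_apply, LinearMap.smul_apply, hT, hσ, map_smul, smul_eq_mul, smul_eq_mul]
    linear_combination B y e * hσ2
  refine ⟨e, he, (2 * B y e)⁻¹ • (y + σ • T y), W.smul_mem _ (W.add_mem hy (W.smul_mem _ (hW y hy))), ?_,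
    ⟨σ, 0, by rw [hσ, zero_smul, add_zero]⟩, ⟨0, σ, ?_⟩, σ, hσ, ?_⟩
  · rw [map_smul, LinearMap.smul_apply, hy', smul_eq_mul, inv_mul_cancel₀ (mul_ne_zero h2 hye)]
  all_goals
    rw [map_smul, map_add, map_smul, hTT]
    simp only [zero_smul, zero_add, smul_add, smul_smul]
    rw [show σ * ((2 * B y e)⁻¹ * σ) = (2 * B y e)⁻¹ * (σ * σ) by ring, hσ2, mul_one,
      show σ * (2 * B y e)⁻¹ = (2 * B y e)⁻¹ * σ by ring]
    abel

end Cfsg.Agent.Classical.SkewBlocks
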