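import Cfsg.Agent.Lib.Classical.Elusive.TsSymp
import Cfsg.Agent.Lib.Classical.Elusive.SkewBlocks
import Cfsg.Agent.Lib.Classical.Elusive.CharTwoForms
import Cfsg.Prelude.Def_GeometricClasses

/-!
# Moved spaces of Kronecker products and derangements for `Sp ⊗ O`
-/

set_option autoImplicit false
set_option linter.unusedSectionVars false

universe u

namespace Cfsg.Agent.Classical.Elusive.TensorSpO

open Module Matrix
open scoped Kronecker

variable {F : Type u} [Field F]

/-- The dimension of the space moved by `f`. -/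
noncomputable def rk {V : Type*} [AddCommGroup V] [Module F V] (f : Module.End F V) : ℕ :=
  finrank F (LinearMap.range (f - 1))

theorem rk_conj {V W : Type*} [AddCommGroup V] [Module F V] [AddCommGroup W] [Module F W] (φ : V ≃ₗ[F] W)
    {f : Module.End F W} {g : Module.End F V} (h : ∀ v, f (φ v) = φ (g v)) : rk f = rk g := by
  have hmap : (LinearMap.range (g - 1)).map (φ : V →ₗ[F] W) = LinearMap.range (f - 1) := by
    ext w
    constructor
    · rintro ⟨_, ⟨v, rfl⟩, rfl⟩
      exact ⟨φ v, by simp [h]⟩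
    · rintro ⟨u, rfl⟩
      obtain ⟨v, rfl⟩ := φ.surjective u
      exact ⟨_, ⟨v, rfl⟩, by simp [h]⟩
  rw [rk, rk, ← hmap, LinearEquiv.finrank_map_eq]

theorem rk_scalar {V : Type*} [AddCommGroup V] [Module F V] {z : F} {f : Module.End F V} (h : ∀ v, f v = z • v) :
    rk f = 0 ∨ rk f = finrank F V := by
  by_cases hz : z = 1
  · left
    have : f - 1 = 0 := LinearMap.ext fun v => by simp [h, hz]
    rw [rk, this, LinearMap.range_zero, finrank_bot]
  · right
    have : LinearMap.range (f - 1) = ⊤ := LinearMap.range_eq_top.mpr fun v => ⟨(z - 1)⁻¹ • v, by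
      rw [LinearMap.sub_apply, Module.End.one_apply, h, smul_smul, ← sub_smul]
      rw [show z * (z - 1)⁻¹ - (z - 1)⁻¹ = 1 by
        rw [← sub_one_mul, mul_inv_cancel₀ (sub_ne_zero.mpr hz)]]
      simp⟩
    rw [rk, this, finrank_top]

variable {a b : ℕ}

/-- A pure tensor. -/
def tv (u : Fin a → F) (w : Fin b → F) : Fin a × Fin b → F := fun x => u x.1 * w x.2

theorem kron_tv (A : Matrix (Fin a) (Fin a) F) (B : Matrix (Fin b) (Fin b) F) (u : Fin a → F) (w : Fin b → F) :
    (A ⊗ₖ B) *ᵥ tv u w = tv (A *ᵥ u) (B *ᵥ w) := by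
  funext x
  simp only [Matrix.mulVec, dotProduct, tv, Fintype.sum_prod_type, Matrix.kroneckerMap_apply, Finset.sum_mul_sum]
  exact Finset.sum_congr rfl fun i _ => Finset.sum_congr rfl fun j _ => by ring

theorem kron_pow (A : Matrix (Fin a) (Fin a) F) (B : Matrix (Fin b) (Fin b) F) (k : ℕ) :
    (A ⊗ₖ B) ^ k = (A ^ k) ⊗ₖ (B ^ k) := by
  induction k with
  | zero => simp
  | succ k ih => rw [pow_succ, pow_succ, pow_succ, Matrix.mul_kronecker_mul, ih]

theorem tv_dot (G : Matrix (Fin a) (Fin a) F) (H : Matrix (Fin b) (Fin b) F) (u u' : Fin a → F) (w w' : Fin b → F) :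
    tv u w ⬝ᵥ ((G ⊗ₖ H) *ᵥ tv u' w') = (u ⬝ᵥ (G *ᵥ u')) * (w ⬝ᵥ (H *ᵥ w')) := by
  rw [kron_tv]
  simp only [dotProduct, tv, Fintype.sum_prod_type, Finset.sum_mul_sum]
  exact Finset.sum_congr rfl fun i _ => Finset.sum_congr rfl fun j _ => by ring

theorem rk_kron_one (M : Matrix (Fin a) (Fin a) F) :
    rk (Matrix.toLin' (M ⊗ₖ (1 : Matrix (Fin b) (Fin b) F))) = b * rk (Matrix.toLin' M) := by
  obtain ⟨R, hR⟩ : ∃ R, R = LinearMap.range (Matrix.toLin' M - 1) := ⟨_, rfl⟩
  let S : (Fin b → R) →ₗ[F] (Fin a × Fin b → F) :=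
    { toFun := fun s x => (s x.2 : Fin a → F) x.1
      map_add' := fun s t => funext fun x => by simp
      map_smul' := fun c s => funext fun x => by simp }
  have hS : Function.Injective S := fun s t h =>
    funext fun j => Subtype.ext (funext fun i => congrFun h (i, j))
  have key : ∀ (v : Fin a × Fin b → F) (x : Fin a × Fin b), (Matrix.toLin' (M ⊗ₖ (1 : Matrix (Fin b) (Fin b) F)) - 1 : Module.End F _) v x =
      (Matrix.toLin' M - 1 : Module.End F _) (fun i => v (i, x.2)) x.1 := by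
    intro v x
    simp [Matrix.mulVec, dotProduct, Fintype.sum_prod_type, Matrix.one_apply]
  have hrange : LinearMap.range (Matrix.toLin' (M ⊗ₖ (1 : Matrix (Fin b) (Fin b) F)) - 1) = LinearMap.range S := by
    ext y
    constructor
    · rintro ⟨v, rfl⟩
      exact ⟨fun j => ⟨_, hR ▸ LinearMap.mem_range_self _ (fun i => v (i, j))⟩, funext fun x => (key v x).symm⟩
    · rintro ⟨s, rfl⟩
      have : ∀ j, ∃ u, (Matrix.toLin' M - 1 : Module.End F _) u = (s j : Fin a → F) := fun j =>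
        LinearMap.mem_range.mp (hR ▸ (s j).2)
      choose u hu using this
      refine ⟨fun x => u x.2 x.1, funext fun x => ?_⟩
      rw [key]
      exact congrFun (hu x.2) x.1
  rw [rk, hrange, LinearMap.finrank_range_of_inj hS, Module.finrank_pi_fintype, rk, ← hR]
  simp

theorem rk_one_kron (M : Matrix (Fin b) (Fin b) F) :
    rk (Matrix.toLin' ((1 : Matrix (Fin a) (Fin a) F) ⊗ₖ M)) = a * rk (Matrix.toLin' M) := by
  rw [← rk_kron_one M (b := a), rk_conj (LinearEquiv.funCongrLeft F F (Equiv.prodComm (Fin a) (Fin b)))]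
  intro v
  funext x
  simp [Matrix.mulVec, dotProduct, Fintype.sum_prod_type, Matrix.one_apply, LinearEquiv.funCongrLeft_apply,
    LinearMap.funLeft_apply]

theorem exists_noneigen {B : Matrix (Fin b) (Fin b) F} (hB : ∀ z : F, B ≠ z • 1) :
    ∃ w, ∀ z : F, B *ᵥ w ≠ z • w := by
  by_contra! hc
  rcases Nat.eq_zero_or_pos b with rfl | hb
  · exact hB 0 (Subsingleton.elim _ _)
  choose l hl using fun j : Fin b => hc (Pi.single j 1)
  have hent : ∀ i j, B i j = if i = j then l j else 0 := fun i j => by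
    have := congrFun (hl j) i
    simpa [Pi.single_apply] using this
  have heq : ∀ i j, l i = l j := by
    intro i j
    rcases eq_or_ne i j with rfl | hij
    · rfl
    obtain ⟨z, hz⟩ := hc (Pi.single i 1 + Pi.single j 1)
    rw [Matrix.mulVec_add, hl, hl] at hz
    have h1 := congrFun hz i
    have h2 := congrFun hz j
    simp [hij, Ne.symm hij] at h1 h2
    rw [h1, h2]
  refine hB (l ⟨0, hb⟩) (Matrix.ext fun i j => ?_)
  rw [hent, Matrix.smul_apply, Matrix.one_apply]
  split_ifs with h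
  · rw [smul_eq_mul, mul_one, heq j ⟨0, hb⟩]
  · simp

theorem pair_zero {B : Matrix (Fin b) (Fin b) F} {w : Fin b → F} (h : ∀ z : F, B *ᵥ w ≠ z • w) {s t : F}
    (hst : s • w + t • (B *ᵥ w) = 0) : s = 0 ∧ t = 0 := by
  have hw : w ≠ 0 := fun h0 => h 0 (by rw [h0, Matrix.mulVec_zero, smul_zero])
  by_cases ht : t = 0
  · subst ht
    rw [zero_smul, add_zero] at hst
    exact ⟨(smul_eq_zero.mp hst).resolve_right hw, rfl⟩
  · refine absurd ?_ (h (t⁻¹ * -s))
    rw [← smul_smul, neg_smul, ← eq_neg_of_add_eq_zero_right hst, smul_smul, inv_mul_cancel₀ ht, one_smul]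

/-- A Kronecker product of two non-scalar matrices moves a space of dimension more than `a`. -/
theorem le_rk_kron (hb : 3 ≤ b) {A : Matrix (Fin a) (Fin a) F} {B : Matrix (Fin b) (Fin b) F}
    (hA : ∀ z : F, A ≠ z • 1) (hB : ∀ z : F, B ≠ z • 1) : a + 1 ≤ rk (Matrix.toLin' (A ⊗ₖ B)) := by
  classical
  obtain ⟨T, hT⟩ : ∃ T : Module.End F (Fin a × Fin b → F), T = Matrix.toLin' (A ⊗ₖ B) - 1 := ⟨_, rfl⟩
  have hTtv : ∀ u w, T (tv u w) = tv (A *ᵥ u) (B *ᵥ w) - tv u w := fun u w => by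
    rw [hT, LinearMap.sub_apply, Module.End.one_apply, Matrix.toLin'_apply, kron_tv]
  let tvl : (Fin b → F) → (Fin a → F) →ₗ[F] (Fin a × Fin b → F) := fun w =>
    { toFun := fun u => tv u w
      map_add' := fun u v => funext fun x => by simp [tv, add_mul]
      map_smul' := fun c u => funext fun x => by simp [tv, mul_assoc] }
  by_contra hlt
  rw [rk, ← hT, not_le, Nat.lt_succ_iff] at hlt
  have hR : ∀ w, (∀ z : F, B *ᵥ w ≠ z • w) → ∀ y ∈ LinearMap.range T, ∀ i,
      (fun j => y (i, j)) ∈ Submodule.span F {w, B *ᵥ w} := by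
    intro w hw y hy i
    have hinj : Function.Injective (T ∘ₗ tvl w) := by
      refine (injective_iff_map_eq_zero _).mpr fun u hu => funext fun k => ?_
      have hu' : tv (A *ᵥ u) (B *ᵥ w) - tv u w = 0 := (hTtv u w).symm.trans hu
      have h0 : (-u k) • w + (A *ᵥ u) k • (B *ᵥ w) = 0 := funext fun j => by
        have := congrFun hu' (k, j)
        simp [tv] at this ⊢
        linear_combination this
      exact neg_eq_zero.mp (pair_zero hw h0).1
    have heq : LinearMap.range (T ∘ₗ tvl w) = LinearMap.range T :=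
      Submodule.eq_of_le_of_finrank_le (LinearMap.range_comp_le_range _ _)
        (by rw [LinearMap.finrank_range_of_inj hinj, finrank_fin_fun]; exact hlt)
    rw [← heq] at hy
    obtain ⟨u, rfl⟩ := hy
    have : (fun j => (T ∘ₗ tvl w) u (i, j)) = (A *ᵥ u) i • (B *ᵥ w) - u i • w := funext fun j => by
      show T (tv u w) (i, j) = _
      rw [hTtv]
      simp [tv]
    rw [this]
    exact Submodule.sub_mem _ (Submodule.smul_mem _ _ (Submodule.subset_span (by simp)))
      (Submodule.smul_mem _ _ (Submodule.subset_span (by simp)))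
  obtain ⟨w, hw⟩ := exists_noneigen hB
  obtain ⟨P, hP⟩ : ∃ P, P = Submodule.span F ({w, B *ᵥ w} : Set (Fin b → F)) := ⟨_, rfl⟩
  have hwP : w ∈ P := hP ▸ Submodule.subset_span (by simp)
  have hBwP : B *ᵥ w ∈ P := hP ▸ Submodule.subset_span (by simp)
  have hcard : ∀ v : Fin b → F, finrank F (Submodule.span F ({v, B *ᵥ v} : Set (Fin b → F))) ≤ 2 := fun v => by
    refine le_trans (finrank_span_le_card _) ?_
    rw [Set.toFinset_insert, Set.toFinset_singleton]
    exact Finset.card_le_two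
  obtain ⟨z₀, hz₀⟩ : ∃ z, z ∉ P := by
    by_contra! hall
    have h1 := hcard w
    rw [← hP, show P = ⊤ from eq_top_iff.mpr fun x _ => hall x, finrank_top, finrank_fin_fun] at h1
    omega
  obtain ⟨w', hw', hw'P⟩ : ∃ v, (∀ z : F, B *ᵥ v ≠ z • v) ∧ v ∉ P := by
    by_cases h1 : ∀ z : F, B *ᵥ z₀ ≠ z • z₀
    · exact ⟨z₀, h1, hz₀⟩
    push Not at h1
    obtain ⟨l, hl⟩ := h1
    refine ⟨w + z₀, fun z hz => ?_, fun h => hz₀ (by simpa using P.sub_mem h hwP)⟩
    rw [Matrix.mulVec_add, hl] at hz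
    have e : B *ᵥ w = z • w + (z - l) • z₀ := by
      rw [eq_sub_of_add_eq hz, smul_add, sub_smul]
      abel
    by_cases hzl : z - l = 0
    · rw [hzl, zero_smul, add_zero] at e
      exact hw z e
    · refine hz₀ ((Submodule.smul_mem_iff P hzl).mp ?_)
      rw [show (z - l) • z₀ = B *ᵥ w - z • w by rw [e]; abel]
      exact P.sub_mem hBwP (P.smul_mem _ hwP)
  obtain ⟨P', hP'⟩ : ∃ P', P' = Submodule.span F ({w', B *ᵥ w'} : Set (Fin b → F)) := ⟨_, rfl⟩
  have hsmall : finrank F ↥(P ⊓ P') ≤ 1 := by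
    have h1 : P ⊓ P' < P' := lt_of_le_of_ne inf_le_right fun h =>
      hw'P ((h.ge.trans inf_le_left) (hP' ▸ Submodule.subset_span (by simp)))
    have h2 := Submodule.finrank_lt_finrank_of_lt h1
    have h3 := hcard w'
    rw [← hP'] at h3
    omega
  have hrow : ∀ u i, (A *ᵥ u) i • (B *ᵥ w) - u i • w ∈ P ⊓ P' := fun u i => by
    have e : (fun j => T (tv u w) (i, j)) = (A *ᵥ u) i • (B *ᵥ w) - u i • w := funext fun j => by
      rw [hTtv]; simp [tv]
    rw [← e]
    exact ⟨hP ▸ hR w hw _ (LinearMap.mem_range_self _ _) i, hP' ▸ hR w' hw' _ (LinearMap.mem_range_self _ _) i⟩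
  rcases Nat.eq_zero_or_pos a with rfl | ha
  · exact hA 0 (Subsingleton.elim _ _)
  obtain ⟨v₀, hv₀⟩ : ∃ v, v = (A *ᵥ Pi.single (⟨0, ha⟩ : Fin a) 1) ⟨0, ha⟩ • (B *ᵥ w) - w := ⟨_, rfl⟩
  have hv₀mem : v₀ ∈ P ⊓ P' := by
    have := hrow (Pi.single ⟨0, ha⟩ 1) ⟨0, ha⟩
    rwa [Pi.single_eq_same, one_smul, ← hv₀] at this
  have hv₀0 : v₀ ≠ 0 := fun h => by
    rw [hv₀] at h
    exact one_ne_zero (neg_eq_zero.mp (pair_zero hw (show (-1 : F) • w +
      (A *ᵥ Pi.single (⟨0, ha⟩ : Fin a) 1) ⟨0, ha⟩ • (B *ᵥ w) = 0 by rw [neg_one_smul, ← h]; abel)).1)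
  have hspan : Submodule.span F {v₀} = P ⊓ P' :=
    Submodule.eq_of_le_of_finrank_le ((Submodule.span_singleton_le_iff_mem _ _).mpr hv₀mem)
      (by rw [finrank_span_singleton hv₀0]; exact hsmall)
  refine hA ((A *ᵥ Pi.single (⟨0, ha⟩ : Fin a) 1) ⟨0, ha⟩) (Matrix.ext fun i j => ?_)
  obtain ⟨t, ht⟩ := Submodule.mem_span_singleton.mp (hspan.ge (hrow (Pi.single j 1) i))
  rw [hv₀] at ht
  have h0 : ((Pi.single j (1 : F) : Fin a → F) i - t) • w +
      (t * (A *ᵥ Pi.single (⟨0, ha⟩ : Fin a) 1) ⟨0, ha⟩ - (A *ᵥ Pi.single j 1) i) • (B *ᵥ w) = 0 := by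
    rw [smul_sub, smul_smul] at ht
    rw [sub_smul, sub_smul, ← sub_eq_zero.mpr ht]
    abel
  obtain ⟨e1, e2⟩ := pair_zero hw h0
  rw [sub_eq_zero] at e1 e2
  rw [← e1] at e2
  simp [Pi.single_apply] at e2 ⊢
  rw [← e2, Matrix.one_apply]
  split_ifs <;> ring

section Finite

variable [Fintype F]

/-- The moved space of a tame isometry. -/
theorem moved_facts {V : Type u} [AddCommGroup V] [Module F V] [FiniteDimensional F V]
    {B : LinearMap.BilinForm F V} {g : Module.End F V} {r : ℕ} (hr : r.Prime) (hr2 : r ≠ 2)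
    (hg : Free.IsTame B g r) :
    orderOf (Fintype.card F : ZMod r) ∣ rk g ∧
      (SpCount.IsAltND B → Even (rk g)) ∧
      (Free.Refl B → rk g = orderOf (Fintype.card F : ZMod r) → Even (rk g)) := by
  have hfree := hg.free_moved hr hr2
  refine ⟨?_, fun halt => ?_, fun hB hd => ?_⟩
  · have h := (hfree.exists_irred (U := ⊤) fun _ _ => Submodule.mem_top).1
    rwa [finrank_top] at h
  · exact TsSymp.even_dim (TsSymp.alt_restrict halt (hg.moved_nondeg (TsSymp.refl_of_alt halt)))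
  · exact (Free.irreducible_norm hfree hd (Free.refl_restrict hB (hg.moved_nondeg hB))).1

/-- A non-trivial symplectic isometry of prime order `r` needs `c` dimensions. -/
theorem c_le {V : Type u} [AddCommGroup V] [Module F V] [FiniteDimensional F V]
    {B : LinearMap.BilinForm F V} (hB : SpCount.IsAltND B) {g : Module.End F V} {r : ℕ} (hr : r.Prime) (hr2 : r ≠ 2)
    (hr0 : (r : F) ≠ 0) (hgr : g ^ r = 1) (hiso : ∀ u v, B (g u) (g v) = B u v) (hg1 : g ≠ 1) {c : ℕ}
    (hc : c = if Even (orderOf (Fintype.card F : ZMod r)) then orderOf (Fintype.card F : ZMod r)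
      else 2 * orderOf (Fintype.card F : ZMod r)) :
    c ≤ finrank F V := by
  obtain ⟨h1, h2, -⟩ := moved_facts hr hr2 (⟨hr0, hgr, hiso⟩ : Free.IsTame B g r)
  have hpos : 0 < rk g := Nat.pos_of_ne_zero fun h0 => hg1 (by
    rw [rk, Submodule.finrank_eq_zero, LinearMap.range_eq_bot] at h0
    exact sub_eq_zero.mp h0)
  refine le_trans (Nat.le_of_dvd hpos ?_) (Submodule.finrank_le _)
  rw [hc]
  split_ifs with he
  · exact h1
  · exact Nat.Coprime.mul_dvd_of_dvd_of_dvd (Nat.coprime_two_left.mpr (Nat.not_even_iff_odd.mp he))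
      (even_iff_two_dvd.mp (h2 hB)) h1

/-- An element of order `r` moving a `c`-space. -/
theorem exists_small_moved {r d : ℕ} (hr : r.Prime) (hr2 : r ≠ 2) (hr0 : (r : F) ≠ 0) {c : ℕ}
    (hc : c = if Even (orderOf (Fintype.card F : ZMod r)) then orderOf (Fintype.card F : ZMod r)
      else 2 * orderOf (Fintype.card F : ZMod r)) (hcd : c ≤ 2 * d) :
    ∃ x : GL (Fin d ⊕ Fin d) F, x ∈ Cfsg.spGL d F ∧ x ^ r = 1 ∧
      rk (Matrix.toLin' (x : Matrix (Fin d ⊕ Fin d) (Fin d ⊕ Fin d) F)) = c := by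
  classical
  obtain ⟨M, _, _, _, B, g, hfree, halt, hM⟩ : ∃ (M : Type u) (_ : AddCommGroup M) (_ : Module F M)
      (_ : FiniteDimensional F M) (B : LinearMap.BilinForm F M) (g : Module.End F M),
      Free.IsFree B g r ∧ SpCount.IsAltND B ∧ finrank F M = c := by
    by_cases he : Even (orderOf (Fintype.card F : ZMod r))
    · obtain ⟨M, i1, i2, i3, B, g, h1, h2, h3, -⟩ := Free.exists_spread (F := F) hr hr2 hr0 he 1
      exact ⟨M, i1, i2, i3, B, g, h1, h2, by rw [h3, hc, if_pos he]; ring⟩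
    · obtain ⟨M, i1, i2, i3, B, g, h1, h2, h3⟩ := Free.exists_paired (F := F) hr hr2 hr0 1
      exact ⟨M, i1, i2, i3, B, g, h1, h2, by rw [h3, hc, if_neg he]; ring⟩
  obtain ⟨w, hw⟩ := TsSymp.even_dim halt
  obtain ⟨a', ha'⟩ : ∃ a', d = w + a' := ⟨d - w, by omega⟩
  let B' : LinearMap.BilinForm F (M × (Fin a' ⊕ Fin a' → F)) :=
    B.compl₁₂ (LinearMap.fst F _ _) (LinearMap.fst F _ _) + (sympB a' F).compl₁₂ (LinearMap.snd F _ _) (LinearMap.snd F _ _)
  have hB' : ∀ u v, B' u v = B u.1 v.1 + sympB a' F u.2 v.2 := fun _ _ => rfl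
  have halt' : SpCount.IsAltND B' := ⟨fun u => by rw [hB', halt.self, sympB_self, add_zero], fun u hu =>
    Prod.ext (halt.nondeg _ fun v => by simpa [hB'] using hu (v, 0))
      (sympB_nondeg _ fun v => by simpa [hB'] using hu (0, v))⟩
  let g' : Module.End F (M × (Fin a' ⊕ Fin a' → F)) := g.prodMap 1
  have hg' : ∀ u, g' u = (g u.1, u.2) := fun _ => rfl
  have hdim : finrank F (M × (Fin a' ⊕ Fin a' → F)) = 2 * d := by
    rw [Module.finrank_prod, hw, finrank_fintype_fun_eq_card, Fintype.card_sum, Fintype.card_fin]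
    omega
  obtain ⟨x, φ, hx, -⟩ := TsSymp.exists_element halt' hdim (g := g') fun u v => by
    rw [hB', hB', hg', hg', hfree.isometry]
  have hpow : ∀ (k : ℕ) u, Matrix.toLin' ((x : Matrix (Fin d ⊕ Fin d) (Fin d ⊕ Fin d) F) ^ k) (φ u) =
      φ ((g ^ k) u.1, u.2) := by
    intro k
    induction k with
    | zero => intro u; simp
    | succ k ih => intro u; rw [pow_succ', Matrix.toLin'_mul, LinearMap.comp_apply, ih, hx, hg', pow_succ',
        Module.End.mul_apply]
  have hxr : (x : Matrix (Fin d ⊕ Fin d) (Fin d ⊕ Fin d) F) ^ r = 1 := by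
    refine Matrix.toLin'.injective (LinearMap.ext fun v => ?_)
    obtain ⟨u, rfl⟩ := φ.surjective v
    rw [hpow, hfree.pow_eq, Matrix.toLin'_one]
    rfl
  obtain ⟨y, hy⟩ := IsUnit.of_pow_eq_one hxr hr.ne_zero
  refine ⟨y, fun u v => ?_, Units.ext (by rw [Units.val_pow_eq_pow_val, hy, hxr]; rfl), ?_⟩
  · show Cfsg.sympForm d F ((y : Matrix (Fin d ⊕ Fin d) (Fin d ⊕ Fin d) F) *ᵥ u)
      ((y : Matrix (Fin d ⊕ Fin d) (Fin d ⊕ Fin d) F) *ᵥ v) = _
    rw [hy]
    exact Lead.Symp.form_preserved x.2 u v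
  · rw [hy, rk_conj φ (g := g') fun u => hx u]
    have hinj : Function.Injective (g - 1 : Module.End F M) := (injective_iff_map_eq_zero _).mpr fun v hv =>
      hfree.fixfree v (sub_eq_zero.mp hv)
    have hr' : LinearMap.range (g' - 1) = LinearMap.range (LinearMap.inl F M (Fin a' ⊕ Fin a' → F)) := by
      ext u
      constructor
      · rintro ⟨v, rfl⟩
        exact ⟨(g - 1) v.1, Prod.ext (by simp [hg']) (by simp [hg'])⟩
      · rintro ⟨m, rfl⟩
        obtain ⟨v, rfl⟩ := LinearMap.injective_iff_surjective.mp hinj m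
        exact ⟨(v, 0), Prod.ext (by simp [hg']) (by simp [hg'])⟩
    have hM' : finrank F M = c := hM
    rw [rk, hr', LinearMap.finrank_range_of_inj LinearMap.inl_injective, hM']

end Finite

end Cfsg.Agent.Classical.Elusive.TensorSpO
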