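import Cfsg.Agent.Lib.Classical.Elusive.OrthFree
import Cfsg.Agent.Lib.Classical.Elusive.TensorSpO
import Cfsg.Agent.Lib.Classical.OrthReflect
import Cfsg.Agent.Lib.Classical.OrthIndex
import Cfsg.Prelude.Def_GeometricClasses

/-!
# Elements of prime order on nondegenerate even-dimensional subspaces of odd-dimensional spaces
-/

set_option autoImplicit false
set_option linter.unusedSectionVars false

universe u

namespace Cfsg.Agent.Classical.Elusive.OFree

open Module QuadraticMap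
open Cfsg.Agent.Small

variable {F : Type u} [Field F] [Fintype F] {V : Type u} [AddCommGroup V] [Module F V] [FiniteDimensional F V]
  {Q : QuadraticForm F V} {r : ℕ}

theorem unit_pos (hr : r.Prime) (hr0 : (r : F) ≠ 0) : 0 < orderOf (Fintype.card F : ZMod r) ∧ 0 < unit F r ∧
    Even (unit F r) := by
  haveI : Fact r.Prime := ⟨hr⟩
  have h : 0 < orderOf (Fintype.card F : ZMod r) := by
    rw [orderOf_pos_iff, isOfFinOrder_iff_pow_eq_one]
    exact ⟨r - 1, by have := hr.two_le; omega, ZMod.pow_card_sub_one_eq_one (card_ne_zero hr hr0)⟩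
  refine ⟨h, ?_, ?_⟩ <;> (unfold unit; split_ifs with he)
  · exact h
  · omega
  · exact he
  · exact even_two_mul _

theorem tame_of (hr0 : (r : F) ≠ 0) {g : Module.End F V} (hgr : g ^ r = 1) (hiso : ∀ v, Q (g v) = Q v) :
    Free.IsTame (polarBilin Q) g r :=
  ⟨hr0, hgr, fun u v => by
    rw [polarBilin_apply_apply, polarBilin_apply_apply]
    simp only [polar, ← map_add, hiso]⟩

theorem moved_fix {g : Module.End F V} (hg : Free.IsTame (polarBilin Q) g r) {x : V} (hx : x ∈ Free.moved g)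
    (h : g x = x) : x = 0 :=
  (Submodule.mem_bot F).mp (hg.isCompl.disjoint.le_bot ⟨Free.mem_fixSpace.mpr h, hx⟩)

/-- Fixed and moved parts. -/
theorem parts_facts (hQ : OCount.PND Q) (hr : r.Prime) (hr2 : r ≠ 2) (hr0 : (r : F) ≠ 0) {g : Module.End F V}
    (hgr : g ^ r = 1) (hiso : ∀ v, Q (g v) = Q v) :
    finrank F (Free.fixSpace g) + finrank F (Free.moved g) = finrank F V ∧
      unit F r ∣ finrank F (Free.moved g) ∧ QuadBasis.Nondeg Q (Free.fixSpace g) ∧
      QuadBasis.Nondeg Q (Free.moved g) := by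
  have hg := tame_of (Q := Q) hr0 hgr hiso
  have h1 := nondeg_iff.mpr (hg.fix_nondeg (refl_of_pnd hQ))
  have h2 := nondeg_iff.mpr (hg.moved_nondeg (refl_of_pnd hQ))
  exact ⟨Submodule.finrank_add_eq_of_isCompl hg.isCompl,
    (unit_type h2 (fun x hx => Free.moved_invariant hx) hr hr2 hr0 (fun x _ => by rw [hgr]; rfl)
      (fun x hx h => moved_fix hg hx h) hiso).1, h1, h2⟩

/-- Sufficiency for odd primes. -/
theorem exists_fixed (h2 : (2 : F) ≠ 0) (hQ : OCount.PND Q) (hr : r.Prime) (hr2 : r ≠ 2) (hr0 : (r : F) ≠ 0)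
    {g : Module.End F V} (hgr : g ^ r = 1) (hiso : ∀ v, Q (g v) = Q v) {m : ℕ} (hm : 2 ≤ m) (hme : Even m)
    (hmn : m < finrank F V) (P : Prop)
    (hc : m % unit F r < finrank F V % unit F r ∧
      (m % unit F r = 0 → (P ↔ (Odd (orderOf (Fintype.card F : ZMod r)) ∨ Even (m / unit F r))))) :
    ∃ W : Submodule F V, finrank F W = m ∧ QuadBasis.Nondeg Q W ∧ (OType.IsPlus Q W ↔ P) ∧ ∀ x ∈ W, g x ∈ W := by
  classical
  obtain ⟨-, hupos, -⟩ := unit_pos (F := F) hr hr0
  have hg := tame_of (Q := Q) hr0 hgr hiso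
  obtain ⟨hdim, ⟨N, hN⟩, hfix, hmov⟩ := parts_facts hQ hr hr2 hr0 hgr hiso
  obtain ⟨e, he⟩ := hme
  rw [← two_mul] at he
  obtain ⟨c, hcdef⟩ : ∃ c, c = unit F r := ⟨_, rfl⟩
  rw [← hcdef] at hN hupos hc
  have hnk : finrank F V % c = finrank F (Free.fixSpace g) % c := by
    rw [← hdim, hN, Nat.add_mul_mod_self_left]
  have hk0 := Nat.mod_le (finrank F (Free.fixSpace g)) c
  have hperp : ∀ U ≤ Free.moved g, ∀ x ∈ U, ∀ y ∈ Free.fixSpace g, polar Q x y = 0 := fun U hU x hx y hy => by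
    rw [polar_comm]
    exact hg.perp hy (hU hx)
  -- units inside the moved space
  have hex : ∀ j ≤ N, ∃ U ≤ Free.moved g, (∀ x ∈ U, g x ∈ U) ∧ finrank F U = c * j ∧ QuadBasis.Nondeg Q U := by
    intro j hj
    obtain ⟨U, hU, hUd, hUn⟩ := exists_units j (hg.free_moved hr hr2) h2
      (fun u v => by show polar Q (v : V) (u : V) = polar Q (u : V) (v : V); exact polar_comm _ _ _)
      (Free.refl_restrict (refl_of_pnd hQ) (hg.moved_nondeg (refl_of_pnd hQ))).nondeg
      (by rw [← hcdef, hN]; exact Nat.mul_le_mul_left _ hj)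
    refine ⟨U.map (Free.moved g).subtype, Submodule.map_subtype_le _ _, ?_,
      by rw [Submodule.finrank_map_subtype_eq, hUd, hcdef], ?_⟩
    · rintro _ ⟨x, hx, rfl⟩
      exact ⟨_, hU x hx, rfl⟩
    · rintro _ ⟨x, hx, rfl⟩ h
      rw [(Submodule.mem_bot F).mp (hUn.le ⟨hx, fun y hy => by
        show polar Q (y : V) (x : V) = 0
        rw [polar_comm]
        exact h _ ⟨y, hy, rfl⟩⟩)]
      rfl
  have combine : ∀ (U : Submodule F V), U ≤ Free.moved g → (∀ x ∈ U, g x ∈ U) → QuadBasis.Nondeg Q U →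
      ∀ s, 1 ≤ s → s < finrank F (Free.fixSpace g) → finrank F U + s = m →
      ∃ W : Submodule F V, finrank F W = m ∧ QuadBasis.Nondeg Q W ∧ (OType.IsPlus Q W ↔ P) ∧ ∀ x ∈ W, g x ∈ W := by
    intro U hUM hU hUn s hs1 hs2 hsum
    obtain ⟨T, hT, hn, hd, hP⟩ := OType.exists_adjust h2 hUn hfix (hperp U hUM) hs1 hs2 (hsum.trans he) P
    refine ⟨U ⊔ T, hd.trans he.symm, hn, hP, fun x hx => ?_⟩
    obtain ⟨a, ha, b, hb, rfl⟩ := Submodule.mem_sup.mp hx
    rw [map_add, Free.mem_fixSpace.mp (hT hb)]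
    exact Submodule.mem_sup.mpr ⟨_, hU a ha, b, hb, rfl⟩
  by_cases hj : m / c ≤ N
  · obtain ⟨U, hUM, hU, hUd, hUn⟩ := hex _ hj
    rcases Nat.eq_zero_or_pos (m % c) with h0 | hpos
    · have hmj : c * (m / c) = m := Nat.mul_div_cancel' (Nat.dvd_of_mod_eq_zero h0)
      have hj1 : 1 ≤ m / c := Nat.pos_of_ne_zero fun h => by rw [h, mul_zero] at hmj; omega
      have htype := (unit_type hUn hU hr hr2 hr0 (fun x _ => by rw [hgr]; rfl)
        (fun x hx h => moved_fix hg (hUM hx) h) hiso).2 _ hj1 (by rw [hUd, hcdef])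
      exact ⟨U, hUd.trans hmj, hUn, by rw [htype, hc.2 h0, hcdef], hU⟩
    · exact combine U hUM hU hUn (m % c) hpos (by omega) (by rw [hUd]; exact Nat.div_add_mod m c)
  · have h1 : c * N + c ≤ m := by
      have h := Nat.mul_le_mul_left c (show N + 1 ≤ m / c by omega)
      have := Nat.div_mul_le_self m c
      rw [mul_comm (m / c)] at this
      rw [Nat.mul_add, mul_one] at h
      omega
    obtain ⟨U, hUM, hU, hUd, hUn⟩ := hex N le_rfl
    exact combine U hUM hU hUn (m - c * N) (by omega) (by omega) (by omega)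

/-- Every involution fixes a space of each type. -/
theorem exists_fixed_invol (h2 : (2 : F) ≠ 0) (hQ : OCount.PND Q) {g : Module.End F V} (hgg : ∀ v, g (g v) = v)
    (hiso : ∀ v, Q (g v) = Q v) (hodd : Odd (finrank F V)) {m : ℕ} (hm : 2 ≤ m) (hme : Even m)
    (hmn : m < finrank F V) (P : Prop) :
    ∃ W : Submodule F V, finrank F W = m ∧ QuadBasis.Nondeg Q W ∧ (OType.IsPlus Q W ↔ P) ∧ ∀ x ∈ W, g x ∈ W := by
  classical
  obtain ⟨e, he⟩ := hme
  rw [← two_mul] at he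
  let E : F → Submodule F V := fun σ => LinearMap.ker (g - σ • 1)
  have hE : ∀ σ x, x ∈ E σ ↔ g x = σ • x := fun σ x => by
    simp [E, LinearMap.mem_ker, sub_eq_zero]
  have hpol : ∀ u v, polar Q (g u) (g v) = polar Q u v := fun u v => by simp only [polar, ← map_add, hiso]
  have hperp : ∀ x ∈ E 1, ∀ y ∈ E (-1), polar Q x y = 0 := fun x hx y hy => by
    have h := hpol x y
    rw [(hE _ _).mp hx, (hE _ _).mp hy, one_smul, QuadBasis.p_smul_right] at h
    exact (mul_eq_zero.mp (show (2 : F) * polar Q x y = 0 by linear_combination -h)).resolve_left h2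
  have hsplit : ∀ v, ∃ a ∈ E 1, ∃ b ∈ E (-1), v = a + b := fun v => by
    refine ⟨(2 : F)⁻¹ • (v + g v), (hE _ _).mpr ?_, (2 : F)⁻¹ • (v - g v), (hE _ _).mpr ?_, ?_⟩
    · rw [map_smul, map_add, hgg, one_smul, add_comm]
    · rw [map_smul, map_sub, hgg, neg_one_smul, ← smul_neg, neg_sub]
    · rw [← smul_add, add_add_sub_cancel, ← two_smul F v, smul_smul, inv_mul_cancel₀ h2, one_smul]
  have hnd : QuadBasis.Nondeg Q (E 1) ∧ QuadBasis.Nondeg Q (E (-1)) := by
    constructor <;> intro x hx h <;> refine hQ x fun v => ?_ <;>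
      obtain ⟨a, ha, b, hb, rfl⟩ := hsplit v <;> rw [polar_add_right]
    · rw [h a ha, hperp x hx b hb, add_zero]
    · rw [polar_comm _ x a, hperp a ha x hx, h b hb, zero_add]
  have hdim : finrank F (E 1) + finrank F (E (-1)) = finrank F V := by
    refine Submodule.finrank_add_eq_of_isCompl ⟨Submodule.disjoint_def.mpr fun x h1 h1' => ?_,
      codisjoint_iff.mpr (eq_top_iff.mpr fun v _ => ?_)⟩
    · have e1 := ((hE _ _).mp h1).symm.trans ((hE _ _).mp h1')
      rw [one_smul, neg_one_smul] at e1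
      have : (2 : F) • x = 0 := by rw [two_smul]; exact eq_neg_iff_add_eq_zero.mp e1
      exact (smul_eq_zero.mp this).resolve_left h2
    · obtain ⟨a, ha, b, hb, rfl⟩ := hsplit v
      exact Submodule.mem_sup.mpr ⟨a, ha, b, hb, rfl⟩
  -- the odd part A, the even part B
  obtain ⟨A, B, σ, τ, hA, hB, hAn, hBn, hAB, hAo, hdAB⟩ : ∃ (A B : Submodule F V) (σ τ : F),
      (∀ x ∈ A, g x = σ • x) ∧ (∀ x ∈ B, g x = τ • x) ∧ QuadBasis.Nondeg Q A ∧ QuadBasis.Nondeg Q B ∧
        (∀ x ∈ A, ∀ y ∈ B, polar Q x y = 0) ∧ Odd (finrank F A) ∧ finrank F A + finrank F B = finrank F V := by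
    rcases Nat.even_or_odd (finrank F (E 1)) with h | h
    · exact ⟨E (-1), E 1, -1, 1, fun x => (hE _ x).mp, fun x => (hE _ x).mp, hnd.2, hnd.1,
        fun x hx y hy => by rw [polar_comm]; exact hperp y hy x hx, by
          rw [Nat.odd_iff] at hodd ⊢; rw [Nat.even_iff] at h; omega, by omega⟩
    · exact ⟨E 1, E (-1), 1, -1, fun x => (hE _ x).mp, fun x => (hE _ x).mp, hnd.1, hnd.2, hperp, h, hdim⟩
  obtain ⟨a', ha'⟩ := hAo
  obtain ⟨n', hn'⟩ := hodd
  rcases Nat.eq_zero_or_pos (finrank F B) with hB0 | hBpos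
  · obtain ⟨T, hT, hn, hd, hP⟩ := OType.exists_adjust h2 (U := ⊥) (fun x hx _ => (Submodule.mem_bot F).mp hx) hAn
      (fun x hx y _ => by rw [(Submodule.mem_bot F).mp hx, polar_zero_left]) (s := m) (e := e) (by omega) (by omega)
      (by rw [finrank_bot]; omega) P
    rw [bot_sup_eq] at hn hd hP
    exact ⟨T, by omega, hn, hP, fun x hx => by rw [hA x (hT hx)]; exact T.smul_mem _ hx⟩
  obtain ⟨a, ha1, ha2, ha3, ha4⟩ : ∃ a, a % 2 = 1 ∧ a ≤ finrank F A ∧ a + 1 ≤ m ∧ m < a + finrank F B := by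
    by_cases h : m ≤ finrank F B
    · exact ⟨1, rfl, by omega, by omega, by omega⟩
    · exact ⟨m - finrank F B + 1, by omega, by omega, by omega, by omega⟩
  obtain ⟨U, hUA, hUn, hUd⟩ := OType.exists_nondeg_sub h2 hAn ha2
  obtain ⟨T, hT, hn, hd, hP⟩ := OType.exists_adjust h2 hUn hBn (fun x hx y hy => hAB x (hUA hx) y hy)
    (s := m - a) (e := e) (by omega) (by omega) (by omega) P
  refine ⟨U ⊔ T, by omega, hn, hP, fun x hx => ?_⟩
  obtain ⟨y, hy, z, hz, rfl⟩ := Submodule.mem_sup.mp hx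
  rw [map_add, hA y (hUA hy), hB z (hT hz)]
  exact Submodule.mem_sup.mpr ⟨_, U.smul_mem _ hy, _, T.smul_mem _ hz, rfl⟩

/-- An `r`-group of isometries fixes a space of codimension a multiple of the unit. -/
theorem exists_fixed_sub : ∀ (N : ℕ) {V : Type u} [AddCommGroup V] [Module F V] [FiniteDimensional F V]
    {Q : QuadraticForm F V} {r : ℕ}, finrank F V ≤ N → OCount.PND Q → r.Prime → r ≠ 2 → (r : F) ≠ 0 →
    ∀ P : Subgroup (V ≃ₗ[F] V), P ≤ ORefl.Iso Q → IsPGroup r P →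
      ∃ C : Submodule F V, QuadBasis.Nondeg Q C ∧ (∀ h ∈ P, ∀ x ∈ C, h x = x) ∧
        unit F r ∣ finrank F V - finrank F C := by
  intro N
  induction N with
  | zero =>
    intro V _ _ _ Q r hN hQ _ _ _ P _ _
    haveI : Subsingleton V := Module.finrank_zero_iff.mp (Nat.le_zero.mp hN : finrank F V = 0)
    exact ⟨⊤, fun x _ _ => Subsingleton.elim _ _, fun h _ x _ => Subsingleton.elim _ _, by simp⟩
  | succ N ih =>
    intro V _ _ _ Q r hN hQ hr hr2 hr0 P hP hpg
    classical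
    by_cases hP1 : P = ⊥
    · refine ⟨⊤, fun x _ h => hQ x fun w => h w trivial, fun h hh x _ => ?_, by simp⟩
      rw [hP1, Subgroup.mem_bot] at hh
      rw [hh]; rfl
    haveI : Fact r.Prime := ⟨hr⟩
    haveI : Finite V := Module.finite_of_finite F
    haveI : Finite (V ≃ₗ[F] V) := Finite.of_injective (fun h : V ≃ₗ[F] V => (h : V → V)) DFunLike.coe_injective
    haveI : Nontrivial P := P.nontrivial_iff_ne_bot.mpr hP1
    haveI := hpg.center_nontrivial
    obtain ⟨n, hn⟩ := (hpg.to_subgroup (Subgroup.center P)).exists_card_eq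
    have hn0 : n ≠ 0 := fun h => by
      rw [h, pow_zero] at hn
      exact absurd hn (Finite.one_lt_card.ne')
    obtain ⟨⟨z, hzc⟩, hz⟩ := exists_prime_orderOf_dvd_card' (G := Subgroup.center P) r (hn ▸ dvd_pow_self r hn0)
    rw [Subgroup.orderOf_mk] at hz
    obtain ⟨g, hg⟩ : ∃ g : Module.End F V, g = ((z : V ≃ₗ[F] V) : V →ₗ[F] V) := ⟨_, rfl⟩
    have hga : ∀ x, g x = (z : V ≃ₗ[F] V) x := fun x => by rw [hg]; rfl
    have hpow : ∀ (k : ℕ) x, (g ^ k) x = ((z ^ k : P) : V ≃ₗ[F] V) x := by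
      intro k
      induction k with
      | zero => intro x; rfl
      | succ k ih => intro x; rw [pow_succ, Module.End.mul_apply, ih, hga, pow_succ, Subgroup.coe_mul]; rfl
    have hgr : g ^ r = 1 := LinearMap.ext fun x => by rw [hpow, ← hz, pow_orderOf_eq_one]; rfl
    have hiso : ∀ v, Q (g v) = Q v := fun v => by rw [hga]; exact hP z.2 v
    obtain ⟨hdim, hdvd, hfix, -⟩ := parts_facts hQ hr hr2 hr0 hgr hiso
    have hmov : 0 < finrank F (Free.moved g) := by
      refine Nat.pos_of_ne_zero fun h0 => hr.ne_one ?_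
      rw [← hz, orderOf_eq_one_iff]
      refine Subtype.ext (LinearEquiv.ext fun x => ?_)
      have h1 : g x - x ∈ Free.moved g := ⟨x, by simp⟩
      rw [Submodule.finrank_eq_zero.mp h0, Submodule.mem_bot, sub_eq_zero, hga] at h1
      exact h1
    have hinv : ∀ (h : P) x, x ∈ Free.fixSpace g → (h : V ≃ₗ[F] V) x ∈ Free.fixSpace g := fun h x hx => by
      rw [Free.mem_fixSpace, hga] at hx ⊢
      have e := congrArg (fun k : P => (k : V ≃ₗ[F] V) x) (Subgroup.mem_center_iff.mp hzc h)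
      simp only [Subgroup.coe_mul, LinearEquiv.mul_apply] at e
      rw [← e, hx]
    let res : P → (Free.fixSpace g ≃ₗ[F] Free.fixSpace g) := fun h => LinearEquiv.ofLinear
      (((h : V ≃ₗ[F] V) : V →ₗ[F] V).restrict (hinv h))
      ((((h⁻¹ : P) : V ≃ₗ[F] V) : V →ₗ[F] V).restrict (hinv h⁻¹))
      (LinearMap.ext fun x => Subtype.ext (by
        show (h : V ≃ₗ[F] V) (((h⁻¹ : P) : V ≃ₗ[F] V) (x : V)) = x
        rw [Subgroup.coe_inv, ← LinearEquiv.mul_apply, mul_inv_cancel]; rfl))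
      (LinearMap.ext fun x => Subtype.ext (by
        show ((h⁻¹ : P) : V ≃ₗ[F] V) ((h : V ≃ₗ[F] V) (x : V)) = x
        rw [Subgroup.coe_inv, ← LinearEquiv.mul_apply, inv_mul_cancel]; rfl))
    let ρ : P →* (Free.fixSpace g ≃ₗ[F] Free.fixSpace g) :=
      { toFun := res
        map_one' := LinearEquiv.ext fun x => Subtype.ext rfl
        map_mul' := fun a b => LinearEquiv.ext fun x => Subtype.ext rfl }
    obtain ⟨C, hC, hCf, hCd⟩ := ih (V := Free.fixSpace g) (Q := Q.comp (Free.fixSpace g).subtype) (by omega)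
      (QuadModels.pnd_res Q hfix) hr hr2 hr0 ρ.range (by
        rintro _ ⟨h, rfl⟩ x
        exact hP h.2 _) (hpg.of_surjective ρ.rangeRestrict ρ.rangeRestrict_surjective)
    refine ⟨C.map (Free.fixSpace g).subtype, ?_, fun h hh x hx => ?_, ?_⟩
    · rintro _ ⟨x, hx, rfl⟩ h
      rw [hC x hx fun y hy => by rw [OType.polar_comp]; exact h _ ⟨y, hy, rfl⟩]
      rfl
    · obtain ⟨y, hy, rfl⟩ := hx
      exact congrArg Subtype.val (hCf _ ⟨⟨h, hh⟩, rfl⟩ y hy)
    · rw [Submodule.finrank_map_subtype_eq]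
      have := Submodule.finrank_le C
      rw [show finrank F V - finrank F C = finrank F (Free.moved g) + (finrank F (Free.fixSpace g) - finrank F C) by omega]
      exact dvd_add hdvd hCd

theorem plus_map {g : V ≃ₗ[F] V} (hg : ∀ v, Q (g v) = Q v) {W : Submodule F V} (h : OType.IsPlus Q W) :
    OType.IsPlus Q (W.map (g : V →ₗ[F] V)) := by
  obtain ⟨U, hUW, hU, hd⟩ := h
  refine ⟨U.map (g : V →ₗ[F] V), Submodule.map_mono hUW, ?_, ?_⟩
  · rintro _ ⟨x, hx, rfl⟩
    exact (hg x).trans (hU x hx)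
  · rw [LinearEquiv.finrank_map_eq, LinearEquiv.finrank_map_eq, hd]

/-- The members fixed by a Sylow subgroup keep small members' number prime to `r`. -/
theorem mod_le_of_dvd_card (h2 : (2 : F) ≠ 0) (hQ : OCount.PND Q) (hr : r.Prime) (hr2 : r ≠ 2) (hr0 : (r : F) ≠ 0)
    {m : ℕ} (hm : 2 ≤ m) (hme : Even m) (P : Prop)
    (hdvd : r ∣ Nat.card {W : Submodule F V // finrank F W = m ∧ QuadBasis.Nondeg Q W ∧ (OType.IsPlus Q W ↔ P)}) :
    finrank F V % unit F r ≤ m := by
  classical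
  by_contra hlt
  push Not at hlt
  haveI : Fact r.Prime := ⟨hr⟩
  haveI : Finite V := Module.finite_of_finite F
  haveI : Finite (V ≃ₗ[F] V) := Finite.of_injective (fun h : V ≃ₗ[F] V => (h : V → V)) DFunLike.coe_injective
  obtain ⟨S⟩ : Nonempty (Sylow r ↥(ORefl.Iso Q)) := inferInstance
  obtain ⟨P', hP'⟩ : ∃ P', P' = (S : Subgroup ↥(ORefl.Iso Q)).map (ORefl.Iso Q).subtype := ⟨_, rfl⟩
  obtain ⟨C, hCn, hCf, hCd⟩ := exists_fixed_sub (finrank F V) le_rfl hQ hr hr2 hr0 P'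
    (hP' ▸ Subgroup.map_subtype_le _) (hP' ▸ S.2.map _)
  obtain ⟨e, he⟩ := hme
  rw [← two_mul] at he
  have hCm : m < finrank F C := by
    obtain ⟨t, ht⟩ := hCd
    have := Submodule.finrank_le C
    have h1 : finrank F V % unit F r = finrank F C % unit F r := by
      rw [show finrank F V = finrank F C + unit F r * t by omega, Nat.add_mul_mod_self_left]
    have := Nat.mod_le (finrank F C) (unit F r)
    omega
  obtain ⟨T, hT, hn, hd, hP⟩ := OType.exists_adjust h2 (U := ⊥) (fun x hx _ => (Submodule.mem_bot F).mp hx) hCn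
    (fun x hx y _ => by rw [(Submodule.mem_bot F).mp hx, polar_zero_left]) (s := m) (e := e) (by omega) hCm
    (by rw [finrank_bot]; omega) P
  rw [bot_sup_eq] at hn hd hP
  let X := {W : Submodule F V // finrank F W = m ∧ QuadBasis.Nondeg Q W ∧ (OType.IsPlus Q W ↔ P)}
  have hmapX : ∀ (g : ↥(ORefl.Iso Q)) (W : X), finrank F (W.1.map ((g : V ≃ₗ[F] V) : V →ₗ[F] V)) = m ∧
      QuadBasis.Nondeg Q (W.1.map ((g : V ≃ₗ[F] V) : V →ₗ[F] V)) ∧
      (OType.IsPlus Q (W.1.map ((g : V ≃ₗ[F] V) : V →ₗ[F] V)) ↔ P) := fun g W => by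
    refine ⟨by rw [LinearEquiv.finrank_map_eq]; exact W.2.1, ?_, ?_⟩
    · rintro _ ⟨x, hx, rfl⟩ h
      rw [W.2.2.1 x hx fun y hy => by
        have := h _ ⟨y, hy, rfl⟩
        simpa [polar, ← map_add, show ∀ v, Q ((g : V ≃ₗ[F] V) v) = Q v from g.2] using this]
      exact map_zero _
    · refine Iff.trans ⟨fun h => ?_, plus_map (g := (g : V ≃ₗ[F] V)) g.2⟩ W.2.2.2
      have := plus_map (g := ((g⁻¹ : ↥(ORefl.Iso Q)) : V ≃ₗ[F] V)) (g⁻¹).2 h
      rwa [← Submodule.map_comp, ← LinearEquiv.coe_trans,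
        show (g : V ≃ₗ[F] V).trans ((g⁻¹ : ↥(ORefl.Iso Q)) : V ≃ₗ[F] V) = LinearEquiv.refl F V from
          LinearEquiv.ext fun x => by
            show ((g⁻¹ : ↥(ORefl.Iso Q)) : V ≃ₗ[F] V) ((g : V ≃ₗ[F] V) x) = x
            rw [← LinearEquiv.mul_apply, ← Subgroup.coe_mul, inv_mul_cancel]; rfl,
        LinearEquiv.refl_toLinearMap, Submodule.map_id] at this
  letI : MulAction ↥(ORefl.Iso Q) X :=
    { smul := fun g W => ⟨W.1.map ((g : V ≃ₗ[F] V) : V →ₗ[F] V), hmapX g W⟩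
      one_smul := fun W => Subtype.ext (Submodule.map_id W.1)
      mul_smul := fun a b W => Subtype.ext (Submodule.map_comp _ _ W.1) }
  haveI : MulAction.IsPretransitive ↥(ORefl.Iso Q) X := ⟨fun W₁ W₂ => by
    obtain ⟨φ, hφ⟩ := OType.exists_isometry W₁.2.2.1 W₂.2.2.1 (e := e) (by omega) (W₁.2.1.trans he) (W₂.2.1.trans he)
      (W₁.2.2.2.trans W₂.2.2.2.symm)
    obtain ⟨g, hg, hgW⟩ := ORefl.witt hQ W₁.1 (W₂.1.subtype ∘ₗ φ.toLinearMap)
      (W₂.1.injective_subtype.comp φ.injective) hφ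
    refine ⟨⟨g, hg⟩, Subtype.ext ?_⟩
    show W₁.1.map (g : V →ₗ[F] V) = W₂.1
    refine Submodule.eq_of_le_of_finrank_le ?_ (by rw [LinearEquiv.finrank_map_eq, W₁.2.1, W₂.2.1])
    rintro _ ⟨x, hx, rfl⟩
    rw [show (g : V →ₗ[F] V) x = _ from hgW ⟨x, hx⟩]
    exact (φ ⟨x, hx⟩).2⟩
  obtain ⟨W₀, hW₀⟩ : ∃ W₀ : X, W₀.1 = T := ⟨⟨T, hd.trans he.symm, hn, hP⟩, rfl⟩
  have hle : (S : Subgroup ↥(ORefl.Iso Q)) ≤ MulAction.stabilizer ↥(ORefl.Iso Q) W₀ := fun g hg => by
    refine MulAction.mem_stabilizer_iff.mpr (Subtype.ext ?_)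
    show W₀.1.map ((g : V ≃ₗ[F] V) : V →ₗ[F] V) = W₀.1
    rw [hW₀]
    have hfix : ∀ x ∈ T, (g : V ≃ₗ[F] V) x = x := fun x hx => hCf _ (hP' ▸ ⟨g, hg, rfl⟩) x (hT hx)
    refine le_antisymm ?_ fun x hx => ⟨x, hx, hfix x hx⟩
    rintro _ ⟨x, hx, rfl⟩
    rw [show ((g : V ≃ₗ[F] V) : V →ₗ[F] V) x = x from hfix x hx]
    exact hx
  have h1 := MulAction.index_stabilizer_of_transitive ↥(ORefl.Iso Q) W₀
  exact S.not_dvd_index (dvd_trans hdvd (h1 ▸ Subgroup.index_dvd_of_le hle))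

section Standard

variable {ι : Type} [Fintype ι] [DecidableEq ι]

theorem exists_model_fin (h2 : (2 : F) ≠ 0) (hr : r.Prime) (hr2 : r ≠ 2) (hr0 : (r : F) ≠ 0) {n N k : ℕ}
    (hN : 1 ≤ N) (hk : 1 ≤ k) (hn : unit F r * N + k = n) (Q : QuadraticForm F (Fin n → F))
    (hQ : (polarBilin Q).Nondegenerate) :
    ∃ f : Module.End F (Fin n → F), f ^ r = 1 ∧ (∀ v, Q (f v) = Q v) ∧ TensorSpO.rk f = unit F r * N := by
  classical
  obtain ⟨M, _, _, _, B, g, hfree, halt, hM⟩ : ∃ (M : Type u) (_ : AddCommGroup M) (_ : Module F M)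
      (_ : FiniteDimensional F M) (B : LinearMap.BilinForm F M) (g : Module.End F M),
      Free.IsFree B g r ∧ SpCount.IsAltND B ∧ finrank F M = unit F r * N := by
    unfold unit
    by_cases he : Even (orderOf (Fintype.card F : ZMod r))
    · obtain ⟨M, i1, i2, i3, B, g, h1, h2', h3, -⟩ := Free.exists_spread (F := F) hr hr2 hr0 he N
      exact ⟨M, i1, i2, i3, B, g, h1, h2', by rw [h3, if_pos he]⟩
    · obtain ⟨M, i1, i2, i3, B, g, h1, h2', h3⟩ := Free.exists_paired (F := F) hr hr2 hr0 N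
      exact ⟨M, i1, i2, i3, B, g, h1, h2', by rw [h3, if_neg he]; ring⟩
  obtain ⟨B', hB'⟩ : ∃ B' : LinearMap.BilinForm F M, B' = B.comp g LinearMap.id - B.comp LinearMap.id g := ⟨_, rfl⟩
  have hBa : ∀ u v, B' u v = B (g u) v - B u (g v) := fun u v => by rw [hB']; rfl
  have hB's : ∀ u v, B' v u = B' u v := fun u v => by
    rw [hBa, hBa, halt.swap (g u) v, halt.swap u (g v)]; ring
  have hB'nd : ∀ u, (∀ v, B' u v = 0) → u = 0 := fun u hu => twist_facts hfree halt.nondeg u (hB' ▸ hu)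
  obtain ⟨QM, hQM⟩ : ∃ QM : QuadraticForm F M, QM = LinearMap.BilinMap.toQuadraticMap B' := ⟨_, rfl⟩
  have hQMp : ∀ u v, polar QM u v = 2 * B' u v := fun u v => by
    simp only [polar, hQM, LinearMap.BilinMap.toQuadraticMap_apply, map_add, LinearMap.add_apply]
    rw [hB's u v]; ring
  have hQMiso : ∀ u, QM (g u) = QM u := fun u => by
    rw [hQM, LinearMap.BilinMap.toQuadraticMap_apply, LinearMap.BilinMap.toQuadraticMap_apply, hBa, hBa,
      hfree.isometry, hfree.isometry]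
  let b : Basis (Fin (unit F r * N)) F M := Module.finBasisOfFinrankEq F M hM
  obtain ⟨GM, hGM⟩ : ∃ GM, GM = (Matrix.of fun i j => 2 * B' (b i) (b j)).det := ⟨_, rfl⟩
  have hGM0 : GM ≠ 0 := by
    rw [hGM, show (Matrix.of fun i j => 2 * B' (b i) (b j)) = (2 : F) • LinearMap.toMatrix₂ b b B' from
      Matrix.ext fun i j => by rw [Matrix.smul_apply, LinearMap.toMatrix₂_apply]; rfl, Matrix.det_smul]
    refine mul_ne_zero (pow_ne_zero _ h2) ((LinearMap.nondegenerate_iff_det_ne_zero b).mp ⟨hB'nd, fun v hv => ?_⟩)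
    exact hB'nd v fun w => (hB's w v).trans (hv w)
  obtain ⟨τ⟩ : Nonempty (Fin n ≃ Fin (unit F r * N) ⊕ Fin k) := ⟨Fintype.equivOfCardEq (by simp; omega)⟩
  let Φ : (M × (Fin k → F)) ≃ₗ[F] (Fin n → F) :=
    (b.equivFun.prodCongr (LinearEquiv.refl F (Fin k → F))).trans
      ((LinearEquiv.sumArrowLequivProdArrow _ _ F F).symm.trans (LinearEquiv.funCongrLeft F F τ))
  obtain ⟨D, hD⟩ : ∃ D, D = (Matrix.of fun i j : Fin n => polar ⇑Q (Pi.single i 1) (Pi.single j 1)).det := ⟨_, rfl⟩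
  have hD0 : D ≠ 0 := by
    rw [hD, show (Matrix.of fun i j : Fin n => polar ⇑Q (Pi.single i 1) (Pi.single j 1)) =
        LinearMap.toMatrix₂' F (polarBilin Q) from Matrix.ext fun i j => by
          rw [LinearMap.toMatrix₂'_apply, polarBilin_apply_apply]; rfl,
      ← LinearMap.nondegenerate_toLinearMap₂'_iff_det_ne_zero, Matrix.toLinearMap₂'_toMatrix']
    exact hQ
  obtain ⟨c, hc⟩ : ∃ c, c = 2 ^ k * GM * D := ⟨_, rfl⟩
  have hc0 : c ≠ 0 := hc ▸ mul_ne_zero (mul_ne_zero (pow_ne_zero _ h2) hGM0) hD0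
  obtain ⟨w, hw⟩ : ∃ w : Fin k → F, w = fun j => if j = ⟨0, hk⟩ then c else 1 := ⟨_, rfl⟩
  have hwprod : ∏ j, (2 * w j) = 2 ^ k * c := by
    rw [Finset.prod_mul_distrib, Finset.prod_const, Finset.card_univ, Fintype.card_fin, hw, Fintype.prod_ite_eq']
  obtain ⟨QW, hQW⟩ : ∃ QW : QuadraticForm F (Fin k → F), QW = QuadraticMap.weightedSumSquares F w := ⟨_, rfl⟩
  have hQWp : ∀ x y, polar QW x y = ∑ j, 2 * w j * (x j * y j) := fun x y => by
    simp only [polar, hQW, QuadraticMap.weightedSumSquares_apply, smul_eq_mul, Pi.add_apply, ← Finset.sum_sub_distrib]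
    exact Finset.sum_congr rfl fun j _ => by ring
  obtain ⟨Q₁, hQ₁⟩ : ∃ Q₁ : QuadraticForm F (Fin n → F), Q₁ = (QM.prod QW).comp Φ.symm.toLinearMap := ⟨_, rfl⟩
  have hQ₁a : ∀ u, Q₁ (Φ u) = QM u.1 + QW u.2 := fun u => by
    rw [hQ₁, QuadraticMap.comp_apply, LinearEquiv.coe_coe, LinearEquiv.symm_apply_apply, QuadraticMap.prod_apply]
  have hΦ : ∀ i, Φ (Sum.elim (fun a => (b a, 0)) (fun j => (0, Pi.single j 1)) (τ i)) = Pi.single i 1 := by
    intro i
    funext l
    rcases hτ : τ i with a | j <;> rcases hl : τ l with a' | j'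
    all_goals
      have hli : l = i ↔ τ l = τ i := τ.injective.eq_iff.symm
      simp [Φ, LinearEquiv.funCongrLeft_apply, LinearMap.funLeft_apply, hl, Pi.single_apply, hli, hτ,
        Finsupp.single_apply, eq_comm]
  have hgram : (Matrix.of fun i j : Fin n => polar ⇑Q₁ (Pi.single i 1) (Pi.single j 1)).det = GM * (2 ^ k * c) := by
    have e : (Matrix.of fun i j : Fin n => polar ⇑Q₁ (Pi.single i 1) (Pi.single j 1)) =
        (Matrix.fromBlocks (Matrix.of fun i j => 2 * B' (b i) (b j)) 0 0 (Matrix.diagonal fun j => 2 * w j)).submatrix τ τ := by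
      ext i j
      rw [Matrix.of_apply, ← hΦ i, ← hΦ j, polar, ← map_add, hQ₁a, hQ₁a, hQ₁a, Matrix.submatrix_apply]
      rcases τ i with a | a <;> rcases τ j with a' | a'
      · simp [← hQMp, polar]
      · simp
      · simp
      · have h := hQWp (Pi.single a 1) (Pi.single a' 1)
        simp only [polar] at h
        simp [h, Pi.single_apply, Matrix.diagonal_apply, eq_comm]
        rcases eq_or_ne a a' with rfl | hne <;> simp [*]
    rw [e, Matrix.det_submatrix_equiv_self, Matrix.det_fromBlocks_zero₂₁, Matrix.det_diagonal, hwprod, ← hGM]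
  have hQ₁nd : (polarBilin Q₁).Nondegenerate := by
    rw [← Matrix.toLinearMap₂'_toMatrix' (R := F) (polarBilin Q₁), LinearMap.nondegenerate_toLinearMap₂'_iff_det_ne_zero,
      show LinearMap.toMatrix₂' F (polarBilin Q₁) = Matrix.of fun i j : Fin n => polar ⇑Q₁ (Pi.single i 1) (Pi.single j 1) from
        Matrix.ext fun i j => by rw [LinearMap.toMatrix₂'_apply, polarBilin_apply_apply]; rfl, hgram]
    exact mul_ne_zero hGM0 (mul_ne_zero (pow_ne_zero _ h2) hc0)
  obtain ⟨φ, hφ⟩ := (QuadBasis.isometric_iff h2 Q₁ Q hQ₁nd hQ).mpr ⟨c, by rw [hgram, ← hD, hc]; ring⟩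
  let Ψ : (M × (Fin k → F)) ≃ₗ[F] (Fin n → F) := Φ.trans φ
  let g' : Module.End F (M × (Fin k → F)) := g.prodMap 1
  have hg' : ∀ u, g' u = (g u.1, u.2) := fun _ => rfl
  obtain ⟨f, hf⟩ : ∃ f : Module.End F (Fin n → F), ∀ u, f (Ψ u) = Ψ (g' u) :=
    ⟨Ψ.toLinearMap ∘ₗ g' ∘ₗ Ψ.symm.toLinearMap, fun u => by simp⟩
  have hpow : ∀ (j : ℕ) u, (f ^ j) (Ψ u) = Ψ ((g ^ j) u.1, u.2) := by
    intro j
    induction j with
    | zero => intro u; rfl
    | succ j ih => intro u; rw [pow_succ, Module.End.mul_apply, hf, ih, hg', pow_succ, Module.End.mul_apply]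
  refine ⟨f, LinearMap.ext fun v => ?_, fun v => ?_, ?_⟩
  · obtain ⟨u, rfl⟩ := Ψ.surjective v
    rw [hpow, hfree.pow_eq]; rfl
  · obtain ⟨u, rfl⟩ := Ψ.surjective v
    rw [hf]
    show Q (φ (Φ (g' u))) = Q (φ (Φ u))
    rw [hφ, hφ, hQ₁a, hQ₁a, hg', hQMiso]
  · rw [TensorSpO.rk_conj Ψ hf]
    have hinj : Function.Injective (g - 1 : Module.End F M) := (injective_iff_map_eq_zero _).mpr fun v hv =>
      hfree.fixfree v (sub_eq_zero.mp hv)
    have hr' : LinearMap.range (g' - 1) = LinearMap.range (LinearMap.inl F M (Fin k → F)) := by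
      ext u
      constructor
      · rintro ⟨v, rfl⟩
        exact ⟨(g - 1) v.1, Prod.ext (by simp [hg']) (by simp [hg'])⟩
      · rintro ⟨m, rfl⟩
        obtain ⟨v, rfl⟩ := LinearMap.injective_iff_surjective.mp hinj m
        exact ⟨(v, 0), Prod.ext (by simp [hg']) (by simp [hg'])⟩
    rw [TensorSpO.rk, hr', LinearMap.finrank_range_of_inj LinearMap.inl_injective, hM]

/-- An element of order `r` fixing no member, when the condition fails. -/
theorem exists_derangement (h2 : (2 : F) ≠ 0) (hr : r.Prime) (hr2 : r ≠ 2) (hr0 : (r : F) ≠ 0)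
    {Q : QuadraticForm F (ι → F)} (hQ : OCount.PND Q) (hodd : Odd (Fintype.card ι)) {m : ℕ} (hm : 2 ≤ m)
    (hme : Even m) (hcn : unit F r ≤ Fintype.card ι) (P : Prop)
    (hc : ¬ (m % unit F r < Fintype.card ι % unit F r ∧
      (m % unit F r = 0 → (P ↔ (Odd (orderOf (Fintype.card F : ZMod r)) ∨ Even (m / unit F r)))))) :
    ∃ x : GL ι F, x ∈ Cfsg.Geo.omegaGL ⇑Q ∧ orderOf x = r ∧
      ∀ W : Submodule F (ι → F), finrank F W = m → QuadBasis.Nondeg Q W → (OType.IsPlus Q W ↔ P) →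
        ¬ W.map (Matrix.toLin' (x : Matrix ι ι F)) ≤ W := by
  classical
  obtain ⟨-, hupos, hue⟩ := unit_pos (F := F) hr hr0
  obtain ⟨c, hcdef⟩ : ∃ c, c = unit F r := ⟨_, rfl⟩
  obtain ⟨n, hn⟩ : ∃ n, n = Fintype.card ι := ⟨_, rfl⟩
  have hdm := Nat.div_add_mod n c
  have hN : 1 ≤ n / c := (Nat.one_le_div_iff (hcdef ▸ hupos)).mpr (hn ▸ hcdef ▸ hcn)
  have hk : 1 ≤ n % c := by
    refine Nat.pos_of_ne_zero fun h0 => ?_
    rw [h0, add_zero] at hdm
    rw [← hn, ← hdm, Nat.odd_iff] at hodd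
    have : Even (c * (n / c)) := (hcdef ▸ hue).mul_right _
    rw [Nat.even_iff] at this
    omega
  obtain ⟨L⟩ : Nonempty ((Fin n → F) ≃ₗ[F] (ι → F)) :=
    ⟨LinearEquiv.funCongrLeft F F ((Fintype.equivFin ι).trans (finCongr hn.symm))⟩
  obtain ⟨f, hfr, hf, hrk⟩ := exists_model_fin h2 hr hr2 hr0 hN hk (hcdef ▸ hdm) (Q.comp L.toLinearMap)
    (QuadModels.nondegenerate fun v hv => L.injective (by
      rw [map_zero]
      refine hQ _ fun w => ?_
      have := hv (L.symm w)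
      simpa [polar] using this))
  obtain ⟨A, hA⟩ := (Matrix.toLin' (R := F) (m := ι) (n := ι)).surjective (L.toLinearMap ∘ₗ f ∘ₗ L.symm.toLinearMap)
  have hA' : ∀ v, Matrix.toLin' A v = L (f (L.symm v)) := fun v => by rw [hA]; rfl
  have hpow : ∀ (j : ℕ) v, ((Matrix.toLin' A) ^ j) v = L ((f ^ j) (L.symm v)) := by
    intro j v
    induction j generalizing v with
    | zero => simp
    | succ j ih => rw [pow_succ, Module.End.mul_apply, hA', ih, LinearEquiv.symm_apply_apply, pow_succ]; rfl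
  have hAr : A ^ r = 1 := by
    apply Matrix.toLin'.injective
    refine LinearMap.ext fun v => ?_
    rw [Matrix.toLin'_pow, hpow, hfr, Matrix.toLin'_one]
    simp
  obtain ⟨x, rfl⟩ := IsUnit.of_pow_eq_one hAr hr.ne_zero
  obtain ⟨g, hg⟩ : ∃ g, g = Matrix.toLin' (x : Matrix ι ι F) := ⟨_, rfl⟩
  rw [← hg] at hA' hpow
  have hxr : x ^ r = 1 := Units.ext hAr
  have hgr : g ^ r = 1 := LinearMap.ext fun v => by rw [hpow, hfr]; simp
  have hiso : ∀ v, Q (g v) = Q v := fun v => by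
    rw [hA']
    have h := hf (L.symm v)
    simpa using h
  have hrkg : TensorSpO.rk g = c * (n / c) := by
    rw [TensorSpO.rk_conj L (g := f) fun v => by rw [hA', LinearEquiv.symm_apply_apply], hrk, hcdef]
  have hV : finrank F (ι → F) = n := by rw [finrank_fintype_fun_eq_card, hn]
  have hx : x ∈ Cfsg.isometryGroup F ⇑Q := fun v _ => by
    have h := hiso v
    rw [hg] at h
    exact h
  refine ⟨x, ?_, ?_, fun W hWd hWn hWP hWinv => hc ?_⟩
  · obtain ⟨j, hj⟩ := hr.odd_of_ne_two hr2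
    obtain ⟨y, hy⟩ : ∃ y : ↥(Cfsg.isometryGroup F ⇑Q), y = ⟨x, hx⟩ ^ (j + 1) := ⟨_, rfl⟩
    refine ⟨y * y, ?_, ?_⟩
    · rw [SetLike.mem_coe, OOmega.omega_eq_map]
      refine ⟨(ORefl.toMat Q).symm (y * y), ?_, MulEquiv.apply_symm_apply _ _⟩
      rw [SetLike.mem_coe, OOmega.commutator_eq h2 hQ (by
        rw [hV]; rw [← hn, Nat.odd_iff] at hodd; have := Nat.le_mul_of_pos_right c hN; have := hcdef ▸ hupos; omega),
        MonoidHom.mem_ker, map_mul, map_mul]
      exact Prod.ext (Int.units_mul_self _) (Int.units_mul_self _)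
    · rw [hy, Subgroup.coe_subtype, Subgroup.coe_mul, SubgroupClass.coe_pow, ← pow_add,
        show j + 1 + (j + 1) = r + 1 by omega, pow_succ, hxr, one_mul]
  · haveI : Fact r.Prime := ⟨hr⟩
    refine orderOf_eq_prime hxr fun h => ?_
    have h0 : g - 1 = 0 := by rw [hg, h, Units.val_one, Matrix.toLin'_one]; exact sub_self _
    rw [TensorSpO.rk, h0, LinearMap.range_zero, finrank_bot] at hrkg
    have := Nat.mul_pos (hcdef ▸ hupos) hN
    omega
  · rw [← hcdef, ← hn]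
    have hinv : ∀ v ∈ W, g v ∈ W := fun v hv => hWinv ⟨v, hv, by rw [hg]⟩
    have ht := tame_of (Q := Q) hr0 hgr hiso
    obtain ⟨hdim, -, hfixn, hmovn⟩ := parts_facts hQ hr hr2 hr0 hgr hiso
    have hfixd : finrank F (Free.fixSpace g) = n % c := by
      have : finrank F (Free.moved g) = c * (n / c) := hrkg
      omega
    have hsplit := ht.finrank_split hinv
    have hWMn : QuadBasis.Nondeg Q (W ⊓ Free.moved g) := fun x hx h => hWn x hx.1 fun y hy => by
      have hav : Free.avg g r y ∈ W := by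
        have key : ∀ k : ℕ, (g ^ k) y ∈ W := by
          intro k
          induction k with
          | zero => exact hy
          | succ k ih => rw [pow_succ', Module.End.mul_apply]; exact hinv _ ih
        simp only [Free.avg, LinearMap.smul_apply, LinearMap.sum_apply]
        exact W.smul_mem _ (W.sum_mem fun k _ => key k)
      rw [← add_sub_cancel (Free.avg g r y) y, polar_add_right, h _ ⟨W.sub_mem hy hav, ht.sub_avg_mem y⟩,
        polar_comm, show polar Q (Free.avg g r y) x = 0 from ht.perp (ht.avg_mem y) hx.2, zero_add]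
    have hu := unit_type hWMn (fun v hv => ⟨hinv v hv.1, Free.moved_invariant hv.2⟩) hr hr2 hr0
      (fun v _ => by rw [hgr]; rfl) (fun v hv h => moved_fix ht hv.2 h) hiso
    obtain ⟨j, hj⟩ := hu.1
    rw [← hcdef] at hj
    have hs := Submodule.finrank_mono (inf_le_right : W ⊓ Free.fixSpace g ≤ Free.fixSpace g)
    rw [hWd, hj] at hsplit
    rw [hfixd] at hs
    have hklt : n % c < c := Nat.mod_lt _ (hcdef ▸ hupos)
    have hpar : finrank F ↥(W ⊓ Free.fixSpace g) % 2 = 0 := by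
      have : Even (c * j) := (hcdef ▸ hue).mul_right _
      rw [Nat.even_iff] at this hme
      omega
    have hkodd : (n % c) % 2 = 1 := by
      have : Even (c * (n / c)) := (hcdef ▸ hue).mul_right _
      rw [Nat.even_iff] at this
      rw [← hn, Nat.odd_iff] at hodd
      omega
    have hmc : m % c = finrank F ↥(W ⊓ Free.fixSpace g) := by
      rw [hsplit, Nat.add_mul_mod_self_left]
      exact Nat.mod_eq_of_lt (by omega)
    refine ⟨by omega, fun h0 => ?_⟩
    have hmj : m = c * j := by omega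
    have hWeq : W ⊓ Free.moved g = W :=
      Submodule.eq_of_le_of_finrank_le inf_le_left (by rw [hWd, hj, hmj])
    have hj1 : 1 ≤ j := Nat.pos_of_ne_zero fun h => by rw [h, mul_zero] at hmj; omega
    have htype := hu.2 j hj1 (by rw [hj, hcdef])
    rw [hWeq, hWP] at htype
    rw [htype, hmj, Nat.mul_div_cancel_left _ (hcdef ▸ hupos)]

end Standard

end Cfsg.Agent.Classical.Elusive.OFree
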