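import Cfsg.Agent.Lib.Classical.Elusive.Cases
import Cfsg.Agent.Lib.Classical.UnitaryOrders
import Cfsg.Agent.Lib.Small.Hermitian
import Cfsg.Agent.Lib.Small.UnitaryConj

/-!
# Prime order elements and unitary similarity groups: forms, index, derangements
-/

set_option autoImplicit false
set_option linter.unusedSectionVars false
set_option linter.style.haveILetI false
set_option maxHeartbeats 400000

namespace Cfsg.Agent.Classical.Elusive.USim

open Matrix Polynomial Module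

universe u

variable {F : Type u} [Field F] [Fintype F] {q₀ : ℕ} {σ : F ≃+* F} {n : ℕ}

section Twist

variable {ι : Type*} [Fintype ι] [DecidableEq ι]

/-- The matrix of a transported sesquilinear form. -/
def tw (σ : F ≃+* F) (P x : Matrix ι ι F) : Matrix ι ι F := xᵀ * P * x.map σ

/-- Hermitian matrices. -/
def Herm (σ : F ≃+* F) (P : Matrix ι ι F) : Prop := (P.map σ)ᵀ = P

theorem tw_tw (P a b : Matrix ι ι F) : tw σ P (a * b) = tw σ (tw σ P a) b := by
  simp only [tw, Matrix.transpose_mul, Matrix.map_mul, Matrix.mul_assoc]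

theorem tw_one (P : Matrix ι ι F) : tw σ P 1 = P := by
  simp only [tw, Matrix.transpose_one, Matrix.map_one _ (map_zero σ) (map_one σ), Matrix.one_mul, Matrix.mul_one]

theorem tw_smul (c : F) (P a : Matrix ι ι F) : tw σ (c • P) a = c • tw σ P a := by
  simp only [tw, Matrix.mul_smul, Matrix.smul_mul]

theorem tw_smul_right (c : F) (P a : Matrix ι ι F) : tw σ P (c • a) = (c * σ c) • tw σ P a := by
  have h : (c • a).map σ = σ c • a.map σ := by
    ext i j
    simp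
  simp only [tw, h, Matrix.transpose_smul, Matrix.smul_mul, Matrix.mul_smul, smul_smul]
  rw [mul_comm]

theorem herm_tw (hinv : ∀ a, σ (σ a) = a) {P : Matrix ι ι F} (hP : Herm σ P) (a : Matrix ι ι F) :
    Herm σ (tw σ P a) := by
  have h2 : (a.map σ).map σ = a := by
    ext i j
    simp [hinv]
  simp only [Herm, tw, Matrix.map_mul, Matrix.transpose_mul, h2, Matrix.transpose_map, Matrix.transpose_transpose,
    show (P.map σ)ᵀ = P from hP, Matrix.mul_assoc]

theorem isUnit_tw {P a : Matrix ι ι F} (hP : IsUnit P) (ha : IsUnit a) : IsUnit (tw σ P a) := by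
  rw [Matrix.isUnit_iff_isUnit_det] at hP ha ⊢
  rw [tw, Matrix.det_mul, Matrix.det_mul, Matrix.det_transpose, ← RingEquiv.coe_toRingHom σ,
    ← RingHom.mapMatrix_apply, ← RingHom.map_det]
  exact (ha.mul hP).mul (ha.map _)

end Twist

section Form

variable (hσ : IsUSigma q₀ σ) {f : (Fin n → F) → (Fin n → F) → F} (hf : Cfsg.Geo.IsUnitaryFormPow q₀ f)

include hσ hf

theorem hermND : UCount.IsHermND σ f :=
  ⟨hf.add_left, hf.smul_left, fun x y => by rw [hσ.apply_eq, ← hf.herm], fun v hv => by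
    by_contra hne
    obtain ⟨-, w, hw⟩ := hf.nondegenerate v hne
    exact hw (hv w)⟩

omit hσ hf in
/-- The Gram matrix. -/
def gram (f : (Fin n → F) → (Fin n → F) → F) : Matrix (Fin n) (Fin n) F :=
  Matrix.of fun i j => f (Pi.single i 1) (Pi.single j 1)

theorem form_eq (u v : Fin n → F) : f u v = u ⬝ᵥ gram f *ᵥ (σ ∘ v) := by
  have H := hermND hσ hf
  have hu : u = ∑ i, u i • (Pi.single i 1 : Fin n → F) := pi_eq_sum_univ' u
  have hv : v = ∑ i, v i • (Pi.single i 1 : Fin n → F) := pi_eq_sum_univ' v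
  conv_lhs => rw [hu]
  rw [H.sum_left]
  simp only [dotProduct, Matrix.mulVec, gram, Matrix.of_apply, Function.comp_apply]
  refine Finset.sum_congr rfl fun i _ => ?_
  rw [H.smul_left]
  congr 1
  conv_lhs => rw [hv, ← H.symm, H.sum_left, map_sum]
  refine Finset.sum_congr rfl fun j _ => ?_
  rw [H.smul_left, map_mul, H.symm, mul_comm]

theorem form_mulVec (g : Matrix (Fin n) (Fin n) F) (u v : Fin n → F) :
    f (g *ᵥ u) (g *ᵥ v) = u ⬝ᵥ tw σ (gram f) g *ᵥ (σ ∘ v) := by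
  have h1 : σ ∘ (g *ᵥ v) = g.map σ *ᵥ (σ ∘ v) := funext fun i => by
    simpa using RingHom.map_mulVec σ.toRingHom g v i
  rw [form_eq hσ hf, h1, tw, ← Matrix.mulVec_mulVec, ← Matrix.mulVec_mulVec, Matrix.dotProduct_mulVec u gᵀ,
    Matrix.vecMul_transpose]

theorem gram_herm : Herm σ (gram f) := by
  ext i j
  exact (hermND hσ hf).symm _ _

theorem gram_isUnit : IsUnit (gram f) := by
  rw [Matrix.isUnit_iff_isUnit_det, isUnit_iff_ne_zero]
  intro h
  obtain ⟨w, hw0, hw⟩ := Matrix.exists_mulVec_eq_zero_iff.mpr h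
  obtain ⟨⟨u, hu⟩, -⟩ := hf.nondegenerate (σ ∘ w) fun h' => hw0 (funext fun i => σ.injective (by
    rw [Pi.zero_apply, map_zero σ]; simpa using congrFun h' i))
  apply hu
  rw [form_eq hσ hf, show σ ∘ σ ∘ w = w from funext fun i => hσ.involutive _, hw, dotProduct_zero]

theorem mem_sim_iff (y : GL (Fin n) F) :
    y ∈ Cfsg.Geo.similarityGroup f ↔ ∃ c : F, c ≠ 0 ∧ tw σ (gram f) y.1 = c • gram f := by
  constructor
  · rintro ⟨c, hc⟩
    refine ⟨c, c.ne_zero, Matrix.ext fun i j => ?_⟩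
    have h := hc (Pi.single i 1) (Pi.single j 1)
    rw [form_mulVec hσ hf] at h
    rw [Matrix.smul_apply, smul_eq_mul]
    refine Eq.trans ?_ h
    simp [Pi.single_apply, apply_ite σ, dotProduct, Matrix.mulVec]
  · rintro ⟨c, hc0, hc⟩
    refine ⟨Units.mk0 c hc0, fun u v => ?_⟩
    rw [form_mulVec hσ hf, hc, Matrix.smul_mulVec, dotProduct_smul, form_eq hσ hf u v, smul_eq_mul, Units.val_mk0]

omit hf in
theorem exists_congr_one {P : Matrix (Fin n) (Fin n) F} (hP : Herm σ P) (hu : IsUnit P) :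
    ∃ g : GL (Fin n) F, tw σ P g.1 = 1 := by
  letI : StarRing F := Small.Hermitian.starRingOfInvolution σ.toRingHom hσ.involutive
  obtain ⟨M, hM, hMP⟩ := Small.Hermitian.exists_congr_one (q := q₀) hσ.apply_eq hσ.card n P hP hu
  have hM' : IsUnit (M.map σ) := by
    have := hM.map σ.toRingHom.mapMatrix
    simpa using this
  refine ⟨hM'.unit, ?_⟩
  have h2 : (M.map σ).map σ = M := by
    ext i j
    exact hσ.involutive _
  rw [IsUnit.unit_spec, tw, h2]
  exact hMP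

omit hf in
theorem exists_congr {P P' : Matrix (Fin n) (Fin n) F} (hP : Herm σ P) (hu : IsUnit P) (hP' : Herm σ P')
    (hu' : IsUnit P') : ∃ g : GL (Fin n) F, tw σ P g.1 = P' := by
  obtain ⟨a, ha⟩ := exists_congr_one hσ hP hu
  obtain ⟨b, hb⟩ := exists_congr_one hσ hP' hu'
  refine ⟨a * b⁻¹, ?_⟩
  rw [Units.val_mul, tw_tw, ha, ← hb, ← tw_tw, Units.mul_inv, tw_one]

/-- An element with an invariant Hermitian form is conjugate into the similarity group. -/
theorem fix_of_form (x : GL (Fin n) F) {P : Matrix (Fin n) (Fin n) F} (hP : Herm σ P) (hu : IsUnit P) {c : F}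
    (hc0 : c ≠ 0) (hc : tw σ P x.1 = c • P)
    (hdet : ∀ u : F, u ≠ 0 → ∃ h : Matrix (Fin n) (Fin n) F, h.det = u ∧ h * x.1 = x.1 * h) :
    ∃ g ∈ Cfsg.Geo.specialLinear (Fin n) F, g⁻¹ * x * g ∈ Cfsg.Geo.similarityGroup f := by
  obtain ⟨g₀, hg₀⟩ := exists_congr hσ (gram_herm hσ hf) (gram_isUnit hσ hf) hP hu
  obtain ⟨h, hh, hhx⟩ := hdet ((Matrix.GeneralLinearGroup.det g₀)⁻¹ : Fˣ) (Units.ne_zero _)
  have hhu : IsUnit h := by
    rw [Matrix.isUnit_iff_isUnit_det, hh]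
    exact Units.isUnit _
  obtain ⟨h', rfl⟩ := hhu
  have hcomm : h' * x * h'⁻¹ = x := by
    rw [mul_inv_eq_iff_eq_mul]
    exact Units.ext hhx
  refine ⟨(g₀ * h')⁻¹, ?_, ?_⟩
  · rw [inv_mem_iff]
    show Matrix.GeneralLinearGroup.det (g₀ * h') = 1
    rw [map_mul, show Matrix.GeneralLinearGroup.det h' = (Matrix.GeneralLinearGroup.det g₀)⁻¹ from Units.ext hh,
      mul_inv_cancel]
  · rw [inv_inv, show g₀ * h' * x * (g₀ * h')⁻¹ = g₀ * (h' * x * h'⁻¹) * g₀⁻¹ by group, hcomm, mem_sim_iff hσ hf]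
    refine ⟨c, hc0, ?_⟩
    rw [Units.val_mul, Units.val_mul, tw_tw, tw_tw, hg₀, hc, tw_smul, ← hg₀, ← tw_tw, Units.mul_inv, tw_one]

/-- An element conjugate into the similarity group has an invariant form. -/
theorem form_of_fix {x g : GL (Fin n) F} (h : g⁻¹ * x * g ∈ Cfsg.Geo.similarityGroup f) (hn : 0 < n) :
    ∃ (P : Matrix (Fin n) (Fin n) F) (μ : F), IsUnit P ∧ σ μ = μ ∧ tw σ P x.1 = μ • P := by
  obtain ⟨c, -, hc⟩ := (mem_sim_iff hσ hf _).mp h
  refine ⟨tw σ (gram f) (g⁻¹ : GL (Fin n) F).1, c, isUnit_tw (gram_isUnit hσ hf) (Units.isUnit _), ?_, ?_⟩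
  · have h1 := herm_tw (a := (g⁻¹ * x * g : GL (Fin n) F).1) hσ.involutive (gram_herm hσ hf)
    rw [hc] at h1
    haveI : Nonempty (Fin n) := ⟨⟨0, hn⟩⟩
    have h0 : gram f ≠ 0 := fun h0 => by
      have := gram_isUnit hσ hf
      rw [h0] at this
      exact not_isUnit_zero this
    obtain ⟨i, j, hij⟩ : ∃ i j, gram f i j ≠ 0 := by
      by_contra hc'
      push Not at hc'
      exact h0 (Matrix.ext hc')
    have h2 := congrFun (congrFun h1 i) j
    have h3 : σ (gram f j i) = gram f i j := congrFun (congrFun (gram_herm hσ hf) i) j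
    simp only [Matrix.transpose_apply, Matrix.map_apply, Matrix.smul_apply, smul_eq_mul, map_mul, h3] at h2
    exact mul_right_cancel₀ hij h2
  · rw [← tw_tw, ← tw_smul, ← hc, ← tw_tw]
    congr 1
    rw [← Units.val_mul, ← Units.val_mul]
    congr 1
    group

/-- The special unitary group embeds into the similarity group, so the index divides a product. -/
theorem index_dvd (hn : 1 ≤ n) {r : ℕ} (hr : r.Prime) (hrq : ¬ r ∣ q₀)
    (hΩ : r ∣ (Cfsg.Geo.similarityGroup f).relIndex (Cfsg.Geo.specialLinear (Fin n) F)) :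
    ∃ i, 1 ≤ i ∧ i < n ∧ r ∣ (if Even i then q₀ ^ (i + 1) - 1 else q₀ ^ (i + 1) + 1) := by
  classical
  obtain ⟨k, rfl⟩ : ∃ k, n = k + 1 := ⟨n - 1, by omega⟩
  have h2 := hσ.two_le
  have hq : Fintype.card F = q₀ ^ 2 := hσ.card
  obtain ⟨g, hg⟩ := exists_congr_one hσ (gram_herm hσ hf) (gram_isUnit hσ hf)
  set S := Cfsg.Geo.specialLinear (Fin (k + 1)) F with hS
  set H := (Cfsg.Geo.similarityGroup f).subgroupOf S with hH
  have hmem : ∀ y : ↥(Cfsg.SU (k + 1) F q₀), g * Matrix.SpecialLinearGroup.toGL y.1 * g⁻¹ ∈ S := fun y => by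
    show Matrix.GeneralLinearGroup.det (g * Matrix.SpecialLinearGroup.toGL y.1 * g⁻¹) = 1
    rw [map_mul, map_mul, map_inv, mul_comm, inv_mul_cancel_left]
    exact Units.ext y.1.2
  have hsim : ∀ y : ↥(Cfsg.SU (k + 1) F q₀),
      g * Matrix.SpecialLinearGroup.toGL y.1 * g⁻¹ ∈ Cfsg.Geo.similarityGroup f := fun y => by
    have hy : tw σ 1 (Matrix.SpecialLinearGroup.toGL y.1 : GL (Fin (k + 1)) F).1 = 1 := by
      rw [tw, Matrix.mul_one]
      exact UCount.gram_mul hσ y.2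
    rw [mem_sim_iff hσ hf]
    refine ⟨1, one_ne_zero, ?_⟩
    rw [Units.val_mul, Units.val_mul, tw_tw, tw_tw, hg, hy, one_smul, ← hg, ← tw_tw, Units.mul_inv, tw_one]
  let φ : ↥(Cfsg.SU (k + 1) F q₀) →* ↥H :=
    { toFun := fun y => ⟨⟨_, hmem y⟩, hsim y⟩
      map_one' := Subtype.ext (Subtype.ext (by simp))
      map_mul' := fun a b => Subtype.ext (Subtype.ext (by
        show g * Matrix.SpecialLinearGroup.toGL (a * b).1 * g⁻¹ =
          g * Matrix.SpecialLinearGroup.toGL a.1 * g⁻¹ * (g * Matrix.SpecialLinearGroup.toGL b.1 * g⁻¹)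
        rw [Subgroup.coe_mul, map_mul]
        group)) }
  have hφ : Function.Injective φ := fun a b h => by
    have h' : g * Matrix.SpecialLinearGroup.toGL a.1 * g⁻¹ = g * Matrix.SpecialLinearGroup.toGL b.1 * g⁻¹ :=
      congrArg (fun z : ↥H => ((z : ↥S) : GL (Fin (k + 1)) F)) h
    exact Subtype.ext (Matrix.SpecialLinearGroup.toGL_injective (mul_left_cancel (mul_right_cancel h')))
  have hSH : (Cfsg.Geo.similarityGroup f).relIndex S * Nat.card (Cfsg.SU (k + 1) F q₀) ∣ Nat.card ↥S := by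
    rw [← H.index_mul_card]
    exact mul_dvd_mul (dvd_of_eq rfl) (Subgroup.card_dvd_of_injective φ hφ)
  have hGL : Nat.card ↥S * (q₀ ^ 2 - 1) = Nat.card (GL (Fin (k + 1)) F) := by
    rw [← Subgroup.card_mul_index S, hS, Cfsg.Geo.specialLinear, Subgroup.index_ker,
      MonoidHom.range_eq_top.mpr (fun u => ?_), Subgroup.card_top, Nat.card_units, Nat.card_eq_fintype_card (α := F), hq]
    exact ⟨⟨Matrix.diagonal (Function.update 1 0 (u : F)), Matrix.diagonal (Function.update 1 0 ((u⁻¹ : Fˣ) : F)),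
      by rw [Matrix.diagonal_mul_diagonal, ← Matrix.diagonal_one]; congr 1; funext i; by_cases h : i = 0 <;> simp [h],
      by rw [Matrix.diagonal_mul_diagonal, ← Matrix.diagonal_one]; congr 1; funext i; by_cases h : i = 0 <;> simp [h]⟩,
      Units.ext (by simp [Matrix.det_diagonal, Finset.prod_update_of_mem])⟩
  have hGLc : Nat.card (GL (Fin (k + 1)) F) =
      Nat.card (Cfsg.GU (k + 1) F q₀) * (q₀ ^ ((k + 1) * (k + 1 - 1) / 2) *
        ((q₀ - 1) * ∏ i ∈ Finset.range k, if Even (i + 1) then q₀ ^ (i + 1 + 1) - 1 else q₀ ^ (i + 1 + 1) + 1)) := by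
    rw [UCount.card_GU hσ, Matrix.card_GL_field, prod_pow_sub (F := F) _ _ le_rfl, hq,
      Fin.prod_univ_eq_prod_range (fun j => (q₀ ^ 2) ^ j), Fin.prod_univ_eq_prod_range (fun j => (q₀ ^ 2) ^ (k + 1 - j) - 1),
      Finset.prod_pow_eq_pow_sum, Finset.sum_range_id]
    rw [← Finset.prod_range_reflect (fun j => (q₀ ^ 2) ^ (k + 1 - j) - 1)]
    have h0 : (q₀ - 1) * ∏ i ∈ Finset.range k, (if Even (i + 1) then q₀ ^ (i + 1 + 1) - 1 else q₀ ^ (i + 1 + 1) + 1) =
        ∏ i ∈ Finset.range (k + 1), if Even i then q₀ ^ (i + 1) - 1 else q₀ ^ (i + 1) + 1 := by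
      rw [Finset.prod_range_succ']
      simp [mul_comm]
    rw [h0, ← pow_mul, two_mul, pow_add, mul_assoc, mul_assoc]
    congr 1
    rw [mul_left_comm]
    congr 1
    rw [← Finset.prod_mul_distrib]
    refine Finset.prod_congr rfl fun i hi => ?_
    rw [Finset.mem_range] at hi
    rw [show k + 1 - (k + 1 - 1 - i) = i + 1 by omega, ← pow_mul, mul_comm 2, pow_mul]
    have hsq : ∀ m : ℕ, m ^ 2 - 1 = (m + 1) * (m - 1) := fun m => by rw [← Nat.sq_sub_sq, one_pow]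
    rw [hsq]
    split_ifs <;> ring
  have hmain := (mul_dvd_mul_right hSH (q₀ ^ 2 - 1))
  rw [hGL, hGLc, mul_assoc _ (Nat.card _), show q₀ ^ 2 - 1 = (q₀ + 1) * (q₀ - 1) by rw [← Nat.sq_sub_sq, one_pow],
    ← mul_assoc (Nat.card _), mul_comm (Nat.card _) (q₀ + 1), UCount.card_SU hσ (by omega)] at hmain
  rw [mul_comm (q₀ - 1) (∏ i ∈ Finset.range k, _), ← mul_assoc (q₀ ^ _), ← mul_assoc (Nat.card _),
    mul_left_comm, mul_assoc (Nat.card _) _ (q₀ - 1)] at hmain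
  have hpos : 0 < Nat.card (Cfsg.GU (k + 1) F q₀) := Nat.card_pos
  have h1 := Nat.dvd_of_mul_dvd_mul_left hpos hmain
  have h3 := Nat.dvd_of_mul_dvd_mul_right (show 0 < q₀ - 1 by omega) h1
  rcases hr.dvd_mul.mp (hΩ.trans h3) with h4 | h4
  · exact absurd (hr.dvd_of_dvd_pow h4) hrq
  · obtain ⟨i, hi, h5⟩ := (Prime.dvd_finsetProd_iff hr.prime _).mp h4
    exact ⟨i + 1, by omega, by simpa using hi, h5⟩

end Form

section Derange

/-- An element of prime order which is not conjugate into any unitary similarity group. -/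
def IsDer (σ : F ≃+* F) (n r : ℕ) : Prop :=
  ∃ x : Matrix.SpecialLinearGroup (Fin n) F,
    (∃ z : F, (x : Matrix (Fin n) (Fin n) F) ^ r = z • 1) ∧
    (∀ z : F, (x : Matrix (Fin n) (Fin n) F) ≠ z • 1) ∧
    ∀ (P : Matrix (Fin n) (Fin n) F) (μ : F), IsUnit P → σ μ = μ → tw σ P x.1 ≠ μ • P

theorem not_all_of_der (hσ : IsUSigma q₀ σ) {f : (Fin n → F) → (Fin n → F) → F}
    (hf : Cfsg.Geo.IsUnitaryFormPow q₀ f) (hn : 0 < n) {r : ℕ} (h : IsDer σ n r) :
    ¬ ∀ x ∈ Cfsg.Geo.specialLinear (Fin n) F,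
      (∃ z : F, ((x ^ r : GL (Fin n) F) : Matrix (Fin n) (Fin n) F) = z • (1 : Matrix (Fin n) (Fin n) F)) →
      (∀ z : F, (x : Matrix (Fin n) (Fin n) F) ≠ z • (1 : Matrix (Fin n) (Fin n) F)) →
      ∃ g ∈ Cfsg.Geo.specialLinear (Fin n) F, g⁻¹ * x * g ∈ Cfsg.Geo.similarityGroup f := by
  intro hall
  obtain ⟨x, ⟨z, hz⟩, hns, hno⟩ := h
  obtain ⟨g, -, hg⟩ := hall (Matrix.SpecialLinearGroup.toGL x) (Units.ext x.2)
    ⟨z, by rw [Units.val_pow_eq_pow_val]; exact hz⟩ hns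
  obtain ⟨P, μ, hP, hμ, he⟩ := form_of_fix hσ hf hg hn
  exact hno P μ hP hμ he

theorem roots_conj {φ : F[X]} [hφ : Fact (Irreducible φ)] [Finite (AdjoinRoot φ)] {w : AdjoinRoot φ}
    (hw : aeval w φ = 0) : ∃ j : ℕ, w = (AdjoinRoot.root φ) ^ (Fintype.card F ^ j) := by
  let L := AdjoinRoot φ
  let sh : L →ₐ[F] L := AdjoinRoot.liftAlgHom φ (Algebra.ofId F L) w (by simpa [aeval_def, L, AdjoinRoot.algebraMap_eq] using hw)
  have hs : sh (AdjoinRoot.root φ) = w := AdjoinRoot.liftAlgHom_root _ _ _ _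
  let s : L ≃ₐ[F] L := AlgEquiv.ofBijective sh
    ⟨RingHom.injective sh.toRingHom, Finite.injective_iff_surjective.mp (RingHom.injective sh.toRingHom)⟩
  obtain ⟨j', hj⟩ := (FiniteField.bijective_frobeniusAlgEquivOfAlgebraic_pow F L).2 s
  obtain ⟨j, hj'⟩ : ∃ j : ℕ, j = (j' : ℕ) := ⟨_, rfl⟩
  simp only [← hj'] at hj
  refine ⟨j, ?_⟩
  have h1 : (FiniteField.frobeniusAlgEquivOfAlgebraic F L ^ j) (AdjoinRoot.root φ) = w := by rw [hj]; exact hs
  rw [← h1, AlgEquiv.coe_pow, FiniteField.coe_frobeniusAlgEquivOfAlgebraic_iterate]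

theorem eigen_of_root {K : Type*} [Field K] {X' : Matrix (Fin n) (Fin n) K} {θ : K}
    (h : X'.charpoly.eval θ = 0) : ∃ v, v ≠ 0 ∧ X' *ᵥ v = θ • v := by
  rw [Matrix.eval_charpoly, ← Matrix.exists_mulVec_eq_zero_iff] at h
  obtain ⟨v, hv0, hv⟩ := h
  refine ⟨v, hv0, ?_⟩
  rw [Matrix.sub_mulVec, sub_eq_zero, Matrix.scalar_apply, ← Matrix.smul_one_eq_diagonal, Matrix.smul_mulVec,
    Matrix.one_mulVec] at hv
  exact hv.symm

theorem der_block {p : ℕ} [Fact p.Prime] [CharP F p] (hσ : IsUSigma q₀ σ) {r : ℕ} [Fact r.Prime] (hrp : r ≠ p)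
    (hi : 2 ≤ orderOf (Fintype.card F : ZMod r)) (hin : orderOf (Fintype.card F : ZMod r) ≤ n)
    (hno : ∀ m : ℕ, Odd m → (q₀ : ZMod r) ^ m ≠ -1) : IsDer σ n r := by
  classical
  obtain ⟨a, ha⟩ : ∃ a, a + orderOf (Fintype.card F : ZMod r) * 1 = n :=
    ⟨n - orderOf (Fintype.card F : ZMod r), by omega⟩
  obtain ⟨x, ⟨c, hc⟩, -, φ, hφi, hφd, hch⟩ := exists_mixed (F := F) hrp hi ha
  rw [Matrix.SpecialLinearGroup.coe_pow] at hc
  rw [Matrix.charpoly_toLin', pow_one] at hch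
  haveI : Fact (Irreducible φ) := ⟨hφi⟩
  obtain ⟨θ, hθ⟩ : ∃ θ, θ = AdjoinRoot.root φ := ⟨_, rfl⟩
  haveI : Module.Finite F (AdjoinRoot φ) := Module.Finite.of_basis (AdjoinRoot.powerBasis hφi.ne_zero).basis
  haveI : Finite (AdjoinRoot φ) := Module.finite_of_finite F
  obtain ⟨ι, hι⟩ : ∃ ι : F →+* AdjoinRoot φ, ι = algebraMap F (AdjoinRoot φ) := ⟨_, rfl⟩
  have hθF : ∀ b : F, θ ≠ ι b := by
    intro b hb
    have h1 : (minpoly F θ).natDegree = 1 := by
      rw [hb, hι, minpoly.eq_X_sub_C, natDegree_X_sub_C]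
    rw [hθ, AdjoinRoot.minpoly_root hφi.ne_zero, natDegree_mul hφi.ne_zero (by simp [hφi.ne_zero]), natDegree_C,
      hφd] at h1
    omega
  have hθφ : aeval θ φ = 0 := by rw [hθ, AdjoinRoot.aeval_eq, AdjoinRoot.mk_self]
  have hθc : ((x : Matrix (Fin n) (Fin n) F).map ι).charpoly.eval θ = 0 := by
    rw [Matrix.charpoly_map, eval_map, hι, ← aeval_def, hch, map_mul, hθφ, mul_zero]
  obtain ⟨v, hv0, hv⟩ := eigen_of_root hθc
  have hpow : ∀ m : ℕ, ((x : Matrix (Fin n) (Fin n) F).map ι) ^ m *ᵥ v = θ ^ m • v := by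
    intro m
    induction m with
    | zero => simp
    | succ m ih => rw [pow_succ', ← Matrix.mulVec_mulVec, ih, Matrix.mulVec_smul, hv, smul_smul, pow_succ]
  obtain ⟨l, hl⟩ : ∃ l, v l ≠ 0 := Function.ne_iff.mp hv0
  have hθr : θ ^ r = ι c := by
    have h1 := hpow r
    rw [← RingHom.mapMatrix_apply, ← map_pow, hc, RingHom.mapMatrix_apply, Matrix.map_smul' _ c (1 : Matrix (Fin n) (Fin n) F)
      (map_mul ι), Matrix.map_one _ (map_zero ι) (map_one ι), Matrix.smul_mulVec, Matrix.one_mulVec] at h1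
    exact (mul_right_cancel₀ hl (congrFun h1 l)).symm
  refine ⟨x, ⟨c, hc⟩, fun z hz => ?_, fun P μ hP hμσ hPμ => ?_⟩
  · rw [hz, Matrix.map_smul' _ z (1 : Matrix (Fin n) (Fin n) F) (map_mul ι), Matrix.map_one _ (map_zero ι) (map_one ι),
      Matrix.smul_mulVec, Matrix.one_mulVec] at hv
    exact hθF z (mul_right_cancel₀ hl (congrFun hv l)).symm
  obtain ⟨P, rfl⟩ := hP
  obtain ⟨xu, hxu⟩ : ∃ xu : GL (Fin n) F, xu.1 = x.1 := ⟨Matrix.SpecialLinearGroup.toGL x, rfl⟩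
  have hσx : (x : Matrix (Fin n) (Fin n) F).map σ =
      (↑P⁻¹ : Matrix (Fin n) (Fin n) F) * (μ • (↑xu⁻¹ : Matrix (Fin n) (Fin n) F))ᵀ * P.1 := by
    have h1 : (↑xu⁻¹ : Matrix (Fin n) (Fin n) F)ᵀ * xu.1ᵀ = 1 := by
      rw [← Matrix.transpose_mul, Units.mul_inv, Matrix.transpose_one]
    have h2 := congrArg (fun M => (↑P⁻¹ : Matrix (Fin n) (Fin n) F) * ((↑xu⁻¹ : Matrix (Fin n) (Fin n) F)ᵀ * M)) hPμ
    simp only [tw, ← hxu, ← mul_assoc] at h2
    rw [mul_assoc (↑P⁻¹ : Matrix (Fin n) (Fin n) F) _ xu.1ᵀ, h1, mul_one, Units.inv_mul, one_mul] at h2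
    rw [← hxu, h2]
    simp only [Matrix.transpose_smul, Matrix.mul_smul, Matrix.smul_mul]
  have hcp : ((μ • (↑xu⁻¹ : Matrix (Fin n) (Fin n) F)).map ι).charpoly =
      ((X - C (1 : F)) ^ a * φ).map (ι.comp σ.toRingHom) := by
    rw [← hch, ← Polynomial.map_map, ← Matrix.charpoly_map, RingEquiv.toRingHom_eq_coe, RingEquiv.coe_toRingHom, hσx,
      Matrix.charpoly_map, Matrix.coe_units_inv P, Matrix.charpoly_units_conj', Matrix.charpoly_transpose]
  have hθ0 : θ ≠ 0 := fun h => hθF 0 (by rw [h, map_zero])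
  have hev : (((X - C (1 : F)) ^ a * φ).map (ι.comp σ.toRingHom)).eval (ι μ * θ⁻¹) = 0 := by
    rw [← hcp, Matrix.eval_charpoly]
    refine Matrix.exists_mulVec_eq_zero_iff.mp ⟨v, hv0, ?_⟩
    have h1 : ((↑xu⁻¹ : Matrix (Fin n) (Fin n) F).map ι) *ᵥ v = θ⁻¹ • v := by
      have h2 := congrArg (fun w => ((↑xu⁻¹ : Matrix (Fin n) (Fin n) F).map ι) *ᵥ w) hv
      simp only [Matrix.mulVec_mulVec, ← Matrix.map_mul, Matrix.mulVec_smul, ← hxu, Units.inv_mul,
        Matrix.map_one _ (map_zero ι) (map_one ι), Matrix.one_mulVec] at h2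
      rw [eq_inv_smul_iff₀ hθ0]
      exact h2.symm
    rw [Matrix.sub_mulVec, Matrix.map_smul' _ μ (↑xu⁻¹ : Matrix (Fin n) (Fin n) F) (map_mul ι), Matrix.smul_mulVec,
      h1, Matrix.scalar_apply, ← Matrix.smul_one_eq_diagonal, Matrix.smul_mulVec, Matrix.one_mulVec, smul_smul, sub_self]
  obtain ⟨p', e', hp'1, hp', hq'⟩ : ∃ p' e', p'.Prime ∧ CharP F p' ∧ q₀ = p' ^ e' := by
    obtain ⟨p', e', -, h1, h2, h3, -, -⟩ := exists_usigma hσ.card
    exact ⟨p', e', h1, h2, h3⟩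
  haveI : CharP (AdjoinRoot φ) p' := charP_of_injective_algebraMap (algebraMap F (AdjoinRoot φ)).injective p'
  haveI : ExpChar (AdjoinRoot φ) p' := ExpChar.prime hp'1
  obtain ⟨Φ, hΦ⟩ : ∃ Φ : AdjoinRoot φ →+* AdjoinRoot φ, ∀ b, Φ b = b ^ q₀ :=
    ⟨iterateFrobenius (AdjoinRoot φ) p' e', fun b => by rw [iterateFrobenius_def, ← hq']⟩
  obtain ⟨w, hw⟩ := Finite.injective_iff_surjective.mp Φ.injective (ι μ * θ⁻¹)
  have hcomp : ι.comp σ.toRingHom = Φ.comp ι := RingHom.ext fun b => by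
    simp [hΦ, hσ.apply_eq]
  rw [← hw, hcomp, eval_map, ← hom_eval₂, map_eq_zero_iff Φ Φ.injective, hι, ← aeval_def, map_mul, mul_eq_zero] at hev
  rw [hΦ] at hw
  rcases hev with h1 | h1
  · rw [map_pow, map_sub, aeval_X, map_one, map_one] at h1
    rw [sub_eq_zero.mp (eq_zero_of_pow_eq_zero h1), one_pow] at hw
    exact hθF μ ((mul_inv_eq_one₀ hθ0).mp hw.symm).symm
  · obtain ⟨j, hj⟩ := roots_conj h1
    rw [← hθ] at hj
    obtain ⟨M, hM⟩ : ∃ M, M = q₀ ^ (2 * j + 1) + 1 := ⟨_, rfl⟩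
    have hθM : θ ^ M = ι μ := by
      rw [hM, pow_succ, pow_succ q₀, pow_mul θ, show q₀ ^ (2 * j) = Fintype.card F ^ j by rw [hσ.card, pow_mul], ← hj, hw,
        mul_assoc, inv_mul_cancel₀ hθ0, mul_one]
    have hrM : ¬ r ∣ M := fun h => by
      rw [← ZMod.natCast_eq_zero_iff, hM] at h
      push_cast at h
      exact hno _ ⟨j, rfl⟩ (eq_neg_of_add_eq_zero_left h)
    obtain ⟨m, hm⟩ := Nat.exists_mul_mod_eq_one_of_coprime
      ((Nat.Prime.coprime_iff_not_dvd Fact.out).mpr hrM).symm (Fact.out : r.Prime).one_lt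
    have hexp : M * m = r * (M * m / r) + 1 := by
      conv_lhs => rw [← Nat.div_add_mod (M * m) r, hm.2]
    have hc0 : ι c ≠ 0 := hθr ▸ pow_ne_zero _ hθ0
    refine hθF (μ ^ m / c ^ (M * m / r)) ?_
    obtain ⟨l, hl⟩ : ∃ l, l = M * m / r := ⟨_, rfl⟩
    rw [← hl] at hexp ⊢
    rw [map_div₀, map_pow, map_pow, eq_div_iff (pow_ne_zero _ hc0), ← hθM, ← pow_mul, hexp, ← hθr, ← pow_mul,
      pow_succ']

theorem der_scaled {p : ℕ} [Fact p.Prime] [CharP F p] (hσ : IsUSigma q₀ σ) (hp : (2 : ℕ) ≠ p) (h2n : 2 ∣ n)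
    (hv : padicValNat 2 (Fintype.card F - 1) < padicValNat 2 n) : IsDer σ n 2 := by
  classical
  haveI : Fact (Nat.Prime 2) := ⟨Nat.prime_two⟩
  have h2F : ringChar F ≠ 2 := by
    rw [ringChar.eq F p]
    exact Ne.symm hp
  have hodd : Fintype.card F % 2 = 1 := FiniteField.odd_card_of_char_ne_two h2F
  have hi : orderOf (Fintype.card F : ZMod 2) = 1 := orderOf_eq_one_iff'.mpr (by omega)
  have hn0 : 0 < n := Nat.pos_of_ne_zero fun h => by
    rw [h, padicValNat_zero_right] at hv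
    omega
  obtain ⟨x, ⟨z, hz⟩, -, φ, hφi, hφd, hch⟩ :=
    exists_scaled (F := F) hp hi h2n (fun h => absurd h.1 (not_le.mpr hv))
  rw [Matrix.SpecialLinearGroup.coe_pow] at hz
  rw [Matrix.charpoly_toLin'] at hch
  haveI : Nonempty (Fin n) := ⟨⟨0, hn0⟩⟩
  have hz0 : z ≠ 0 := fun h => by
    have := congrArg Matrix.det hz
    rw [Matrix.det_pow, x.2, one_pow, h, zero_smul, Matrix.det_zero] at this
    exact one_ne_zero this
  have hsq : ¬ IsSquare z := by
    rintro ⟨y, rfl⟩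
    have key : ∀ y' : F, φ.eval y' ≠ 0 := fun y' h => by
      have := degree_eq_one_of_irreducible_of_root hφi h
      rw [degree_eq_natDegree hφi.ne_zero, hφd] at this
      norm_cast at this
    have hmat : (Matrix.scalar (Fin n) y - x.1) * (Matrix.scalar (Fin n) (-y) - x.1) = 0 := by
      rw [Matrix.scalar_apply, Matrix.scalar_apply, ← Matrix.smul_one_eq_diagonal, ← Matrix.smul_one_eq_diagonal]
      simp only [Matrix.sub_mul, Matrix.mul_sub, Matrix.smul_mul, Matrix.mul_smul, Matrix.one_mul, Matrix.mul_one,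
        ← pow_two, hz]
      module
    have := congrArg Matrix.det hmat
    rw [Matrix.det_mul, Matrix.det_zero, ← Matrix.eval_charpoly, ← Matrix.eval_charpoly, hch, eval_pow, eval_pow,
      mul_eq_zero] at this
    rcases this with h | h <;> exact key _ (eq_zero_of_pow_eq_zero h)
  refine ⟨x, ⟨z, hz⟩, fun w hw => hsq ⟨w, ?_⟩, fun P μ hP hμ hPμ => hsq ?_⟩
  · rw [hw, pow_two, Matrix.smul_mul, Matrix.mul_smul, Matrix.one_mul, smul_smul] at hz
    have := congrFun (congrFun hz ⟨0, hn0⟩) ⟨0, hn0⟩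
    simpa using this.symm
  · have h1 : tw σ P ((x : Matrix (Fin n) (Fin n) F) ^ 2) = (μ * μ) • P := by
      rw [pow_two, tw_tw, hPμ, tw_smul, hPμ, smul_smul]
    rw [hz, tw_smul_right, tw_one] at h1
    obtain ⟨i, j, hij⟩ : ∃ i j, P i j ≠ 0 := by
      by_contra hc
      push Not at hc
      rw [show P = 0 from Matrix.ext hc] at hP
      exact not_isUnit_zero hP
    have h3 : z * σ z = μ * μ := mul_right_cancel₀ hij (congrFun (congrFun h1 i) j)
    have hμ0 : μ ≠ 0 := fun h => by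
      rw [h, mul_zero, mul_eq_zero] at h3
      exact h3.elim hz0 fun h' => hz0 (σ.injective (by rw [h', map_zero]))
    rw [FiniteField.isSquare_iff h2F hz0]
    obtain ⟨m, hm⟩ : Odd q₀ := by
      rw [Nat.odd_iff]
      rw [hσ.card, Nat.pow_mod] at hodd
      rcases Nat.mod_two_eq_zero_or_one q₀ with h | h
      · rw [h] at hodd; simp at hodd
      · exact h
    have hhalf : Fintype.card F / 2 = (q₀ + 1) * m := by
      rw [hσ.card, hm, show (2 * m + 1) ^ 2 = 2 * ((2 * m + 1 + 1) * m) + 1 by ring]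
      omega
    rw [hhalf, pow_mul, pow_succ', ← hσ.apply_eq, h3, ← pow_two, ← pow_mul]
    refine mul_right_cancel₀ hμ0 ?_
    rw [one_mul, ← pow_succ, ← hm, ← hσ.apply_eq, hμ]

theorem exists_supp {P : Matrix (Fin n) (Fin n) F} (hP : IsUnit P) : ∃ π : Equiv.Perm (Fin n), ∀ i, P (π i) i ≠ 0 := by
  by_contra hc
  push Not at hc
  rw [Matrix.isUnit_iff_isUnit_det, isUnit_iff_ne_zero] at hP
  refine hP ?_
  rw [Matrix.det_apply]
  refine Finset.sum_eq_zero fun π _ => ?_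
  obtain ⟨i, hi⟩ := hc π
  exact (congrArg _ (Finset.prod_eq_zero (f := fun j => P (π j) j) (Finset.mem_univ i) hi)).trans (smul_zero _)

/-- A diagonal element with asymmetric exponents. -/
theorem der_diag {r : ℕ} [Fact r.Prime] {ζ : F} (hζ : IsPrimitiveRoot ζ r) (hσζ : σ ζ = ζ) (k : Fin n → ZMod r)
    (l : F) (hl : l ^ n * ζ ^ (∑ i, k i).val = 1) (hk : ∃ i j, k i ≠ k j)
    (hno : ∀ (a : ZMod r) (π : Equiv.Perm (Fin n)), ∃ i, k (π i) + k i ≠ a) : IsDer σ n r := by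
  classical
  haveI : NeZero r := ⟨(Fact.out : r.Prime).ne_zero⟩
  obtain ⟨χ, hχ⟩ : ∃ χ : AddChar (ZMod r) F, ∀ a, χ a = ζ ^ a.val :=
    ⟨AddChar.zmodChar r hζ.pow_eq_one, fun a => AddChar.zmodChar_apply _ _⟩
  have hinj : ∀ a b, χ a = χ b → a = b := fun a b h => by
    rw [hχ, hχ] at h
    exact ZMod.val_injective r (hζ.pow_inj (ZMod.val_lt a) (ZMod.val_lt b) h)
  have hl0 : l ≠ 0 := fun h => by
    obtain ⟨i, -⟩ := hk
    rw [h, zero_pow (Nat.pos_iff_ne_zero.mp (Fin.pos i)), zero_mul] at hl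
    exact zero_ne_one hl
  have hχs : ∀ s : Finset (Fin n), χ (∑ i ∈ s, k i) = ∏ i ∈ s, χ (k i) := by
    intro s
    induction s using Finset.induction_on with
    | empty => simp
    | insert j s hj ih => rw [Finset.sum_insert hj, Finset.prod_insert hj, AddChar.map_add_eq_mul, ih]
  have hdet : (Matrix.diagonal fun i => l * χ (k i)).det = 1 := by
    rw [Matrix.det_diagonal, Finset.prod_mul_distrib, Finset.prod_const, Finset.card_univ, Fintype.card_fin,
      ← hχs, hχ, hl]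
  refine ⟨⟨_, hdet⟩, ⟨l ^ r, ?_⟩, fun z hz => ?_, fun P μ hP hμ hPμ => ?_⟩
  · show (Matrix.diagonal fun i => l * χ (k i)) ^ r = _
    rw [Matrix.diagonal_pow, Matrix.smul_one_eq_diagonal]
    congr 1
    funext i
    rw [Pi.pow_apply, mul_pow, hχ, ← pow_mul, mul_comm _ r, pow_mul, hζ.pow_eq_one, one_pow, mul_one]
  · obtain ⟨i, j, hij⟩ := hk
    have hi := congrFun (congrFun hz i) i
    have hj := congrFun (congrFun hz j) j
    simp at hi hj
    exact hij (hinj _ _ (mul_left_cancel₀ hl0 (hi.trans hj.symm)))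
  · obtain ⟨π, hπ⟩ := exists_supp hP
    have key : ∀ i, l * σ l * χ (k (π i) + k i) = μ := by
      intro i
      have h1 := congrFun (congrFun hPμ (π i)) i
      simp only [tw, Matrix.diagonal_transpose, Matrix.diagonal_map (map_zero σ), Matrix.mul_diagonal,
        Matrix.diagonal_mul, Matrix.smul_apply, smul_eq_mul] at h1
      have hσχ : σ (χ (k i)) = χ (k i) := by rw [hχ, map_pow, hσζ]
      rw [AddChar.map_add_eq_mul]
      refine mul_right_cancel₀ (hπ i) (Eq.trans ?_ h1)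
      simp only [Function.comp_apply, map_mul, hσχ]
      ring
    obtain ⟨i, -⟩ := hk
    obtain ⟨i', hi'⟩ := hno (k (π i) + k i) π
    exact hi' (hinj _ _ (mul_left_cancel₀ (mul_ne_zero hl0 fun h => hl0 (σ.injective (by rw [h, map_zero])))
      ((key i').trans (key i).symm)))

theorem exists_zeta {r : ℕ} [Fact r.Prime] (h : r ∣ Fintype.card F - 1) : ∃ ζ : F, IsPrimitiveRoot ζ r := by
  obtain ⟨u, hu⟩ := exists_prime_orderOf_dvd_card' (G := Fˣ) r
    (by rw [Nat.card_units, Nat.card_eq_fintype_card]; exact h)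
  exact ⟨u, IsPrimitiveRoot.coe_units_iff.mpr (hu ▸ IsPrimitiveRoot.orderOf u)⟩

theorem sigma_fix (hσ : IsUSigma q₀ σ) {r : ℕ} (h : r ∣ q₀ - 1) {ζ : F} (hζ : ζ ^ r = 1) : σ ζ = ζ := by
  obtain ⟨m, hm⟩ := h
  have := hσ.two_le
  rw [hσ.apply_eq, show q₀ = r * m + 1 by omega, pow_succ, pow_mul, hζ, one_pow, one_mul]

theorem three_asym {r m : ℕ} [Fact r.Prime] (hr2 : r ≠ 2) (hm : ((m + 3 : ℕ) : ZMod r) ≠ 0 ∨ 4 ≤ m) {a₀ a₁ a₂ : ZMod r}
    (hsum : a₀ + a₁ + a₂ = 0) (h0 : a₀ ≠ 0) (h01 : -a₀ ≠ a₁) (h02 : -a₀ ≠ a₂) :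
    (∑ i, (Fin.cons a₀ (Fin.cons a₁ (Fin.cons a₂ (0 : Fin m → ZMod r))) : Fin (m + 3) → ZMod r) i = 0) ∧
    ∀ (a : ZMod r) (π : Equiv.Perm (Fin (m + 3))), ∃ i,
      (Fin.cons a₀ (Fin.cons a₁ (Fin.cons a₂ (0 : Fin m → ZMod r))) : Fin (m + 3) → ZMod r) (π i) +
        (Fin.cons a₀ (Fin.cons a₁ (Fin.cons a₂ (0 : Fin m → ZMod r))) : Fin (m + 3) → ZMod r) i ≠ a := by
  obtain ⟨k, hk⟩ : ∃ k, k = (Fin.cons a₀ (Fin.cons a₁ (Fin.cons a₂ (0 : Fin m → ZMod r))) : Fin (m + 3) → ZMod r) :=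
    ⟨_, rfl⟩
  rw [← hk]
  have hksum : ∑ i, k i = 0 := by
    rw [hk, Fin.sum_cons, Fin.sum_cons, Fin.sum_cons]
    simp only [Pi.zero_apply, Finset.sum_const_zero, add_zero]
    rw [← hsum, add_assoc]
  have hk3 : ∀ i : Fin (m + 3), 3 ≤ (i : ℕ) → k i = 0 := by
    intro i hi
    rw [hk]
    refine Fin.cases ?_ (fun i => ?_) i hi
    · intro h; simp only [Fin.val_succ, Fin.val_zero] at h; omega
    refine Fin.cases ?_ (fun i => ?_) i
    · intro h; simp only [Fin.val_succ, Fin.val_zero] at h; omega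
    refine Fin.cases ?_ (fun i => ?_) i
    · intro h; simp only [Fin.val_succ, Fin.val_zero] at h; omega
    intro _
    simp
  have himg : ∀ i, k i = a₀ ∨ k i = a₁ ∨ k i = a₂ ∨ k i = 0 := by
    intro i
    rw [hk]
    refine Fin.cases ?_ (fun i => ?_) i
    · simp
    refine Fin.cases ?_ (fun i => ?_) i
    · simp
    refine Fin.cases ?_ (fun i => ?_) i <;> simp only [Fin.cons_zero, Fin.cons_succ, Pi.zero_apply] <;> simp
  refine ⟨hksum, fun a π => ?_⟩
  by_contra hc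
  push Not at hc
  have ha : a = 0 := by
    rcases hm with hm | hm
    · have h := Finset.sum_congr rfl (fun i (_ : i ∈ Finset.univ) => hc i)
      rw [Finset.sum_add_distrib, Equiv.sum_comp π k, hksum, add_zero, Finset.sum_const, Finset.card_univ,
        Fintype.card_fin, nsmul_eq_mul] at h
      exact (mul_eq_zero.mp h.symm).resolve_left hm
    · by_contra hne
      have hlt : ∀ j : Fin 4, ((π ⟨(j : ℕ) + 3, by omega⟩ : Fin (m + 3)) : ℕ) < 3 := fun j => by
        by_contra hge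
        have := hc ⟨(j : ℕ) + 3, by omega⟩
        rw [hk3 _ (by omega), hk3 _ (by simp), add_zero] at this
        exact hne this.symm
      have := Fintype.card_le_of_injective (fun j : Fin 4 => (⟨_, hlt j⟩ : Fin 3)) fun a b hab => by
        have h1 := Fin.ext (Fin.mk.inj_iff.mp hab)
        exact Fin.ext (by simpa using congrArg Fin.val (π.injective h1))
      simp at this
  have h := hc 0
  rw [ha, show k 0 = a₀ by rw [hk]; rfl] at h
  have h' : k (π 0) = -a₀ := eq_neg_of_add_eq_zero_left h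
  rcases himg (π 0) with e | e | e | e <;> rw [e] at h'
  · haveI : Fact (2 < r) := ⟨by have := (Fact.out : r.Prime).two_le; omega⟩
    have h2 : (2 : ZMod r) * a₀ = 0 := by linear_combination h'
    refine h0 ((mul_eq_zero.mp h2).resolve_left fun h => ?_)
    have := (ZMod.natCast_eq_zero_iff 2 r).mp (by exact_mod_cast h)
    have := Nat.le_of_dvd two_pos this
    have := (Fact.out : 2 < r)
    omega
  · exact h01 h'.symm
  · exact h02 h'.symm
  · exact h0 (neg_eq_zero.mp h'.symm)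

theorem natCast_ne {r : ℕ} (c : ℕ) (h0 : 0 < c) (hc : c < r) : (c : ZMod r) ≠ 0 := fun h =>
  absurd (Nat.le_of_dvd h0 ((ZMod.natCast_eq_zero_iff c r).mp h)) (not_le.mpr hc)

theorem small_three : (1 : ZMod 3) + 1 + 1 = 0 ∧ -(1 : ZMod 3) ≠ 1 := by decide

theorem small_five : (1 : ZMod 5) + 1 + 3 = 0 ∧ -(1 : ZMod 5) ≠ 1 ∧ -(1 : ZMod 5) ≠ 3 ∧ (1 : ZMod 5) ≠ 3 := by decide

/-- Asymmetric diagonal elements. -/
theorem der_split (hσ : IsUSigma q₀ σ) {r : ℕ} [Fact r.Prime] (hr2 : r ≠ 2) (hrq : r ∣ q₀ - 1) (hn : 3 ≤ n)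
    (hgap : ¬ (n = 6 ∧ r = 3)) (hne : ¬ ((r = 3 ∨ r = 5) ∧ n = r ∧ padicValNat r (q₀ - 1) = 1)) : IsDer σ n r := by
  classical
  have hr := (Fact.out : r.Prime)
  have h2q := hσ.two_le
  have hq : Fintype.card F - 1 = (q₀ + 1) * (q₀ - 1) := by rw [hσ.card, ← Nat.sq_sub_sq, one_pow]
  by_cases hex : (r = 3 ∨ r = 5) ∧ n = r
  · obtain ⟨hr35, rfl⟩ := hex
    have hv : 2 ≤ padicValNat n (q₀ - 1) := by
      have h1 : 1 ≤ padicValNat n (q₀ - 1) := one_le_padicValNat_of_dvd (by omega) hrq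
      have h2 : padicValNat n (q₀ - 1) ≠ 1 := fun h => hne ⟨hr35, rfl, h⟩
      omega
    have hd : n ^ 2 ∣ Fintype.card F - 1 := by
      rw [hq]
      exact ((pow_dvd_pow n hv).trans pow_padicValNat_dvd).mul_left _
    obtain ⟨g, hg⟩ := IsCyclic.exists_ofOrder_eq_natCard (α := Fˣ)
    rw [Nat.card_units, Nat.card_eq_fintype_card] at hg
    obtain ⟨η, hη⟩ : ∃ η : Fˣ, orderOf η = n ^ 2 :=
      ⟨_, orderOf_pow_orderOf_div (orderOf_pos g).ne' (hg ▸ hd)⟩
    have hζ : IsPrimitiveRoot (((η ^ n)⁻¹ : Fˣ) : F) n := by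
      refine IsPrimitiveRoot.coe_units_iff.mpr ?_
      have h1 : orderOf ((η ^ n)⁻¹) = n := by
        rw [orderOf_inv, orderOf_pow' _ hr.ne_zero, hη, pow_two, Nat.gcd_eq_right (dvd_mul_right n n),
          Nat.mul_div_cancel _ hr.pos]
      have h2 := IsPrimitiveRoot.orderOf ((η ^ n)⁻¹)
      rwa [h1] at h2
    haveI : NeZero n := ⟨hr.ne_zero⟩
    haveI : Fact (1 < n) := ⟨hr.one_lt⟩
    refine der_diag hζ (sigma_fix hσ hrq hζ.pow_eq_one) (Pi.single 0 1) (η : F) ?_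
      ⟨0, ⟨1, by omega⟩, by simp [Fin.ext_iff]⟩ fun a π => ?_
    · rw [Finset.sum_pi_single', if_pos (Finset.mem_univ _), ZMod.val_one, pow_one, ← Units.val_pow_eq_pow_val,
        ← Units.val_mul, mul_inv_cancel, Units.val_one]
    · by_contra hc
      push Not at hc
      have h1 := hc ⟨1, by omega⟩
      have h2 := hc ⟨2, by omega⟩
      rw [Pi.single_eq_of_ne (M := fun _ : Fin n => ZMod n) (show (⟨1, by omega⟩ : Fin n) ≠ 0 by simp [Fin.ext_iff]) (1 : ZMod n), add_zero] at h1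
      rw [Pi.single_eq_of_ne (M := fun _ : Fin n => ZMod n) (show (⟨2, by omega⟩ : Fin n) ≠ 0 by simp [Fin.ext_iff]) (1 : ZMod n), add_zero] at h2
      have ha : a = 0 := by
        by_contra ha
        have e1 : π ⟨1, by omega⟩ = 0 := by
          by_contra e; rw [Pi.single_eq_of_ne e] at h1; exact ha h1.symm
        have e2 : π ⟨2, by omega⟩ = 0 := by
          by_contra e; rw [Pi.single_eq_of_ne e] at h2; exact ha h2.symm
        have := π.injective (e1.trans e2.symm)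
        simp [Fin.ext_iff] at this
      have h3 := hc 0
      rw [ha, Pi.single_eq_same] at h3
      by_cases e : π 0 = 0
      · rw [e, Pi.single_eq_same] at h3
        exact natCast_ne (r := n) 2 two_pos (by omega) (by push_cast; linear_combination h3)
      · rw [Pi.single_eq_of_ne e, zero_add] at h3
        exact one_ne_zero h3
  · obtain ⟨ζ, hζ⟩ := exists_zeta (F := F) (r := r) (by rw [hq]; exact hrq.mul_left _)
    obtain ⟨m, rfl⟩ : ∃ m, n = m + 3 := ⟨n - 3, by omega⟩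
    have hm : ((m + 3 : ℕ) : ZMod r) ≠ 0 ∨ 4 ≤ m := by
      by_cases h : ((m + 3 : ℕ) : ZMod r) = 0
      · obtain ⟨d, hd⟩ := (ZMod.natCast_eq_zero_iff _ r).mp h
        right
        rcases (show r = 3 ∨ r = 5 ∨ 7 ≤ r by
          have := hr.two_le
          by_contra hc
          have h4 : r = 4 ∨ r = 6 := by omega
          rcases h4 with rfl | rfl <;> norm_num at hr) with rfl | rfl | h7
        · have : m + 3 ≠ 3 := fun e => hex ⟨Or.inl rfl, e⟩
          have : m + 3 ≠ 6 := fun e => hgap ⟨e, rfl⟩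
          omega
        · have : m + 3 ≠ 5 := fun e => hex ⟨Or.inr rfl, e⟩
          omega
        · have : d ≠ 0 := fun e => by rw [e, mul_zero] at hd; omega
          have : r * 1 ≤ r * d := Nat.mul_le_mul_left r (by omega)
          omega
      · exact Or.inl h
    have hc : ∀ c : ℕ, 0 < c → c < r → (c : ZMod r) ≠ 0 := natCast_ne
    haveI : NeZero r := ⟨hr.ne_zero⟩
    suffices h : ∃ a₀ a₁ a₂ : ZMod r, a₀ + a₁ + a₂ = 0 ∧ a₀ ≠ 0 ∧ -a₀ ≠ a₁ ∧ -a₀ ≠ a₂ ∧ (a₀ ≠ a₂ ∨ 1 ≤ m) by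
      obtain ⟨a₀, a₁, a₂, hsum, h0, h01, h02, hns⟩ := h
      obtain ⟨hs, hno⟩ := three_asym hr2 hm hsum h0 h01 h02
      refine der_diag hζ (sigma_fix hσ hrq hζ.pow_eq_one) _ 1 ?_ ?_ hno
      · rw [hs, ZMod.val_zero, pow_zero, one_pow, one_mul]
      · rcases hns with h | h
        · exact ⟨0, Fin.succ (Fin.succ 0), by simpa only [Fin.cons_zero, Fin.cons_succ] using h⟩
        · exact ⟨0, Fin.succ (Fin.succ (Fin.succ ⟨0, by omega⟩)), by
            simpa only [Fin.cons_zero, Fin.cons_succ, Pi.zero_apply] using h0⟩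
    rcases (show r = 3 ∨ r = 5 ∨ 7 ≤ r by
      have := hr.two_le
      by_contra hc'
      have h4 : r = 4 ∨ r = 6 := by omega
      rcases h4 with rfl | rfl <;> norm_num at hr) with rfl | rfl | h7
    · refine ⟨(1 : ZMod 3), (1 : ZMod 3), (1 : ZMod 3), small_three.1, one_ne_zero, small_three.2, small_three.2, Or.inr ?_⟩
      by_contra hm0
      exact hex ⟨Or.inl rfl, by omega⟩
    · exact ⟨(1 : ZMod 5), (1 : ZMod 5), (3 : ZMod 5), small_five.1, one_ne_zero, small_five.2.1, small_five.2.2.1, Or.inl small_five.2.2.2⟩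
    · refine ⟨1, 2, -3, by norm_num, one_ne_zero, fun h => hc 3 (by norm_num) (by omega) ?_,
        fun h => hc 2 two_pos (by omega) ?_, Or.inl fun h => hc 4 (by norm_num) (by omega) ?_⟩
      · push_cast; linear_combination -h
      · push_cast; linear_combination h
      · push_cast; linear_combination h

end Derange

end Cfsg.Agent.Classical.Elusive.USim
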