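import Cfsg.Agent.Lib.Small.Gram.Standard
import Cfsg.Agent.Lib.Classical.Elusive.UnitarySimBasic
import Cfsg.Agent.Lib.Classical.Elusive.InvolModels
import Cfsg.Agent.Lib.Lead.SympIndex

/-!
# Prime order elements and orthogonal similarity groups: forms, index
-/

set_option autoImplicit false
set_option linter.unusedSectionVars false
set_option linter.style.haveILetI false
set_option maxHeartbeats 400000

namespace Cfsg.Agent.Classical.Elusive.OSimilar

open Matrix Module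
open Cfsg.Agent.Small

universe u

variable {F : Type u} [Field F] [Fintype F] {n : ℕ}

/-- An element with no invariant symmetric form of the square class of `D`. -/
def IsDer (D : F) (n r : ℕ) : Prop :=
  ∃ x : Matrix.SpecialLinearGroup (Fin n) F,
    (∃ z : F, (x : Matrix (Fin n) (Fin n) F) ^ r = z • 1) ∧
    (∀ z : F, (x : Matrix (Fin n) (Fin n) F) ≠ z • 1) ∧
    ∀ (P : Matrix (Fin n) (Fin n) F) (μ : F), Pᵀ = P → P.det ≠ 0 → IsSquare (P.det * D) →
      x.1ᵀ * P * x.1 ≠ μ • P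

theorem exists_matrix {Q : (Fin n → F) → F} (hQ : Cfsg.Geo.IsNondegenerateQuadraticForm Q) :
    ∃ A : Matrix (Fin n) (Fin n) F, Aᵀ = A ∧ IsUnit A.det ∧
      (∀ u v, QuadraticMap.polar Q u v = u ⬝ᵥ A *ᵥ v) ∧ (∀ v, Q (v + v) = 4 * Q v) := by
  have hb := hQ.polar_bilinear
  obtain ⟨B, hB⟩ : ∃ B : (Fin n → F) →ₗ[F] (Fin n → F) →ₗ[F] F, ∀ u v, B u v = QuadraticMap.polar Q u v :=
    ⟨LinearMap.mk₂ F (QuadraticMap.polar Q) hb.add_left hb.smul_left hb.add_right hb.smul_right, fun _ _ => rfl⟩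
  obtain ⟨A, hA⟩ : ∃ A, A = LinearMap.toMatrix₂' F B := ⟨_, rfl⟩
  have hAB : ∀ u v, QuadraticMap.polar Q u v = u ⬝ᵥ A *ᵥ v := fun u v => by
    rw [← hB, hA, ← Matrix.toLinearMap₂'_apply', Matrix.toLinearMap₂'_toMatrix']
  refine ⟨A, ?_, ?_, hAB, fun v => ?_⟩
  · refine Gram.mat_ext_dot fun u v => ?_
    rw [← hAB u v, QuadraticMap.polar_comm, hAB, Matrix.dotProduct_mulVec u, Matrix.vecMul_transpose, dotProduct_comm]
  · rw [isUnit_iff_ne_zero]
    intro h
    obtain ⟨v, hv0, hv⟩ := Matrix.exists_vecMul_eq_zero_iff.mpr h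
    obtain ⟨w, hw⟩ := (hQ.nondegenerate v hv0).2
    exact hw (by rw [hAB, Matrix.dotProduct_mulVec, hv, zero_dotProduct])
  · rw [← two_smul F v, hQ.smul]
    norm_num

theorem not_all_of_der (h2 : (2 : F) ≠ 0) {Q : (Fin n → F) → F} {A : Matrix (Fin n) (Fin n) F}
    (hAs : Aᵀ = A) (hA : IsUnit A.det) (hAB : ∀ u v, QuadraticMap.polar Q u v = u ⬝ᵥ A *ᵥ v)
    (hq : ∀ v, Q (v + v) = 4 * Q v) {r : ℕ} (h : IsDer A.det n r) :
    ¬ ∀ x ∈ Cfsg.Geo.specialLinear (Fin n) F,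
      (∃ z : F, ((x ^ r : GL (Fin n) F) : Matrix (Fin n) (Fin n) F) = z • (1 : Matrix (Fin n) (Fin n) F)) →
      (∀ z : F, (x : Matrix (Fin n) (Fin n) F) ≠ z • (1 : Matrix (Fin n) (Fin n) F)) →
      ∃ g ∈ Cfsg.Geo.specialLinear (Fin n) F, g⁻¹ * x * g ∈ Cfsg.Geo.quadSimilarityGroup Q := by
  intro hall
  obtain ⟨x, ⟨z, hz⟩, hns, hno⟩ := h
  obtain ⟨g, -, hg⟩ := hall (Matrix.SpecialLinearGroup.toGL x) (Units.ext x.2)
    ⟨z, by rw [Units.val_pow_eq_pow_val]; exact hz⟩ hns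
  rw [Gram.quadSim_eq h2 hAB hq, Gram.mem_sim] at hg
  obtain ⟨c, hc⟩ := hg
  obtain ⟨X, hX⟩ : ∃ X : GL (Fin n) F, X = Matrix.SpecialLinearGroup.toGL x := ⟨_, rfl⟩
  rw [← hX] at hc
  refine hno ((↑g⁻¹ : Matrix (Fin n) (Fin n) F)ᵀ * A * (↑g⁻¹ : Matrix (Fin n) (Fin n) F)) (c : F) ?_ ?_ ?_ ?_
  · rw [Matrix.transpose_mul, Matrix.transpose_mul, Matrix.transpose_transpose, hAs, Matrix.mul_assoc]
  · rw [Matrix.det_mul, Matrix.det_mul, Matrix.det_transpose]
    have hd : (↑g⁻¹ : Matrix (Fin n) (Fin n) F).det ≠ 0 :=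
      ((Matrix.isUnit_iff_isUnit_det _).mp (Units.isUnit g⁻¹)).ne_zero
    exact mul_ne_zero (mul_ne_zero hd hA.ne_zero) hd
  · refine ⟨(↑g⁻¹ : Matrix (Fin n) (Fin n) F).det * A.det, ?_⟩
    rw [Matrix.det_mul, Matrix.det_mul, Matrix.det_transpose]
    ring
  · have h1 : (↑g⁻¹ : Matrix (Fin n) (Fin n) F) * X.1 = (g⁻¹ * X * g : GL (Fin n) F).1 * (↑g⁻¹ : Matrix (Fin n) (Fin n) F) := by
      rw [← Units.val_mul, ← Units.val_mul, mul_inv_cancel_right]
    have e : x.1 = X.1 := by rw [hX]; rfl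
    rw [e, ← Gram.gram_mul, h1, Gram.gram_mul, hc, Matrix.mul_smul, Matrix.smul_mul]

/-- Symmetric matrices of the same size and square class are congruent up to a scalar. -/
theorem exists_congr (h2 : (2 : F) ≠ 0) (hn : 0 < n) {A P : Matrix (Fin n) (Fin n) F} (hAs : Aᵀ = A) (hA : IsUnit A.det)
    (hPs : Pᵀ = P) (hP : IsUnit P.det) (hd : IsSquare (P.det * A.det) ∨ Odd n) :
    ∃ (g : GL (Fin n) F) (c : F), c ≠ 0 ∧ g.1ᵀ * A * g.1 = c • P := by
  suffices h : Gram.Model A P by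
    obtain ⟨M, N, c, hMN, hNM, h⟩ := h
    exact ⟨⟨M, N, hMN, hNM⟩, c, c.ne_zero, h⟩
  by_cases ho : Odd n
  · obtain ⟨m, hm⟩ := ho
    have hι : Fintype.card (Fin n) = 2 * m + 1 := by rw [Fintype.card_fin, hm]
    exact (Gram.sym_odd h2 hAs hA hι).trans (Gram.sym_odd h2 hPs hP hι).symm
  · have hsq := hd.resolve_right ho
    obtain ⟨m, hm⟩ := Nat.not_odd_iff_even.mp ho
    have hι : Fintype.card (Fin n) = 2 * m := by rw [Fintype.card_fin, hm, two_mul]
    obtain ⟨a, c, hac⟩ := QuadModels.exists_aniso (F := F)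
    have key : ∀ {X Y : Matrix (Fin n) (Fin n) F}, IsUnit X.det → IsUnit Y.det → IsSquare (Y.det * X.det) →
        Gram.Model X (FormDisc.Jplus F m) → Gram.Model Y (FormDisc.Jminus F (m - 1) a c) → False := by
      intro X Y hX hY hXY e1 e2
      obtain ⟨d, hd0, h1⟩ := e1.disc hι (by rw [Fintype.card_sum, Fintype.card_fin, two_mul]) (Gram.det_plus_unit m)
      obtain ⟨d', hd0', h1'⟩ := e2.disc hι (by
        rw [Fintype.card_sum, Fintype.card_sum, Fintype.card_fin, Fintype.card_fin]; omega) (Gram.det_minus_unit h2 _ hac)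
      obtain ⟨w, hw⟩ := hXY
      refine Gram.disc_nonsquare h2 hac ⟨d * d' * w, ?_⟩
      have e : (FormDisc.Jplus F m).det * (FormDisc.Jminus F (m - 1) a c).det = a * a - 4 * c := by
        rw [FormDisc.det_Jplus, FormDisc.det_Jminus]
        obtain ⟨k, rfl⟩ : ∃ k, m = k + 1 := ⟨m - 1, by omega⟩
        rw [Nat.add_sub_cancel, ← mul_assoc, ← pow_add, show k + 1 + k = 2 * k + 1 by ring, pow_succ, pow_mul]
        simp
      rw [← e, h1, h1']
      linear_combination d * d * (d' * d') * hw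
    rcases Gram.sym_even h2 hAs hA (show 1 ≤ m by omega) hι hac with e1 | e1 <;>
      rcases Gram.sym_even h2 hPs hP (show 1 ≤ m by omega) hι hac with e2 | e2
    · exact e1.trans e2.symm
    · exact (key hA hP hsq e1 e2).elim
    · exact (key hP hA (by rwa [mul_comm] at hsq) e2 e1).elim
    · exact e1.trans e2.symm

/-- An element with an invariant form of a model is conjugate into the similarity group. -/
theorem fix_of_model (h2 : (2 : F) ≠ 0) (hn : 0 < n) {Q : (Fin n → F) → F} {A : Matrix (Fin n) (Fin n) F}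
    (hAs : Aᵀ = A) (hA : IsUnit A.det) (hAB : ∀ u v, QuadraticMap.polar Q u v = u ⬝ᵥ A *ᵥ v)
    (hq : ∀ v, Q (v + v) = 4 * Q v) {ι : Type*} [Fintype ι] [DecidableEq ι] (b : Basis ι F (Fin n → F))
    (x : GL (Fin n) F) {P Y : Matrix ι ι F} (hY : LinearMap.toMatrix b b (Matrix.toLin' x.1) = Y) (hPs : Pᵀ = P)
    (hP0 : P.det ≠ 0) (hd : IsSquare (P.det * A.det) ∨ Odd n) {c : F}
    (hc0 : c ≠ 0) (hc : Yᵀ * P * Y = c • P)
    (hdet : ∀ u : F, u ≠ 0 → ∃ h : Matrix ι ι F, h.det = u ∧ h * Y = Y * h) :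
    ∃ g ∈ Cfsg.Geo.specialLinear (Fin n) F, g⁻¹ * x * g ∈ Cfsg.Geo.quadSimilarityGroup Q := by
  classical
  obtain ⟨e⟩ : Nonempty (ι ≃ Fin n) := ⟨Fintype.equivFinOfCardEq (by
    rw [← Module.finrank_eq_card_basis b, Module.finrank_fin_fun])⟩
  obtain ⟨b', hb'⟩ : ∃ b', b' = b.reindex e := ⟨_, rfl⟩
  obtain ⟨B, hB⟩ : ∃ B, B = (Pi.basisFun F (Fin n)).toMatrix b' := ⟨_, rfl⟩
  have hY' : LinearMap.toMatrix b' b' (Matrix.toLin' x.1) = Y.submatrix e.symm e.symm := by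
    ext i j
    rw [← hY, Matrix.submatrix_apply, LinearMap.toMatrix_apply, LinearMap.toMatrix_apply, hb', Basis.repr_reindex_apply,
      Basis.reindex_apply]
  have hxB : x.1 * B = B * Y.submatrix e.symm e.symm := by
    rw [← hY', hB, basis_toMatrix_mul_linearMap_toMatrix]
    conv_lhs => rw [← LinearMap.toMatrix'_toLin' x.1, ← LinearMap.toMatrix_eq_toMatrix']
    rw [linearMap_toMatrix_mul_basis_toMatrix]
  have hBu : IsUnit B := by
    rw [hB]
    letI := (Pi.basisFun F (Fin n)).invertibleToMatrix b'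
    exact isUnit_of_invertible _
  obtain ⟨B, rfl⟩ := hBu
  have hhom : ∀ a b : Matrix ι ι F, (a * b).submatrix e.symm e.symm = a.submatrix e.symm e.symm * b.submatrix e.symm e.symm :=
    fun a b => (Matrix.submatrix_mul_equiv a b e.symm e.symm e.symm).symm
  obtain ⟨P', hP'⟩ : ∃ P', P' = P.submatrix e.symm e.symm := ⟨_, rfl⟩
  obtain ⟨Y', hY''⟩ : ∃ Y', Y' = Y.submatrix e.symm e.symm := ⟨_, rfl⟩
  rw [← hY''] at hxB
  have htw : Y'ᵀ * P' * Y' = c • P' := by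
    rw [hP', hY'', Matrix.transpose_submatrix, ← hhom, ← hhom, hc]
    rfl
  obtain ⟨R, hR⟩ : ∃ R : Matrix (Fin n) (Fin n) F, R = (↑B⁻¹ : Matrix (Fin n) (Fin n) F)ᵀ * P' * (↑B⁻¹ : Matrix (Fin n) (Fin n) F) :=
    ⟨_, rfl⟩
  have hPd : P'.det = P.det := by rw [hP', Matrix.det_submatrix_equiv_self]
  have hRs : Rᵀ = R := by
    rw [hR, Matrix.transpose_mul, Matrix.transpose_mul, Matrix.transpose_transpose, Matrix.mul_assoc,
      show P'ᵀ = P' by rw [hP', Matrix.transpose_submatrix, hPs]]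
  have hRd : R.det = (↑B⁻¹ : Matrix (Fin n) (Fin n) F).det * (↑B⁻¹ : Matrix (Fin n) (Fin n) F).det * P.det := by
    rw [hR, Matrix.det_mul, Matrix.det_mul, Matrix.det_transpose, hPd]
    ring
  have hBd : (↑B⁻¹ : Matrix (Fin n) (Fin n) F).det ≠ 0 := ((Matrix.isUnit_iff_isUnit_det _).mp (Units.isUnit B⁻¹)).ne_zero
  obtain ⟨g₀, c₀, hc₀, hg₀⟩ := exists_congr h2 hn hAs hA hRs
    (isUnit_iff_ne_zero.mpr (by rw [hRd]; exact mul_ne_zero (mul_ne_zero hBd hBd) hP0)) (hd.imp (fun h => by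
      rw [hRd, mul_assoc]
      exact (IsSquare.mul_self _).mul h) id)
  have hxR : x.1ᵀ * R * x.1 = c • R := by
    have h1 : (↑B⁻¹ : Matrix (Fin n) (Fin n) F) * x.1 = Y' * (↑B⁻¹ : Matrix (Fin n) (Fin n) F) := by
      rw [Units.inv_mul_eq_iff_eq_mul, ← mul_assoc, Units.eq_mul_inv_iff_mul_eq]
      exact hxB
    rw [hR, ← Gram.gram_mul, h1, Gram.gram_mul, htw, Matrix.mul_smul, Matrix.smul_mul]
  obtain ⟨h, hh, hhY⟩ := hdet ((Matrix.GeneralLinearGroup.det g₀)⁻¹ : Fˣ) (Units.ne_zero _)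
  obtain ⟨h', hh'⟩ : ∃ h' : GL (Fin n) F, h'.1 = B.1 * h.submatrix e.symm e.symm * (↑B⁻¹ : Matrix (Fin n) (Fin n) F) := by
    refine ⟨((Matrix.isUnit_iff_isUnit_det _).mpr ?_).unit, rfl⟩
    rw [Matrix.det_units_conj, Matrix.det_submatrix_equiv_self, hh]
    exact Units.isUnit _
  have hcomm : h' * x * h'⁻¹ = x := by
    rw [mul_inv_eq_iff_eq_mul]
    refine Units.ext ?_
    have hx : x.1 = B.1 * Y' * (↑B⁻¹ : Matrix (Fin n) (Fin n) F) := by
      rw [← hxB, mul_assoc, Units.mul_inv, mul_one]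
    rw [Units.val_mul, Units.val_mul, hh', hx]
    simp only [← mul_assoc]
    rw [mul_assoc _ (↑B⁻¹ : Matrix (Fin n) (Fin n) F) B.1, Units.inv_mul, mul_one,
      mul_assoc _ (↑B⁻¹ : Matrix (Fin n) (Fin n) F) B.1, Units.inv_mul, mul_one, mul_assoc B.1, hY'', ← hhom, hhY, hhom,
      ← mul_assoc]
  refine ⟨(g₀ * h')⁻¹, ?_, ?_⟩
  · rw [inv_mem_iff]
    show Matrix.GeneralLinearGroup.det (g₀ * h') = 1
    rw [map_mul, show Matrix.GeneralLinearGroup.det h' = (Matrix.GeneralLinearGroup.det g₀)⁻¹ from Units.ext (by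
      rw [Matrix.GeneralLinearGroup.val_det_apply, hh', Matrix.det_units_conj, Matrix.det_submatrix_equiv_self, hh]),
      mul_inv_cancel]
  · rw [inv_inv, show g₀ * h' * x * (g₀ * h')⁻¹ = g₀ * (h' * x * h'⁻¹) * g₀⁻¹ by group, hcomm,
      Gram.quadSim_eq h2 hAB hq, Gram.mem_sim]
    refine ⟨Units.mk0 c hc0, ?_⟩
    rw [Units.val_mul, Units.val_mul, Gram.gram_mul, Gram.gram_mul, hg₀, Matrix.mul_smul, Matrix.smul_mul, hxR,
      smul_comm, ← hg₀, Units.val_mk0, Matrix.mul_smul, Matrix.smul_mul, ← Gram.gram_mul, Units.mul_inv,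
      Matrix.transpose_one, Matrix.one_mul, Matrix.mul_one]

/-- A prime divisor of the index other than two and the characteristic. -/
theorem index_dvd (h2 : (2 : F) ≠ 0) (hn : 3 ≤ n) {Q : (Fin n → F) → F} {A : Matrix (Fin n) (Fin n) F}
    (hAs : Aᵀ = A) (hA : IsUnit A.det) (hAB : ∀ u v, QuadraticMap.polar Q u v = u ⬝ᵥ A *ᵥ v)
    (hq : ∀ v, Q (v + v) = 4 * Q v) {r : ℕ} (hr : r.Prime) (hr2 : r ≠ 2) (hrq : ¬ r ∣ Fintype.card F)
    (hΩ : r ∣ (Cfsg.Geo.quadSimilarityGroup Q).relIndex (Cfsg.Geo.specialLinear (Fin n) F)) :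
    (∃ i, Odd i ∧ 3 ≤ i ∧ i ≤ n ∧ r ∣ Fintype.card F ^ i - 1) ∨
    (∃ m, n = 2 * m ∧ ((IsSquare ((-1) ^ m * A.det) ∧ r ∣ Fintype.card F ^ m + 1) ∨
      (¬ IsSquare ((-1) ^ m * A.det) ∧ r ∣ Fintype.card F ^ m - 1))) := by
  classical
  rw [Gram.quadSim_eq h2 hAB hq] at hΩ
  obtain ⟨q, hqdef⟩ : ∃ q, q = Fintype.card F := ⟨_, rfl⟩
  have hq2 : 2 ≤ q := hqdef ▸ Fintype.one_lt_card
  obtain ⟨S, hS⟩ : ∃ S, S = Cfsg.Geo.specialLinear (Fin n) F := ⟨_, rfl⟩
  rw [← hS] at hΩ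
  obtain ⟨I, hI⟩ : ∃ I, I = (Gram.Sim A).relIndex S := ⟨_, rfl⟩
  rw [← hI] at hΩ
  haveI : Nonempty (Fin n) := ⟨⟨0, by omega⟩⟩
  obtain ⟨N, hN⟩ : ∃ N, Nat.card (GL (Fin n) F) = q ^ N * ∏ k ∈ Finset.range n, (q ^ (k + 1) - 1) := by
    refine ⟨∑ j : Fin n, (j : ℕ), ?_⟩
    rw [Matrix.card_GL_field, Elusive.prod_pow_sub (F := F) n n le_rfl, Finset.prod_pow_eq_pow_sum, ← hqdef]
    congr 1
    rw [Fin.prod_univ_eq_prod_range (fun k => q ^ (n - k) - 1) n, ← Finset.prod_range_reflect]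
    refine Finset.prod_congr rfl fun k hk => ?_
    rw [Finset.mem_range] at hk
    congr 2
    omega
  have hGL : Nat.card ↥S * (q - 1) = Nat.card (GL (Fin n) F) := by
    rw [← Subgroup.card_mul_index S, hS, Cfsg.Geo.specialLinear, Subgroup.index_ker,
      MonoidHom.range_eq_top.mpr (fun u => ?_), Subgroup.card_top, Nat.card_units,
      Nat.card_eq_fintype_card (α := F), hqdef]
    refine ⟨Matrix.GeneralLinearGroup.mkOfDetNeZero
      (Matrix.diagonal (Function.update (1 : Fin n → F) ⟨0, by omega⟩ (u : F))) ?_, Units.ext ?_⟩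
    · rw [Matrix.det_diagonal, Finset.prod_update_of_mem (Finset.mem_univ _)]
      simp
    · simp [Matrix.GeneralLinearGroup.val_det_apply, Matrix.GeneralLinearGroup.mkOfDetNeZero,
        Finset.prod_update_of_mem]
  have hiso : ∀ {κ : Type} [Fintype κ] [DecidableEq κ] (B₀ : Matrix κ κ F), IsUnit B₀.det → Gram.Model A B₀ →
      I * Nat.card ↥(Gram.Iso B₀) * (q - 1) ∣ 2 * Nat.card (GL (Fin n) F) := by
    intro κ _ _ B₀ hB₀ hmod
    obtain ⟨E, hE, -, hEdet⟩ := hmod.sim_equiv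
    obtain ⟨d, hd⟩ : ∃ d : ↥(Gram.Iso B₀) →* Fˣ,
        d = (Matrix.GeneralLinearGroup.det : GL κ F →* Fˣ).comp (Gram.Iso B₀).subtype := ⟨_, rfl⟩
    have hmemS : ∀ g : ↥d.ker, E.symm g.1.1 ∈ S := fun g => by
      rw [hS]
      show Matrix.GeneralLinearGroup.det (E.symm g.1.1) = 1
      rw [← hEdet, MulEquiv.apply_symm_apply]
      have h := g.2
      rw [MonoidHom.mem_ker] at h
      exact (DFunLike.congr_fun hd g.1).symm.trans h
    have hmemA : ∀ g : ↥d.ker, E.symm g.1.1 ∈ Gram.Sim A := fun g => by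
      have h : g.1.1 ∈ (Gram.Sim A).map E.toMonoidHom := by
        rw [hE]
        exact Gram.iso_le_sim _ g.1.2
      exact Subgroup.mem_map_equiv.mp h
    let φ : ↥d.ker →* ↥((Gram.Sim A).subgroupOf S) :=
      { toFun := fun g => ⟨⟨_, hmemS g⟩, hmemA g⟩
        map_one' := Subtype.ext (Subtype.ext (map_one E.symm))
        map_mul' := fun a b => Subtype.ext (Subtype.ext (map_mul E.symm a.1.1 b.1.1)) }
    have hφ : Function.Injective φ := fun a b h => Subtype.ext (Subtype.ext (E.symm.injective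
      (congrArg (fun z : ↥((Gram.Sim A).subgroupOf S) => ((z : ↥S) : GL (Fin n) F)) h)))
    have hrange : Nat.card ↥d.range ∣ 2 := by
      have hle : ∀ x : ↥d.range, ((x : Fˣ) : F) ∈ ({1, -1} : Finset F) := by
        rintro ⟨x, g, rfl⟩
        have h := Gram.det_sq_of_sim hB₀ (g := g.1) (c := 1) (by rw [one_smul]; exact g.2)
        rw [one_pow] at h
        simpa [hd] using sq_eq_one_iff.mp h
      haveI : Fintype ↥d.range := Fintype.ofFinite _
      have h2' : Nat.card ↥d.range ≤ 2 := by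
        rw [Nat.card_eq_fintype_card, ← Finset.card_univ]
        exact (Finset.card_le_card_of_injOn (fun x : ↥d.range => ((x : Fˣ) : F)) (fun x _ => hle x)
          (fun x _ y _ hxy => Subtype.ext (Units.ext hxy))).trans Finset.card_le_two
      have h0 : 0 < Nat.card ↥d.range := Nat.card_pos
      interval_cases Nat.card ↥d.range <;> norm_num
    have hI' : Nat.card ↥(Gram.Iso B₀) ∣ 2 * Nat.card ↥((Gram.Sim A).subgroupOf S) := by
      rw [Subgroup.card_eq_card_quotient_mul_card_subgroup d.ker,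
        Nat.card_congr (QuotientGroup.quotientKerEquivRange d).toEquiv]
      exact mul_dvd_mul hrange (Subgroup.card_dvd_of_injective φ hφ)
    rw [← hGL, ← ((Gram.Sim A).subgroupOf S).index_mul_card, hI, Subgroup.relIndex]
    calc _ ∣ _ * (2 * _) * (q - 1) := mul_dvd_mul_right (mul_dvd_mul_left _ hI') _
      _ = _ := by ring
  have hrq' : ∀ k : ℕ, ¬ r ∣ q ^ k := fun k h => hrq (hqdef ▸ hr.dvd_of_dvd_pow h)
  have hev : ∀ k : ℕ, 0 < ∏ i ∈ Finset.range k, (q ^ (2 * (i + 1)) - 1) := fun k =>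
    Finset.prod_pos fun i _ => Nat.sub_pos_of_lt (Nat.one_lt_pow (by omega) (by omega))
  have hodd : ∀ j, 2 * j + 1 ≤ n → r ∣ ∏ i ∈ Finset.range j, (q ^ (2 * (i + 1) + 1) - 1) →
      ∃ i, Odd i ∧ 3 ≤ i ∧ i ≤ n ∧ r ∣ Fintype.card F ^ i - 1 := fun j hj h => by
    obtain ⟨i, hi, h3⟩ := (hr.prime.dvd_finsetProd_iff _).mp h
    rw [Finset.mem_range] at hi
    exact ⟨2 * (i + 1) + 1, ⟨i + 1, rfl⟩, by omega, by omega, hqdef ▸ h3⟩
  rcases Nat.even_or_odd n with ⟨m, hm⟩ | ⟨m, hm⟩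
  · have hι : Fintype.card (Fin n) = 2 * m := by rw [Fintype.card_fin, hm, two_mul]
    obtain ⟨j, rfl⟩ : ∃ j, m = j + 1 := ⟨m - 1, by omega⟩
    have hn2 : n = 2 * (j + 1) := by omega
    have hsplit : ∏ k ∈ Finset.range n, (q ^ (k + 1) - 1) = (q - 1) * (q ^ (j + 1) - 1) * (q ^ (j + 1) + 1) *
        ((∏ i ∈ Finset.range j, (q ^ (2 * (i + 1) + 1) - 1)) * ∏ i ∈ Finset.range j, (q ^ (2 * (i + 1)) - 1)) := by
      rw [show Finset.range n = Finset.range (2 * (j + 1)) from congrArg Finset.range hn2,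
        Lead.SympDerangement.prod_range_two_mul (fun k => q ^ (k + 1) - 1) (j + 1)]
      rw [Finset.prod_range_succ' (fun i => q ^ (2 * i + 1) - 1), Finset.prod_range_succ (fun i => q ^ (2 * i + 1 + 1) - 1),
        show q ^ (2 * j + 1 + 1) - 1 = (q ^ (j + 1) + 1) * (q ^ (j + 1) - 1) by
          rw [← Nat.sq_sub_sq, one_pow, ← pow_mul]; ring_nf]
      simp only [show ∀ i, 2 * i + 1 + 1 = 2 * (i + 1) from fun i => by ring, mul_zero, zero_add, pow_one]
      ring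
    have fin : ∀ (u v k : ℕ), 0 < u → (q ^ (j + 1) - 1) * (q ^ (j + 1) + 1) = u * v →
        I * (2 * q ^ k * u * ∏ i ∈ Finset.range j, (q ^ (2 * (i + 1)) - 1)) * (q - 1) ∣ 2 * Nat.card (GL (Fin n) F) →
        (∃ i, Odd i ∧ 3 ≤ i ∧ i ≤ n ∧ r ∣ Fintype.card F ^ i - 1) ∨ r ∣ v := by
      intro u v k hu huv hdiv
      rw [hN, hsplit] at hdiv
      have h3 : (I * q ^ k) * (2 * u * (q - 1) * ∏ i ∈ Finset.range j, (q ^ (2 * (i + 1)) - 1)) ∣
          (q ^ N * v * ∏ i ∈ Finset.range j, (q ^ (2 * (i + 1) + 1) - 1)) *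
            (2 * u * (q - 1) * ∏ i ∈ Finset.range j, (q ^ (2 * (i + 1)) - 1)) := by
        convert hdiv using 1
        · ring
        · rw [mul_assoc (q - 1), huv]; ring
      have h4 : r ∣ q ^ N * v * ∏ i ∈ Finset.range j, (q ^ (2 * (i + 1) + 1) - 1) :=
        (hΩ.mul_right _).trans (Nat.dvd_of_mul_dvd_mul_right
          (Nat.mul_pos (Nat.mul_pos (Nat.mul_pos two_pos hu) (by omega)) (hev j)) h3)
      rcases hr.dvd_mul.mp h4 with h5 | h5
      · exact .inr ((hr.dvd_mul.mp h5).resolve_left (hrq' N))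
      · exact .inl (hodd j (by omega) h5)
    obtain ⟨a, c, hac⟩ := QuadModels.exists_aniso (F := F)
    have hqm : 1 ≤ q ^ (j + 1) := Nat.one_le_pow _ _ (by omega)
    rcases Gram.sym_even h2 hAs hA (show 1 ≤ j + 1 by omega) hι hac with hmod | hmod
    · have hdisc : IsSquare ((-1) ^ (j + 1) * A.det) := by
        obtain ⟨d, hd0, h1⟩ := hmod.disc hι (by rw [Fintype.card_sum, Fintype.card_fin, two_mul]) (Gram.det_plus_unit _)
        rw [FormDisc.det_Jplus] at h1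
        refine ⟨d * A.det, ?_⟩
        rw [h1]; ring
      have hd := hiso _ (Gram.det_plus_unit _) hmod
      rw [← Gram.isometry_eq h2 (FormDisc.polar_plus _) (Gram.plus_quad _), Classical.OCount.card_GO_plus,
        ← hqdef] at hd
      rcases fin _ _ _ (Nat.sub_pos_of_lt (Nat.one_lt_pow (by omega) (by omega))) rfl hd with h | h
      · exact .inl h
      · exact .inr ⟨j + 1, hn2, .inl ⟨hdisc, hqdef ▸ h⟩⟩
    · have hdisc : ¬ IsSquare ((-1) ^ (j + 1) * A.det) := by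
        rintro ⟨w, hw⟩
        obtain ⟨d, hd0, h1⟩ := hmod.disc hι (by
          rw [Fintype.card_sum, Fintype.card_sum, Fintype.card_fin, Fintype.card_fin]; omega) (Gram.det_minus_unit h2 _ hac)
        rw [FormDisc.det_Jminus] at h1
        refine Gram.disc_nonsquare h2 hac ⟨d * w, ?_⟩
        rw [show j + 1 - 1 = j from rfl] at h1
        have e1 : ((-1 : F) ^ j) * ((-1) ^ j) = 1 := by rw [← mul_pow]; simp
        rw [pow_succ] at hw
        linear_combination (-(-1 : F) ^ j) * h1 - (a * a - 4 * c) * e1 + d * d * hw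
      rw [show j + 1 - 1 = j from rfl] at hmod
      have hd := hiso _ (Gram.det_minus_unit h2 _ hac) hmod
      rw [← Gram.isometry_eq h2 (FormDisc.polar_minus _ _ _) (Gram.minus_quad _ _ _),
        Classical.OCount.card_GO_minus _ _ _ hac, ← hqdef] at hd
      rcases fin _ _ _ (by omega) (mul_comm _ _) hd with h | h
      · exact .inl h
      · exact .inr ⟨j + 1, hn2, .inr ⟨hdisc, hqdef ▸ h⟩⟩
  · have hι : Fintype.card (Fin n) = 2 * m + 1 := by rw [Fintype.card_fin, hm]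
    have hsplit : ∏ k ∈ Finset.range n, (q ^ (k + 1) - 1) = (q - 1) *
        ((∏ i ∈ Finset.range m, (q ^ (2 * (i + 1) + 1) - 1)) * ∏ i ∈ Finset.range m, (q ^ (2 * (i + 1)) - 1)) := by
      rw [show Finset.range n = Finset.range (2 * m + 1) from congrArg Finset.range hm, Finset.prod_range_succ',
        Lead.SympDerangement.prod_range_two_mul (fun k => q ^ (k + 1 + 1) - 1) m]
      simp only [show ∀ i, 2 * i + 1 + 1 = 2 * (i + 1) from fun i => by ring, zero_add, pow_one]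
      ring
    have hd := hiso _ (Gram.det_Jodd h2 m) (Gram.sym_odd h2 hAs hA hι)
    rw [← Gram.isometry_eq h2 (Gram.polar_odd m) (Gram.odd_quad m), Classical.OCount.card_GO_odd h2, ← hqdef, hN,
      hsplit] at hd
    have h3 : (I * q ^ (m ^ 2)) * (2 * (q - 1) * ∏ i ∈ Finset.range m, (q ^ (2 * (i + 1)) - 1)) ∣
        (q ^ N * ∏ i ∈ Finset.range m, (q ^ (2 * (i + 1) + 1) - 1)) *
          (2 * (q - 1) * ∏ i ∈ Finset.range m, (q ^ (2 * (i + 1)) - 1)) := by
      convert hd using 1 <;> ring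
    have h4 := (hΩ.mul_right _).trans (Nat.dvd_of_mul_dvd_mul_right
      (Nat.mul_pos (Nat.mul_pos two_pos (by omega)) (hev m)) h3)
    exact .inl (hodd m (by omega) ((hr.dvd_mul.mp h4).resolve_left (hrq' N)))

end Cfsg.Agent.Classical.Elusive.OSimilar
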