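import Cfsg.Agent.Lib.Classical.Elusive.OrthSimBasic

/-!
# Prime order elements outside every orthogonal similarity group
-/

set_option autoImplicit false
set_option linter.unusedSectionVars false
set_option linter.style.haveILetI false
set_option maxHeartbeats 400000

namespace Cfsg.Agent.Classical.Elusive.OSimilar

open Matrix Polynomial Module
open Cfsg.Agent.Small

universe u

variable {F : Type u} [Field F] [Fintype F] {n : ℕ}

theorem der_of_refl {D : F} {r : ℕ} (h : USim.IsDer (RingEquiv.refl F) n r) : IsDer D n r := by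
  obtain ⟨x, hz, hns, hno⟩ := h
  refine ⟨x, hz, hns, fun P μ _ hP _ he => hno P μ ((Matrix.isUnit_iff_isUnit_det P).mpr (isUnit_iff_ne_zero.mpr hP)) rfl ?_⟩
  rw [USim.tw, show (x.1).map (RingEquiv.refl F) = x.1 from Matrix.ext fun _ _ => rfl]
  exact he

/-- A transvection preserves no form up to a scalar. -/
theorem der_unipotent {D : F} {p : ℕ} [Fact p.Prime] [CharP F p] (h2 : (2 : F) ≠ 0) (hn : 2 ≤ n) : IsDer D n p := by
  classical
  obtain ⟨i0, hi0⟩ : ∃ i : Fin n, (i : ℕ) = 0 := ⟨⟨0, by omega⟩, rfl⟩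
  obtain ⟨i1, hi1⟩ : ∃ i : Fin n, (i : ℕ) = 1 := ⟨⟨1, by omega⟩, rfl⟩
  have h01 : i0 ≠ i1 := fun e => by simp [e, hi1] at hi0
  obtain ⟨x, hx⟩ : ∃ x, x = Matrix.SpecialLinearGroup.transvection h01 (1 : F) := ⟨_, rfl⟩
  have hxv : (x : Matrix (Fin n) (Fin n) F) = 1 + Matrix.single i0 i1 1 := by rw [hx]; rfl
  have hp1 : (x : Matrix (Fin n) (Fin n) F) ^ p = 1 := by
    haveI : Nonempty (Fin n) := ⟨i0⟩
    haveI : CharP (Matrix (Fin n) (Fin n) F) p := charP_of_injective_algebraMap' F (A := Matrix (Fin n) (Fin n) F) p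
    rw [hxv, add_pow_char_of_commute p (Commute.one_left _), one_pow]
    rw [pow_eq_zero_of_le (Fact.out : p.Prime).two_le (by
      rw [pow_two, Matrix.single_mul_single_of_ne (h := h01.symm)]), add_zero]
  refine ⟨x, ⟨1, by rw [hp1, one_smul]⟩, fun z hz => ?_, fun P μ hPs hP0 _ he => ?_⟩
  · have := congrFun (congrFun hz i0) i1
    simp [hxv, h01] at this
  have hne : ∃ i j, P i j ≠ 0 := by
    by_contra hc
    push Not at hc
    haveI : Nonempty (Fin n) := ⟨i0⟩
    rw [show P = 0 from Matrix.ext hc, Matrix.det_zero] at hP0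
    exact hP0 rfl
  have hit : ∀ k : ℕ, ((x : Matrix (Fin n) (Fin n) F) ^ k)ᵀ * P * (x : Matrix (Fin n) (Fin n) F) ^ k = μ ^ k • P := by
    intro k
    induction k with
    | zero => simp
    | succ k ih => rw [pow_succ, Gram.gram_mul, ih, Matrix.mul_smul, Matrix.smul_mul, he, smul_smul, ← pow_succ]
  have hμp : μ ^ p = 1 := by
    have h := hit p
    rw [hp1, Matrix.transpose_one, Matrix.one_mul, Matrix.mul_one] at h
    obtain ⟨i, j, hij⟩ := hne
    have h' := congrFun (congrFun h i) j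
    rw [Matrix.smul_apply, smul_eq_mul] at h'
    exact mul_right_cancel₀ hij (by rw [← h', one_mul])
  have hμ1 : μ = 1 := by
    have h : (μ - 1) ^ p = 0 := by rw [sub_pow_char, hμp, one_pow, sub_self]
    exact sub_eq_zero.mp (eq_zero_of_pow_eq_zero h)
  rw [hμ1, one_smul, hxv] at he
  have key : ∀ i j, (if j = i1 then P i i0 else 0) + (if i = i1 then P i0 j else 0) +
      (if i = i1 ∧ j = i1 then P i0 i0 else 0) = 0 := fun i j => by
    have h := congrFun (congrFun he i) j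
    simp only [Matrix.transpose_add, Matrix.transpose_one, Matrix.transpose_single, Matrix.add_mul, Matrix.mul_add,
      Matrix.one_mul, Matrix.mul_one, Matrix.add_apply] at h
    have a1 : (P * Matrix.single i0 i1 (1 : F)) i j = if j = i1 then P i i0 else 0 := by
      by_cases hj : j = i1
      · subst hj; simp
      · rw [Matrix.mul_single_apply_of_ne (hbj := hj), if_neg hj]
    have a2 : (Matrix.single i1 i0 (1 : F) * P) i j = if i = i1 then P i0 j else 0 := by
      by_cases hi : i = i1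
      · subst hi; simp
      · rw [Matrix.single_mul_apply_of_ne (h := hi), if_neg hi]
    have a3 : (Matrix.single i1 i0 (1 : F) * P * Matrix.single i0 i1 (1 : F)) i j =
        if i = i1 ∧ j = i1 then P i0 i0 else 0 := by
      by_cases hj : j = i1
      · subst hj
        by_cases hi : i = j
        · subst hi; simp
        · rw [if_neg (fun h => hi h.1)]
          simp [Matrix.single_mul_apply_of_ne, hi]
      · rw [Matrix.mul_single_apply_of_ne (hbj := hj), if_neg fun h => hj h.2]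
    rw [a1, a2, a3] at h
    linear_combination h
  refine hP0 (Matrix.det_eq_zero_of_column_eq_zero i0 fun i => ?_)
  by_cases hi : i = i1
  · subst hi
    have h := key i i
    have h00 : P i0 i0 = 0 := by
      have := key i0 i
      simpa [h01] using this
    have hs : P i0 i = P i i0 := congrFun (congrFun hPs i) i0
    simp [h00, hs] at h
    exact (mul_eq_zero.mp (show (2 : F) * P i i0 = 0 by linear_combination h)).resolve_left h2
  · simpa [hi] using key i i1

/-- An element of order `r` with one block type, and its roots. -/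
theorem exists_mixed_one {p : ℕ} [Fact p.Prime] [CharP F p] {r : ℕ} [Fact r.Prime] (hrp : r ≠ p)
    (hi : 2 ≤ orderOf (Fintype.card F : ZMod r)) {a t : ℕ} (hn : a + orderOf (Fintype.card F : ZMod r) * t = n) :
    ∃ x : Matrix.SpecialLinearGroup (Fin n) F, (x : Matrix (Fin n) (Fin n) F) ^ r = 1 ∧
      ∃ q : F[X], Irreducible q ∧ q.Monic ∧ q.natDegree = orderOf (Fintype.card F : ZMod r) ∧ q ∣ X ^ r - 1 ∧
        (x : Matrix (Fin n) (Fin n) F).charpoly = (X - C (1 : F)) ^ a * q ^ t := by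
  classical
  have hr0 := cast_ne_zero (F := F) hrp
  obtain ⟨S, hS⟩ : ∃ S : F[X], S = ∑ j ∈ Finset.range r, X ^ j := ⟨_, rfl⟩
  have hS1 : S * (X - 1) = X ^ r - 1 := hS ▸ geom_sum_mul X r
  have hev : S.eval 1 = (r : F) := by simp [hS, eval_finsetSum]
  have hnu : ¬ IsUnit S := fun hu => by
    have h0 := natDegree_eq_zero_of_isUnit hu
    have hS0 : S ≠ 0 := fun h => hr0 (by rw [← hev, h, eval_zero])
    have := congrArg natDegree hS1
    rw [← C_1, natDegree_mul hS0 (X_sub_C_ne_zero _), natDegree_X_pow_sub_C, natDegree_X_sub_C, h0] at this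
    exact (Fact.out : r.Prime).one_lt.ne this
  obtain ⟨q, hqm, hqi, hqd⟩ := Polynomial.exists_monic_irreducible_factor S hnu
  have hq1 : q ≠ X - C 1 := fun h => hr0 (by
    obtain ⟨T, hT⟩ := hqd
    rw [← hev, hT, h]; simp)
  have hqr : q ∣ X ^ r - 1 := hS1 ▸ hqd.mul_right _
  have hdeg := natDegree_factor hqi hqm hqr hq1
  haveI : Fact (Irreducible q) := ⟨hqi⟩
  have hq0 : q.coeff 0 = (-1) ^ q.natDegree := by
    have hN := Algebra.PowerBasis.norm_gen_eq_coeff_zero_minpoly (AdjoinRoot.powerBasis hqi.ne_zero)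
    rw [AdjoinRoot.powerBasis_gen, AdjoinRoot.powerBasis_dim, AdjoinRoot.minpoly_root hqi.ne_zero, hqm.leadingCoeff,
      inv_one, map_one, mul_one] at hN
    have hz : (AdjoinRoot.root q) ^ r = 1 := by
      have := AdjoinRoot.mk_eq_zero.mpr hqr
      rwa [map_sub, map_pow, AdjoinRoot.mk_X, map_one, sub_eq_zero] at this
    have hNr : Algebra.norm F (AdjoinRoot.root q) ^ r = 1 := by rw [← map_pow, hz, map_one]
    have hdvd : ¬ r ∣ Fintype.card F - 1 := fun h => by
      have := orderOf_eq_one_iff'.mpr h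
      omega
    have hN0 : Algebra.norm F (AdjoinRoot.root q) ≠ 0 := fun h => by
      rw [h, zero_pow (Fact.out : r.Prime).ne_zero] at hNr; exact zero_ne_one hNr
    have hN1 : Algebra.norm F (AdjoinRoot.root q) = 1 := orderOf_eq_one_iff.mp (by
      rcases (Nat.dvd_prime Fact.out).mp (orderOf_dvd_of_pow_eq_one hNr) with h | h
      · exact h
      · exact absurd (h ▸ orderOf_dvd_of_pow_eq_one (FiniteField.pow_card_sub_one_eq_one _ hN0)) hdvd)
    calc q.coeff 0 = (-1) ^ q.natDegree * ((-1) ^ q.natDegree * q.coeff 0) := by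
          rw [← mul_assoc, ← pow_add, Even.neg_one_pow ⟨_, rfl⟩, one_mul]
      _ = _ := by rw [← hN, hN1, mul_one]
  obtain ⟨x, hxc, hxs⟩ := exists_SL p ((X - C (1 : F)) ^ a * q ^ t) (((monic_X_sub_C 1).pow a).mul (hqm.pow t)) (n := n)
    (by rw [((monic_X_sub_C (1 : F)).pow a).natDegree_mul (hqm.pow t), natDegree_pow, natDegree_pow,
      natDegree_X_sub_C, hdeg, mul_one, mul_comm t, hn])
    (by rw [mul_coeff_zero, coeff_zero_eq_eval_zero, eval_pow, eval_sub, eval_X, eval_C, zero_sub,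
      coeff_zero_eq_eval_zero, eval_pow, ← coeff_zero_eq_eval_zero, hq0, ← pow_mul, ← pow_add, hdeg, hn])
  refine ⟨x, ?_, q, hqi, hqm, hdeg, hqr, by rw [← Matrix.charpoly_toLin', hxc]⟩
  have h1 := matrix_eq_of_aeval (x := x) (r := r) (c := (1 : F)) (by
    rw [C_1]
    refine aeval_of_charpoly hxs (N := a + t) ?_
    rw [hxc, pow_add]
    exact mul_dvd_mul (pow_dvd_pow_of_dvd (C_1 (R := F) ▸ Dvd.intro_left S hS1) a) (pow_dvd_pow_of_dvd hqr t))
  rwa [Matrix.SpecialLinearGroup.coe_pow, one_smul] at h1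

/-- The roots of a cyclotomic factor. -/
theorem roots_data {r : ℕ} [Fact r.Prime] {φ : F[X]} [hφ : Fact (Irreducible φ)] (hm : φ.Monic)
    (hd : φ.natDegree = orderOf (Fintype.card F : ZMod r)) (hdiv : φ ∣ X ^ r - 1)
    (he : 2 ≤ orderOf (Fintype.card F : ZMod r)) :
    (AdjoinRoot.root φ) ^ r = 1 ∧ orderOf (AdjoinRoot.root φ) = r ∧
      φ.map (algebraMap F (AdjoinRoot φ)) = ∏ j ∈ Finset.range (orderOf (Fintype.card F : ZMod r)),
        (X - C ((AdjoinRoot.root φ) ^ (Fintype.card F ^ j))) := by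
  classical
  have hφi := hφ.out
  obtain ⟨θ, hθ⟩ : ∃ θ, θ = AdjoinRoot.root φ := ⟨_, rfl⟩
  rw [← hθ]
  have hθr : θ ^ r = 1 := by
    have := AdjoinRoot.mk_eq_zero.mpr hdiv
    rwa [map_sub, map_pow, AdjoinRoot.mk_X, map_one, sub_eq_zero, ← hθ] at this
  have hθ1 : θ ≠ 1 := fun h => by
    have h1 : (minpoly F θ).natDegree = 1 := by rw [h, minpoly.one, ← C_1, natDegree_X_sub_C]
    rw [hθ, AdjoinRoot.minpoly_root hφi.ne_zero, hm.leadingCoeff, inv_one, C_1, mul_one, hd] at h1
    omega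
  have hord : orderOf θ = r := orderOf_eq_prime hθr hθ1
  refine ⟨hθr, hord, ?_⟩
  obtain ⟨e, hedef⟩ : ∃ e, e = orderOf (Fintype.card F : ZMod r) := ⟨_, rfl⟩
  rw [← hedef] at hd ⊢
  haveI : Module.Finite F (AdjoinRoot φ) := Module.Finite.of_basis (AdjoinRoot.powerBasis hφi.ne_zero).basis
  haveI : Finite (AdjoinRoot φ) := Module.finite_of_finite F
  have hroot : ∀ j, aeval (θ ^ (Fintype.card F ^ j)) φ = 0 := fun j => by
    have h1 : (FiniteField.frobeniusAlgEquivOfAlgebraic F (AdjoinRoot φ) ^ j) θ = θ ^ (Fintype.card F ^ j) := by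
      rw [AlgEquiv.coe_pow, FiniteField.coe_frobeniusAlgEquivOfAlgebraic_iterate]
    rw [← h1, aeval_algEquiv, AlgEquiv.toAlgHom_eq_coe, AlgHom.comp_apply, hθ, AdjoinRoot.aeval_eq, AdjoinRoot.mk_self,
      map_zero]
  have hinj : ∀ i < e, ∀ j < e, θ ^ (Fintype.card F ^ i) = θ ^ (Fintype.card F ^ j) → i = j := fun i hi j hj h => by
    have hθ0 : θ ≠ 0 := fun h0 => by
      rw [h0, zero_pow (Fact.out : r.Prime).ne_zero] at hθr; exact zero_ne_one hθr
    have h1 : ((Fintype.card F : ZMod r)) ^ i = (Fintype.card F : ZMod r) ^ j := by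
      rw [← Nat.cast_pow, ← Nat.cast_pow, ZMod.natCast_eq_natCast_iff]
      obtain ⟨u, hu⟩ : ∃ u : (AdjoinRoot φ)ˣ, (u : AdjoinRoot φ) = θ := ⟨Units.mk0 θ hθ0, rfl⟩
      have h2 : u ^ (Fintype.card F ^ i) = u ^ (Fintype.card F ^ j) := Units.ext (by simpa [hu] using h)
      have h3 := pow_eq_pow_iff_modEq.mp h2
      rwa [← orderOf_units, hu, hord] at h3
    exact pow_injOn_Iio_orderOf (hedef ▸ hi) (hedef ▸ hj) h1
  have hdvd : ∏ j ∈ Finset.range e, (X - C (θ ^ (Fintype.card F ^ j))) ∣ φ.map (algebraMap F (AdjoinRoot φ)) := by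
    refine Finset.prod_dvd_of_coprime (fun i hi j hj hij => ?_) fun j _ => ?_
    · exact isCoprime_X_sub_C_of_isUnit_sub (isUnit_iff_ne_zero.mpr (sub_ne_zero.mpr fun h =>
        hij (hinj i (Finset.mem_range.mp hi) j (Finset.mem_range.mp hj) h)))
    · rw [dvd_iff_isRoot, IsRoot, eval_map, ← aeval_def]
      exact hroot j
  refine (Polynomial.eq_of_monic_of_associated (monic_prod_of_monic _ _ fun j _ => monic_X_sub_C _)
    (hm.map _) ?_).symm
  refine associated_of_dvd_of_natDegree_le hdvd (hm.map _).ne_zero ?_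
  rw [natDegree_map, hd, natDegree_prod_of_monic _ _ fun j _ => monic_X_sub_C _,
    Finset.sum_congr rfl fun j _ => natDegree_X_sub_C _, Finset.sum_const, Finset.card_range, smul_eq_mul, mul_one]

/-- The multiplier of a form invariant under an element of order `r`. -/
theorem mult_pow {x : Matrix (Fin n) (Fin n) F} {P : Matrix (Fin n) (Fin n) F} {μ : F} (hP : P.det ≠ 0) (hn : 0 < n)
    (he : xᵀ * P * x = μ • P) {r : ℕ} (hx : x ^ r = 1) : μ ^ r = 1 := by
  have hit : ∀ k : ℕ, (x ^ k)ᵀ * P * x ^ k = μ ^ k • P := by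
    intro k
    induction k with
    | zero => simp
    | succ k ih => rw [pow_succ, Gram.gram_mul, ih, Matrix.mul_smul, Matrix.smul_mul, he, smul_smul, ← pow_succ]
  have h := hit r
  rw [hx, Matrix.transpose_one, Matrix.one_mul, Matrix.mul_one] at h
  obtain ⟨i, j, hij⟩ : ∃ i j, P i j ≠ 0 := by
    by_contra hc
    push Not at hc
    haveI : Nonempty (Fin n) := ⟨⟨0, hn⟩⟩
    rw [show P = 0 from Matrix.ext hc, Matrix.det_zero] at hP
    exact hP rfl
  have h' := congrFun (congrFun h i) j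
  rw [Matrix.smul_apply, smul_eq_mul] at h'
  exact mul_right_cancel₀ hij (by rw [← h', one_mul])

theorem mult_one {r : ℕ} [Fact r.Prime] (hi : 2 ≤ orderOf (Fintype.card F : ZMod r)) {μ : F} (hμ : μ ^ r = 1) :
    μ = 1 := by
  have hdvd : ¬ r ∣ Fintype.card F - 1 := fun h => by
    have := orderOf_eq_one_iff'.mpr h
    omega
  have h0 : μ ≠ 0 := fun h => by rw [h, zero_pow (Fact.out : r.Prime).ne_zero] at hμ; exact zero_ne_one hμ
  rcases (Nat.dvd_prime Fact.out).mp (orderOf_dvd_of_pow_eq_one hμ) with h | h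
  · exact orderOf_eq_one_iff.mp h
  · exact absurd (h ▸ orderOf_dvd_of_pow_eq_one (FiniteField.pow_card_sub_one_eq_one _ h0)) hdvd

/-- An element with an unpaired block. -/
theorem der_block {D : F} {p : ℕ} [Fact p.Prime] [CharP F p] {r : ℕ} [Fact r.Prime] (hrp : r ≠ p)
    (hi : 2 ≤ orderOf (Fintype.card F : ZMod r)) (hio : Odd (orderOf (Fintype.card F : ZMod r)))
    (hin : orderOf (Fintype.card F : ZMod r) ≤ n) (hr2 : r ≠ 2) : IsDer D n r := by
  classical
  obtain ⟨a, ha⟩ : ∃ a, a + orderOf (Fintype.card F : ZMod r) * 1 = n :=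
    ⟨n - orderOf (Fintype.card F : ZMod r), by omega⟩
  obtain ⟨x, hx, φ, hφi, hm, hd, hdiv, hch⟩ := exists_mixed_one (F := F) hrp hi ha
  haveI : Fact (Irreducible φ) := ⟨hφi⟩
  obtain ⟨hθr, hord, hfac⟩ := roots_data hm hd hdiv hi
  obtain ⟨θ, hθ⟩ : ∃ θ, θ = AdjoinRoot.root φ := ⟨_, rfl⟩
  rw [← hθ] at hθr hord hfac
  obtain ⟨ι, hι⟩ : ∃ ι : F →+* AdjoinRoot φ, ι = algebraMap F (AdjoinRoot φ) := ⟨_, rfl⟩
  rw [← hι] at hfac
  refine ⟨x, ⟨1, by rw [hx, one_smul]⟩, fun z hz => ?_, fun P μ hPs hP0 _ he => ?_⟩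
  · rw [hz, Matrix.charpoly, Matrix.charmatrix, Matrix.smul_one_eq_diagonal] at hch
    rw [show (Matrix.scalar (Fin n)) X - C.mapMatrix (Matrix.diagonal fun _ : Fin n => z) =
        Matrix.diagonal (fun _ : Fin n => X - C z) by
      rw [Matrix.scalar_apply, RingHom.mapMatrix_apply, Matrix.diagonal_map (map_zero C), Matrix.diagonal_sub],
      Matrix.det_diagonal, Finset.prod_const, Finset.card_univ, Fintype.card_fin] at hch
    have hroot : φ ∣ (X - C z) ^ n := by rw [hch, pow_one]; exact dvd_mul_left _ _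
    have h := (hφi.prime).dvd_of_dvd_pow hroot
    have := natDegree_le_of_dvd h (X_sub_C_ne_zero z)
    rw [natDegree_X_sub_C, hd] at this
    omega
  · have hμ := mult_one hi (mult_pow hP0 (by omega) he hx)
    rw [hμ, one_smul] at he
    obtain ⟨xu, hxu⟩ : ∃ xu : GL (Fin n) F, xu.1 = x.1 := ⟨Matrix.SpecialLinearGroup.toGL x, rfl⟩
    obtain ⟨Pu, rfl⟩ := (Matrix.isUnit_iff_isUnit_det P).mpr (isUnit_iff_ne_zero.mpr hP0)
    have hinv : (↑xu⁻¹ : Matrix (Fin n) (Fin n) F) = (↑Pu⁻¹ : Matrix (Fin n) (Fin n) F) * x.1ᵀ * Pu.1 :=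
      Units.inv_eq_of_mul_eq_one_left (by rw [hxu, mul_assoc, mul_assoc, ← mul_assoc x.1ᵀ, he, Units.inv_mul])
    have hcp : ((↑xu⁻¹ : Matrix (Fin n) (Fin n) F).map ι).charpoly = ((X - C (1 : F)) ^ a * φ ^ 1).map ι := by
      rw [Matrix.charpoly_map, hinv, Matrix.coe_units_inv Pu, Matrix.charpoly_units_conj', Matrix.charpoly_transpose, hch]
    have hθc : ((x : Matrix (Fin n) (Fin n) F).map ι).charpoly.eval θ = 0 := by
      rw [Matrix.charpoly_map, eval_map, hι, ← aeval_def, hch, pow_one, map_mul, hθ,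
        AdjoinRoot.aeval_eq φ, AdjoinRoot.mk_self, mul_zero]
    obtain ⟨v, hv0, hv⟩ := USim.eigen_of_root hθc
    have hθ0 : θ ≠ 0 := fun h => by rw [h, zero_pow (Fact.out : r.Prime).ne_zero] at hθr; exact zero_ne_one hθr
    have hev : (((X - C (1 : F)) ^ a * φ ^ 1).map ι).eval θ⁻¹ = 0 := by
      rw [← hcp, Matrix.eval_charpoly]
      refine Matrix.exists_mulVec_eq_zero_iff.mp ⟨v, hv0, ?_⟩
      have h1 : ((↑xu⁻¹ : Matrix (Fin n) (Fin n) F).map ι) *ᵥ v = θ⁻¹ • v := by
        have h2 := congrArg (fun w => ((↑xu⁻¹ : Matrix (Fin n) (Fin n) F).map ι) *ᵥ w) hv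
        simp only [Matrix.mulVec_mulVec, ← Matrix.map_mul, Matrix.mulVec_smul, ← hxu, Units.inv_mul,
          Matrix.map_one _ (map_zero ι) (map_one ι), Matrix.one_mulVec] at h2
        rw [eq_inv_smul_iff₀ hθ0]
        exact h2.symm
      rw [Matrix.sub_mulVec, h1, Matrix.scalar_apply, ← Matrix.smul_one_eq_diagonal, Matrix.smul_mulVec,
        Matrix.one_mulVec, sub_self]
    rw [pow_one, Polynomial.map_mul, eval_mul, mul_eq_zero] at hev
    rcases hev with h | h
    · rw [Polynomial.map_pow, eval_pow, Polynomial.map_sub, map_X, map_C, eval_sub, eval_X, eval_C, map_one] at h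
      have h1 : θ = 1 := inv_eq_one.mp (sub_eq_zero.mp (eq_zero_of_pow_eq_zero h))
      rw [h1, orderOf_one] at hord
      exact (Fact.out : r.Prime).one_lt.ne hord
    · rw [hfac, eval_prod, Finset.prod_eq_zero_iff] at h
      obtain ⟨j, hj, h⟩ := h
      rw [eval_sub, eval_X, eval_C, sub_eq_zero] at h
      have h1 : θ ^ (Fintype.card F ^ j + 1) = 1 := by rw [pow_succ, ← h, inv_mul_cancel₀ hθ0]
      have h2 : r ∣ Fintype.card F ^ j + 1 := hord ▸ orderOf_dvd_of_pow_eq_one h1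
      rw [← ZMod.natCast_eq_zero_iff, Nat.cast_add, Nat.cast_pow, Nat.cast_one, add_eq_zero_iff_eq_neg] at h2
      have h3 : ((Fintype.card F : ZMod r) ^ orderOf (Fintype.card F : ZMod r)) ^ j =
          ((Fintype.card F : ZMod r) ^ j) ^ orderOf (Fintype.card F : ZMod r) := by
        rw [← pow_mul, ← pow_mul, mul_comm]
      rw [pow_orderOf_eq_one, one_pow, h2, hio.neg_one_pow] at h3
      haveI : Fact (2 < r) := ⟨by have := (Fact.out : r.Prime).two_le; omega⟩
      exact ZMod.neg_one_ne_one h3.symm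

/-- An element with self-paired blocks only has one square class of forms. -/
theorem der_disc {p : ℕ} [Fact p.Prime] [CharP F p] (h2 : (2 : F) ≠ 0) {r : ℕ} [Fact r.Prime] (hrp : r ≠ p)
    (hr2 : r ≠ 2) {d k : ℕ} (hd0 : 0 < d) (hod : orderOf (Fintype.card F : ZMod r) = 2 * d) (hnk : n = 2 * d * k)
    (hk : 0 < k) {D : F} (hD : D ≠ 0)
    (hDk : Even k ↔ ¬ IsSquare ((-1) ^ (d * k) * D)) : IsDer D n r := by
  classical
  have hi : 2 ≤ orderOf (Fintype.card F : ZMod r) := by omega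
  obtain ⟨x, hx, φ, hφi, hm, hdeg, hdiv, hch⟩ := exists_mixed_one (F := F) hrp hi (a := 0) (t := k) (n := n)
    (by rw [hod, hnk, zero_add])
  rw [pow_zero, one_mul] at hch
  haveI : Fact (Irreducible φ) := ⟨hφi⟩
  obtain ⟨hθr, hord, hfac⟩ := roots_data hm hdeg hdiv hi
  obtain ⟨θ, hθ⟩ : ∃ θ, θ = AdjoinRoot.root φ := ⟨_, rfl⟩
  rw [← hθ] at hθr hord hfac
  obtain ⟨ι, hι⟩ : ∃ ι : F →+* AdjoinRoot φ, ι = algebraMap F (AdjoinRoot φ) := ⟨_, rfl⟩
  rw [← hι, hod] at hfac
  have hθ0 : θ ≠ 0 := fun h => by rw [h, zero_pow (Fact.out : r.Prime).ne_zero] at hθr; exact zero_ne_one hθr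
  have hqd : (Fintype.card F : ZMod r) ^ d = -1 := by
    have h1 : ((Fintype.card F : ZMod r) ^ d) ^ 2 = 1 := by rw [← pow_mul, mul_comm, ← hod, pow_orderOf_eq_one]
    rcases sq_eq_one_iff.mp h1 with h | h
    · have := Nat.le_of_dvd hd0 (orderOf_dvd_of_pow_eq_one h)
      omega
    · exact h
  have hpair : ∀ j, θ ^ (Fintype.card F ^ (d + j)) = (θ ^ (Fintype.card F ^ j))⁻¹ := fun j => by
    refine eq_inv_of_mul_eq_one_left ?_
    rw [← pow_add, ← orderOf_dvd_iff_pow_eq_one, hord, ← ZMod.natCast_eq_zero_iff]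
    push_cast
    rw [pow_add, hqd]
    ring
  have hθne : ∀ j, θ ^ (Fintype.card F ^ j) ≠ (θ ^ (Fintype.card F ^ j))⁻¹ := fun j h => by
    have h1 : θ ^ (2 * Fintype.card F ^ j) = 1 := by
      rw [two_mul, pow_add]
      nth_rw 1 [h]
      exact inv_mul_cancel₀ (pow_ne_zero _ hθ0)
    have h3 := hord ▸ orderOf_dvd_of_pow_eq_one h1
    rcases ((Fact.out : r.Prime).dvd_mul).mp h3 with h4 | h4
    · exact hr2 ((Nat.prime_dvd_prime_iff_eq Fact.out Nat.prime_two).mp h4)
    · have h5 := (Fact.out : r.Prime).dvd_of_dvd_pow h4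
      rw [← ZMod.natCast_eq_zero_iff] at h5
      rw [h5, zero_pow hd0.ne'] at hqd
      exact one_ne_zero (neg_eq_zero.mp hqd.symm)
  obtain ⟨η, hη⟩ : ∃ η, η = ∏ j ∈ Finset.range d, (θ ^ (Fintype.card F ^ j) - (θ ^ (Fintype.card F ^ j))⁻¹) :=
    ⟨_, rfl⟩
  obtain ⟨N, hN⟩ : ∃ N : F, N = (-1) ^ d * (φ.eval 1 * φ.eval (-1)) := ⟨_, rfl⟩
  have hNη : ι N = η * η := by
    have h1 : ∀ c : F, ι (φ.eval c) = ∏ j ∈ Finset.range (2 * d), (ι c - θ ^ (Fintype.card F ^ j)) := fun c => by
      rw [← Polynomial.eval₂_at_apply, ← eval_map, hfac, eval_prod]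
      simp
    rw [hN, map_mul, map_pow, map_neg, map_one, map_mul, h1, h1, map_neg, map_one, ← Finset.prod_mul_distrib,
      two_mul, Finset.prod_range_add, ← Finset.prod_mul_distrib, show ((-1 : AdjoinRoot φ) ^ d) =
        ∏ _j ∈ Finset.range d, (-1 : AdjoinRoot φ) by rw [Finset.prod_const, Finset.card_range],
      ← Finset.prod_mul_distrib, hη, ← Finset.prod_mul_distrib]
    refine Finset.prod_congr rfl fun j _ => ?_
    rw [hpair j]
    have := pow_ne_zero (Fintype.card F ^ j) hθ0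
    field_simp
    ring
  have hη0 : η ≠ 0 := by
    rw [hη]
    exact Finset.prod_ne_zero_iff.mpr fun j _ => sub_ne_zero.mpr (hθne j)
  have hN0 : N ≠ 0 := fun h => by
    rw [h, map_zero] at hNη
    exact hη0 (mul_self_eq_zero.mp hNη.symm)
  have hNns : ¬ IsSquare N := by
    rintro ⟨w, hw⟩
    have h1 : (η - ι w) * (η + ι w) = 0 := by rw [hw, map_mul] at hNη; linear_combination -hNη
    obtain ⟨w', hw'⟩ : ∃ w' : F, η = ι w' := by
      rcases mul_eq_zero.mp h1 with h | h
      · exact ⟨w, sub_eq_zero.mp h⟩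
      · exact ⟨-w, by rw [map_neg]; exact eq_neg_of_add_eq_zero_left h⟩
    haveI : Module.Finite F (AdjoinRoot φ) := Module.Finite.of_basis (AdjoinRoot.powerBasis hφi.ne_zero).basis
    haveI : Finite (AdjoinRoot φ) := Module.finite_of_finite F
    obtain ⟨G, hG⟩ : ∃ G : AdjoinRoot φ ≃ₐ[F] AdjoinRoot φ, ∀ b, G b = b ^ Fintype.card F :=
      ⟨FiniteField.frobeniusAlgEquivOfAlgebraic F _, fun b => rfl⟩
    have h2' : G η = -η := by
      obtain ⟨g, hg⟩ : ∃ g : ℕ → AdjoinRoot φ, g = fun j => θ ^ (Fintype.card F ^ j) - (θ ^ (Fintype.card F ^ j))⁻¹ :=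
        ⟨_, rfl⟩
      have hstep : ∀ j, G (g j) = g (j + 1) := fun j => by
        have h1 : G (θ ^ (Fintype.card F ^ j)) = θ ^ (Fintype.card F ^ (j + 1)) := by
          rw [hG, ← pow_mul, ← pow_succ]
        simp only [hg]
        rw [map_sub, map_inv₀, h1]
      have hdd : g d = -g 0 := by
        have := hpair 0
        simp only [add_zero] at this
        simp only [hg, this, inv_inv, neg_sub]
      have hg0 : g 0 ≠ 0 := by simp only [hg]; exact sub_ne_zero.mpr (hθne 0)
      rw [hη, show (∏ j ∈ Finset.range d, (θ ^ (Fintype.card F ^ j) - (θ ^ (Fintype.card F ^ j))⁻¹)) =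
        ∏ j ∈ Finset.range d, g j by simp only [hg], map_prod, Finset.prod_congr rfl fun j _ => hstep j]
      refine mul_left_cancel₀ hg0 ?_
      rw [mul_comm, ← Finset.prod_range_succ', Finset.prod_range_succ, hdd]
      ring
    rw [hw', hι, AlgEquiv.commutes, ← hι, ← map_neg] at h2'
    have h3 := ι.injective h2'
    have h4 : (2 : F) * w' = 0 := by linear_combination h3
    rw [(mul_eq_zero.mp h4).resolve_left h2, map_zero] at hw'
    exact hη0 hw'
  refine ⟨x, ⟨1, by rw [hx, one_smul]⟩, fun z hz => ?_, fun P μ hPs hP0 hPD he => ?_⟩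
  · rw [hz] at hch
    have h1 := congrArg (eval z) hch
    haveI : Nonempty (Fin n) := ⟨⟨0, by rw [hnk]; positivity⟩⟩
    rw [Matrix.eval_charpoly, Matrix.scalar_apply, ← Matrix.smul_one_eq_diagonal, sub_self, Matrix.det_zero,
      eval_pow] at h1
    have := degree_eq_one_of_irreducible_of_root hφi (eq_zero_of_pow_eq_zero h1.symm)
    rw [degree_eq_natDegree hφi.ne_zero, hdeg] at this
    norm_cast at this
    omega
  · have hn0 : 0 < n := by rw [hnk]; positivity
    rw [mult_one hi (mult_pow hP0 hn0 he hx), one_smul] at he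
    obtain ⟨K, hK⟩ : ∃ K, K = P * x.1 - x.1ᵀ * P := ⟨_, rfl⟩
    have halt : ∀ v, v ⬝ᵥ K *ᵥ v = 0 := fun v => by
      rw [hK, Matrix.sub_mulVec, dotProduct_sub, sub_eq_zero, ← Matrix.mulVec_mulVec, ← Matrix.mulVec_mulVec,
        Matrix.dotProduct_mulVec v x.1ᵀ, Matrix.vecMul_transpose, Gram.dot_symm hPs]
    have hKd : K.det = P.det * (x.1 - 1).det * (x.1 + 1).det := by
      have h1 : K * x.1 = P * ((x.1 - 1) * (x.1 + 1)) := by
        rw [hK, Matrix.sub_mul, he]
        simp only [Matrix.sub_mul, Matrix.mul_sub, Matrix.mul_add, Matrix.one_mul, Matrix.mul_one,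
          Matrix.mul_assoc]
        abel
      have h := congrArg Matrix.det h1
      rw [Matrix.det_mul, x.2, mul_one, Matrix.det_mul, Matrix.det_mul] at h
      rw [h, mul_assoc]
    have hev : ∀ c : F, (c • (1 : Matrix (Fin n) (Fin n) F) - x.1).det = φ.eval c ^ k := fun c => by
      rw [← eval_pow, ← hch, Matrix.eval_charpoly, Matrix.scalar_apply, Matrix.smul_one_eq_diagonal]
    have hne : Even n := by rw [hnk, mul_assoc]; exact even_two_mul _
    have hm1 : (x.1 - 1).det = φ.eval 1 ^ k := by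
      rw [← hev, one_smul, ← neg_sub, Matrix.det_neg, Fintype.card_fin, hne.neg_one_pow, one_mul]
    have hm2 : (x.1 + 1).det = φ.eval (-1) ^ k := by
      rw [← hev, show (-1 : F) • (1 : Matrix (Fin n) (Fin n) F) - x.1 = -(x.1 + 1) by rw [neg_one_smul]; abel,
        Matrix.det_neg, Fintype.card_fin, hne.neg_one_pow, one_mul]
    have hKN : K.det = P.det * ((-1) ^ (d * k) * N ^ k) := by
      rw [hKd, hm1, hm2, hN, mul_pow, ← pow_mul, ← mul_assoc ((-1 : F) ^ (d * k)), ← pow_add,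
        Even.neg_one_pow ⟨_, rfl⟩, one_mul, mul_pow, mul_assoc]
    have hK0 : K.det ≠ 0 := by
      rw [hKN]
      exact mul_ne_zero hP0 (mul_ne_zero (pow_ne_zero _ (neg_ne_zero.mpr one_ne_zero)) (pow_ne_zero _ hN0))
    obtain ⟨w, hw⟩ : IsSquare K.det := by
      have hι' : Fintype.card (Fin n) = 2 * (d * k) := by rw [Fintype.card_fin, hnk, mul_assoc]
      obtain ⟨e, he0, h⟩ := (Gram.alt_model halt (isUnit_iff_ne_zero.mpr hK0) hι').disc hι'
        (by rw [Fintype.card_sum, Fintype.card_fin, two_mul]) (Matrix.isUnit_det_J _ _)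
      obtain ⟨s, hs⟩ : IsSquare (Matrix.J (Fin (d * k)) F).det := by
        exact ⟨1, (SymplecticClasses.det_eq_one ⟨_, SymplecticGroup.J_mem _ _⟩).trans (one_mul 1).symm⟩
      refine ⟨s / e, ?_⟩
      field_simp
      linear_combination -h + hs
    obtain ⟨u, hu⟩ := hPD
    have hsq : IsSquare (N ^ k * ((-1) ^ (d * k) * D)) := by
      refine ⟨w * u / P.det, ?_⟩
      field_simp
      linear_combination hw * (P.det * D) - hKN * (P.det * D) + w * w * hu
    by_cases hev' : Even k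
    · obtain ⟨l, hl⟩ := hev'
      obtain ⟨v, hv⟩ := hsq
      refine (hDk.mp ⟨l, hl⟩) ⟨v / N ^ l, ?_⟩
      have := pow_ne_zero l hN0
      rw [hl]
      field_simp
      rw [hl, pow_add] at hv
      linear_combination hv
    · obtain ⟨l, hl⟩ := Nat.not_even_iff_odd.mp hev'
      have hs : IsSquare ((-1) ^ (d * k) * D) := by
        by_contra h
        exact hev' (hDk.mpr h)
      obtain ⟨v, hv⟩ := hsq
      obtain ⟨t, ht⟩ := hs
      have ht0 : t ≠ 0 := fun h => by
        rw [h, mul_zero, mul_eq_zero] at ht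
        exact ht.elim (pow_ne_zero _ (neg_ne_zero.mpr one_ne_zero)) hD
      refine hNns ⟨v / (t * N ^ l), ?_⟩
      have := pow_ne_zero l hN0
      field_simp
      rw [hl] at ht hv
      rw [ht] at hv
      ring_nf at hv ⊢
      linear_combination hv

/-- Asymmetric diagonal elements. -/
theorem der_split {D : F} {r : ℕ} [Fact r.Prime] (hr2 : r ≠ 2) (hrq : r ∣ Fintype.card F - 1) (hn : 3 ≤ n)
    (hgap : ¬ (n = 6 ∧ r = 3)) (hne : ¬ ((r = 3 ∨ r = 5) ∧ n = r ∧ padicValNat r (Fintype.card F - 1) = 1)) :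
    IsDer D n r := by
  classical
  refine der_of_refl ?_
  have hr := (Fact.out : r.Prime)
  have h2q : 2 ≤ Fintype.card F := Fintype.one_lt_card
  by_cases hex : (r = 3 ∨ r = 5) ∧ n = r
  · obtain ⟨hr35, rfl⟩ := hex
    have hv : 2 ≤ padicValNat n (Fintype.card F - 1) := by
      have h1 : 1 ≤ padicValNat n (Fintype.card F - 1) := one_le_padicValNat_of_dvd (by omega) hrq
      have h2 : padicValNat n (Fintype.card F - 1) ≠ 1 := fun h => hne ⟨hr35, rfl, h⟩
      omega
    have hd : n ^ 2 ∣ Fintype.card F - 1 := (pow_dvd_pow n hv).trans pow_padicValNat_dvd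
    obtain ⟨g, hg⟩ := IsCyclic.exists_ofOrder_eq_natCard (α := Fˣ)
    rw [Nat.card_units, Nat.card_eq_fintype_card] at hg
    obtain ⟨η, hη⟩ : ∃ η : Fˣ, orderOf η = n ^ 2 :=
      ⟨_, orderOf_pow_orderOf_div (orderOf_pos g).ne' (hg ▸ hd)⟩
    have hζ : IsPrimitiveRoot (((η ^ n)⁻¹ : Fˣ) : F) n := by
      refine IsPrimitiveRoot.coe_units_iff.mpr ?_
      have h1 : orderOf ((η ^ n)⁻¹) = n := by
        rw [orderOf_inv, orderOf_pow' _ hr.ne_zero, hη, pow_two, Nat.gcd_eq_right (dvd_mul_right n n),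
          Nat.mul_div_cancel _ hr.pos]
      have h2 := IsPrimitiveRoot.orderOf ((η ^ n)⁻¹)
      rwa [h1] at h2
    haveI : NeZero n := ⟨hr.ne_zero⟩
    haveI : Fact (1 < n) := ⟨hr.one_lt⟩
    refine USim.der_diag hζ rfl (Pi.single 0 1) (η : F) ?_
      ⟨0, ⟨1, by omega⟩, by simp [Fin.ext_iff]⟩ fun a π => ?_
    · rw [Finset.sum_pi_single', if_pos (Finset.mem_univ _), ZMod.val_one, pow_one, ← Units.val_pow_eq_pow_val,
        ← Units.val_mul, mul_inv_cancel, Units.val_one]
    · by_contra hc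
      push Not at hc
      have h1 := hc ⟨1, by omega⟩
      have h2 := hc ⟨2, by omega⟩
      rw [Pi.single_eq_of_ne (M := fun _ : Fin n => ZMod n) (show (⟨1, by omega⟩ : Fin n) ≠ 0 by simp [Fin.ext_iff]) (1 : ZMod n), add_zero] at h1
      rw [Pi.single_eq_of_ne (M := fun _ : Fin n => ZMod n) (show (⟨2, by omega⟩ : Fin n) ≠ 0 by simp [Fin.ext_iff]) (1 : ZMod n), add_zero] at h2
      have ha : a = 0 := by
        by_contra ha
        have e1 : π ⟨1, by omega⟩ = 0 := by
          by_contra e; rw [Pi.single_eq_of_ne e] at h1; exact ha h1.symm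
        have e2 : π ⟨2, by omega⟩ = 0 := by
          by_contra e; rw [Pi.single_eq_of_ne e] at h2; exact ha h2.symm
        have := π.injective (e1.trans e2.symm)
        simp [Fin.ext_iff] at this
      have h3 := hc 0
      rw [ha, Pi.single_eq_same] at h3
      by_cases e : π 0 = 0
      · rw [e, Pi.single_eq_same] at h3
        exact USim.natCast_ne (r := n) 2 two_pos (by omega) (by push_cast; linear_combination h3)
      · rw [Pi.single_eq_of_ne e, zero_add] at h3
        exact one_ne_zero h3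
  · obtain ⟨ζ, hζ⟩ := USim.exists_zeta (F := F) (r := r) hrq
    obtain ⟨m, rfl⟩ : ∃ m, n = m + 3 := ⟨n - 3, by omega⟩
    have hm : ((m + 3 : ℕ) : ZMod r) ≠ 0 ∨ 4 ≤ m := by
      by_cases h : ((m + 3 : ℕ) : ZMod r) = 0
      · obtain ⟨d, hd⟩ := (ZMod.natCast_eq_zero_iff _ r).mp h
        right
        rcases (show r = 3 ∨ r = 5 ∨ 7 ≤ r by
          have := hr.two_le
          by_contra hc
          have h4 : r = 4 ∨ r = 6 := by omega
          rcases h4 with rfl | rfl <;> norm_num at hr) with rfl | rfl | h7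
        · have : m + 3 ≠ 3 := fun e => hex ⟨Or.inl rfl, e⟩
          have : m + 3 ≠ 6 := fun e => hgap ⟨e, rfl⟩
          omega
        · have : m + 3 ≠ 5 := fun e => hex ⟨Or.inr rfl, e⟩
          omega
        · have : d ≠ 0 := fun e => by rw [e, mul_zero] at hd; omega
          have : r * 1 ≤ r * d := Nat.mul_le_mul_left r (by omega)
          omega
      · exact Or.inl h
    have hc : ∀ c : ℕ, 0 < c → c < r → (c : ZMod r) ≠ 0 := USim.natCast_ne
    haveI : NeZero r := ⟨hr.ne_zero⟩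
    suffices h : ∃ a₀ a₁ a₂ : ZMod r, a₀ + a₁ + a₂ = 0 ∧ a₀ ≠ 0 ∧ -a₀ ≠ a₁ ∧ -a₀ ≠ a₂ ∧ (a₀ ≠ a₂ ∨ 1 ≤ m) by
      obtain ⟨a₀, a₁, a₂, hsum, h0, h01, h02, hns⟩ := h
      obtain ⟨hs, hno⟩ := USim.three_asym hr2 hm hsum h0 h01 h02
      refine USim.der_diag hζ rfl _ 1 ?_ ?_ hno
      · rw [hs, ZMod.val_zero, pow_zero, one_pow, one_mul]
      · rcases hns with h | h
        · exact ⟨0, Fin.succ (Fin.succ 0), by simpa only [Fin.cons_zero, Fin.cons_succ] using h⟩
        · exact ⟨0, Fin.succ (Fin.succ (Fin.succ ⟨0, by omega⟩)), by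
            simpa only [Fin.cons_zero, Fin.cons_succ, Pi.zero_apply] using h0⟩
    rcases (show r = 3 ∨ r = 5 ∨ 7 ≤ r by
      have := hr.two_le
      by_contra hc'
      have h4 : r = 4 ∨ r = 6 := by omega
      rcases h4 with rfl | rfl <;> norm_num at hr) with rfl | rfl | h7
    · refine ⟨(1 : ZMod 3), (1 : ZMod 3), (1 : ZMod 3), USim.small_three.1, one_ne_zero, USim.small_three.2, USim.small_three.2, Or.inr ?_⟩
      by_contra hm0
      exact hex ⟨Or.inl rfl, by omega⟩
    · exact ⟨(1 : ZMod 5), (1 : ZMod 5), (3 : ZMod 5), USim.small_five.1, one_ne_zero, USim.small_five.2.1, USim.small_five.2.2.1, Or.inl USim.small_five.2.2.2⟩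
    · refine ⟨1, 2, -3, by norm_num, one_ne_zero, fun h => hc 3 (by norm_num) (by omega) ?_,
        fun h => hc 2 two_pos (by omega) ?_, Or.inl fun h => hc 4 (by norm_num) (by omega) ?_⟩
      · push_cast; linear_combination -h
      · push_cast; linear_combination h
      · push_cast; linear_combination h

end Cfsg.Agent.Classical.Elusive.OSimilar
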