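import Cfsg.Agent.Lib.Classical.Elusive.UnitarySimBasic
import Cfsg.Agent.Lib.Classical.Elusive.Unipotent

/-!
# Prime order elements conjugate into unitary similarity groups, and the criterion
-/

set_option autoImplicit false
set_option linter.unusedSectionVars false
set_option linter.style.haveILetI false
set_option maxHeartbeats 400000

namespace Cfsg.Agent.Classical.Elusive.USim

open Matrix Polynomial Module
open Cfsg.Agent.Small.JordanType (IsChain exists_chain)

universe u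

variable {F : Type u} [Field F] [Fintype F] {q₀ : ℕ} {σ : F ≃+* F} {n : ℕ}
variable (hσ : IsUSigma q₀ σ) {f : (Fin n → F) → (Fin n → F) → F} (hf : Cfsg.Geo.IsUnitaryFormPow q₀ f)

include hσ hf

theorem fix_of_model {ι : Type*} [Fintype ι] [DecidableEq ι] (b : Basis ι F (Fin n → F)) (x : GL (Fin n) F)
    {P Y : Matrix ι ι F} (hY : LinearMap.toMatrix b b (Matrix.toLin' x.1) = Y) (hP : Herm σ P) (hu : IsUnit P) {c : F}
    (hc0 : c ≠ 0) (hc : tw σ P Y = c • P)
    (hdet : ∀ u : F, u ≠ 0 → ∃ h : Matrix ι ι F, h.det = u ∧ h * Y = Y * h) :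
    ∃ g ∈ Cfsg.Geo.specialLinear (Fin n) F, g⁻¹ * x * g ∈ Cfsg.Geo.similarityGroup f := by
  classical
  obtain ⟨e⟩ : Nonempty (ι ≃ Fin n) := ⟨Fintype.equivFinOfCardEq (by
    rw [← Module.finrank_eq_card_basis b, Module.finrank_fin_fun])⟩
  obtain ⟨b', hb'⟩ : ∃ b', b' = b.reindex e := ⟨_, rfl⟩
  obtain ⟨B, hB⟩ : ∃ B, B = (Pi.basisFun F (Fin n)).toMatrix b' := ⟨_, rfl⟩
  have hY' : LinearMap.toMatrix b' b' (Matrix.toLin' x.1) = Y.submatrix e.symm e.symm := by
    ext i j
    rw [← hY, Matrix.submatrix_apply, LinearMap.toMatrix_apply, LinearMap.toMatrix_apply, hb', Basis.repr_reindex_apply,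
      Basis.reindex_apply]
  have hxB : x.1 * B = B * Y.submatrix e.symm e.symm := by
    rw [← hY', hB, basis_toMatrix_mul_linearMap_toMatrix]
    conv_lhs => rw [← LinearMap.toMatrix'_toLin' x.1, ← LinearMap.toMatrix_eq_toMatrix']
    rw [linearMap_toMatrix_mul_basis_toMatrix]
  have hBu : IsUnit B := by
    rw [hB]
    letI := (Pi.basisFun F (Fin n)).invertibleToMatrix b'
    exact isUnit_of_invertible _
  obtain ⟨B, rfl⟩ := hBu
  have hhom : ∀ a b : Matrix ι ι F, (a * b).submatrix e.symm e.symm = a.submatrix e.symm e.symm * b.submatrix e.symm e.symm :=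
    fun a b => (Matrix.submatrix_mul_equiv a b e.symm e.symm e.symm).symm
  have hPu : IsUnit (P.submatrix e.symm e.symm) := (Matrix.isUnit_submatrix_equiv e.symm e.symm).mpr hu
  have hPh : Herm σ (P.submatrix e.symm e.symm) := by
    rw [Herm, ← Matrix.submatrix_map, Matrix.transpose_submatrix, show (P.map σ)ᵀ = P from hP]
  have htw : tw σ (P.submatrix e.symm e.symm) (Y.submatrix e.symm e.symm) = c • P.submatrix e.symm e.symm := by
    have h := congrArg (fun M : Matrix ι ι F => M.submatrix e.symm e.symm) hc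
    simp only [tw, hhom, Matrix.submatrix_smul, Pi.smul_apply, ← Matrix.transpose_submatrix, Matrix.submatrix_map] at h
    exact h
  have hx : x.1 = B.1 * Y.submatrix e.symm e.symm * (↑B⁻¹ : Matrix (Fin n) (Fin n) F) := by
    rw [← hxB, mul_assoc, Units.mul_inv, mul_one]
  refine fix_of_form hσ hf x (P := tw σ (P.submatrix e.symm e.symm) (↑B⁻¹ : Matrix (Fin n) (Fin n) F))
    (herm_tw hσ.involutive hPh _) (isUnit_tw hPu (Units.isUnit _)) hc0 ?_ fun u hu0 => ?_
  · rw [← tw_tw, hx, ← mul_assoc, ← mul_assoc, Units.inv_mul, one_mul, tw_tw, htw, tw_smul]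
  · obtain ⟨h, hh, hhY⟩ := hdet u hu0
    refine ⟨B.1 * h.submatrix e.symm e.symm * (↑B⁻¹ : Matrix (Fin n) (Fin n) F), ?_, ?_⟩
    · rw [Matrix.det_units_conj, Matrix.det_submatrix_equiv_self, hh]
    · rw [hx]
      simp only [← mul_assoc]
      rw [mul_assoc _ (↑B⁻¹ : Matrix (Fin n) (Fin n) F) B.1, Units.inv_mul, mul_one,
        mul_assoc _ (↑B⁻¹ : Matrix (Fin n) (Fin n) F) B.1, Units.inv_mul, mul_one, mul_assoc B.1, ← hhom, hhY, hhom,
        ← mul_assoc]

omit hf in
/-- An invariant form with fixed multiplier has a Hermitian companion. -/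
theorem exists_herm_of_form (x : GL (Fin n) F) {P : Matrix (Fin n) (Fin n) F} (hP : IsUnit P) {ν : F} (hν0 : ν ≠ 0)
    (hν : σ ν = ν) (h : tw σ P x.1 = ν • P) :
    ∃ P' : Matrix (Fin n) (Fin n) F, Herm σ P' ∧ IsUnit P' ∧ tw σ P' x.1 = ν • P' := by
  letI : StarRing F := Small.Hermitian.starRingOfInvolution σ.toRingHom hσ.involutive
  obtain ⟨l, hl0, hl⟩ := hσ.norm_surjective hν0 hν
  obtain ⟨A, hA⟩ : ∃ A, A = l⁻¹ • x.1 := ⟨_, rfl⟩
  have hAu : IsUnit A := by
    rw [hA, Matrix.isUnit_iff_isUnit_det, Matrix.det_smul, isUnit_iff_ne_zero]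
    exact mul_ne_zero (pow_ne_zero _ (inv_ne_zero hl0))
      (isUnit_iff_ne_zero.mp ((Matrix.isUnit_iff_isUnit_det _).mp x.isUnit))
  have hxA : x.1 = l • A := by rw [hA, smul_smul, mul_inv_cancel₀ hl0, one_smul]
  have hPA : tw σ P A = P := by
    rw [hA, tw_smul_right, map_inv₀, ← mul_inv, hl, h, smul_smul, inv_mul_cancel₀ hν0, one_smul]
  obtain ⟨c, hc⟩ : ∃ c : GL (Fin n) F, c.1 = Pᵀ := ⟨(((Matrix.isUnit_transpose P).mpr hP)).unit, rfl⟩
  have hinv : Aᴴ * c.1 * A = c.1 := by
    rw [hc]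
    have h1 := congrArg Matrix.transpose hPA
    rw [tw, Matrix.transpose_mul, Matrix.transpose_mul, Matrix.transpose_transpose, ← mul_assoc] at h1
    exact h1
  obtain ⟨X, hXu, hXh, hXA⟩ := Small.UnitaryConj.exists_herm (q := q₀) hσ.apply_eq hσ.card c A hAu hinv
  refine ⟨Xᵀ, ?_, (Matrix.isUnit_transpose X).mpr hXu, ?_⟩
  · have h1 := congrArg Matrix.transpose hXh
    rw [Herm, Matrix.transpose_map] at *
    exact h1
  · rw [hxA, tw_smul_right, hl]
    congr 1
    have h1 := congrArg Matrix.transpose hXA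
    rw [Matrix.transpose_mul, Matrix.transpose_mul, ← mul_assoc] at h1
    exact h1

/-- The eigenbasis of a split element. -/
theorem eigen_basis {p : ℕ} [Fact p.Prime] [CharP F p] {r : ℕ} [Fact r.Prime] (hrp : r ≠ p) (hn : n ≠ 0)
    (hi : orderOf (Fintype.card F : ZMod r) = 1) (hcond : Cond n r (Fintype.card F))
    (x : Matrix.SpecialLinearGroup (Fin n) F) {z : F} (hz : (x : Matrix (Fin n) (Fin n) F) ^ r = z • 1) :
    ∃ (b : Basis (Fin n) F (Fin n → F)) (d : Fin n → F),
      LinearMap.toMatrix b b (Matrix.toLin' (x : Matrix (Fin n) (Fin n) F)) = Matrix.diagonal d ∧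
        (∀ i, d i ^ r = z) ∧ ∏ i, d i = 1 := by
  classical
  obtain ⟨k, D, ⟨B⟩, hcases⟩ := element_blocks hrp hn x ⟨z, by rw [Matrix.SpecialLinearGroup.coe_pow, hz]⟩
  have hD : ∀ j, D j = 1 := by
    rcases hcases with ⟨h, -⟩ | ⟨-, h⟩ | ⟨-, -, h⟩
    · omega
    · exact h
    · exact absurd hcond h
  have hk : k = n := by
    have := B.sum_eq
    rw [Module.finrank_fin_fun] at this
    simpa [hD] using this
  subst hk
  obtain ⟨g, hg⟩ : ∃ g, g = Matrix.toLin' (x : Matrix (Fin k) (Fin k) F) := ⟨_, rfl⟩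
  have h1 : ∀ i, finrank F (B.sub {i}) = 1 := fun i => by
    rw [B.dim]
    simp [hD]
  choose v hv0 hv using fun i => (finrank_eq_one_iff' (K := F)).mp (h1 i)
  have hv0' : ∀ i, (v i : Fin k → F) ≠ 0 := fun i h => hv0 i (Subtype.ext h)
  have hli : LinearIndependent F (fun i => (v i : Fin k → F)) := by
    rw [linearIndependent_iff']
    intro s c hsum i hi'
    rw [← Finset.add_sum_erase s _ hi', add_eq_zero_iff_eq_neg] at hsum
    have h2 : c i • (v i : Fin k → F) ∈ B.sub {i}ᶜ := by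
      rw [hsum]
      refine neg_mem (Submodule.sum_mem _ fun j hj => Submodule.smul_mem _ _ (B.mono ?_ (v j).2))
      intro l hl
      rw [Finset.mem_singleton] at hl
      subst hl
      simpa using (Finset.mem_erase.mp hj).1
    exact (smul_eq_zero.mp (Submodule.disjoint_def.mp (B.compl {i}).disjoint _ (Submodule.smul_mem _ _ (v i).2) h2)).resolve_right
      (hv0' i)
  haveI : Nonempty (Fin k) := ⟨⟨0, Nat.pos_of_ne_zero hn⟩⟩
  obtain ⟨b, hb⟩ : ∃ b : Basis (Fin k) F (Fin k → F), ∀ i, b i = v i :=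
    ⟨basisOfLinearIndependentOfCardEqFinrank hli (by rw [Fintype.card_fin, Module.finrank_fin_fun]), fun i => by simp⟩
  choose d hd using fun i => hv i ⟨g (v i), B.inv {i} ⟨v i, (v i).2, by rw [hg]⟩⟩
  have hgb : ∀ i, g (b i) = d i • b i := fun i => by
    rw [hb]
    exact (congrArg Subtype.val (hd i)).symm
  have hM : LinearMap.toMatrix b b g = Matrix.diagonal d := by
    ext i j
    rw [LinearMap.toMatrix_apply, hgb, map_smul, Basis.repr_self, Finsupp.smul_apply, Finsupp.single_apply,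
      Matrix.diagonal_apply, smul_eq_mul]
    by_cases h : j = i
    · subst h; simp
    · rw [if_neg h, if_neg (Ne.symm h), mul_zero]
  refine ⟨b, d, hg ▸ hM, fun i => ?_, ?_⟩
  · have h2 : Matrix.diagonal d ^ r = z • (1 : Matrix (Fin k) (Fin k) F) := by
      rw [← hM, LinearMap.toMatrix_pow, hg, ← Matrix.toLin'_pow, hz, map_smul, Matrix.toLin'_one, map_smul,
        LinearMap.toMatrix_id]
    rw [Matrix.diagonal_pow] at h2
    simpa using congrFun (congrFun h2 i) i
  · rw [← Matrix.det_diagonal, ← hM, LinearMap.det_toMatrix, hg, LinearMap.det_toLin', x.2]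

omit hσ hf in
theorem diag_det_surj (hn : 0 < n) (d : Fin n → F) (u : F) :
    ∃ h : Matrix (Fin n) (Fin n) F, h.det = u ∧ h * Matrix.diagonal d = Matrix.diagonal d * h := by
  classical
  refine ⟨Matrix.diagonal (Function.update 1 ⟨0, hn⟩ u), ?_, ?_⟩
  · simp [Matrix.det_diagonal, Finset.prod_update_of_mem]
  · rw [Matrix.diagonal_mul_diagonal, Matrix.diagonal_mul_diagonal]
    congr 1
    funext i
    exact mul_comm _ _

theorem fix_two_odd {p : ℕ} [Fact p.Prime] [CharP F p] (hp : (2 : ℕ) ≠ p) (hn : 0 < n)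
    (hv : padicValNat 2 n ≤ padicValNat 2 (Fintype.card F - 1))
    (x : GL (Fin n) F) (hx : x ∈ Cfsg.Geo.specialLinear (Fin n) F) {z : F}
    (hz : (x : Matrix (Fin n) (Fin n) F) ^ 2 = z • 1) :
    ∃ g ∈ Cfsg.Geo.specialLinear (Fin n) F, g⁻¹ * x * g ∈ Cfsg.Geo.similarityGroup f := by
  haveI : Fact (Nat.Prime 2) := ⟨Nat.prime_two⟩
  have hodd : Fintype.card F % 2 = 1 :=
    FiniteField.odd_card_of_char_ne_two (by rw [ringChar.eq F p]; exact Ne.symm hp)
  obtain ⟨m, hm⟩ : Odd q₀ := by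
    rw [Nat.odd_iff]
    rw [hσ.card, Nat.pow_mod] at hodd
    rcases Nat.mod_two_eq_zero_or_one q₀ with h | h
    · rw [h] at hodd; simp at hodd
    · exact h
  have hcond : Cond n 2 (Fintype.card F) := ⟨hv, fun _ _ => by
    rw [hσ.card, hm, show (2 * m + 1) ^ 2 = 4 * (m * m + m) + 1 by ring]
    omega⟩
  have hdet : x.1.det = 1 := congrArg Units.val (show Matrix.GeneralLinearGroup.det x = 1 from hx)
  obtain ⟨b, d, hd, hdr, -⟩ := eigen_basis (n := n) hσ hf hp hn.ne' (orderOf_eq_one_iff'.mpr (by omega)) hcond ⟨x.1, hdet⟩ hz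
  have hd0 : z ≠ 0 := fun h => by
    haveI : Nonempty (Fin n) := ⟨⟨0, hn⟩⟩
    have := congrArg Matrix.det hz
    rw [Matrix.det_pow, hdet, one_pow, h, zero_smul, Matrix.det_zero] at this
    exact one_ne_zero this
  refine fix_of_model hσ hf b x hd (P := 1) ?_ isUnit_one (c := z ^ (m + 1)) (pow_ne_zero _ hd0) ?_
    fun u _ => diag_det_surj hn d u
  · rw [Herm, Matrix.map_one _ (map_zero σ) (map_one σ), Matrix.transpose_one]
  · rw [tw, Matrix.diagonal_transpose, Matrix.mul_one, Matrix.diagonal_map (map_zero σ), Matrix.diagonal_mul_diagonal,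
      Matrix.smul_one_eq_diagonal]
    congr 1
    funext i
    show d i * σ (d i) = _
    rw [hσ.apply_eq, ← pow_succ', hm, show 2 * m + 1 + 1 = 2 * (m + 1) by ring, pow_mul, hdr]

omit hσ hf in
theorem perm_of_counts {m : ℕ} {α : Type*} [DecidableEq α] [Fintype α] (k k' : Fin m → α)
    (h : ∀ v, (Finset.univ.filter fun i => k' i = v).card = (Finset.univ.filter fun i => k i = v).card) :
    ∃ π : Equiv.Perm (Fin m), ∀ i, k (π i) = k' i := by
  classical
  have h' : ∀ v, Nonempty ({i // k' i = v} ≃ {i // k i = v}) := fun v => ⟨Fintype.equivOfCardEq (by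
    rw [Fintype.card_subtype, Fintype.card_subtype]; exact h v)⟩
  exact ⟨Equiv.ofFiberEquiv (fun v => (h' v).some), fun i => Equiv.ofFiberEquiv_map _ i⟩

omit hσ hf in
theorem three_counts : ∀ a b : ZMod 3, ∃ s : ZMod 3, ∀ v : ZMod 3,
    (Finset.univ.filter fun i : Fin 3 => s - ![a, b, -(a + b)] i = v).card =
      (Finset.univ.filter fun i : Fin 3 => ![a, b, -(a + b)] i = v).card := by
  decide +kernel

omit hσ hf in
theorem five_counts : ∀ a b c d : ZMod 5, ∃ s : ZMod 5, ∀ v : ZMod 5,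
    (Finset.univ.filter fun i : Fin 5 => s - ![a, b, c, d, -(a + b + c + d)] i = v).card =
      (Finset.univ.filter fun i : Fin 5 => ![a, b, c, d, -(a + b + c + d)] i = v).card := by
  decide +kernel

omit hσ hf in
theorem symm_of_small {r : ℕ} (hr : r = 3 ∨ r = 5) (hn : n = r) (k : Fin n → ZMod r) (hsum : ∑ i, k i = 0) :
    ∃ (a : ZMod r) (π : Equiv.Perm (Fin n)), ∀ i, k (π i) + k i = a := by
  rcases hr with rfl | rfl <;> subst hn
  · obtain ⟨s, hs⟩ := three_counts (k 0) (k 1)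
    rw [Fin.sum_univ_three] at hsum
    have hk : ![k 0, k 1, -(k 0 + k 1)] = k := by
      funext i
      fin_cases i
      · rfl
      · rfl
      · exact (eq_neg_of_add_eq_zero_right hsum).symm
    rw [hk] at hs
    obtain ⟨π, hπ⟩ := perm_of_counts k (fun i => s - k i) hs
    exact ⟨s, π, fun i => by rw [hπ]; exact sub_add_cancel _ _⟩
  · obtain ⟨s, hs⟩ := five_counts (k 0) (k 1) (k 2) (k 3)
    rw [Fin.sum_univ_five] at hsum
    have hk : ![k 0, k 1, k 2, k 3, -(k 0 + k 1 + k 2 + k 3)] = k := by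
      funext i
      fin_cases i
      · rfl
      · rfl
      · rfl
      · rfl
      · exact (eq_neg_of_add_eq_zero_right hsum).symm
    rw [hk] at hs
    obtain ⟨π, hπ⟩ := perm_of_counts k (fun i => s - k i) hs
    exact ⟨s, π, fun i => by rw [hπ]; exact sub_add_cancel _ _⟩

theorem fix_small {p : ℕ} [Fact p.Prime] [CharP F p] {r : ℕ} [Fact r.Prime] (hrp : r ≠ p)
    (hr : r = 3 ∨ r = 5) (hn : n = r) (hv : padicValNat r (q₀ - 1) = 1)
    (x : GL (Fin n) F) (hx : x ∈ Cfsg.Geo.specialLinear (Fin n) F) {z : F}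
    (hz : (x : Matrix (Fin n) (Fin n) F) ^ r = z • 1) :
    ∃ g ∈ Cfsg.Geo.specialLinear (Fin n) F, g⁻¹ * x * g ∈ Cfsg.Geo.similarityGroup f := by
  classical
  have hrpr := (Fact.out : r.Prime)
  haveI : NeZero r := ⟨hrpr.ne_zero⟩
  have hr3 : 3 ≤ r := by omega
  have h2q := hσ.two_le
  have hq : Fintype.card F - 1 = (q₀ + 1) * (q₀ - 1) := by rw [hσ.card, ← Nat.sq_sub_sq, one_pow]
  have hrq : r ∣ q₀ - 1 := by
    by_contra h
    rw [padicValNat.eq_zero_of_not_dvd h] at hv
    exact zero_ne_one hv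
  have hnot : ¬ r ∣ q₀ + 1 := fun h => by
    have h2 := Nat.dvd_sub h hrq
    rw [show q₀ + 1 - (q₀ - 1) = 2 by omega] at h2
    have := Nat.le_of_dvd two_pos h2
    omega
  have hvq : padicValNat r (Fintype.card F - 1) = 1 := by
    rw [hq, padicValNat.mul (by omega) (by omega), padicValNat.eq_zero_of_not_dvd hnot, hv, zero_add]
  have hdvd : r ∣ Fintype.card F - 1 := by rw [hq]; exact hrq.mul_left _
  have hcond : Cond n r (Fintype.card F) := ⟨by rw [hn, padicValNat_self, hvq], fun h => by omega⟩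
  have hdet : x.1.det = 1 := congrArg Units.val (show Matrix.GeneralLinearGroup.det x = 1 from hx)
  obtain ⟨b, d, hd, hdr, hprod⟩ :=
    eigen_basis (n := n) hσ hf hrp (by omega) (orderOf_eq_one_iff'.mpr hdvd) hcond ⟨x.1, hdet⟩ hz
  have hz1 : z = 1 := by
    have h1 : z ^ n = 1 := by
      have h2 := congrArg (· ^ r) hprod
      simp only [one_pow, ← Finset.prod_pow, hdr, Finset.prod_const, Finset.card_univ, Fintype.card_fin] at h2
      exact h2
    obtain ⟨i⟩ : Nonempty (Fin n) := ⟨⟨0, by omega⟩⟩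
    have hd0 : d i ≠ 0 := fun h => by
      rw [Finset.prod_eq_zero (Finset.mem_univ i) h] at hprod
      exact zero_ne_one hprod
    have h2 : d i ^ (r ^ 2) = 1 := by rw [pow_two, pow_mul, hdr, ← hn, h1]
    have h3 : d i ^ Nat.gcd (r ^ 2) (Fintype.card F - 1) = 1 :=
      pow_gcd_eq_one.mpr ⟨h2, FiniteField.pow_card_sub_one_eq_one _ hd0⟩
    obtain ⟨j, hj, hjg⟩ := (Nat.dvd_prime_pow hrpr).mp (Nat.gcd_dvd_left (r ^ 2) (Fintype.card F - 1))
    have hj1 : j ≤ 1 := by
      have h4 : r ^ j ∣ Fintype.card F - 1 := hjg ▸ Nat.gcd_dvd_right _ _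
      have h5 := (padicValNat_dvd_iff_le (by
        have := Fintype.one_lt_card (α := F); omega)).mp h4
      omega
    rw [← hdr i]
    rw [hjg] at h3
    interval_cases j
    · rw [pow_zero, pow_one] at h3; rw [h3, one_pow]
    · rwa [pow_one] at h3
  obtain ⟨ζ, hζ⟩ := exists_zeta (F := F) (r := r) hdvd
  obtain ⟨χ, hχ⟩ : ∃ χ : AddChar (ZMod r) F, ∀ a, χ a = ζ ^ a.val :=
    ⟨AddChar.zmodChar r hζ.pow_eq_one, fun a => AddChar.zmodChar_apply _ _⟩
  have hsurj : ∀ i, ∃ k : ZMod r, d i = χ k := fun i => by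
    obtain ⟨j, hj, hjd⟩ := hζ.eq_pow_of_pow_eq_one (show d i ^ r = 1 by rw [hdr, hz1])
    exact ⟨j, by rw [hχ, ZMod.val_cast_of_lt hj, hjd]⟩
  choose k hk using hsurj
  have hinj : ∀ a b, χ a = χ b → a = b := fun a b h => by
    rw [hχ, hχ] at h
    exact ZMod.val_injective r (hζ.pow_inj (ZMod.val_lt a) (ZMod.val_lt b) h)
  have hksum : ∑ i, k i = 0 := by
    refine hinj _ _ ?_
    rw [AddChar.map_zero_eq_one, ← hprod]
    have h : ∀ s : Finset (Fin n), χ (∑ i ∈ s, k i) = ∏ i ∈ s, d i := by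
      intro s
      induction s using Finset.induction_on with
      | empty => simp
      | insert j s hj ih => rw [Finset.sum_insert hj, Finset.prod_insert hj, AddChar.map_add_eq_mul, ih, hk]
    exact h _
  obtain ⟨a, π, hπ⟩ := symm_of_small hr hn k hksum
  have hσχ : ∀ t, σ (χ t) = χ t := fun t => by
    rw [hχ, map_pow, sigma_fix hσ hrq hζ.pow_eq_one]
  obtain ⟨Q, hQ⟩ : ∃ Q : Matrix (Fin n) (Fin n) F, Q = π.permMatrix F := ⟨_, rfl⟩
  have hQu : IsUnit Q := by
    rw [hQ, Matrix.isUnit_iff_isUnit_det, Matrix.det_permutation]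
    exact Units.isUnit _ |>.map (Int.castRingHom F)
  have hχ0 : χ a ≠ 0 := by
    rw [hχ]
    exact pow_ne_zero _ (hζ.ne_zero hrpr.ne_zero)
  have hQd : tw σ Q (Matrix.diagonal d) = χ a • Q := by
    ext i j
    rw [tw, Matrix.diagonal_transpose, Matrix.diagonal_map (map_zero σ), Matrix.mul_diagonal, Matrix.diagonal_mul,
      Matrix.smul_apply, smul_eq_mul, hQ]
    simp only [PEquiv.toMatrix_apply, Equiv.Perm.permMatrix, Equiv.toPEquiv_apply, Option.mem_def, Option.some.injEq]
    split_ifs with h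
    · subst h
      simp only [Function.comp_apply, hk, hσχ, mul_one]
      rw [← AddChar.map_add_eq_mul, add_comm, hπ]
    · ring
  have hdu : IsUnit (Matrix.diagonal d) := by
    rw [Matrix.isUnit_iff_isUnit_det, Matrix.det_diagonal, hprod]
    exact isUnit_one
  obtain ⟨P, hPh, hPu, hP⟩ := exists_herm_of_form hσ hdu.unit hQu hχ0 (hσχ a) hQd
  exact fix_of_model hσ hf b x hd hPh hPu hχ0 hP fun u _ => diag_det_surj (by omega) d u

omit hσ hf in
/-- The antidiagonal block. -/
def anti (k : ℕ) : Matrix (Fin k) (Fin k) F := Matrix.of fun a b => if (a : ℕ) + (b : ℕ) + 1 = k then 1 else 0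

omit hσ hf in
/-- The unipotent block. -/
def jord (k : ℕ) : Matrix (Fin k) (Fin k) F :=
  Matrix.of fun a b => if (a : ℕ) = (b : ℕ) ∨ (a : ℕ) = (b : ℕ) + 1 then 1 else 0

omit hσ hf in
theorem anti_jord (h2 : (2 : F) = 0) {k : ℕ} (hk : k ≤ 2) :
    (jord (F := F) k)ᵀ * anti k * jord k = anti k ∧ (anti (F := F) k)ᵀ = anti k ∧ anti (F := F) k * anti k = 1 := by
  interval_cases k
  · exact ⟨Subsingleton.elim _ _, Subsingleton.elim _ _, Subsingleton.elim _ _⟩
  · refine ⟨?_, ?_, ?_⟩ <;> ext a b <;> fin_cases a <;> fin_cases b <;> simp [anti, jord, Matrix.mul_apply]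
  · refine ⟨?_, ?_, ?_⟩ <;> ext a b <;> fin_cases a <;> fin_cases b <;>
      simp [anti, jord, Matrix.mul_apply, Fin.sum_univ_two, one_add_one_eq_two, h2]

theorem fix_two_char (hp : ringChar F = 2) (hn : 0 < n) (x : GL (Fin n) F)
    (hx : x ∈ Cfsg.Geo.specialLinear (Fin n) F) {z : F} (hz : (x : Matrix (Fin n) (Fin n) F) ^ 2 = z • 1) :
    ∃ g ∈ Cfsg.Geo.specialLinear (Fin n) F, g⁻¹ * x * g ∈ Cfsg.Geo.similarityGroup f := by
  classical
  haveI : CharP F 2 := hp ▸ ringChar.charP F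
  have h2 : (2 : F) = 0 := by exact_mod_cast CharP.cast_eq_zero F 2
  have hdet : x.1.det = 1 := congrArg Units.val (show Matrix.GeneralLinearGroup.det x = 1 from hx)
  obtain ⟨μ, hμ⟩ := FiniteField.isSquare_of_char_two hp z
  have hμ0 : μ ≠ 0 := fun h => by
    haveI : Nonempty (Fin n) := ⟨⟨0, hn⟩⟩
    have := congrArg Matrix.det hz
    rw [Matrix.det_pow, hdet, one_pow, hμ, h, mul_zero, zero_smul, Matrix.det_zero] at this
    exact one_ne_zero this
  obtain ⟨g, hg⟩ : ∃ g, g = Matrix.toLin' (x : Matrix (Fin n) (Fin n) F) := ⟨_, rfl⟩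
  have hg2 : ∀ v, g (g v) = (μ * μ) • v := fun v => by
    rw [hg, Matrix.toLin'_apply, Matrix.toLin'_apply, Matrix.mulVec_mulVec, ← pow_two, hz, hμ, Matrix.smul_mulVec,
      Matrix.one_mulVec]
  obtain ⟨N, hN⟩ : ∃ N : Module.End F (Fin n → F), N = μ⁻¹ • g - 1 := ⟨_, rfl⟩
  have hN2 : N ^ 2 = 0 := by
    refine LinearMap.ext fun v => ?_
    have h1 : ∀ w : Fin n → F, μ⁻¹ • μ⁻¹ • (μ * μ) • w = w := fun w => by
      rw [smul_smul, smul_smul, show μ⁻¹ * μ⁻¹ * (μ * μ) = 1 by field_simp, one_smul]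
    rw [pow_two, Module.End.mul_apply, LinearMap.zero_apply]
    simp only [hN, LinearMap.sub_apply, LinearMap.smul_apply, Module.End.one_apply, map_sub, map_smul, hg2, smul_sub,
      h1]
    linear_combination (norm := module) congrArg (fun s : F => s • (v - μ⁻¹ • g v)) h2
  have hgN : ∀ v, g v = μ • v + μ • N v := fun v => by
    simp only [hN, LinearMap.sub_apply, LinearMap.smul_apply, Module.End.one_apply, smul_sub, smul_smul,
      mul_inv_cancel₀ hμ0, one_smul]
    abel
  obtain ⟨t, k, b, hb⟩ := exists_chain N ⟨2, hN2⟩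
  have hk : ∀ i, k i ≤ 2 := (hb.pow_eq_zero_iff 2).mp hN2
  obtain ⟨Y, hY⟩ : ∃ Y, Y = μ • Matrix.blockDiagonal' (fun i => jord (F := F) (k i)) := ⟨_, rfl⟩
  obtain ⟨P, hP⟩ : ∃ P, P = Matrix.blockDiagonal' (fun i => anti (F := F) (k i)) := ⟨_, rfl⟩
  have hM : LinearMap.toMatrix b b g = Y := by
    ext ⟨j, a⟩ ⟨i, c⟩
    rw [LinearMap.toMatrix_apply, hgN, hb, hY, Matrix.smul_apply, Matrix.blockDiagonal'_apply, smul_eq_mul]
    by_cases hji : j = i
    · subst hji
      rw [dif_pos rfl, cast_eq]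
      by_cases hc : (c : ℕ) + 1 < k j
      · rw [dif_pos hc]
        simp only [map_add, map_smul, Basis.repr_self, Finsupp.add_apply, Finsupp.smul_apply, Finsupp.single_apply,
          Sigma.mk.inj_iff, heq_eq_eq, true_and, Fin.ext_iff, jord, Matrix.of_apply, smul_eq_mul]
        split_ifs <;> first | (exfalso; omega) | ring
      · rw [dif_neg hc]
        simp only [map_add, map_smul, Basis.repr_self, Finsupp.add_apply, Finsupp.smul_apply, Finsupp.single_apply,
          Sigma.mk.inj_iff, heq_eq_eq, true_and, Fin.ext_iff, jord, Matrix.of_apply, smul_eq_mul, smul_zero, map_zero,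
          Finsupp.zero_apply, add_zero]
        have := a.2
        split_ifs <;> first | (exfalso; omega) | ring
    · rw [dif_neg hji]
      split_ifs <;> simp [Ne.symm hji]
  have hPs : ∀ i, (anti (F := F) (k i)).map σ = anti (k i) := fun i => by
    ext a c
    simp [anti, apply_ite σ]
  have hJs : ∀ i, (jord (F := F) (k i)).map σ = jord (k i) := fun i => by
    ext a c
    simp [jord, apply_ite σ]
  refine fix_of_model hσ hf b x (Y := Y) (hg ▸ hM) (P := P) ?_ ?_ (c := μ * σ μ)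
    (mul_ne_zero hμ0 fun h => hμ0 (σ.injective (by rw [h, map_zero]))) ?_ ?_
  · rw [Herm, hP, Matrix.blockDiagonal'_map _ _ (map_zero σ), Matrix.blockDiagonal'_transpose]
    congr 1
    funext i
    rw [hPs, (anti_jord h2 (hk i)).2.1]
  · have h1 : P * P = 1 := by
      rw [hP, ← Matrix.blockDiagonal'_mul, show (fun i => anti (F := F) (k i) * anti (k i)) = 1 from
        funext fun i => (anti_jord h2 (hk i)).2.2, Matrix.blockDiagonal'_one]
    exact IsUnit.of_mul_eq_one _ h1
  · rw [hY, tw_smul_right]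
    congr 1
    rw [tw, hP, Matrix.blockDiagonal'_transpose, Matrix.blockDiagonal'_map _ _ (map_zero σ),
      ← Matrix.blockDiagonal'_mul, ← Matrix.blockDiagonal'_mul]
    congr 1
    funext i
    rw [hJs, (anti_jord h2 (hk i)).1]
  · intro u hu
    obtain ⟨i₀, hi₀⟩ : ∃ i₀, 0 < k i₀ := by
      by_contra hc
      push Not at hc
      have := hb.sum_eq
      rw [Finset.sum_eq_zero (fun i _ => Nat.le_zero.mp (hc i)), Module.finrank_fin_fun] at this
      omega
    obtain ⟨w, hw⟩ : ∃ w : F, w ^ k i₀ = u := by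
      rcases (show k i₀ = 1 ∨ k i₀ = 2 by have := hk i₀; omega) with h | h
      · exact ⟨u, by rw [h, pow_one]⟩
      · obtain ⟨w, hw⟩ := FiniteField.isSquare_of_char_two hp u
        exact ⟨w, by rw [h, pow_two, ← hw]⟩
    refine ⟨Matrix.diagonal fun l : (i : Fin t) × Fin (k i) => Function.update (1 : Fin t → F) i₀ w l.1, ?_, ?_⟩
    · rw [Matrix.det_diagonal, Fintype.prod_sigma]
      simp only [Finset.prod_const, Finset.card_univ, Fintype.card_fin]
      rw [Finset.prod_eq_single i₀ (fun i _ hi => by simp [Function.update_of_ne hi]) (by simp)]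
      simpa using hw
    · rw [hY, Matrix.mul_smul, Matrix.smul_mul]
      congr 1
      ext ⟨j, a⟩ ⟨i, c⟩
      rw [Matrix.diagonal_mul, Matrix.mul_diagonal, Matrix.blockDiagonal'_apply]
      split_ifs with h
      · exact (congrArg (fun l => Function.update (1 : Fin t → F) i₀ w l * _) h).trans (mul_comm _ _)
      · simp

/-- The criterion. -/
theorem criterion {p : ℕ} [Fact p.Prime] [CharP F p] (hn : 3 ≤ n) {r : ℕ} [Fact r.Prime] (hr : r = 2 ∨ r ≠ p)
    (hgap : ¬ (n = 6 ∧ r = 3)) (hΩ : r ∣ (Cfsg.Geo.similarityGroup f).relIndex (Cfsg.Geo.specialLinear (Fin n) F)) :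
    (∀ x ∈ Cfsg.Geo.specialLinear (Fin n) F, (∃ z : F, ((x ^ r : GL (Fin n) F) : Matrix (Fin n) (Fin n) F) = z • (1 : Matrix (Fin n) (Fin n) F)) →
      (∀ z : F, (x : Matrix (Fin n) (Fin n) F) ≠ z • (1 : Matrix (Fin n) (Fin n) F)) →
      ∃ g ∈ Cfsg.Geo.specialLinear (Fin n) F, g⁻¹ * x * g ∈ Cfsg.Geo.similarityGroup f) ↔
    ((r = 2 ∧ (p = 2 ∨ padicValNat 2 n ≤ padicValNat 2 (Fintype.card F - 1))) ∨
      ((r = 3 ∨ r = 5) ∧ n = r ∧ padicValNat r (q₀ - 1) = 1)) := by
  constructor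
  · intro hall
    by_contra hne
    push Not at hne
    refine not_all_of_der hσ hf (by omega) ?_ hall
    rcases eq_or_ne r 2 with rfl | hr2
    · obtain ⟨h1, h2⟩ := hne.1 rfl
      refine der_scaled hσ (fun h => h1 h.symm) ?_ h2
      by_contra hodd
      rw [padicValNat.eq_zero_of_not_dvd hodd] at h2
      omega
    · have hrp : r ≠ p := hr.resolve_left hr2
      have hrpr := (Fact.out : r.Prime)
      have hr3 : 2 < r := by have := hrpr.two_le; omega
      have hrq : ¬ r ∣ q₀ := fun h => by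
        obtain ⟨e, he, hq⟩ := FiniteField.card F p
        have h1 : r ∣ Fintype.card F := hσ.card ▸ dvd_pow h two_ne_zero
        rw [hq] at h1
        exact hrp ((Nat.prime_dvd_prime_iff_eq hrpr Fact.out).mp (hrpr.dvd_of_dvd_pow h1))
      obtain ⟨i, hi1, hin, hdiv⟩ := index_dvd hσ hf (by omega) hrpr hrq hΩ
      haveI : Fact (2 < r) := ⟨hr3⟩
      have hneg : (-1 : ZMod r) ≠ 1 := ZMod.neg_one_ne_one
      have hq1 : 1 ≤ q₀ ^ (i + 1) := Nat.one_le_pow _ _ (by have := hσ.two_le; omega)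
      have hpow : (q₀ : ZMod r) ^ (i + 1) = if Even i then 1 else -1 := by
        rw [← ZMod.natCast_eq_zero_iff] at hdiv
        split_ifs at hdiv ⊢ with h
        · rw [Nat.cast_sub hq1, Nat.cast_pow, Nat.cast_one, sub_eq_zero] at hdiv
          exact hdiv
        · push_cast at hdiv
          exact eq_neg_of_add_eq_zero_left hdiv
      have hno : ∀ m : ℕ, Odd m → (q₀ : ZMod r) ^ m ≠ -1 := fun m hm h => by
        have h1 : ((q₀ : ZMod r) ^ (i + 1)) ^ m = ((q₀ : ZMod r) ^ m) ^ (i + 1) := by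
          rw [← pow_mul, ← pow_mul, mul_comm]
        rw [h, hpow] at h1
        split_ifs at h1 with hev
        · rw [one_pow, (Even.add_one hev).neg_one_pow] at h1
          exact hneg h1.symm
        · rw [hm.neg_one_pow, (Nat.not_even_iff_odd.mp hev).add_one.neg_one_pow] at h1
          exact hneg h1
      have he : orderOf (Fintype.card F : ZMod r) ∣ i + 1 := by
        rw [orderOf_dvd_iff_pow_eq_one, hσ.card, Nat.cast_pow, ← pow_mul, mul_comm, pow_mul, hpow]
        split_ifs <;> simp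
      rcases Nat.lt_or_ge (orderOf (Fintype.card F : ZMod r)) 2 with hlt | hge
      · have hone : orderOf (Fintype.card F : ZMod r) = 1 := by
          have := orderOf_pos' (F := F) (p := p) hrp
          omega
        refine der_split hσ hr2 ?_ hn hgap (fun h => hne.2 h.1 h.2.1 h.2.2)
        have hsq : (q₀ : ZMod r) ^ 2 = 1 := by
          rw [← Nat.cast_pow, ← hσ.card]
          exact orderOf_eq_one_iff.mp hone
        rcases sq_eq_one_iff.mp hsq with h | h
        · rw [← ZMod.natCast_eq_zero_iff, Nat.cast_sub (by have := hσ.two_le; omega), h, Nat.cast_one, sub_self]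
        · exact absurd ((pow_one _).trans h) (hno 1 odd_one)
      · exact der_block hσ hrp hge ((Nat.le_of_dvd (by omega) he).trans (by omega)) hno
  · intro h x hx hxr hns
    obtain ⟨z, hz⟩ := hxr
    rw [Units.val_pow_eq_pow_val] at hz
    rcases h with ⟨rfl, h⟩ | ⟨hr35, hnr, hv⟩
    · by_cases hp : p = 2
      · subst hp
        exact fix_two_char hσ hf (ringChar.eq F 2) (by omega) x hx hz
      · exact fix_two_odd hσ hf (fun e => hp e.symm) (by omega) (h.resolve_left hp) x hx hz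
    · have hrp : r ≠ p := hr.resolve_left (by omega)
      exact fix_small hσ hf hrp hr35 hnr hv x hx hz

end Cfsg.Agent.Classical.Elusive.USim
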