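import Cfsg.Agent.Lib.Classical.Elusive.OrthSimDer
import Cfsg.Agent.Lib.Classical.Elusive.UnitarySimFix

/-!
# Prime order elements conjugate into orthogonal similarity groups, and the criterion
-/

set_option autoImplicit false
set_option linter.unusedSectionVars false
set_option linter.style.haveILetI false
set_option maxHeartbeats 400000

namespace Cfsg.Agent.Classical.Elusive.OSimilar

open Matrix Polynomial Module
open Cfsg.Agent.Small

universe u

variable {F : Type u} [Field F] [Fintype F] {n : ℕ}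

/-- The eigenbasis of a split element. -/
theorem eigen_basis {p : ℕ} [Fact p.Prime] [CharP F p] {r : ℕ} [Fact r.Prime] (hrp : r ≠ p) (hn : n ≠ 0)
    (hi : orderOf (Fintype.card F : ZMod r) = 1) (hcond : Cond n r (Fintype.card F))
    (x : Matrix.SpecialLinearGroup (Fin n) F) {z : F} (hz : (x : Matrix (Fin n) (Fin n) F) ^ r = z • 1) :
    ∃ (b : Basis (Fin n) F (Fin n → F)) (d : Fin n → F),
      LinearMap.toMatrix b b (Matrix.toLin' (x : Matrix (Fin n) (Fin n) F)) = Matrix.diagonal d ∧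
        (∀ i, d i ^ r = z) ∧ ∏ i, d i = 1 := by
  classical
  obtain ⟨k, D, ⟨B⟩, hcases⟩ := element_blocks hrp hn x ⟨z, by rw [Matrix.SpecialLinearGroup.coe_pow, hz]⟩
  have hD : ∀ j, D j = 1 := by
    rcases hcases with ⟨h, -⟩ | ⟨-, h⟩ | ⟨-, -, h⟩
    · omega
    · exact h
    · exact absurd hcond h
  have hk : k = n := by
    have := B.sum_eq
    rw [Module.finrank_fin_fun] at this
    simpa [hD] using this
  subst hk
  obtain ⟨g, hg⟩ : ∃ g, g = Matrix.toLin' (x : Matrix (Fin k) (Fin k) F) := ⟨_, rfl⟩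
  have h1 : ∀ i, finrank F (B.sub {i}) = 1 := fun i => by
    rw [B.dim]
    simp [hD]
  choose v hv0 hv using fun i => (finrank_eq_one_iff' (K := F)).mp (h1 i)
  have hv0' : ∀ i, (v i : Fin k → F) ≠ 0 := fun i h => hv0 i (Subtype.ext h)
  have hli : LinearIndependent F (fun i => (v i : Fin k → F)) := by
    rw [linearIndependent_iff']
    intro s c hsum i hi'
    rw [← Finset.add_sum_erase s _ hi', add_eq_zero_iff_eq_neg] at hsum
    have h2 : c i • (v i : Fin k → F) ∈ B.sub {i}ᶜ := by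
      rw [hsum]
      refine neg_mem (Submodule.sum_mem _ fun j hj => Submodule.smul_mem _ _ (B.mono ?_ (v j).2))
      intro l hl
      rw [Finset.mem_singleton] at hl
      subst hl
      simpa using (Finset.mem_erase.mp hj).1
    exact (smul_eq_zero.mp (Submodule.disjoint_def.mp (B.compl {i}).disjoint _ (Submodule.smul_mem _ _ (v i).2) h2)).resolve_right
      (hv0' i)
  haveI : Nonempty (Fin k) := ⟨⟨0, Nat.pos_of_ne_zero hn⟩⟩
  obtain ⟨b, hb⟩ : ∃ b : Basis (Fin k) F (Fin k → F), ∀ i, b i = v i :=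
    ⟨basisOfLinearIndependentOfCardEqFinrank hli (by rw [Fintype.card_fin, Module.finrank_fin_fun]), fun i => by simp⟩
  choose d hd using fun i => hv i ⟨g (v i), B.inv {i} ⟨v i, (v i).2, by rw [hg]⟩⟩
  have hgb : ∀ i, g (b i) = d i • b i := fun i => by
    rw [hb]
    exact (congrArg Subtype.val (hd i)).symm
  have hM : LinearMap.toMatrix b b g = Matrix.diagonal d := by
    ext i j
    rw [LinearMap.toMatrix_apply, hgb, map_smul, Basis.repr_self, Finsupp.smul_apply, Finsupp.single_apply,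
      Matrix.diagonal_apply, smul_eq_mul]
    by_cases h : j = i
    · subst h; simp
    · rw [if_neg h, if_neg (Ne.symm h), mul_zero]
  refine ⟨b, d, hg ▸ hM, fun i => ?_, ?_⟩
  · have h2 : Matrix.diagonal d ^ r = z • (1 : Matrix (Fin k) (Fin k) F) := by
      rw [← hM, LinearMap.toMatrix_pow, hg, ← Matrix.toLin'_pow, hz, map_smul, Matrix.toLin'_one, map_smul,
        LinearMap.toMatrix_id]
    rw [Matrix.diagonal_pow] at h2
    simpa using congrFun (congrFun h2 i) i
  · rw [← Matrix.det_diagonal, ← hM, LinearMap.det_toMatrix, hg, LinearMap.det_toLin', x.2]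

theorem exists_binary (h2 : (2 : F) ≠ 0) {z : F} (hz : z ≠ 0) (t : F) : ∃ a b : F, z * (a * a) - b * b = t := by
  obtain ⟨a, b, hab⟩ := FiniteField.exists_root_sum_quadratic (R := F)
    (f := Polynomial.C z * Polynomial.X ^ 2) (g := -Polynomial.X ^ 2 + Polynomial.C (-t))
    (by simp [Polynomial.degree_C_mul_X_pow, hz])
    (by rw [Polynomial.degree_add_C (by simp [Polynomial.degree_X_pow])]; simp [Polynomial.degree_X_pow])
    (Nat.odd_iff.mp (Nat.not_even_iff_odd.mp fun h => h2 (by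
      haveI : CharP F 2 := ringChar.of_eq (FiniteField.even_card_iff_char_two.mpr (Nat.even_iff.mp h))
      exact_mod_cast CharP.cast_eq_zero F 2)))
  refine ⟨a, b, ?_⟩
  simp only [Polynomial.eval_pow, Polynomial.eval_X, Polynomial.eval_add, Polynomial.eval_mul, Polynomial.eval_C,
    Polynomial.eval_neg] at hab
  linear_combination hab

variable {Q : (Fin n → F) → F} {A : Matrix (Fin n) (Fin n) F}
  (h2 : (2 : F) ≠ 0) (hAs : Aᵀ = A) (hA : IsUnit A.det)
  (hAB : ∀ u v, QuadraticMap.polar Q u v = u ⬝ᵥ A *ᵥ v) (hq : ∀ v, Q (v + v) = 4 * Q v)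

include h2 hAs hA hAB hq

theorem fix_two (hn : 0 < n) (x : GL (Fin n) F) (hx : x ∈ Cfsg.Geo.specialLinear (Fin n) F) {z : F}
    (hz : (x : Matrix (Fin n) (Fin n) F) ^ 2 = z • 1) :
    ∃ g ∈ Cfsg.Geo.specialLinear (Fin n) F, g⁻¹ * x * g ∈ Cfsg.Geo.quadSimilarityGroup Q := by
  classical
  have hdet : x.1.det = 1 := congrArg Units.val (show Matrix.GeneralLinearGroup.det x = 1 from hx)
  have hz0 : z ≠ 0 := fun h => by
    haveI : Nonempty (Fin n) := ⟨⟨0, hn⟩⟩
    have := congrArg Matrix.det hz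
    rw [Matrix.det_pow, hdet, one_pow, h, zero_smul, Matrix.det_zero] at this
    exact one_ne_zero this
  obtain ⟨g, hg⟩ : ∃ g, g = Matrix.toLin' (x : Matrix (Fin n) (Fin n) F) := ⟨_, rfl⟩
  have hg2 : ∀ v, g (g v) = z • v := fun v => by
    rw [hg, Matrix.toLin'_apply, Matrix.toLin'_apply, Matrix.mulVec_mulVec, ← pow_two, hz, Matrix.smul_mulVec,
      Matrix.one_mulVec]
  by_cases hsq : IsSquare z
  · obtain ⟨w, rfl⟩ := hsq
    have hw : w ≠ 0 := fun h => hz0 (by rw [h, mul_zero])
    obtain ⟨E₁, hE₁⟩ : ∃ E₁, E₁ = LinearMap.ker (g - w • (1 : Module.End F (Fin n → F))) := ⟨_, rfl⟩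
    obtain ⟨E₂, hE₂⟩ : ∃ E₂, E₂ = LinearMap.ker (g + w • (1 : Module.End F (Fin n → F))) := ⟨_, rfl⟩
    have hp : ∀ {v}, v ∈ E₁ → g v = w • v := fun {v} hv => by simpa [hE₁, sub_eq_zero] using hv
    have hm : ∀ {v}, v ∈ E₂ → g v = -w • v := fun {v} hv => by
      rw [hE₂, LinearMap.mem_ker, LinearMap.add_apply, LinearMap.smul_apply, Module.End.one_apply] at hv
      rw [neg_smul]; exact eq_neg_of_add_eq_zero_left hv
    have hsplit : IsCompl E₁ E₂ := by
      refine ⟨Submodule.disjoint_def.mpr fun v h1 h2' => ?_, codisjoint_iff.mpr (eq_top_iff.mpr fun v _ => ?_)⟩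
      · have h := (hp h1).symm.trans (hm h2')
        rw [← sub_eq_zero, ← sub_smul, sub_neg_eq_add, ← two_mul] at h
        exact (smul_eq_zero.mp h).resolve_left (mul_ne_zero h2 hw)
      · refine Submodule.mem_sup.mpr ⟨(2 * w)⁻¹ • (w • v + g v), ?_, (2 * w)⁻¹ • (w • v - g v), ?_, ?_⟩
        · rw [hE₁, LinearMap.mem_ker]
          simp only [LinearMap.sub_apply, LinearMap.smul_apply, Module.End.one_apply, map_smul, map_add, hg2]
          module
        · rw [hE₂, LinearMap.mem_ker]
          simp only [LinearMap.add_apply, LinearMap.smul_apply, Module.End.one_apply, map_smul, map_sub, hg2]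
          module
        · rw [← smul_add, show w • v + g v + (w • v - g v) = (2 * w) • v by rw [mul_smul, two_smul]; abel,
            smul_smul, inv_mul_cancel₀ (mul_ne_zero h2 hw), one_smul]
    obtain ⟨b, hb⟩ : ∃ b, b = ((Module.finBasis F E₁).prod (Module.finBasis F E₂)).map
        (Submodule.prodEquivOfIsCompl E₁ E₂ hsplit) := ⟨_, rfl⟩
    obtain ⟨d, hd⟩ : ∃ d : Fin (finrank F E₁) ⊕ Fin (finrank F E₂) → F, d = Sum.elim (fun _ => w) (fun _ => -w) :=
      ⟨_, rfl⟩
    have hgb : ∀ j, g (b j) = d j • b j := by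
      rintro (j | j) <;> simp only [hb, Basis.map_apply, hd, Sum.elim_inl, Sum.elim_inr]
      · simp [Basis.prod_apply, hp]
      · simp [Basis.prod_apply, hm]
    have hM : LinearMap.toMatrix b b g = Matrix.diagonal d := by
      ext i j
      rw [LinearMap.toMatrix_apply, hgb, map_smul, Basis.repr_self, Finsupp.smul_apply, Finsupp.single_apply,
        Matrix.diagonal_apply, smul_eq_mul]
      by_cases h : j = i
      · subst h; simp
      · rw [if_neg h, if_neg (Ne.symm h), mul_zero]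
    obtain ⟨i₀⟩ : Nonempty (Fin (finrank F E₁) ⊕ Fin (finrank F E₂)) := Fintype.card_pos_iff.mp (by
      rw [← Module.finrank_eq_card_basis b, Module.finrank_fin_fun]; exact hn)
    refine fix_of_model h2 hn hAs hA hAB hq b x (Y := Matrix.diagonal d) (hg ▸ hM)
      (P := Matrix.diagonal (Function.update 1 i₀ A.det)) (Matrix.diagonal_transpose _) ?_ (.inl ?_) (c := w * w)
      hz0 ?_ fun u _ => ⟨Matrix.diagonal (Function.update 1 i₀ u), ?_, ?_⟩
    · simpa [Matrix.det_diagonal, Finset.prod_update_of_mem] using hA.ne_zero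
    · simp [Matrix.det_diagonal, Finset.prod_update_of_mem]
    · rw [Matrix.diagonal_transpose, Matrix.diagonal_mul_diagonal, Matrix.diagonal_mul_diagonal, ← Matrix.diagonal_smul]
      congr 1
      funext i
      rcases i with i | i <;> simp only [hd, Sum.elim_inl, Sum.elim_inr, Pi.smul_apply, smul_eq_mul] <;> ring
    · simp [Matrix.det_diagonal, Finset.prod_update_of_mem]
    · rw [Matrix.diagonal_mul_diagonal, Matrix.diagonal_mul_diagonal]
      congr 1
      funext i
      exact mul_comm _ _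
  · have hev : Even n := by
      by_contra ho
      obtain ⟨m, hm⟩ := Nat.not_even_iff_odd.mp ho
      have h := congrArg Matrix.det hz
      rw [Matrix.det_pow, hdet, one_pow, Matrix.det_smul, Matrix.det_one, mul_one, Fintype.card_fin, hm, pow_succ,
        pow_mul, ← pow_mul z, mul_comm 2 m, pow_mul] at h
      refine hsq ⟨(z ^ m)⁻¹, ?_⟩
      have := pow_ne_zero m hz0
      field_simp
      linear_combination -h
    obtain ⟨m, hm⟩ := hev
    obtain ⟨b, hb⟩ := Elusive.exists_root_basis (V := Fin n → F) (m := m)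
      (by rw [Module.finrank_fin_fun, hm, two_mul]) hsq hg2
    obtain ⟨k, rfl⟩ : ∃ k, m = k + 1 := ⟨m - 1, by omega⟩
    obtain ⟨c₁, hc₁⟩ := exists_binary h2 hz0 1
    obtain ⟨c₂, hc₁⟩ := hc₁
    obtain ⟨a, b', hab⟩ := exists_binary h2 hz0 A.det
    obtain ⟨M, hMdef⟩ : ∃ M : Fin (k + 1) → Matrix (Fin 2) (Fin 2) F,
        M = fun i => if i = 0 then !![a, b'; b', z * a] else !![c₁, c₂; c₂, z * c₁] := ⟨_, rfl⟩
    have hMd : ∀ i, (M i).det = if i = 0 then A.det else 1 := fun i => by
      simp only [hMdef]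
      split_ifs <;> simp [Matrix.det_fin_two]
      · linear_combination hab
      · linear_combination hc₁
    have hPd : (Matrix.blockDiagonal M).det = A.det := by
      rw [Matrix.det_blockDiagonal, Finset.prod_congr rfl fun i _ => hMd i, Finset.prod_ite_eq']
      simp
    refine fix_of_model h2 hn hAs hA hAB hq b x (Y := Matrix.blockDiagonal fun _ => blockRoot z) (hg ▸ hb)
      (P := Matrix.blockDiagonal M) ?_ ?_ (.inl ?_) (c := z) hz0 ?_ ?_
    · rw [Matrix.blockDiagonal_transpose]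
      congr 1
      funext i
      simp only [hMdef]
      split_ifs <;> ext i j <;> fin_cases i <;> fin_cases j <;> simp
    · rw [hPd]; exact hA.ne_zero
    · rw [hPd]; exact IsSquare.mul_self _
    · rw [Matrix.blockDiagonal_transpose, ← Matrix.blockDiagonal_mul, ← Matrix.blockDiagonal_mul, ← Matrix.blockDiagonal_smul]
      congr 1
      funext i
      simp only [hMdef, Pi.smul_apply]
      split_ifs <;> ext i j <;> fin_cases i <;> fin_cases j <;>
        simp [blockRoot, Matrix.mul_apply, Fin.sum_univ_two] <;> ring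
    · intro u _
      obtain ⟨i, Z, hZd, hZc⟩ := Elusive.centraliser_root (0 : Fin (k + 1)) hz0 u
      refine ⟨Matrix.blockDiagonal (Function.update 1 i Z), ?_, ?_⟩
      · rw [Matrix.det_blockDiagonal, Finset.prod_eq_single i (fun j _ hj => by simp [Function.update_of_ne hj]) (by simp),
          Function.update_self, hZd]
      · rw [← Matrix.blockDiagonal_mul, ← Matrix.blockDiagonal_mul]
        congr 1
        funext j
        by_cases hj : j = i
        · subst hj; simpa using hZc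
        · simp [Function.update_of_ne hj]

omit h2 hAs hA hAB hq in
theorem three_inv : ∀ a b : ZMod 3, ∃ π : Equiv.Perm (Fin 3), π ∈ [Equiv.swap 0 1, Equiv.swap 0 2, Equiv.swap 1 2] ∧
    ∃ f : Fin 3, ∀ i, ![a, b, -(a + b)] (π i) + ![a, b, -(a + b)] i = 2 * ![a, b, -(a + b)] f := by
  decide +kernel

omit h2 hAs hA hAB hq in
/-- The involutions of five letters with one fixed point. -/
theorem five_inv : ∀ a b c d : ZMod 5, ∃ π ∈
    ([Equiv.swap 1 2 * Equiv.swap 3 4, Equiv.swap 1 3 * Equiv.swap 2 4, Equiv.swap 1 4 * Equiv.swap 2 3,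
      Equiv.swap 0 2 * Equiv.swap 3 4, Equiv.swap 0 3 * Equiv.swap 2 4, Equiv.swap 0 4 * Equiv.swap 2 3,
      Equiv.swap 0 1 * Equiv.swap 3 4, Equiv.swap 0 3 * Equiv.swap 1 4, Equiv.swap 0 4 * Equiv.swap 1 3,
      Equiv.swap 0 1 * Equiv.swap 2 4, Equiv.swap 0 2 * Equiv.swap 1 4, Equiv.swap 0 4 * Equiv.swap 1 2,
      Equiv.swap 0 1 * Equiv.swap 2 3, Equiv.swap 0 2 * Equiv.swap 1 3, Equiv.swap 0 3 * Equiv.swap 1 2] :
      List (Equiv.Perm (Fin 5))),
    ∃ f : Fin 5, ∀ i, ![a, b, c, d, -(a + b + c + d)] (π i) + ![a, b, c, d, -(a + b + c + d)] i =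
      2 * ![a, b, c, d, -(a + b + c + d)] f := by
  decide +kernel

omit h2 hAs hA hAB hq in
theorem symm_of_small {r : ℕ} (hr : r = 3 ∨ r = 5) (hn : n = r) (k : Fin n → ZMod r) (hsum : ∑ i, k i = 0) :
    ∃ (a : ZMod r) (π : Equiv.Perm (Fin n)), π⁻¹ = π ∧ ∀ i, k (π i) + k i = a := by
  rcases hr with rfl | rfl <;> subst hn
  · obtain ⟨π, hπ, f, h⟩ := three_inv (k 0) (k 1)
    rw [Fin.sum_univ_three] at hsum
    have hk : ![k 0, k 1, -(k 0 + k 1)] = k := by
      funext i
      fin_cases i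
      · rfl
      · rfl
      · exact (eq_neg_of_add_eq_zero_right hsum).symm
    rw [hk] at h
    refine ⟨2 * k f, π, ?_, h⟩
    simp only [List.mem_cons, List.not_mem_nil, or_false] at hπ
    rcases hπ with rfl | rfl | rfl <;> exact Equiv.swap_inv _ _
  · obtain ⟨π, hπ, f, h⟩ := five_inv (k 0) (k 1) (k 2) (k 3)
    rw [Fin.sum_univ_five] at hsum
    have hk : ![k 0, k 1, k 2, k 3, -(k 0 + k 1 + k 2 + k 3)] = k := by
      funext i
      fin_cases i
      · rfl
      · rfl
      · rfl
      · rfl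
      · exact (eq_neg_of_add_eq_zero_right hsum).symm
    rw [hk] at h
    refine ⟨2 * k f, π, ?_, h⟩
    simp only [List.mem_cons, List.not_mem_nil, or_false] at hπ
    rcases hπ with rfl | rfl | rfl | rfl | rfl | rfl | rfl | rfl | rfl | rfl | rfl | rfl | rfl | rfl | rfl <;> decide

theorem fix_small {p : ℕ} [Fact p.Prime] [CharP F p] {r : ℕ} [Fact r.Prime] (hrp : r ≠ p)
    (hr : r = 3 ∨ r = 5) (hn : n = r) (hv : padicValNat r (Fintype.card F - 1) = 1)
    (x : GL (Fin n) F) (hx : x ∈ Cfsg.Geo.specialLinear (Fin n) F) {z : F}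
    (hz : (x : Matrix (Fin n) (Fin n) F) ^ r = z • 1) :
    ∃ g ∈ Cfsg.Geo.specialLinear (Fin n) F, g⁻¹ * x * g ∈ Cfsg.Geo.quadSimilarityGroup Q := by
  classical
  have hrpr := (Fact.out : r.Prime)
  haveI : NeZero r := ⟨hrpr.ne_zero⟩
  have hdvd : r ∣ Fintype.card F - 1 := by
    by_contra h
    rw [padicValNat.eq_zero_of_not_dvd h] at hv
    exact zero_ne_one hv
  have hcond : Cond n r (Fintype.card F) := ⟨by rw [hn, padicValNat_self, hv], fun h => by omega⟩
  have hdet : x.1.det = 1 := congrArg Units.val (show Matrix.GeneralLinearGroup.det x = 1 from hx)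
  obtain ⟨b, d, hd, hdr, hprod⟩ :=
    eigen_basis (n := n) hrp (by omega) (orderOf_eq_one_iff'.mpr hdvd) hcond ⟨x.1, hdet⟩ hz
  have hz1 : z = 1 := by
    have h1 : z ^ n = 1 := by
      have h2 := congrArg (· ^ r) hprod
      simp only [one_pow, ← Finset.prod_pow, hdr, Finset.prod_const, Finset.card_univ, Fintype.card_fin] at h2
      exact h2
    obtain ⟨i⟩ : Nonempty (Fin n) := ⟨⟨0, by omega⟩⟩
    have hd0 : d i ≠ 0 := fun h => by
      rw [Finset.prod_eq_zero (Finset.mem_univ i) h] at hprod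
      exact zero_ne_one hprod
    have h2 : d i ^ (r ^ 2) = 1 := by rw [pow_two, pow_mul, hdr, ← hn, h1]
    have h3 : d i ^ Nat.gcd (r ^ 2) (Fintype.card F - 1) = 1 :=
      pow_gcd_eq_one.mpr ⟨h2, FiniteField.pow_card_sub_one_eq_one _ hd0⟩
    obtain ⟨j, hj, hjg⟩ := (Nat.dvd_prime_pow hrpr).mp (Nat.gcd_dvd_left (r ^ 2) (Fintype.card F - 1))
    have hj1 : j ≤ 1 := by
      have h4 : r ^ j ∣ Fintype.card F - 1 := hjg ▸ Nat.gcd_dvd_right _ _
      have h5 := (padicValNat_dvd_iff_le (by
        have := Fintype.one_lt_card (α := F); omega)).mp h4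
      omega
    rw [← hdr i]
    rw [hjg] at h3
    interval_cases j
    · rw [pow_zero, pow_one] at h3; rw [h3, one_pow]
    · rwa [pow_one] at h3
  obtain ⟨ζ, hζ⟩ := USim.exists_zeta (F := F) (r := r) hdvd
  obtain ⟨χ, hχ⟩ : ∃ χ : AddChar (ZMod r) F, ∀ a, χ a = ζ ^ a.val :=
    ⟨AddChar.zmodChar r hζ.pow_eq_one, fun a => AddChar.zmodChar_apply _ _⟩
  have hsurj : ∀ i, ∃ k : ZMod r, d i = χ k := fun i => by
    obtain ⟨j, hj, hjd⟩ := hζ.eq_pow_of_pow_eq_one (show d i ^ r = 1 by rw [hdr, hz1])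
    exact ⟨j, by rw [hχ, ZMod.val_cast_of_lt hj, hjd]⟩
  choose k hk using hsurj
  have hinj : ∀ a b, χ a = χ b → a = b := fun a b h => by
    rw [hχ, hχ] at h
    exact ZMod.val_injective r (hζ.pow_inj (ZMod.val_lt a) (ZMod.val_lt b) h)
  have hksum : ∑ i, k i = 0 := by
    refine hinj _ _ ?_
    rw [AddChar.map_zero_eq_one, ← hprod]
    have h : ∀ s : Finset (Fin n), χ (∑ i ∈ s, k i) = ∏ i ∈ s, d i := by
      intro s
      induction s using Finset.induction_on with
      | empty => simp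
      | insert j s hj ih => rw [Finset.sum_insert hj, Finset.prod_insert hj, AddChar.map_add_eq_mul, ih, hk]
    exact h _
  obtain ⟨a, π, hπs, hπ⟩ := symm_of_small hr hn k hksum
  have hχ0 : χ a ≠ 0 := by
    rw [hχ]
    exact pow_ne_zero _ (hζ.ne_zero hrpr.ne_zero)
  have hodd : Odd n := hn ▸ hrpr.odd_of_ne_two (by omega)
  refine fix_of_model h2 (by omega) hAs hA hAB hq b x (Y := Matrix.diagonal d) hd (P := π.permMatrix F) ?_ ?_
    (.inr hodd) hχ0 ?_ fun u _ => USim.diag_det_surj (by omega) d u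
  · rw [Matrix.transpose_permMatrix, hπs]
  · rw [Matrix.det_permutation]
    rcases Int.units_eq_one_or (Equiv.Perm.sign π) with h | h <;> simp [h]
  · ext i j
    rw [Matrix.diagonal_transpose, Matrix.mul_diagonal, Matrix.diagonal_mul, Matrix.smul_apply, smul_eq_mul]
    simp only [PEquiv.toMatrix_apply, Equiv.Perm.permMatrix, Equiv.toPEquiv_apply, Option.mem_def, Option.some.injEq]
    split_ifs with h
    · subst h
      simp only [hk, mul_one]
      rw [← AddChar.map_add_eq_mul, add_comm, hπ]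
    · ring

/-- The criterion. -/
theorem criterion {p : ℕ} [Fact p.Prime] [CharP F p] (hn : 3 ≤ n) {r : ℕ} [Fact r.Prime]
    (hgap : ¬ (n = 6 ∧ r = 3))
    (hΩ : r ∣ (Cfsg.Geo.quadSimilarityGroup Q).relIndex (Cfsg.Geo.specialLinear (Fin n) F)) :
    (∀ x ∈ Cfsg.Geo.specialLinear (Fin n) F, (∃ z : F, ((x ^ r : GL (Fin n) F) : Matrix (Fin n) (Fin n) F) = z • (1 : Matrix (Fin n) (Fin n) F)) →
      (∀ z : F, (x : Matrix (Fin n) (Fin n) F) ≠ z • (1 : Matrix (Fin n) (Fin n) F)) →
      ∃ g ∈ Cfsg.Geo.specialLinear (Fin n) F, g⁻¹ * x * g ∈ Cfsg.Geo.quadSimilarityGroup Q) ↔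
    (r = 2 ∨ ((r = 3 ∨ r = 5) ∧ n = r ∧ padicValNat r (Fintype.card F - 1) = 1)) := by
  have hrpr := (Fact.out : r.Prime)
  have hpval : r = p → padicValNat r (Fintype.card F - 1) = 0 := fun h => by
    subst h
    refine padicValNat.eq_zero_of_not_dvd fun hd => ?_
    obtain ⟨f, hf1, hf⟩ := FiniteField.card F r
    have h1 : r ∣ Fintype.card F := hf ▸ dvd_pow_self r f.ne_zero
    have h2' := Nat.dvd_sub h1 hd
    rw [Nat.sub_sub_self Fintype.card_pos] at h2'
    exact hrpr.one_lt.ne' (Nat.dvd_one.mp h2')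
  constructor
  · intro hall
    by_contra hne
    push Not at hne
    obtain ⟨hr2, hne⟩ := hne
    refine not_all_of_der h2 hAs hA hAB hq ?_ hall
    by_cases hrp : r = p
    · subst hrp
      exact der_unipotent h2 (by omega)
    have hrq : ¬ r ∣ Fintype.card F := fun h => by
      obtain ⟨f, -, hf⟩ := FiniteField.card F p
      rw [hf] at h
      exact hrp ((Nat.prime_dvd_prime_iff_eq hrpr Fact.out).mp (hrpr.dvd_of_dvd_pow h))
    rcases Nat.lt_or_ge (orderOf (Fintype.card F : ZMod r)) 2 with hlt | hge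
    · have hone : orderOf (Fintype.card F : ZMod r) = 1 := by
        have := orderOf_pos' (F := F) (p := p) hrp
        omega
      exact der_split hr2 (orderOf_eq_one_iff'.mp hone) hn hgap fun h => hne h.1 h.2.1 h.2.2
    have hidx := index_dvd h2 hn hAs hA hAB hq hrpr hr2 hrq hΩ
    rcases Nat.even_or_odd (orderOf (Fintype.card F : ZMod r)) with ⟨d, hd⟩ | hodd
    · rcases hidx with ⟨i, hio, -, -, hi⟩ | ⟨m, hm, hdisc⟩
      · exact absurd (hio.of_dvd_nat ((orderOf_dvd_iff' i).mp hi)) (Nat.not_odd_iff_even.mpr ⟨d, hd⟩)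
      have hd' : orderOf (Fintype.card F : ZMod r) = 2 * d := by omega
      have hqd : (Fintype.card F : ZMod r) ^ d = -1 := by
        have h1 : ((Fintype.card F : ZMod r) ^ d) ^ 2 = 1 := by rw [← pow_mul, mul_comm, ← hd', pow_orderOf_eq_one]
        rcases sq_eq_one_iff.mp h1 with h | h
        · have := Nat.le_of_dvd (show 0 < d by omega) (orderOf_dvd_of_pow_eq_one h)
          omega
        · exact h
      have hmc : (Fintype.card F : ZMod r) ^ m = 1 ∨ (Fintype.card F : ZMod r) ^ m = -1 := by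
        rcases hdisc with ⟨-, h⟩ | ⟨-, h⟩ <;> rw [← ZMod.natCast_eq_zero_iff] at h
        · right
          push_cast at h
          exact eq_neg_of_add_eq_zero_left h
        · left
          rw [Nat.cast_sub (Nat.one_le_pow _ _ Fintype.card_pos), Nat.cast_pow, Nat.cast_one, sub_eq_zero] at h
          exact h
      obtain ⟨k, hk⟩ : d ∣ m := by
        refine Nat.dvd_of_mul_dvd_mul_left two_pos ?_
        rw [← hd', orderOf_dvd_iff_pow_eq_one, mul_comm, pow_mul]
        rcases hmc with h | h <;> simp [h]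
      haveI : Fact (2 < r) := ⟨by have := hrpr.two_le; omega⟩
      refine der_disc h2 hrp hr2 (show 0 < d by omega) hd' (k := k) (by rw [hm, hk, mul_assoc])
        (Nat.pos_of_ne_zero fun h => by rw [h, mul_zero] at hk; omega) hA.ne_zero ?_
      have hpow : (Fintype.card F : ZMod r) ^ m = (-1) ^ k := by rw [hk, pow_mul, hqd]
      rw [hk] at hdisc
      rcases hdisc with ⟨hsq, h⟩ | ⟨hsq, h⟩ <;> rw [← ZMod.natCast_eq_zero_iff, ← hk] at h
      · push_cast at h
        rw [hpow] at h
        refine iff_of_false (fun he => ?_) (not_not.mpr hsq)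
        rw [he.neg_one_pow] at h
        exact ZMod.neg_one_ne_one (neg_eq_of_add_eq_zero_right h)
      · rw [Nat.cast_sub (Nat.one_le_pow _ _ Fintype.card_pos), Nat.cast_pow, Nat.cast_one, sub_eq_zero, hpow] at h
        refine iff_of_true ?_ hsq
        by_contra he
        rw [(Nat.not_even_iff_odd.mp he).neg_one_pow] at h
        exact ZMod.neg_one_ne_one h
    · have hle : orderOf (Fintype.card F : ZMod r) ≤ n := by
        rcases hidx with ⟨i, -, hi3, hin, hi⟩ | ⟨m, hm, hdisc⟩
        · exact (Nat.le_of_dvd (by omega) ((orderOf_dvd_iff' i).mp hi)).trans hin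
        · refine Nat.le_of_dvd (by omega) (orderOf_dvd_iff_pow_eq_one.mpr ?_)
          rw [hm, mul_comm, pow_mul]
          rcases hdisc with ⟨-, h⟩ | ⟨-, h⟩ <;> rw [← ZMod.natCast_eq_zero_iff] at h
          · push_cast at h
            rw [eq_neg_of_add_eq_zero_left h, neg_one_sq]
          · rw [Nat.cast_sub (Nat.one_le_pow _ _ Fintype.card_pos), Nat.cast_pow, Nat.cast_one, sub_eq_zero] at h
            rw [h, one_pow]
      exact der_block hrp hge hodd hle hr2
  · intro h x hx hxr hns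
    obtain ⟨z, hz⟩ := hxr
    rw [Units.val_pow_eq_pow_val] at hz
    rcases h with rfl | ⟨hr35, hnr, hv⟩
    · exact fix_two h2 hAs hA hAB hq (by omega) x hx hz
    · exact fix_small h2 hAs hA hAB hq (fun h => by rw [hpval h] at hv; exact zero_ne_one hv) hr35 hnr hv x hx hz

end Cfsg.Agent.Classical.Elusive.OSimilar
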