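import Mathlib

/-!
# Arithmetic of invariant totally singular subspaces
-/

set_option autoImplicit false

namespace Cfsg.Agent.Classical.Elusive.OTs

/-- How many irreducible totally singular pieces `N` units always allow. -/
def cap (i t N : ℕ) : ℕ := if Even i then (N + 1 - t) / 2 else N

/-- Dimension minus twice the Witt index of the complement of `N` units. -/
def defect (i e N : ℕ) : ℕ := if Odd i ∨ Even N then e else 2 - e

/-- Every number of units leaves room for a totally singular subspace of dimension `m`. -/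
def Crit (i c t j e m : ℕ) : Prop :=
  ∀ N, 1 ≤ N → c * N + defect i e N ≤ 2 * j + e →
    ∃ l ≤ cap i t N, i * l ≤ m ∧ 2 * m + c * N + defect i e N ≤ 2 * (i * l) + (2 * j + e)

theorem crit_odd {i c t j e m : ℕ} (hi : Odd i) (hc : c = 2 * i) (hm : m ≤ j)
    (hroom : ∃ k < m, ∃ a, j - k = i * a) : Crit i c t j e m ↔ (i ≤ m ∧ m % i ≤ j % i) := by
  have hipos : 0 < i := hi.pos
  have hcap : ∀ N, cap i t N = N := fun N => if_neg (Nat.not_even_iff_odd.mpr hi)
  have hdef : ∀ N, defect i e N = e := fun N => if_pos (Or.inl hi)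
  obtain ⟨k, hk, a, ha⟩ := hroom
  have ha1 : 1 ≤ a := Nat.pos_of_ne_zero fun h => by rw [h, mul_zero] at ha; omega
  have hij : i * 1 ≤ i * a := Nat.mul_le_mul_left i ha1
  have hjd := Nat.div_add_mod j i
  have hmd := Nat.div_add_mod m i
  have hmlt := Nat.mod_lt m hipos
  unfold Crit
  simp only [hcap, hdef, hc]
  constructor
  · intro H
    have hS : 1 ≤ j / i := (Nat.one_le_div_iff hipos).mpr (by omega)
    obtain ⟨l, -, hl1, hl2⟩ := H (j / i) hS (by rw [mul_assoc]; omega)
    rw [mul_assoc] at hl2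
    have hlm : l ≤ m / i := (Nat.le_div_iff_mul_le hipos).mpr (by rw [mul_comm]; exact hl1)
    have h3 := Nat.mul_le_mul_left i hlm
    refine ⟨?_, by omega⟩
    by_contra hlt
    have h4 : j % i = k % i := by rw [show j = k + i * a by omega, Nat.add_mul_mod_self_left]
    have h5 := Nat.mod_le k i
    have h6 := Nat.mod_eq_of_lt (not_le.mp hlt)
    omega
  · rintro ⟨-, hle⟩ N - hN
    rw [mul_assoc] at hN ⊢
    rcases le_total N (m / i) with h | h
    · have h1 := Nat.mul_le_mul_left i h
      exact ⟨N, le_rfl, by omega, by omega⟩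
    · have hNj : N ≤ j / i := (Nat.le_div_iff_mul_le hipos).mpr (by rw [mul_comm]; omega)
      have h1 := Nat.mul_le_mul_left i hNj
      exact ⟨m / i, h, by omega, by omega⟩

theorem crit_even {i h c t j e m : ℕ} (hi : i = 2 * h) (hh : 1 ≤ h) (hc : c = i) (ht : 1 ≤ t) (he : e ≤ 2)
    (hm1 : 1 ≤ m) (hm : m ≤ j)
    (hroom : ∃ k < m, (∃ a, j - k = i * a) ∨ ∃ a, j - k - 1 + e = i * a + h) :
    Crit i c t j e m ↔ (i ≤ m ∧ t + 2 * (m / i) ≤ (2 * j + e) / i ∧
      ((2 * (m % i) ≤ i ∧ (2 * j + e) % i < defect i e ((2 * j + e) / i) ∧ t + 2 * (m / i) < (2 * j + e) / i) ∨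
        2 * (m % i) + defect i e ((2 * j + e) / i) ≤ (2 * j + e) % i)) := by
  have hipos : 0 < i := by omega
  have hev : Even i := ⟨h, by omega⟩
  have hno : ¬ Odd i := Nat.not_odd_iff_even.mpr hev
  have hdef : ∀ N, (N % 2 = 0 ∧ defect i e N = e) ∨ (N % 2 = 1 ∧ defect i e N = 2 - e) := fun N => by
    rcases Nat.even_or_odd N with hN | hN
    · exact Or.inl ⟨Nat.even_iff.mp hN, if_pos (Or.inr hN)⟩
    · exact Or.inr ⟨Nat.odd_iff.mp hN, if_neg (not_or.mpr ⟨hno, Nat.not_even_iff_odd.mpr hN⟩)⟩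
  have hcap : ∀ N, cap i t N = (N + 1 - t) / 2 := fun N => if_pos hev
  obtain ⟨S, hS⟩ : ∃ S, S = (2 * j + e) / i := ⟨_, rfl⟩
  obtain ⟨k, hk⟩ : ∃ k, k = (2 * j + e) % i := ⟨_, rfl⟩
  obtain ⟨u, hu⟩ : ∃ u, u = m / i := ⟨_, rfl⟩
  obtain ⟨w, hw⟩ : ∃ w, w = m % i := ⟨_, rfl⟩
  have hn : i * S + k = 2 * j + e := by rw [hS, hk]; exact Nat.div_add_mod _ _
  have hklt : k < i := hk ▸ Nat.mod_lt _ hipos
  have hmd : i * u + w = m := by rw [hu, hw]; exact Nat.div_add_mod _ _
  have hwlt : w < i := hw ▸ Nat.mod_lt _ hipos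
  have hpar : k % 2 = e % 2 := by
    have : i * S = 2 * (h * S) := by rw [hi, mul_assoc]
    omega
  rw [← hS, ← hk, ← hu, ← hw]
  unfold Crit
  simp only [hcap, hc]
  constructor
  · intro H
    have hdS := hdef S
    have bad : ∀ N, 1 ≤ N → i * N + defect i e N ≤ i * S + k →
        (∀ l, (l = 0 ∨ 2 * l + t ≤ N + 1) → i * l ≤ m → 2 * (i * l) + i * S + k < 2 * m + i * N + defect i e N) →
        False := by
      intro N hN1 hN hl
      obtain ⟨l, hl1, hl2, hl3⟩ := H N hN1 (by omega)
      have := hl l (by omega) hl2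
      omega
    have him : i ≤ m := by
      by_contra hlt
      have hu0 : u = 0 := by rw [hu, Nat.div_eq_of_lt (not_le.mp hlt)]
      have hl0 : ∀ l, i * l ≤ m → i * l = 0 := fun l hl => by
        rcases Nat.eq_zero_or_pos l with rfl | h0
        · exact mul_zero _
        · have := Nat.mul_le_mul_left i h0
          omega
      obtain ⟨k0, hk0, hr⟩ := hroom
      obtain ⟨x, a, hx, hxb, hxc⟩ : ∃ x a, 2 * j + e = x + i * (2 * a) ∧ x < 3 * i ∧
          ((x = 2 * k0 + e ∧ 1 ≤ a) ∨ x + e = 2 * k0 + 2 + i) := by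
        rcases hr with ⟨a, ha⟩ | ⟨a, ha⟩
        · have ha1 : 1 ≤ a := Nat.pos_of_ne_zero fun h0 => by rw [h0, mul_zero] at ha; omega
          exact ⟨2 * k0 + e, a, by rw [mul_left_comm]; omega, by omega, Or.inl ⟨rfl, ha1⟩⟩
        · exact ⟨2 * k0 + 2 + i - e, a, by rw [mul_left_comm]; omega, by omega, Or.inr (by omega)⟩
      clear hr
      have hSx : S = x / i + 2 * a := by rw [hS, hx, Nat.add_mul_div_left _ _ hipos]
      have hkx : k = x % i := by rw [hk, hx, Nat.add_mul_mod_self_left]
      have hxd := Nat.div_add_mod x i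
      obtain ⟨z, hz⟩ : ∃ z, z = x / i := ⟨_, rfl⟩
      rw [← hz, ← hkx] at hxd
      rw [← hz] at hSx
      have hz3 : z < 3 := by
        by_contra h3
        have := Nat.mul_le_mul_left i (not_lt.mp h3)
        omega
      rcases Nat.lt_or_ge k (defect i e S) with hlt' | hge
      · have hdN := hdef (S - 1)
        have hS2 : 2 ≤ S := by interval_cases z <;> omega
        have hmul : i * S = i * (S - 1) + i := by
          conv_lhs => rw [show S = (S - 1) + 1 by omega, Nat.mul_add, mul_one]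
        refine bad (S - 1) (by omega) (by omega) fun l _ hl => ?_
        have := hl0 l hl
        interval_cases z <;> omega
      · refine bad S (by interval_cases z <;> omega) (by omega) fun l _ hl => ?_
        have := hl0 l hl
        interval_cases z <;> omega
    have hu1 : 1 ≤ u := hu ▸ (Nat.one_le_div_iff hipos).mpr him
    have hS2 : 2 ≤ S := hS ▸ (Nat.le_div_iff_mul_le hipos).mpr (by omega)
    have hmul1 : i * S = i * (S - 1) + i := by
      conv_lhs => rw [show S = (S - 1) + 1 by omega, Nat.mul_add, mul_one]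
    have hlu : ∀ l, i * l ≤ m → i * l ≤ i * u := fun l hl => Nat.mul_le_mul_left i
      (hu ▸ (Nat.le_div_iff_mul_le hipos).mpr (by rw [mul_comm]; exact hl))
    have hlu1 : ∀ l, l + 1 ≤ u → i * l + i ≤ i * u := fun l hl => by
      have := Nat.mul_le_mul_left i hl
      rwa [Nat.mul_add, mul_one] at this
    have htS : t + 2 * u ≤ S := by
      by_contra hlt
      have hdN := hdef (S - 1)
      refine bad (S - 1) (by omega) (by omega) fun l hl _ => ?_
      have := hlu1 l (by omega)
      omega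
    refine ⟨him, htS, ?_⟩
    by_contra hno
    push Not at hno
    rcases Nat.lt_or_ge k (defect i e S) with hlt' | hge
    · by_cases hw2 : 2 * w ≤ i
      · have hteq : t + 2 * u = S := le_antisymm htS (hno.1 hw2 hlt')
        have hdN := hdef (S - 2)
        have hmul2 : i * S = i * (S - 2) + 2 * i := by
          conv_lhs => rw [show S = (S - 2) + 2 by omega, Nat.mul_add, mul_comm i 2]
        refine bad (S - 2) (by omega) (by omega) fun l hl _ => ?_
        have := hlu1 l (by omega)
        omega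
      · have hdN := hdef (S - 1)
        refine bad (S - 1) (by omega) (by omega) fun l _ hl => ?_
        have := hlu l hl
        omega
    · refine bad S (by omega) (by omega) fun l _ hl => ?_
      have := hlu l hl
      omega
  · rintro ⟨him, htS, hcond⟩ N hN1 hN
    have hdS := hdef S
    have hdN := hdef N
    have hNS : N ≤ S := by
      by_contra hlt
      have h1 := Nat.mul_le_mul_left i (not_le.mp hlt)
      rw [Nat.succ_eq_add_one, Nat.mul_add, mul_one] at h1
      omega
    obtain ⟨A, rfl⟩ : ∃ A, S = N + A := ⟨S - N, by omega⟩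
    rw [Nat.mul_add] at hn
    have hA : A = 0 ∨ (A = 1 ∧ i * A = i) ∨ (2 ≤ A ∧ 2 * i ≤ i * A) := by
      rcases A with _ | _ | A
      · exact Or.inl rfl
      · exact Or.inr (Or.inl ⟨rfl, mul_one i⟩)
      · exact Or.inr (Or.inr ⟨by omega, by rw [mul_comm 2 i]; exact Nat.mul_le_mul_left i (by omega)⟩)
    have hA0 : A = 0 → i * A = 0 := fun h0 => by rw [h0, mul_zero]
    rcases le_total u ((N + 1 - t) / 2) with hle | hle
    · refine ⟨u, hle, by omega, ?_⟩
      omega
    · refine ⟨(N + 1 - t) / 2, le_rfl, le_trans (Nat.mul_le_mul_left i hle) (by omega), ?_⟩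
      rcases eq_or_lt_of_le hle with heq | hlt
      · rw [heq]
        omega
      obtain ⟨l, hl⟩ : ∃ l, l = (N + 1 - t) / 2 := ⟨_, rfl⟩
      rw [← hl] at hle hlt ⊢
      obtain ⟨E, hE⟩ : ∃ E, 2 * l + A = 2 * u + E := ⟨2 * l + A - 2 * u, by omega⟩
      have hiE : 2 * (i * l) + i * A = 2 * (i * u) + i * E := by
        have h1 := congrArg (i * ·) hE
        simp only [Nat.mul_add] at h1
        rwa [mul_left_comm i 2 l, mul_left_comm i 2 u] at h1
      have hE3 : (E = 0 ∧ i * E = 0) ∨ (E = 1 ∧ i * E = i) ∨ (2 ≤ E ∧ 2 * i ≤ i * E) := by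
        rcases E with _ | _ | E
        · exact Or.inl ⟨rfl, mul_zero i⟩
        · exact Or.inr (Or.inl ⟨rfl, mul_one i⟩)
        · exact Or.inr (Or.inr ⟨by omega, by rw [mul_comm 2 i]; exact Nat.mul_le_mul_left i (by omega)⟩)
      omega

end Cfsg.Agent.Classical.Elusive.OTs
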