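import Cfsg.Agent.Lib.Classical.Elusive.OrthEvenUnits
import Cfsg.Agent.Lib.Classical.Elusive.OrthTsCount
import Cfsg.Agent.Lib.Classical.Elusive.OrthTsArith
import Cfsg.Agent.Lib.Classical.Elusive.TsSymp

/-!
# Invariant totally singular subspaces of isometries of odd prime order
-/

set_option autoImplicit false
set_option linter.unusedSectionVars false

universe u

namespace Cfsg.Agent.Classical.Elusive.OTs

open Module QuadraticMap
open Cfsg.Agent.Small

variable {F : Type u} [Field F] [Fintype F] {V : Type u} [AddCommGroup V] [Module F V] [FiniteDimensional F V]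
  {Q : QuadraticForm F V} {j e : ℕ} {r : ℕ}

local notation "ord" => orderOf (Fintype.card F : ZMod r)

theorem shape_type (h : Shape Q j e) (he : e = 0 ∨ e = 2) : OType.IsPlus Q ⊤ ↔ e = 0 := by
  constructor
  · rintro ⟨U, -, hU, hUd⟩
    have := ts_le j h U hU
    rw [finrank_top, h.dim] at hUd
    omega
  · rintro rfl
    obtain ⟨W, hWd, hW⟩ := exists_ts_dim h le_rfl
    exact ⟨W, le_top, hW, by rw [finrank_top, h.dim, hWd, add_zero]⟩

theorem odd_dim_two_ne (h : Shape Q j 1) : (2 : F) ≠ 0 := fun h2 => by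
  have h1 := TsSymp.even_dim (OUnits.alt_of_two h2 h.pnd)
  rw [h.dim, Nat.even_iff] at h1
  omega

theorem dim_ts_le {A : Submodule F V} (hQ : OCount.PND Q) (hA : QuadBasis.Nondeg Q A) {T : Submodule F V}
    (hTA : T ≤ A) (hT : IsTs Q T) : 2 * finrank F T ≤ finrank F A :=
  Free.two_mul_finrank_le' (OFree.refl_of_pnd hQ) (OFree.nondeg_iff.mp hA) hTA fun u hu v hv => by
    rw [polarBilin_apply_apply]; exact hT.polar_eq hu hv

/-- Totally singular subspaces of the complement of some units. -/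
theorem complement_witt (h : Shape Q j e) (he : e ≤ 2) {U A : Submodule F V} (hU : QuadBasis.Nondeg Q U)
    (hA : QuadBasis.Nondeg Q A) (hperp : ∀ x ∈ U, ∀ y ∈ A, polar Q x y = 0) (hsup : U ⊔ A = ⊤) (hr : r.Prime)
    (hr0 : (r : F) ≠ 0) {N : ℕ} (hUd : finrank F U = OFree.unit F r * N)
    (hdim : OFree.unit F r * N + finrank F A = 2 * j + e) (ht : OType.IsPlus Q U ↔ OUnits.uT F r N) :
    defect ord e N ≤ finrank F A ∧
      (∀ T ≤ A, IsTs Q T → 2 * finrank F T + defect ord e N ≤ finrank F A) ∧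
      ∀ a, 2 * a + defect ord e N ≤ finrank F A → ∃ T ≤ A, IsTs Q T ∧ finrank F T = a := by
  classical
  obtain ⟨-, -, hue⟩ := OFree.unit_pos (F := F) hr hr0
  obtain ⟨u, hu⟩ := hue
  have hU2 : finrank F U = 2 * (u * N) := by rw [hUd, hu]; ring
  rw [hUd] at hU2
  have hcase : (e = 1 ∧ defect ord e N = 1) ∨ (finrank F A % 2 = 0 ∧
      ((defect ord e N = 0 ∧ OType.IsPlus Q A) ∨ (defect ord e N = 2 ∧ ¬ OType.IsPlus Q A))) := by
    rcases (show e = 1 ∨ e = 0 ∨ e = 2 by omega) with h1 | h1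
    · refine Or.inl ⟨h1, ?_⟩
      unfold defect
      split_ifs <;> omega
    refine Or.inr ⟨by omega, ?_⟩
    have hT := OType.plus_sup_iff hU hA hperp (e := u * N) (e' := finrank F A / 2) (by omega) (by omega)
    rw [hsup, ht, shape_type h h1] at hT
    by_cases hN : OUnits.uT F r N
    · have hd : defect ord e N = e := if_pos hN
      rw [hd]
      simp only [hN, true_iff] at hT
      rcases h1 with rfl | rfl
      · exact Or.inl ⟨rfl, hT.mp rfl⟩
      · exact Or.inr ⟨rfl, fun hp => absurd (hT.mpr hp) (by omega)⟩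
    · have hd : defect ord e N = 2 - e := if_neg hN
      rw [hd]
      simp only [hN, false_iff] at hT
      rcases h1 with rfl | rfl
      · exact Or.inr ⟨rfl, hT.mp rfl⟩
      · refine Or.inl ⟨rfl, ?_⟩
        by_contra hp
        exact absurd (hT.mpr hp) (by omega)
  refine ⟨?_, fun T hT hTs => ?_, fun a ha => ?_⟩
  · rcases hcase with ⟨rfl, hd⟩ | ⟨he2, ⟨hd, -⟩ | ⟨hd, hp⟩⟩
    · omega
    · omega
    · rw [hd]
      by_contra hlt
      have h0 : finrank F A = 0 := by omega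
      exact hp (by rw [Submodule.finrank_eq_zero.mp h0]; exact OType.plus_bot)
  · have h2 := dim_ts_le h.pnd hA hT hTs
    rcases hcase with ⟨rfl, hd⟩ | ⟨he2, ⟨hd, -⟩ | ⟨hd, hp⟩⟩
    · omega
    · omega
    · have : 2 * finrank F T ≠ finrank F A := fun e' => hp ⟨T, hT, hTs, e'⟩
      omega
  · by_cases hlt : 2 * a + 1 ≤ finrank F A
    · obtain ⟨W, hW, -, hWd, U', hU', hU's, hU'd⟩ := OType.exists_plus_sub a hA hlt
      exact ⟨U', hU'.trans hW, hU's, by omega⟩
    · rcases hcase with ⟨rfl, hd⟩ | ⟨he2, ⟨hd, hp⟩ | ⟨hd, -⟩⟩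
      · omega
      · obtain ⟨T, hT, hTs, hTd⟩ := hp
        exact ⟨T, hT, hTs, by omega⟩
      · omega

/-- An invariant totally isotropic subspace without fixed vectors is totally singular. -/
theorem ts_of_free {g : Module.End F V} (hiso : ∀ v, Q (g v) = Q v) {U : Submodule F V} (hU : ∀ x ∈ U, g x ∈ U)
    (hfix : ∀ x ∈ U, g x = x → x = 0) (hts : ∀ x ∈ U, ∀ y ∈ U, polar Q x y = 0) : IsTs Q U := by
  intro v hv
  have hinj : Function.Injective ((g - 1).restrict fun x (hx : x ∈ U) => by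
      show g x - x ∈ U
      exact U.sub_mem (hU x hx) hx : U →ₗ[F] U) := (injective_iff_map_eq_zero _).mpr fun x hx =>
    Subtype.ext (hfix _ x.2 (sub_eq_zero.mp (congrArg Subtype.val hx)))
  obtain ⟨y, hy⟩ := LinearMap.injective_iff_surjective.mp hinj ⟨v, hv⟩
  have hvy : g y - y = v := congrArg Subtype.val hy
  have h1 := hts _ y.2 _ y.2
  rw [QuadBasis.p_self] at h1
  have h2 := hts _ (hU _ y.2) _ y.2
  rw [← hvy, sub_eq_add_neg, QuadBasis.q_add, QuadraticMap.map_neg, hiso, polar_neg_right, h2, neg_zero, add_zero,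
    ← two_mul, h1]

theorem slack_eq : Free.slack F r = if Even ord then (r - 1) / ord else 0 := rfl

/-- Sufficiency. -/
theorem exists_member (h : Shape Q j e) (he : e ≤ 2) (hr : r.Prime) (hr2 : r ≠ 2) (hr0 : (r : F) ≠ 0)
    {g : Module.End F V} (hgr : g ^ r = 1) (hiso : ∀ v, Q (g v) = Q v) {m : ℕ} (hm : m ≤ j)
    (hcrit : Crit ord (OFree.unit F r) ((r - 1) / ord) j e m) :
    ∃ W : Submodule F V, (finrank F W = m ∧ IsTs Q W) ∧ ∀ x ∈ W, g x ∈ W := by
  classical
  have hg := OFree.tame_of (Q := Q) hr0 hgr hiso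
  obtain ⟨hdim, ⟨N, hN⟩, hfixn, hmovn⟩ := OFree.parts_facts h.pnd hr hr2 hr0 hgr hiso
  rcases Nat.eq_zero_or_pos N with rfl | hN1
  · obtain ⟨W, hWd, hW⟩ := exists_ts_dim h hm
    rw [mul_zero, Submodule.finrank_eq_zero] at hN
    refine ⟨W, ⟨hWd, hW⟩, fun x hx => ?_⟩
    have h1 : g x - x ∈ Free.moved g := ⟨x, by simp⟩
    rw [hN, Submodule.mem_bot, sub_eq_zero] at h1
    rwa [h1]
  have ht := OUnits.units_type hr hr2 hr0 hgr hiso hmovn (fun x hx => Free.moved_invariant hx) le_rfl hN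
  rw [h.dim] at hdim
  obtain ⟨hd1, -, hd3⟩ := complement_witt h he hmovn hfixn (fun x hx y hy => by rw [polar_comm]; exact hg.perp hy hx)
    (by rw [sup_comm]; exact hg.isCompl.sup_eq_top) hr hr0 hN (by omega) ht
  obtain ⟨l, hl, hlm, hle⟩ := hcrit N hN1 (by omega)
  have hfree := hg.free_moved hr hr2
  have hipos := hfree.order_pos
  obtain ⟨U, hU, hUd, hUts⟩ := Free.exists_ts l (LinearMap.BilinForm.restrict (polarBilin Q) (Free.moved g)) _ hfree
    (Free.refl_restrict (OFree.refl_of_pnd h.pnd) (hg.moved_nondeg (OFree.refl_of_pnd h.pnd))) (by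
      rcases Nat.eq_zero_or_pos l with h0 | h0
      · exact Or.inl h0
      refine Or.inr ?_
      rw [slack_eq]
      unfold cap at hl
      rw [hN]
      unfold OFree.unit
      by_cases hev : Even ord
      · simp only [if_pos hev] at hl ⊢
        calc ord * ((r - 1) / ord + 2 * l) ≤ ord * (N + 1) := Nat.mul_le_mul_left _ (by omega)
          _ = ord * N + ord := by ring
      · simp only [if_neg hev] at hl ⊢
        calc ord * (0 + 2 * l) ≤ ord * (2 * N) := Nat.mul_le_mul_left _ (by omega)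
          _ ≤ 2 * ord * N + ord := by rw [mul_left_comm, mul_assoc]; exact Nat.le_add_right _ _)
  obtain ⟨T, hTf, hT, hTd⟩ := hd3 (m - ord * l) (by omega)
  have hUts' : IsTs Q (U.map (Free.moved g).subtype) := ts_of_free hiso
    (by rintro _ ⟨x, hx, rfl⟩; exact ⟨_, hU x hx, rfl⟩)
    (by rintro _ ⟨x, -, rfl⟩ hx; exact OFree.moved_fix hg x.2 hx)
    (by rintro _ ⟨x, hx, rfl⟩ _ ⟨y, hy, rfl⟩; exact hUts x hx y hy)
  refine ⟨T ⊔ U.map (Free.moved g).subtype, ⟨?_, ?_⟩, ?_⟩
  · have h0 : T ⊓ U.map (Free.moved g).subtype = ⊥ :=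
      le_bot_iff.mp ((inf_le_inf hTf (Submodule.map_subtype_le _ _)).trans hg.isCompl.inf_eq_bot.le)
    have := Submodule.finrank_sup_add_finrank_inf_eq T (U.map (Free.moved g).subtype)
    rw [h0, finrank_bot, Submodule.finrank_map_subtype_eq, hTd, hUd] at this
    omega
  · intro v hv
    obtain ⟨t, ht', u, hu, rfl⟩ := Submodule.mem_sup.mp hv
    rw [QuadBasis.q_add, hT t ht', hUts' u hu,
      show polar Q t u = 0 from hg.perp (hTf ht') (Submodule.map_subtype_le _ _ hu), add_zero, add_zero]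
  · intro x hx
    obtain ⟨t, ht', _, ⟨u, hu, rfl⟩, rfl⟩ := Submodule.mem_sup.mp hx
    rw [map_add, Free.mem_fixSpace.mp (hTf ht')]
    exact Submodule.add_mem_sup ht' ⟨_, hU u hu, rfl⟩

/-- A free model with few invariant totally singular subspaces. -/
theorem exists_model_bound (hr : r.Prime) (hr2 : r ≠ 2) (hr0 : (r : F) ≠ 0) (N : ℕ) :
    ∃ (M : Type u) (_ : AddCommGroup M) (_ : Module F M) (_ : FiniteDimensional F M) (QM : QuadraticForm F M)
      (g : Module.End F M), OCount.PND QM ∧ g ^ r = 1 ∧ (∀ v, QM (g v) = QM v) ∧ (∀ v, g v = v → v = 0) ∧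
        finrank F M = OFree.unit F r * N ∧
        ∀ U : Submodule F M, (∀ x ∈ U, g x ∈ U) → IsTs QM U → finrank F U ≤ ord * cap ord ((r - 1) / ord) N := by
  classical
  obtain ⟨M, _, _, _, B, g, hfree, halt, hM, hb⟩ : ∃ (M : Type u) (_ : AddCommGroup M) (_ : Module F M)
      (_ : FiniteDimensional F M) (B : LinearMap.BilinForm F M) (g : Module.End F M),
      Free.IsFree B g r ∧ SpCount.IsAltND B ∧ finrank F M = OFree.unit F r * N ∧
        ∀ U : Submodule F M, (∀ x ∈ U, g x ∈ U) → (∀ x ∈ U, ∀ y ∈ U, B x y = 0) →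
          finrank F U ≤ ord * cap ord ((r - 1) / ord) N := by
    unfold OFree.unit cap
    by_cases hev : Even ord
    · obtain ⟨M, i1, i2, i3, B, g, h1, h2', h3, h4⟩ := Free.exists_spread (F := F) hr hr2 hr0 hev N
      exact ⟨M, i1, i2, i3, B, g, h1, h2', by rw [h3, if_pos hev], fun U a b => by rw [if_pos hev]; exact h4 U a b⟩
    · obtain ⟨M, i1, i2, i3, B, g, h1, h2', h3⟩ := Free.exists_paired (F := F) hr hr2 hr0 N
      refine ⟨M, i1, i2, i3, B, g, h1, h2', by rw [h3, if_neg hev]; ring, fun U _ b => ?_⟩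
      have := Free.two_mul_finrank_le (TsSymp.refl_of_alt h2') b
      rw [h3] at this
      rw [if_neg hev]
      omega
  by_cases h2 : (2 : F) = 0
  · obtain ⟨Q₀, hQ₀⟩ := OUnits.exists_quad h2 B halt.self
    obtain ⟨QM, hQMp', hQMiso⟩ := CharTwoQuad.exists_average h2 Q₀ (hr.odd_of_ne_two hr2) hfree.pow_eq
      fun u v => by rw [hQ₀, hQ₀]; exact hfree.isometry u v
    refine ⟨M, ‹_›, ‹_›, ‹_›, QM, g, fun u hu => halt.nondeg u fun v => by rw [← hQ₀, ← hQMp']; exact hu v,
      hfree.pow_eq, hQMiso, hfree.fixfree, hM, fun U hU hts => hb U hU fun x hx y hy => ?_⟩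
    rw [← hQ₀, ← hQMp']
    exact hts.polar_eq hx hy
  obtain ⟨B', hB'⟩ : ∃ B' : LinearMap.BilinForm F M, B' = B.comp g LinearMap.id - B.comp LinearMap.id g := ⟨_, rfl⟩
  have hBa : ∀ u v, B' u v = B (g u) v - B u (g v) := fun u v => by rw [hB']; rfl
  have hB's : ∀ u v, B' v u = B' u v := fun u v => by
    rw [hBa, hBa, halt.swap (g u) v, halt.swap u (g v)]; ring
  obtain ⟨QM, hQM⟩ : ∃ QM : QuadraticForm F M, QM = LinearMap.BilinMap.toQuadraticMap B' := ⟨_, rfl⟩
  have hpol : ∀ u v, polar QM u v = 2 * B' u v := fun u v => by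
    simp only [polar, hQM, LinearMap.BilinMap.toQuadraticMap_apply, map_add, LinearMap.add_apply]
    rw [hB's u v]; ring
  have hQMiso : ∀ u, QM (g u) = QM u := fun u => by
    rw [hQM, LinearMap.BilinMap.toQuadraticMap_apply, LinearMap.BilinMap.toQuadraticMap_apply, hBa, hBa,
      hfree.isometry, hfree.isometry]
  refine ⟨M, ‹_›, ‹_›, ‹_›, QM, g, fun u hu => OFree.twist_facts hfree halt.nondeg u (hB' ▸ fun v => ?_),
    hfree.pow_eq, hQMiso, hfree.fixfree, hM, fun U hU hts => hb U hU fun x hx y hy => ?_⟩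
  · exact (mul_eq_zero.mp ((hpol u v).symm.trans (hu v))).resolve_left h2
  have hB0 : ∀ a ∈ U, ∀ b ∈ U, B (g a) b = B a (g b) := fun a ha b hb => by
    have := hts.polar_eq ha hb
    rw [hpol, hBa] at this
    exact sub_eq_zero.mp ((mul_eq_zero.mp this).resolve_left h2)
  have hsq : ∀ a ∈ U, ∀ b ∈ U, B (g (g a) - a) b = 0 := fun a ha b hb => by
    rw [map_sub, LinearMap.sub_apply, hB0 _ (hU a ha) b hb, hfree.isometry, sub_self]
  have hinj : Function.Injective ((g * g - 1).restrict fun a (ha : a ∈ U) => by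
      show g (g a) - a ∈ U
      exact U.sub_mem (hU _ (hU a ha)) ha : U →ₗ[F] U) := (injective_iff_map_eq_zero _).mpr fun a ha => by
    have h3 : g (g (a : M)) = a := sub_eq_zero.mp (congrArg Subtype.val ha)
    have h4 : ∀ k : ℕ, (g ^ (2 * k)) (a : M) = a := by
      intro k
      induction k with
      | zero => rfl
      | succ k ih => rw [Nat.mul_succ, pow_add, Module.End.mul_apply, pow_two, Module.End.mul_apply, h3, ih]
    obtain ⟨k, hk⟩ := hr.odd_of_ne_two hr2
    have h5 : (g ^ r) (a : M) = g a := by rw [hk, pow_succ', Module.End.mul_apply, h4]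
    rw [hfree.pow_eq, Module.End.one_apply] at h5
    exact Subtype.ext (hfree.fixfree _ h5.symm)
  obtain ⟨a, ha⟩ := LinearMap.injective_iff_surjective.mp hinj ⟨x, hx⟩
  rw [← show g (g (a : M)) - a = x from congrArg Subtype.val ha]
  exact hsq _ a.2 y hy

/-- The subspace to move. -/
theorem exists_support (h : Shape Q j e) (he : e ≤ 2) (hr : r.Prime) (hr0 : (r : F) ≠ 0) {N : ℕ} (hN : 1 ≤ N)
    (hfe : OFree.unit F r * N + defect ord e N ≤ 2 * j + e) :
    ∃ A : Submodule F V, QuadBasis.Nondeg Q A ∧ finrank F A = OFree.unit F r * N ∧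
      (OType.IsPlus Q A ↔ OUnits.uT F r N) := by
  obtain ⟨-, hupos, hue⟩ := OFree.unit_pos (F := F) hr hr0
  obtain ⟨u, hu⟩ := hue
  have hU2 : OFree.unit F r * N = 2 * (u * N) := by rw [hu]; ring
  have hpos := Nat.mul_pos hupos hN
  rcases (show OFree.unit F r * N + 2 ≤ 2 * j + e ∨ OFree.unit F r * N + 1 = 2 * j + e ∨
      OFree.unit F r * N = 2 * j + e by omega) with h2 | h1 | h0
  · obtain ⟨A, -, hA, hAd, hAt⟩ := OType.exists_sub h.pnd (OFree.top_nondeg h.pnd) (e := u * N) (by omega)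
      (by rw [finrank_top, h.dim]; omega) (OUnits.uT F r N)
    exact ⟨A, hA, by omega, hAt⟩
  · obtain rfl : e = 1 := by omega
    obtain ⟨T, -, hn, hd, hP⟩ := OType.exists_adjust (odd_dim_two_ne h) (U := ⊥) OType.nondeg_bot
      (OFree.top_nondeg h.pnd) (fun x hx y _ => by rw [(Submodule.mem_bot F).mp hx, polar_zero_left])
      (s := 2 * (u * N)) (e := u * N) (by omega) (by rw [finrank_top, h.dim]; omega)
      (by rw [finrank_bot, zero_add]) (OUnits.uT F r N)
    rw [bot_sup_eq] at hn hd hP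
    exact ⟨T, hn, by omega, hP⟩
  · refine ⟨⊤, OFree.top_nondeg h.pnd, by rw [finrank_top, h.dim, h0], ?_⟩
    by_cases hT : OUnits.uT F r N
    · rw [show defect ord e N = e from if_pos hT] at hfe
      rw [shape_type h (by omega)]
      exact iff_of_true (by omega) hT
    · rw [show defect ord e N = 2 - e from if_neg hT] at hfe
      rw [shape_type h (by omega)]
      exact iff_of_false (by omega) hT

/-- An element whose invariant totally singular subspaces are small. -/
theorem exists_witness (h : Shape Q j e) (he : e ≤ 2) (hr : r.Prime) (hr2 : r ≠ 2) (hr0 : (r : F) ≠ 0)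
    {N : ℕ} (hN : 1 ≤ N) (hfe : OFree.unit F r * N + defect ord e N ≤ 2 * j + e) :
    ∃ g : Module.End F V, g ^ r = 1 ∧ (∀ v, Q (g v) = Q v) ∧ g ≠ 1 ∧
      ∀ W : Submodule F V, IsTs Q W → (∀ x ∈ W, g x ∈ W) → ∃ l ≤ cap ord ((r - 1) / ord) N,
        ord * l ≤ finrank F W ∧
          2 * finrank F W + OFree.unit F r * N + defect ord e N ≤ 2 * (ord * l) + (2 * j + e) := by
  classical
  obtain ⟨A, hA, hAd, hAt⟩ := exists_support h he hr hr0 hN hfe
  obtain ⟨-, hupos, hue⟩ := OFree.unit_pos (F := F) hr hr0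
  obtain ⟨u, hu⟩ := hue
  obtain ⟨M, _, _, _, QM, g₀, hQM, hgr₀, hgi₀, hfix₀, hM, hb⟩ := exists_model_bound (F := F) hr hr2 hr0 N
  have hpos : 0 < OFree.unit F r * N := Nat.mul_pos hupos hN
  have hM2 : finrank F M = 2 * (u * N) := by rw [hM, hu]; ring
  have hA2 : finrank F A = 2 * (u * N) := by rw [hAd, hu]; ring
  have htM : OType.IsPlus QM ⊤ ↔ OUnits.uT F r N := OUnits.units_type hr hr2 hr0 hgr₀ hgi₀ (OFree.top_nondeg hQM)
    (fun _ _ => trivial) (fun x _ => by
      obtain ⟨y, hy⟩ := (LinearMap.injective_iff_surjective (f := g₀ - 1)).mp ((injective_iff_map_eq_zero _).mpr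
        fun v hv => hfix₀ v (sub_eq_zero.mp hv)) x
      exact ⟨y, hy⟩) (by rw [finrank_top, hM])
  obtain ⟨a, c, hac⟩ := QuadModels.exists_aniso (F := F)
  obtain ⟨φ, hφ⟩ : ∃ φ : M ≃ₗ[F] A, ∀ v, Q (φ v : V) = QM v := by
    rcases OType.model (OFree.top_nondeg hQM) (e := u * N) (by omega) (by rw [finrank_top, hM2]) a c hac with
        ⟨p₁, L₁, hL₁⟩ | ⟨p₁, L₁, hL₁⟩ <;>
      rcases OType.model hA (e := u * N) (by omega) hA2 a c hac with ⟨p₂, L₂, hL₂⟩ | ⟨p₂, L₂, hL₂⟩
    · exact ⟨Submodule.topEquiv.symm.trans (L₁.symm.trans L₂), fun v => by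
        simp only [LinearEquiv.trans_apply]
        rw [hL₂, ← hL₁, L₁.apply_symm_apply]; rfl⟩
    · exact absurd (hAt.mpr (htM.mp p₁)) p₂
    · exact absurd (htM.mpr (hAt.mp p₂)) p₁
    · exact ⟨Submodule.topEquiv.symm.trans (L₁.symm.trans L₂), fun v => by
        simp only [LinearEquiv.trans_apply]
        rw [hL₂, ← hL₁, L₁.apply_symm_apply]; rfl⟩
  obtain ⟨C, -, hCn, hperp, hsup, hdim, -⟩ := OType.compl_in h.pnd hA (OFree.top_nondeg h.pnd) le_top
  have hC : IsCompl A C := ⟨(OType.sup_facts hA hCn hperp).2.1, codisjoint_iff.mpr hsup⟩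
  obtain ⟨g, hg⟩ : ∃ g : Module.End F V, ∀ (x : M) (b : C), g ((φ x : V) + b) = (φ (g₀ x) : V) + b :=
    ⟨LinearMap.ofIsCompl hC (A.subtype ∘ₗ φ.toLinearMap ∘ₗ g₀ ∘ₗ φ.symm.toLinearMap) C.subtype, fun a b => by simp⟩
  have hall : ∀ v, ∃ (x : M) (b : C), (φ x : V) + b = v := fun v => by
    obtain ⟨a', ha, b, hb, h⟩ := Submodule.mem_sup.mp (show v ∈ A ⊔ C by rw [hsup]; trivial)
    exact ⟨φ.symm ⟨a', ha⟩, ⟨b, hb⟩, by rw [φ.apply_symm_apply]; exact h⟩
  have hgA : ∀ x, g (φ x : V) = (φ (g₀ x) : V) := fun x => by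
    have := hg x 0
    simpa using this
  have hpow : ∀ (k : ℕ) (x : M) (b : C), (g ^ k) ((φ x : V) + b) = (φ ((g₀ ^ k) x) : V) + b := by
    intro k
    induction k with
    | zero => intro x b; rfl
    | succ k ih => intro x b; rw [pow_succ, Module.End.mul_apply, hg, ih, pow_succ, Module.End.mul_apply]
  have hgr : g ^ r = 1 := LinearMap.ext fun v => by
    obtain ⟨x, b, rfl⟩ := hall v
    rw [hpow, hgr₀]; rfl
  have hgi : ∀ v, Q (g v) = Q v := fun v => by
    obtain ⟨x, b, rfl⟩ := hall v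
    rw [hg, QuadBasis.q_add, QuadBasis.q_add, hperp _ (φ (g₀ x)).2 _ b.2, hperp _ (φ x).2 _ b.2, hφ, hφ, hgi₀]
  have hmov : Free.moved g = A := by
    refine le_antisymm ?_ fun a' ha => ?_
    · rintro _ ⟨v, rfl⟩
      obtain ⟨x, b, rfl⟩ := hall v
      rw [LinearMap.sub_apply, Module.End.one_apply, hg, add_sub_add_right_eq_sub]
      exact A.sub_mem (φ _).2 (φ _).2
    · obtain ⟨x, hx⟩ := φ.surjective ⟨a', ha⟩
      obtain ⟨y, hy⟩ := (LinearMap.injective_iff_surjective (f := g₀ - 1)).mp ((injective_iff_map_eq_zero _).mpr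
        fun v hv => hfix₀ v (sub_eq_zero.mp hv)) x
      refine ⟨(φ y : V), ?_⟩
      rw [LinearMap.sub_apply, Module.End.one_apply, hgA, ← Submodule.coe_sub, ← map_sub,
        show g₀ y - y = x from hy, hx]
  refine ⟨g, hgr, hgi, fun h1 => ?_, fun W hW hWg => ?_⟩
  · have h0 : Free.moved g = ⊥ := by simp [Free.moved, h1]
    rw [← hmov, h0, finrank_bot] at hAd
    omega
  have hgt := OFree.tame_of (Q := Q) hr0 hgr hgi
  obtain ⟨hdim', -, hfixn, hmovn⟩ := OFree.parts_facts h.pnd hr hr2 hr0 hgr hgi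
  rw [hmov, hAd, h.dim] at hdim'
  obtain ⟨-, hd2, -⟩ := complement_witt h he hA hfixn
    (fun x hx y hy => by rw [polar_comm]; exact hgt.perp hy (hmov ▸ hx))
    (by rw [← hmov, sup_comm]; exact hgt.isCompl.sup_eq_top) hr hr0 hAd (by omega) hAt
  have hsplit := hgt.finrank_split hWg
  have hfixb := hd2 (W ⊓ Free.fixSpace g) inf_le_right fun v hv => hW v hv.1
  obtain ⟨U, hUdef⟩ : ∃ U : Submodule F M, U = (W.comap A.subtype).comap φ.toLinearMap := ⟨_, rfl⟩
  have hUd : finrank F U = finrank F ↥(W ⊓ Free.moved g) := by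
    rw [hUdef, Submodule.comap_equiv_eq_map_symm, LinearEquiv.finrank_map_eq, hmov, inf_comm,
      ← Submodule.map_comap_subtype, Submodule.finrank_map_subtype_eq]
  have hUb := hb U (fun x hx => by
      rw [hUdef] at hx ⊢
      show (φ (g₀ x) : V) ∈ W
      rw [← hgA]; exact hWg _ hx)
    (fun x hx => by rw [hUdef] at hx; rw [← hφ]; exact hW _ hx)
  obtain ⟨l, hl⟩ := ((hgt.free_moved hr hr2).exists_irred (U := (W ⊓ Free.moved g).comap (Free.moved g).subtype)
    fun x hx => ⟨hWg _ hx.1, Free.moved_invariant x.2⟩).1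
  have hl' : finrank F ↥(W ⊓ Free.moved g) = ord * l := by
    rw [← hl, ← Submodule.finrank_map_subtype_eq, Submodule.map_comap_subtype, inf_eq_right.mpr (inf_le_right : W ⊓ Free.moved g ≤ Free.moved g)]
  refine ⟨l, ?_, by omega, by omega⟩
  rw [hUd, hl'] at hUb
  exact Nat.le_of_mul_le_mul_left hUb (hgt.free_moved hr hr2).order_pos

end Cfsg.Agent.Classical.Elusive.OTs
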