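import Cfsg.Agent.Lib.Classical.Elusive.OrthTsFree
import Cfsg.Agent.Lib.Classical.Elusive.OrthEvenTwo
import Cfsg.Agent.Lib.Small.Orth.SemisimpleTorus
import Cfsg.Agent.Lib.Small.Orth.Words

/-!
# Invariant totally singular subspaces of elements of order two, odd characteristic
-/

set_option autoImplicit false
set_option linter.unusedSectionVars false

universe u

namespace Cfsg.Agent.Classical.Elusive.OTs

open Module QuadraticMap
open Cfsg.Agent.Small

variable {F : Type u} [Field F] [Fintype F] {V : Type u} [AddCommGroup V] [Module F V] [FiniteDimensional F V]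
  {Q : QuadraticForm F V} {j e : ℕ}

theorem plus_comp {A : Submodule F V} : OType.IsPlus (Q.comp A.subtype) ⊤ ↔ OType.IsPlus Q A := by
  constructor
  · rintro ⟨U, -, hU, hUd⟩
    refine ⟨U.map A.subtype, Submodule.map_subtype_le _ _, ?_, ?_⟩
    · rintro _ ⟨u, hu, rfl⟩
      exact hU u hu
    · rw [Submodule.finrank_map_subtype_eq, hUd, finrank_top]
  · rintro ⟨U, hUA, hU, hUd⟩
    refine ⟨U.comap A.subtype, le_top, fun u hu => hU _ hu, ?_⟩
    rw [(Submodule.comapSubtypeEquivOfLe hUA).finrank_eq, hUd, finrank_top]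

theorem exists_sub_dim {T : Submodule F V} {a : ℕ} (ha : a ≤ finrank F T) :
    ∃ T' ≤ T, finrank F T' = a := by
  obtain ⟨f, hf⟩ := exists_linearIndependent_of_le_finrank ha
  refine ⟨Submodule.span F (Set.range fun i => (f i : V)), ?_, ?_⟩
  · rw [Submodule.span_le]; rintro _ ⟨i, rfl⟩; exact (f i).2
  · show finrank F (Submodule.span F (Set.range (T.subtype ∘ f))) = a
    rw [finrank_span_eq_card (hf.map' T.subtype (Submodule.ker_subtype _)), Fintype.card_fin]

/-- Totally singular subspaces adapted to an orthogonal splitting. -/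
theorem exists_split_ts (h : Shape Q j e) (he : e ≤ 2) {U A : Submodule F V} (hU : QuadBasis.Nondeg Q U)
    (hA : QuadBasis.Nondeg Q A) (hperp : ∀ x ∈ U, ∀ y ∈ A, polar Q x y = 0) (hsup : U ⊔ A = ⊤) {k : ℕ}
    (hUd : finrank F U = 2 * k) (hdim : 2 * k + finrank F A = 2 * j + e) {m : ℕ} (hm : m ≤ j)
    (hmu : ¬ OType.IsPlus Q U → m + (2 - e) ≤ j) :
    ∃ T₁ T₂ : Submodule F V, T₁ ≤ U ∧ T₂ ≤ A ∧ finrank F ↥(T₁ ⊔ T₂) = m ∧ IsTs Q (T₁ ⊔ T₂) := by
  classical
  have hwU : ∃ T ≤ U, IsTs Q T ∧ finrank F T + (if OType.IsPlus Q U then 0 else 1) = k := by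
    split_ifs with hp
    · obtain ⟨T, hT, hTs, hTd⟩ := hp
      exact ⟨T, hT, hTs, by omega⟩
    · have hk : 1 ≤ k := Nat.pos_of_ne_zero fun h0 => hp (by
        rw [Submodule.finrank_eq_zero.mp (by omega : finrank F U = 0)]; exact OType.plus_bot)
      obtain ⟨W, hW, -, hWd, T, hT, hTs, hTd⟩ := OType.exists_plus_sub (k - 1) hU (by omega)
      exact ⟨T, hT.trans hW, hTs, by omega⟩
  have hwA : ∃ T ≤ A, IsTs Q T ∧ 2 * finrank F T + (if OType.IsPlus Q U then e else 2 - e) = finrank F A := by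
    by_cases h1 : e = 1
    · subst h1
      obtain ⟨W, hW, -, hWd, T, hT, hTs, hTd⟩ := OType.exists_plus_sub ((finrank F A - 1) / 2) hA (by omega)
      exact ⟨T, hT.trans hW, hTs, by split_ifs <;> omega⟩
    have hT := OType.plus_sup_iff hU hA hperp hUd (e' := finrank F A / 2) (by omega)
    rw [hsup, shape_type h (by omega)] at hT
    by_cases hp : OType.IsPlus Q A
    · obtain ⟨T, hT', hTs, hTd⟩ := hp
      refine ⟨T, hT', hTs, ?_⟩
      by_cases hu : OType.IsPlus Q U
      · rw [if_pos hu, hT.mpr (iff_of_true hu ⟨T, hT', hTs, hTd⟩)]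
        omega
      · rw [if_neg hu]
        have : e ≠ 0 := fun h0 => hu ((hT.mp h0).mpr ⟨T, hT', hTs, hTd⟩)
        omega
    · have hA0 : finrank F A ≠ 0 := fun h0 => hp (by rw [Submodule.finrank_eq_zero.mp h0]; exact OType.plus_bot)
      obtain ⟨W, hW, -, hWd, T, hT', hTs, hTd⟩ := OType.exists_plus_sub ((finrank F A - 1) / 2) hA (by omega)
      refine ⟨T, hT'.trans hW, hTs, ?_⟩
      by_cases hu : OType.IsPlus Q U
      · rw [if_pos hu]
        have : e ≠ 0 := fun h0 => hp ((hT.mp h0).mp hu)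
        omega
      · rw [if_neg hu, hT.mpr (iff_of_false hu hp)]
        omega
  obtain ⟨S₁, hS₁, hS₁s, hS₁d⟩ := hwU
  obtain ⟨S₂, hS₂, hS₂s, hS₂d⟩ := hwA
  have htot : m ≤ finrank F S₁ + finrank F S₂ := by
    by_cases hu : OType.IsPlus Q U
    · rw [if_pos hu] at hS₁d hS₂d
      omega
    · rw [if_neg hu] at hS₁d hS₂d
      have := hmu hu
      omega
  obtain ⟨T₁, hT₁, hT₁d⟩ := exists_sub_dim (T := S₁) (a := min m (finrank F S₁)) (min_le_right _ _)
  obtain ⟨T₂, hT₂, hT₂d⟩ := exists_sub_dim (T := S₂) (a := m - min m (finrank F S₁)) (by omega)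
  refine ⟨T₁, T₂, hT₁.trans hS₁, hT₂.trans hS₂, ?_, ?_⟩
  · have hd : T₁ ⊓ T₂ = ⊥ := le_bot_iff.mp fun x hx => by
      refine (Submodule.mem_bot F).mpr (hU x (hS₁ (hT₁ hx.1)) fun y hy => ?_)
      rw [polar_comm]
      exact hperp y hy x (hS₂ (hT₂ hx.2))
    have := Submodule.finrank_sup_add_finrank_inf_eq T₁ T₂
    rw [hd, finrank_bot, hT₁d, hT₂d] at this
    omega
  · intro v hv
    obtain ⟨a, ha, b, hb, rfl⟩ := Submodule.mem_sup.mp hv
    rw [QuadBasis.q_add, hS₁s a (hT₁ ha), hS₂s b (hT₂ hb), hperp a (hS₁ (hT₁ ha)) b (hS₂ (hT₂ hb)), add_zero,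
      add_zero]

/-- The negated space of an involution in the derived group. -/
theorem invol_parts (h2 : (2 : F) ≠ 0) (hQ : OCount.PND Q) (G : ↥(ORefl.Iso Q))
    (hG : G ∈ commutator ↥(ORefl.Iso Q)) (hgg : ∀ v, G.1 (G.1 v) = v) :
    ∃ (U A : Submodule F V) (k : ℕ), QuadBasis.Nondeg Q U ∧ QuadBasis.Nondeg Q A ∧
      (∀ x ∈ U, ∀ y ∈ A, polar Q x y = 0) ∧ U ⊔ A = ⊤ ∧ finrank F U = 2 * k ∧
      2 * k + finrank F A = finrank F V ∧ (OType.IsPlus Q U ↔ IsSquare ((-1 : F) ^ k)) ∧
      (∀ x ∈ U, G.1 x = -x) ∧ ∀ x ∈ A, G.1 x = x := by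
  classical
  have hiso : ∀ v, Q (G.1 v) = Q v := G.2
  obtain ⟨U, hUdef⟩ : ∃ U : Submodule F V, U = LinearMap.ker ((G.1 : V →ₗ[F] V) + 1) := ⟨_, rfl⟩
  obtain ⟨A, hAdef⟩ : ∃ A : Submodule F V, A = LinearMap.ker ((G.1 : V →ₗ[F] V) - 1) := ⟨_, rfl⟩
  have hUm : ∀ x, x ∈ U ↔ G.1 x = -x := fun x => by simp [hUdef, eq_neg_iff_add_eq_zero]
  have hAm : ∀ x, x ∈ A ↔ G.1 x = x := fun x => by simp [hAdef, sub_eq_zero]
  have hperp : ∀ x ∈ U, ∀ y ∈ A, polar Q x y = 0 := fun x hx y hy => by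
    have h : polar Q (G.1 x) (G.1 y) = polar Q x y := by simp only [polar, ← map_add, hiso]
    rw [(hUm x).mp hx, (hAm y).mp hy, polar_neg_left] at h
    exact (mul_eq_zero.mp (show (2 : F) * polar Q x y = 0 by linear_combination -h)).resolve_left h2
  have hsplit : ∀ v, ∃ a ∈ U, ∃ b ∈ A, a + b = v := fun v => by
    refine ⟨(2 : F)⁻¹ • (v - G.1 v), (hUm _).mpr ?_, (2 : F)⁻¹ • (v + G.1 v), (hAm _).mpr ?_, ?_⟩
    · rw [map_smul, map_sub, hgg, ← smul_neg, neg_sub]
    · rw [map_smul, map_add, hgg, add_comm]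
    · rw [← smul_add, sub_add_add_cancel, ← two_smul F v, smul_smul, inv_mul_cancel₀ h2, one_smul]
  have hsup : U ⊔ A = ⊤ := eq_top_iff.mpr fun v _ => by
    obtain ⟨a, ha, b, hb, rfl⟩ := hsplit v
    exact Submodule.add_mem_sup ha hb
  have hUn : QuadBasis.Nondeg Q U := fun x hx h => hQ x fun v => by
    obtain ⟨a, ha, b, hb, rfl⟩ := hsplit v
    rw [polar_add_right, h a ha, hperp x hx b hb, add_zero]
  have hAn : QuadBasis.Nondeg Q A := fun x hx h => hQ x fun v => by
    obtain ⟨a, ha, b, hb, rfl⟩ := hsplit v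
    rw [polar_add_right, h b hb, polar_comm, hperp a ha x hx, add_zero]
  have hdisj : U ⊓ A = ⊥ := le_bot_iff.mp fun x hx => (Submodule.mem_bot F).mpr (hUn x hx.1 fun y hy => by
    rw [polar_comm]; exact hperp y hy x hx.2)
  have hdim := Submodule.finrank_sup_add_finrank_inf_eq U A
  rw [hsup, hdisj, finrank_top, finrank_bot, add_zero] at hdim
  obtain ⟨b, hb, hbo⟩ := Small.Orth.exists_orth_basis (Q' := Q) h2 U hUn
  obtain ⟨vs, hvs⟩ : ∃ vs : List V, vs = List.ofFn fun i => (b i : V) := ⟨_, rfl⟩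
  have hne : ∀ v ∈ vs, Q v ≠ 0 := fun v hv => by
    rw [hvs, List.mem_ofFn] at hv
    obtain ⟨i, rfl⟩ := hv
    exact hb i
  have hpw : vs.Pairwise fun u v => polar Q u v = 0 := by
    rw [hvs, List.pairwise_ofFn]
    exact fun i i' hii => hbo i i' hii.ne
  obtain ⟨h1, h1'⟩ := Small.Orth.prodRf_orth vs hne hpw
  have hGeq : Small.Orth.prodRf Q vs = G := by
    refine Subtype.ext (LinearEquiv.toLinearMap_injective (LinearMap.ext fun v => ?_))
    obtain ⟨a, ha, c, hc, rfl⟩ := hsplit v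
    rw [map_add, map_add]
    have e1 : (Small.Orth.prodRf Q vs).1 a = G.1 a := by
      have key : (((Small.Orth.prodRf Q vs).1 : V →ₗ[F] V).comp U.subtype) = ((G.1 : V →ₗ[F] V).comp U.subtype) :=
        b.ext fun i => by
          show (Small.Orth.prodRf Q vs).1 (b i : V) = G.1 (b i : V)
          rw [h1 _ (hvs ▸ List.mem_ofFn.mpr ⟨i, rfl⟩), (hUm _).mp (b i).2]
      exact LinearMap.congr_fun key ⟨a, ha⟩
    have e2 : (Small.Orth.prodRf Q vs).1 c = G.1 c := by
      rw [(hAm c).mp hc, h1' c fun v hv => ?_]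
      rw [hvs, List.mem_ofFn] at hv
      obtain ⟨i, rfl⟩ := hv
      exact hperp _ (b i).2 c hc
    exact congrArg₂ (· + ·) e1 e2
  rw [← hGeq, Small.Orth.mem_commutator_iff hQ vs hne, hvs, List.length_ofFn] at hG
  obtain ⟨⟨k, hk⟩, hsq⟩ := hG
  rw [List.map_ofFn, List.prod_ofFn] at hsq
  refine ⟨U, A, k, hUn, hAn, hperp, hsup, by omega, by omega, ?_, fun x hx => (hUm x).mp hx,
    fun x hx => (hAm x).mp hx⟩
  rcases Nat.eq_zero_or_pos k with hk0 | hk1
  · subst hk0
    rw [Submodule.finrank_eq_zero.mp (show finrank F U = 0 by omega), pow_zero]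
    exact iff_of_true OType.plus_bot IsSquare.one
  obtain ⟨τ⟩ : Nonempty (Fin k × Fin 2 ≃ Fin (finrank F U)) := ⟨Fintype.equivOfCardEq (by simp; omega)⟩
  have hgd : OType.gdet (Q.comp U.subtype) (fun a => b (τ a)) = ∏ i, (2 * Q (b i : V)) := by
    have h' : (Matrix.of fun a a' => polar (Q.comp U.subtype) (b (τ a)) (b (τ a'))) =
        Matrix.diagonal fun a => 2 * Q (b (τ a) : V) := by
      ext a a'
      rw [Matrix.of_apply, OType.polar_comp]
      rcases eq_or_ne a a' with rfl | hne'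
      · rw [Matrix.diagonal_apply_eq]; exact QuadBasis.p_self Q _
      · rw [Matrix.diagonal_apply_ne _ hne']; exact hbo _ _ (τ.injective.ne hne')
    rw [OType.gdet, h', Matrix.det_diagonal]
    exact Fintype.prod_equiv τ _ _ fun a => rfl
  have hprod0 : (∏ i, (2 * Q (b i : V))) ≠ 0 := Finset.prod_ne_zero_iff.mpr fun i _ => mul_ne_zero h2 (hb i)
  have hsq2 : IsSquare (∏ i, (2 * Q (b i : V))) := by
    rw [Finset.prod_mul_distrib, Finset.prod_const, Finset.card_univ, Fintype.card_fin]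
    exact IsSquare.mul ⟨2 ^ k, by rw [← pow_add]; exact congrArg _ hk⟩ hsq
  rw [← plus_comp, OTwo.plus_iff_disc h2 (QuadModels.pnd_res Q hUn) hk1 (by omega) (fun a => b (τ a))
    (hgd ▸ hprod0), hgd, Small.Orth.isSquare_mul_iff hsq2 hprod0]

/-- A square root of minus one keeps totally singular subspaces of even dimension. -/
theorem exists_ts_rot (h2 : (2 : F) ≠ 0) (hns : ¬ IsSquare (-1 : F)) (hQ : OCount.PND Q) {g : Module.End F V}
    (hgg : ∀ x, g (g x) = -x) (hiso : ∀ v, Q (g v) = Q v) :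
    ∀ l, (l = 0 ∨ 4 * l ≤ finrank F V) →
      ∃ U : Submodule F V, (∀ x ∈ U, g x ∈ U) ∧ finrank F U = 2 * l ∧ IsTs Q U := by
  classical
  intro l
  induction l with
  | zero =>
    exact fun _ => ⟨⊥, fun x hx => by rw [(Submodule.mem_bot F).mp hx, map_zero]; exact zero_mem _, by simp,
      fun x hx => by rw [(Submodule.mem_bot F).mp hx, QuadraticMap.map_zero]⟩
  | succ l ih =>
    intro hl
    obtain ⟨U, hU, hd, hts⟩ := ih (by omega)
    have hB := OFree.refl_of_pnd hQ
    have hpol : ∀ u v, polar Q (g u) (g v) = polar Q u v := fun u v => by simp only [polar, ← map_add, hiso]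
    have hperp : ∀ x ∈ LinearMap.BilinForm.orthogonal (polarBilin Q) U,
        g x ∈ LinearMap.BilinForm.orthogonal (polarBilin Q) U := fun x hx y hy => by
      show polarBilin Q y (g x) = 0
      rw [polarBilin_apply_apply, show y = g (-g y) by rw [map_neg, hgg, neg_neg], hpol, polar_neg_left,
        show polar Q (g y) x = 0 from hx _ (hU y hy), neg_zero]
    have hUle : U ≤ LinearMap.BilinForm.orthogonal (polarBilin Q) U := fun x hx y hy => by
      show polarBilin Q y x = 0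
      rw [polarBilin_apply_apply]; exact hts.polar_eq hy hx
    have hss : g.IsSemisimple := by
      refine Elusive.isSemisimple_of_pow (r := 2) (c := -1) (by exact_mod_cast h2) (neg_ne_zero.mpr one_ne_zero) ?_
      exact LinearMap.ext fun x => by simp [pow_two, hgg]
    obtain ⟨Z, hZ, hc⟩ := Module.End.isSemisimple_iff.1 hss U (fun x hx => hU x hx)
    set C := Z ⊓ LinearMap.BilinForm.orthogonal (polarBilin Q) U with hC
    have hsup : U ⊔ C = LinearMap.BilinForm.orthogonal (polarBilin Q) U :=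
      le_antisymm (sup_le hUle inf_le_right) fun x hx => by
        obtain ⟨u, hu, c, hcc, rfl⟩ := Submodule.mem_sup.mp (hc.sup_eq_top.symm ▸ Submodule.mem_top : x ∈ U ⊔ Z)
        exact Submodule.add_mem_sup hu ⟨hcc, by simpa using Submodule.sub_mem _ hx (hUle hu)⟩
    have hinf : U ⊓ C = ⊥ := eq_bot_iff.mpr fun x hx => hc.disjoint.le_bot ⟨hx.1, hx.2.1⟩
    have hCd : 3 ≤ finrank F C := by
      have h1 := Submodule.finrank_sup_add_finrank_inf_eq U C
      rw [hsup, hinf, finrank_bot, LinearMap.BilinForm.finrank_orthogonal hB.nondegenerate, hd] at h1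
      omega
    obtain ⟨v, hv, hv0, hQv⟩ := QuadBasis.exists_singular Q hCd
    have hq : polar Q v (g v) = 0 := by
      have h := hpol v (g v)
      rw [hgg, polar_neg_right, polar_comm] at h
      exact (mul_eq_zero.mp (show (2 : F) * polar Q v (g v) = 0 by linear_combination -h)).resolve_left h2
    have hgv : g v ∈ C := ⟨hZ hv.1, hperp _ hv.2⟩
    have hli : LinearIndependent F ![v, g v] := by
      rw [LinearIndependent.pair_iff]
      intro a b hab
      by_cases hb : b = 0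
      · subst hb
        rw [zero_smul, add_zero, smul_eq_zero] at hab
        exact ⟨hab.resolve_right hv0, rfl⟩
      · exfalso
        have e : g v = (-(a / b)) • v := by
          have h1 : b • g v = -(a • v) := eq_neg_of_add_eq_zero_right hab
          rw [div_eq_inv_mul, neg_smul, mul_smul, ← smul_neg, ← h1, smul_smul, inv_mul_cancel₀ hb, one_smul]
        have e2 := hgg v
        rw [e, map_smul, e, smul_smul] at e2
        refine hns ⟨-(a / b), ?_⟩
        have e3 : ((-(a / b)) * (-(a / b)) + 1) • v = 0 := by rw [add_smul, one_smul, e2, neg_add_cancel]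
        linear_combination -((smul_eq_zero.mp e3).resolve_right hv0)
    set P := Submodule.span F (Set.range ![v, g v]) with hP
    have hPC : P ≤ C := Submodule.span_le.mpr (by rintro _ ⟨i, rfl⟩; fin_cases i; exacts [hv, hgv])
    have hPm : ∀ y, y ∈ P ↔ ∃ a b : F, a • v + b • g v = y := fun y => by
      rw [hP, Matrix.range_cons, Matrix.range_cons, Matrix.range_empty, Set.union_empty, ← Set.insert_eq,
        Submodule.mem_span_pair]
    refine ⟨U ⊔ P, ?_, ?_, ?_⟩
    · intro x hx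
      obtain ⟨u, hu, y, hy, rfl⟩ := Submodule.mem_sup.mp hx
      obtain ⟨a, b, rfl⟩ := (hPm y).mp hy
      rw [map_add]
      refine Submodule.add_mem_sup (hU u hu) ((hPm _).mpr ⟨-b, a, ?_⟩)
      rw [map_add, map_smul, map_smul, hgg, smul_neg, neg_smul]
      abel
    · have h1 := Submodule.finrank_sup_add_finrank_inf_eq U P
      have h0 : U ⊓ P = ⊥ := le_bot_iff.mp ((inf_le_inf_left U hPC).trans hinf.le)
      rw [h0, finrank_bot, finrank_span_eq_card hli, Fintype.card_fin, hd] at h1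
      omega
    · intro x hx
      obtain ⟨u, hu, y, hy, rfl⟩ := Submodule.mem_sup.mp hx
      have huy : polar Q u y = 0 := (hPC hy).2 u hu
      obtain ⟨a, b, rfl⟩ := (hPm y).mp hy
      rw [QuadBasis.q_add, huy, hts u hu, QuadBasis.q_add, QuadBasis.q_smul, QuadBasis.q_smul, hiso, hQv,
        QuadBasis.p_smul_left, QuadBasis.p_smul_right, hq]
      ring

/-- An eigenspace of a square root of minus one. -/
theorem exists_ts_eigen (h2 : (2 : F) ≠ 0) (hQ : OCount.PND Q) {g : Module.End F V}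
    (hgg : ∀ x, g (g x) = -x) (hiso : ∀ v, Q (g v) = Q v) {c : F} (hc : c * c = -1) {m : ℕ}
    (hm : 2 * m ≤ finrank F V) :
    ∃ U : Submodule F V, (∀ x ∈ U, g x ∈ U) ∧ finrank F U = m ∧ IsTs Q U := by
  classical
  let E : F → Submodule F V := fun a => LinearMap.ker (g - a • 1)
  have hE : ∀ a u, u ∈ E a ↔ g u = a • u := fun a u => by simp [E, sub_eq_zero]
  have hts : ∀ a, a * a = -1 → IsTs Q (E a) := fun a ha u hu => by
    have h := hiso u
    rw [(hE a u).mp hu, QuadBasis.q_smul, ha] at h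
    exact (mul_eq_zero.mp (show (2 : F) * Q u = 0 by linear_combination -h)).resolve_left h2
  have hc0 : c ≠ 0 := fun h => by rw [h, mul_zero] at hc; exact one_ne_zero (neg_eq_zero.mp hc.symm)
  have htop : (⊤ : Submodule F V) ≤ E c ⊔ E (-c) := fun u _ => by
    have h2c : (2 : F) * c ≠ 0 := mul_ne_zero h2 hc0
    have e : u = ((2 * c)⁻¹ • (c • u + g u)) + (2 * c)⁻¹ • (c • u - g u) := by
      rw [← smul_add, add_add_sub_cancel, ← two_smul F (c • u), smul_smul, smul_smul, mul_assoc,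
        inv_mul_cancel₀ h2c, one_smul]
    rw [e]
    refine Submodule.add_mem_sup (Submodule.smul_mem _ _ ((hE _ _).mpr ?_))
      (Submodule.smul_mem _ _ ((hE _ _).mpr ?_))
    · rw [map_add, map_smul, hgg, smul_add, smul_smul, hc, neg_one_smul]; abel
    · rw [map_sub, map_smul, hgg, smul_sub, smul_smul, neg_mul, hc, neg_neg, one_smul, neg_smul]; abel
  have h1 := Submodule.finrank_mono htop
  rw [finrank_top] at h1
  have h3 := Submodule.finrank_add_le_finrank_add_finrank (E c) (E (-c))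
  have hb : ∀ a, a * a = -1 → 2 * finrank F (E a) ≤ finrank F V := fun a ha => by
    have := dim_ts_le hQ (OFree.top_nondeg hQ) le_top (hts a ha)
    rwa [finrank_top] at this
  have h4 := hb c hc
  have h5 := hb (-c) (by rw [neg_mul_neg, hc])
  obtain ⟨U, hUle, hUd⟩ := exists_sub_dim (T := E c) (a := m) (by omega)
  refine ⟨U, fun x hx => ?_, hUd, fun x hx => hts c hc x (hUle hx)⟩
  rw [(hE c x).mp (hUle hx)]
  exact U.smul_mem c hx

/-- A negated anisotropic plane. -/
theorem exists_neg_plane (h2 : (2 : F) ≠ 0) (hns : ¬ IsSquare (-1 : F)) (hQ : OCount.PND Q)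
    (hn : 3 ≤ finrank F V) :
    ∃ G : ↥(ORefl.Iso Q), G ∈ commutator ↥(ORefl.Iso Q) ∧ (∀ v, G.1 (G.1 v) = v) ∧
      ∃ U : Submodule F V, QuadBasis.Nondeg Q U ∧ finrank F U = 2 ∧ ¬ OType.IsPlus Q U ∧ (∀ x ∈ U, G.1 x = -x) ∧
        ∀ x, (∀ y ∈ U, polar Q y x = 0) → G.1 x = x := by
  classical
  have htop := OFree.top_nondeg hQ
  obtain ⟨x, -, hx⟩ := QuadBasis.exists_ne_zero_value Q htop (fun h0 => by
    rw [← finrank_top, h0, finrank_bot] at hn; omega)
  obtain ⟨hn1, hd1⟩ := QuadBasis.split_line Q h2 htop (Submodule.mem_top (x := x)) hx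
  rw [finrank_top] at hd1
  obtain ⟨b, hb, hbo⟩ := Small.Orth.exists_orth_basis (Q' := Q) h2 _ hn1
  obtain ⟨i₀, i₁, hi⟩ : ∃ i₀ i₁ : Fin (finrank F ↥((⊤ : Submodule F V) ⊓ LinearMap.ker (polarBilin Q x))), i₀ ≠ i₁ :=
    ⟨⟨0, by omega⟩, ⟨1, by omega⟩, by simp [Fin.ext_iff]⟩
  obtain ⟨s, t, hst⟩ := QuadBasis.exists_form_rep h2 (Q (b i₀ : V)) (Q (b i₁ : V)) (Q x) (hb i₀) (hb i₁)
  obtain ⟨y, hy⟩ : ∃ y : V, y = s • (b i₀ : V) + t • (b i₁ : V) := ⟨_, rfl⟩
  have hxb : ∀ i, polar Q x (b i : V) = 0 := fun i => (b i).2.2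
  have hxy : polar Q x y = 0 := by
    rw [hy, polar_add_right, QuadBasis.p_smul_right, QuadBasis.p_smul_right, hxb, hxb]; ring
  have hQy : Q y = Q x := by
    rw [hy, QuadBasis.q_add, QuadBasis.q_smul, QuadBasis.q_smul, QuadBasis.p_smul_left, QuadBasis.p_smul_right,
      hbo _ _ hi]
    linear_combination hst
  have hne : ∀ v ∈ [x, y], Q v ≠ 0 := by
    intro v hv
    simp only [List.mem_cons, List.not_mem_nil, or_false] at hv
    rcases hv with rfl | rfl
    · exact hx
    · rw [hQy]; exact hx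
  obtain ⟨h1, h1'⟩ := Small.Orth.prodRf_orth (Q' := Q) [x, y] hne (by simp [hxy])
  have e1 := h1 x (by simp)
  have e2 := h1 y (by simp)
  have hmem : Small.Orth.prodRf Q [x, y] ∈ commutator ↥(ORefl.Iso Q) := by
    rw [Small.Orth.mem_commutator_iff hQ _ hne]
    exact ⟨⟨1, rfl⟩, ⟨Q x, by simp [hQy]⟩⟩
  have hU : ∀ u ∈ Submodule.span F {x, y}, (Small.Orth.prodRf Q [x, y]).1 u = -u := fun u hu => by
    obtain ⟨a, c, rfl⟩ := Submodule.mem_span_pair.mp hu
    rw [map_add, map_smul, map_smul, e1, e2, smul_neg, smul_neg, neg_add]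
  have hzero : ∀ a c : F, Q (a • x + c • y) = 0 → a = 0 ∧ c = 0 := fun a c h => by
    rw [QuadBasis.q_add, QuadBasis.q_smul, QuadBasis.q_smul, QuadBasis.p_smul_left, QuadBasis.p_smul_right, hxy,
      hQy, mul_zero, mul_zero, add_zero, ← add_mul] at h
    have h' := (mul_eq_zero.mp h).resolve_right hx
    by_cases hc : c = 0
    · subst hc
      exact ⟨mul_self_eq_zero.mp (by linear_combination h'), rfl⟩
    · exact absurd ⟨a / c, by field_simp; linear_combination -h'⟩ hns
  have hxy' : LinearIndependent F ![x, y] := by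
    rw [LinearIndependent.pair_iff]
    intro a c h
    exact hzero a c (by rw [h, QuadraticMap.map_zero])
  have hdim : finrank F (Submodule.span F {x, y}) = 2 := by
    have h := finrank_span_eq_card hxy'
    rwa [Fintype.card_fin, Matrix.range_cons, Matrix.range_cons, Matrix.range_empty, Set.union_empty,
      ← Set.insert_eq] at h
  have hnd : QuadBasis.Nondeg Q (Submodule.span F {x, y}) := fun u hu hu' => by
    obtain ⟨a, c, rfl⟩ := Submodule.mem_span_pair.mp hu
    have h3 := hu' x (Submodule.subset_span (by simp))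
    have h4 := hu' y (Submodule.subset_span (by simp))
    rw [polar_add_left, QuadBasis.p_smul_left, QuadBasis.p_smul_left, QuadBasis.p_self, polar_comm Q y x, hxy,
      mul_zero, add_zero] at h3
    rw [polar_add_left, QuadBasis.p_smul_left, QuadBasis.p_smul_left, QuadBasis.p_self, hxy, hQy, mul_zero,
      zero_add] at h4
    rw [(mul_eq_zero.mp h3).resolve_right (mul_ne_zero h2 hx), (mul_eq_zero.mp h4).resolve_right (mul_ne_zero h2 hx)]
    simp
  refine ⟨Small.Orth.prodRf Q [x, y], hmem, fun v => ?_, Submodule.span F {x, y}, hnd, hdim, ?_, hU, fun z hz => ?_⟩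
  · obtain ⟨a, ha⟩ : ∃ a : F, a = polar Q x v / (2 * Q x) := ⟨_, rfl⟩
    obtain ⟨c, hc⟩ : ∃ c : F, c = polar Q y v / (2 * Q x) := ⟨_, rfl⟩
    obtain ⟨w, hw⟩ : ∃ w, w = v - (a • x + c • y) := ⟨_, rfl⟩
    have hv : v = (a • x + c • y) + w := by rw [hw]; abel
    have h20 : (2 : F) * Q x ≠ 0 := mul_ne_zero h2 hx
    have hwf : (Small.Orth.prodRf Q [x, y]).1 w = w := h1' w (by
      intro u hu
      simp only [List.mem_cons, List.not_mem_nil, or_false] at hu
      rcases hu with rfl | rfl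
      · rw [hw, polar_sub_right, polar_add_right, QuadBasis.p_smul_right, QuadBasis.p_smul_right, QuadBasis.p_self,
          hxy, mul_zero, add_zero, ha, div_mul_cancel₀ _ h20, sub_self]
      · rw [hw, polar_sub_right, polar_add_right, QuadBasis.p_smul_right, QuadBasis.p_smul_right, QuadBasis.p_self,
          hQy, polar_comm Q u x, hxy, mul_zero, zero_add, hc, div_mul_cancel₀ _ h20, sub_self])
    have hlin := hU (a • x + c • y) (Submodule.mem_span_pair.mpr ⟨a, c, rfl⟩)
    rw [hv, map_add, hlin, hwf, map_add, map_neg, hlin, hwf, neg_neg]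
  · rintro ⟨T, hT, hTs, hTd⟩
    rw [hdim] at hTd
    have h0 : T = ⊥ := (Submodule.eq_bot_iff _).mpr fun u hu => by
      obtain ⟨a, c, rfl⟩ := Submodule.mem_span_pair.mp (hT hu)
      obtain ⟨rfl, rfl⟩ := hzero a c (hTs _ hu)
      simp
    rw [h0, finrank_bot] at hTd
    omega
  · refine h1' z fun u hu => hz u (Submodule.subset_span ?_)
    simpa using hu

/-- No invariant totally singular subspace of odd dimension. -/
theorem even_of_rot (hns : ¬ IsSquare (-1 : F)) {g : Module.End F V} (hgg : ∀ x, g (g x) = -x)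
    {W : Submodule F V} (hW : ∀ x ∈ W, g x ∈ W) : Even (finrank F W) := by
  by_contra hodd
  let T := g.restrict hW
  have hT : T * T = (-1 : F) • (1 : Module.End F W) := LinearMap.ext fun w => Subtype.ext (by
    show g (g w) = ((-1 : F) • w : W).1
    rw [hgg]; simp)
  have hdet := congrArg LinearMap.det hT
  rw [map_mul, LinearMap.det_smul, map_one, mul_one, (Nat.not_even_iff_odd.mp hodd).neg_one_pow] at hdet
  exact hns ⟨_, hdet.symm⟩

end Cfsg.Agent.Classical.Elusive.OTs
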