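import Cfsg.Agent.Lib.Classical.Elusive.OrthEvenSameIff
import Cfsg.Agent.Lib.Classical.Elusive.OrthTsInvol

/-!
# Which prime orders always fix a totally singular subspace
-/

set_option autoImplicit false
set_option linter.unusedSectionVars false

universe u

namespace Cfsg.Agent.Classical.Elusive.OTs

open Module QuadraticMap
open Cfsg.Agent.Small

variable {F : Type u} [Field F] [Fintype F] {ι : Type} [Fintype ι] [DecidableEq ι] {Q : QuadraticForm F (ι → F)}
  {j e : ℕ}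

/-- Every element of order `r` fixes a totally singular subspace. -/
def All (Q : QuadraticForm F (ι → F)) (m r : ℕ) : Prop :=
  ∀ x : GL ι F, x ∈ Cfsg.Geo.omegaGL ⇑Q →
    (∃ z : F, ((x ^ r : GL ι F) : Matrix ι ι F) = z • (1 : Matrix ι ι F)) →
    (∀ z : F, (x : Matrix ι ι F) ≠ z • (1 : Matrix ι ι F)) →
    ∃ W : Submodule F (ι → F), (finrank F W = m ∧ IsTs Q W) ∧ W.map (Matrix.toLin' (x : Matrix ι ι F)) ≤ W

/-- The same for elements whose order is exactly `r`. -/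
def AllOrder (Q : QuadraticForm F (ι → F)) (m r : ℕ) : Prop :=
  ∀ x : GL ι F, x ∈ Cfsg.Geo.omegaGL ⇑Q → orderOf x = r →
    ∃ W : Submodule F (ι → F), (finrank F W = m ∧ IsTs Q W) ∧ W.map (Matrix.toLin' (x : Matrix ι ι F)) ≤ W

theorem exists_value (h : Shape Q j e) (hn : 1 ≤ finrank F (ι → F)) : ∃ v, Q v ≠ 0 :=
  OSame.exists_value h.pnd (by rwa [← finrank_fintype_fun_eq_card (R := F)])

theorem omega_det (x : GL ι F) (hx : x ∈ Cfsg.Geo.omegaGL ⇑Q) : (x : Matrix ι ι F).det = 1 := by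
  obtain ⟨y, hy, rfl⟩ := hx
  let φ : ↥(Cfsg.isometryGroup F ⇑Q) →* Fˣ :=
    Matrix.GeneralLinearGroup.det.comp (Cfsg.isometryGroup F ⇑Q).subtype
  have h : commutator ↥(Cfsg.isometryGroup F ⇑Q) ≤ φ.ker := Abelianization.commutator_subset_ker φ
  exact congrArg Units.val (h hy)

theorem scalar_one_of_odd (hodd : Odd (Fintype.card ι)) {x : GL ι F} (hx : x ∈ Cfsg.Geo.omegaGL ⇑Q) {r : ℕ} {z : F}
    (hz : ((x ^ r : GL ι F) : Matrix ι ι F) = z • (1 : Matrix ι ι F)) (hzz : z * z = 1) : z = 1 := by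
  have h1 : ((x ^ r : GL ι F) : Matrix ι ι F).det = 1 := by
    rw [Units.val_pow_eq_pow_val, Matrix.det_pow, omega_det x hx, one_pow]
  rw [hz, Matrix.det_smul, Matrix.det_one, mul_one] at h1
  obtain ⟨k, hk⟩ := hodd
  rwa [hk, pow_succ, pow_mul, pow_two, hzz, one_pow, one_mul] at h1

theorem allOrder_iff (h : Shape Q j e) (hodd : Odd (Fintype.card ι)) (m : ℕ) {r : ℕ} (hr : r.Prime) :
    AllOrder Q m r ↔ All Q m r := by
  have hne : ∃ v, Q v ≠ 0 := exists_value h (by rw [finrank_fintype_fun_eq_card]; exact hodd.pos)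
  constructor
  · intro H x hx ⟨z, hz⟩ hns
    obtain ⟨hzz, -⟩ := OSame.scalar_power hx hne hz
    obtain rfl := scalar_one_of_odd hodd hx hz hzz
    haveI : Fact r.Prime := ⟨hr⟩
    refine H x hx (orderOf_eq_prime (Units.ext (by rw [hz, one_smul, Units.val_one])) fun h1 => hns 1 ?_)
    simp [h1]
  · intro H x hx ho
    refine H x hx ⟨1, by rw [← ho, pow_orderOf_eq_one, Units.val_one, one_smul]⟩ fun z hz => ?_
    have h1 := OSame.scalar_power (r := 1) hx hne (z := z) (by rw [pow_one]; exact hz)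
    obtain rfl := scalar_one_of_odd hodd hx (r := 1) (by rw [pow_one]; exact hz) h1.1
    rw [one_smul] at hz
    have : x = 1 := Units.ext hz
    rw [this, orderOf_one] at ho
    exact hr.ne_one ho.symm

/-- Odd primes. -/
theorem free_iff (h : Shape Q j e) (he : e ≤ 2) (hn : 5 ≤ Fintype.card ι) {m : ℕ} (hm : m ≤ j) {r : ℕ} (hr : r.Prime)
    (hr2 : r ≠ 2) (hr0 : (r : F) ≠ 0) :
    All Q m r ↔ Crit (orderOf (Fintype.card F : ZMod r)) (OFree.unit F r)
      ((r - 1) / orderOf (Fintype.card F : ZMod r)) j e m := by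
  classical
  have hne : ∃ v, Q v ≠ 0 := exists_value h (by rw [finrank_fintype_fun_eq_card]; omega)
  constructor
  · intro H N hN hfe
    obtain ⟨g, hgr, hgi, hg1, hb⟩ := exists_witness h he hr hr2 hr0 hN hfe
    obtain ⟨x, hx, hxr, hxg⟩ := OSame.omega_of_end h.pnd hn hr hr2 hgr hgi
    have hxs : ∀ z : F, (x : Matrix ι ι F) ≠ z • (1 : Matrix ι ι F) := fun z hz => by
      obtain ⟨hzz, -⟩ := OSame.scalar_power (r := 1) hx hne (z := z) (by rw [pow_one]; exact hz)
      have hzr : z ^ r = 1 := by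
        have h1 := congrArg Units.val hxr
        rw [Units.val_pow_eq_pow_val, hz, smul_pow, one_pow, Units.val_one] at h1
        obtain ⟨v₀, hv₀⟩ := hne
        have h2 := congrArg (fun M : Matrix ι ι F => M.mulVec v₀) h1
        simp only [Matrix.smul_mulVec, Matrix.one_mulVec] at h2
        have hv0 : v₀ ≠ 0 := fun h0 => hv₀ (by rw [h0, QuadraticMap.map_zero])
        exact (smul_left_injective F hv0).eq_iff.mp (by simpa using h2)
      obtain ⟨k, hk⟩ := hr.odd_of_ne_two hr2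
      rw [hk, pow_succ, pow_mul, pow_two, hzz, one_pow, one_mul] at hzr
      exact hg1 (LinearMap.ext fun v => by rw [← hxg, hz, hzr]; simp)
    obtain ⟨W, ⟨hWd, hWs⟩, hWx⟩ := H x hx ⟨1, by rw [hxr, Units.val_one, one_smul]⟩ hxs
    obtain ⟨l, hl, h1, h3⟩ := hb W hWs fun v hv => hxg ▸ hWx ⟨v, hv, rfl⟩
    rw [hWd] at h1 h3
    exact ⟨l, hl, h1, h3⟩
  · intro hC x hx ⟨z, hz⟩ _
    obtain ⟨hzz, hpow⟩ := OSame.scalar_power hx hne hz
    obtain ⟨g, hg⟩ : ∃ g : Module.End F (ι → F), g = z • Matrix.toLin' (x : Matrix ι ι F) := ⟨_, rfl⟩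
    have hgr : g ^ r = 1 := by
      obtain ⟨k, hk⟩ := hr.odd_of_ne_two hr2
      refine LinearMap.ext fun v => ?_
      rw [hg, smul_pow, LinearMap.smul_apply, hpow, smul_smul, ← pow_succ,
        show r + 1 = 2 * (k + 1) by omega, pow_mul, pow_two, hzz, one_pow, one_smul]
      rfl
    have hgi : ∀ v, Q (g v) = Q v := fun v => by
      rw [hg, LinearMap.smul_apply, QuadBasis.q_smul, hzz, one_mul, OFree.omega_iso hx]
    obtain ⟨W, hW, hinv⟩ := exists_member h he hr hr2 hr0 hgr hgi hm hC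
    refine ⟨W, hW, ?_⟩
    rintro _ ⟨v, hv, rfl⟩
    have h' := W.smul_mem z (hinv v hv)
    rwa [hg, LinearMap.smul_apply, smul_smul, hzz, one_smul] at h'

theorem exists_invol {G : ↥(ORefl.Iso Q)} (hG : G ∈ commutator ↥(ORefl.Iso Q)) :
    ∃ x : GL ι F, x ∈ Cfsg.Geo.omegaGL ⇑Q ∧ ∀ v, Matrix.toLin' (x : Matrix ι ι F) v = G.1 v := by
  refine ⟨(ORefl.toMat Q G).1, ⟨ORefl.toMat Q G, ?_, rfl⟩, fun v => by rw [Matrix.toLin'_apply, ORefl.toMat_apply]⟩
  rw [SetLike.mem_coe, OOmega.omega_eq_map]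
  exact ⟨G, hG, rfl⟩

theorem toLin_sq {x : GL ι F} {z : F} (h : ∀ v, Matrix.toLin' (x : Matrix ι ι F) (Matrix.toLin' (x : Matrix ι ι F) v) = z • v) :
    ((x ^ 2 : GL ι F) : Matrix ι ι F) = z • (1 : Matrix ι ι F) :=
  Matrix.toLin'.injective (LinearMap.ext fun v => by
    rw [Units.val_pow_eq_pow_val, Matrix.toLin'_pow, pow_two, Module.End.mul_apply, h]; simp)

/-- An involution keeps totally singular subspaces. -/
theorem involution_member (h2 : (2 : F) ≠ 0) (h : Shape Q j e) (he : e ≤ 2) {m : ℕ} (hm : m ≤ j)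
    (hcond : IsSquare (-1 : F) ∨ m + (2 - e) ≤ j) {x : GL ι F} (hx : x ∈ Cfsg.Geo.omegaGL ⇑Q)
    (hxx : ∀ v, Matrix.toLin' (x : Matrix ι ι F) (Matrix.toLin' (x : Matrix ι ι F) v) = v) :
    ∃ W : Submodule F (ι → F), (finrank F W = m ∧ IsTs Q W) ∧ W.map (Matrix.toLin' (x : Matrix ι ι F)) ≤ W := by
  obtain ⟨y, hy, rfl⟩ := hx
  rw [SetLike.mem_coe, OOmega.omega_eq_map] at hy
  obtain ⟨G, hG, rfl⟩ := hy
  have hGa : ∀ v, Matrix.toLin' (((ORefl.toMat Q).toMonoidHom G).1 : Matrix ι ι F) v = G.1 v := fun v => by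
    rw [Matrix.toLin'_apply]; exact ORefl.toMat_apply G v
  obtain ⟨U, A, k, hU, hA, hperp, hsup, hUd, hdim, hUt, hUg, hAg⟩ := invol_parts h2 h.pnd G hG fun v => by
    have := hxx v
    rwa [Subgroup.coe_subtype, hGa, hGa] at this
  obtain ⟨T₁, T₂, hT₁, hT₂, hd, hts⟩ := exists_split_ts h he hU hA hperp hsup hUd (by rw [hdim, h.dim]) hm
    fun hp => hcond.resolve_left fun hs => hp (hUt.mpr (hs.pow k))
  refine ⟨T₁ ⊔ T₂, ⟨hd, hts⟩, ?_⟩
  rintro _ ⟨v, hv, rfl⟩
  obtain ⟨a, ha, b, hb, rfl⟩ := Submodule.mem_sup.mp hv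
  rw [Subgroup.coe_subtype, hGa, map_add, hUg a (hT₁ ha), hAg b (hT₂ hb)]
  exact Submodule.add_mem_sup (T₁.neg_mem ha) hb

/-- An involution with few totally singular subspaces. -/
theorem exists_bad_invol (h2 : (2 : F) ≠ 0) (hns : ¬ IsSquare (-1 : F)) (h : Shape Q j e) (he : e ≤ 2) (hj : 2 ≤ j) :
    ∃ x : GL ι F, x ∈ Cfsg.Geo.omegaGL ⇑Q ∧
      ((x ^ 2 : GL ι F) : Matrix ι ι F) = (1 : F) • (1 : Matrix ι ι F) ∧
      (∀ z : F, (x : Matrix ι ι F) ≠ z • (1 : Matrix ι ι F)) ∧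
      ∀ W : Submodule F (ι → F), IsTs Q W → W.map (Matrix.toLin' (x : Matrix ι ι F)) ≤ W →
        finrank F W + (2 - e) ≤ j := by
  classical
  have hV : finrank F (ι → F) = 2 * j + e := h.dim
  obtain ⟨G, hG, hgg, U, hUn, hUd, hUp, hUg, hfix⟩ := exists_neg_plane h2 hns h.pnd (by omega)
  obtain ⟨x, hx, hxG⟩ := exists_invol hG
  obtain ⟨A, -, hAn, hperp, hsup, hdim, -⟩ := OType.compl_in h.pnd hUn (OFree.top_nondeg h.pnd) le_top
  rw [finrank_top, hV, hUd] at hdim
  have hAg : ∀ b ∈ A, G.1 b = b := fun b hb => hfix b fun y hy => hperp y hy b hb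
  refine ⟨x, hx, toLin_sq fun v => by rw [hxG, hxG, hgg, one_smul], fun z hz => ?_, fun W hW hWx => ?_⟩
  · have hz' : ∀ v, G.1 v = z • v := fun v => by rw [← hxG, hz]; simp
    obtain ⟨a, ha, ha0⟩ := Submodule.exists_mem_ne_zero_of_ne_bot (p := U) (fun h0 => by
      rw [h0, finrank_bot] at hUd; omega)
    obtain ⟨b, hb, hb0⟩ := Submodule.exists_mem_ne_zero_of_ne_bot (p := A) (fun h0 => by
      rw [h0, finrank_bot] at hdim; omega)
    have e1 : (z + 1) • a = 0 := by rw [add_smul, one_smul, ← hz', hUg a ha, neg_add_cancel]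
    have e2 : (z - 1) • b = 0 := by rw [sub_smul, one_smul, ← hz', hAg b hb, sub_self]
    have e3 := (smul_eq_zero.mp e1).resolve_right ha0
    have e4 := (smul_eq_zero.mp e2).resolve_right hb0
    exact h2 (by linear_combination e3 - e4)
  have hWA : W ≤ A := fun v hv => by
    obtain ⟨a, ha, b, hb, rfl⟩ := Submodule.mem_sup.mp (show v ∈ U ⊔ A by rw [hsup]; trivial)
    have h1 : G.1 (a + b) ∈ W := by rw [← hxG]; exact hWx ⟨_, hv, rfl⟩
    rw [map_add, hUg a ha, hAg b hb] at h1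
    have h3 := W.smul_mem (2 : F)⁻¹ (W.sub_mem hv h1)
    rw [show a + b - (-a + b) = (2 : F) • a by rw [two_smul]; abel, smul_smul, inv_mul_cancel₀ h2, one_smul] at h3
    have ha0 : a = 0 := by
      by_contra ha0
      refine hUp ⟨Submodule.span F {a}, (Submodule.span_singleton_le_iff_mem a U).mpr ha, fun u hu => ?_, by
        rw [finrank_span_singleton ha0, hUd]⟩
      obtain ⟨c, rfl⟩ := Submodule.mem_span_singleton.mp hu
      rw [QuadBasis.q_smul, hW a h3, mul_zero]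
    rw [ha0, zero_add]
    exact hb
  have hle := dim_ts_le h.pnd hAn hWA hW
  rcases (show e = 0 ∨ e = 1 ∨ e = 2 by omega) with h0 | h1 | h3
  · have hA2 : ¬ OType.IsPlus Q A := fun hp => by
      have ht := OType.plus_sup_iff hUn hAn hperp (e := 1) (e' := j - 1) (by omega) (by omega)
      rw [hsup, shape_type h (Or.inl h0)] at ht
      exact hUp ((ht.mp h0).mpr hp)
    have : 2 * finrank F W ≠ finrank F A := fun h' => hA2 ⟨W, hWA, hW, h'⟩
    omega
  · omega
  · have := ts_le j h W hW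
    omega

/-- Order two, odd dimension. -/
theorem two_odd (h2 : (2 : F) ≠ 0) (h : Shape Q j 1) (hj : 2 ≤ j) {m : ℕ} (hm : m ≤ j) :
    All Q m 2 ↔ (IsSquare (-1 : F) ∨ m < j) := by
  have hn : Fintype.card ι = 2 * j + 1 := by rw [← finrank_fintype_fun_eq_card (R := F), h.dim]
  have hne := exists_value h (by rw [h.dim]; omega)
  constructor
  · intro H
    by_contra hno
    push Not at hno
    obtain ⟨x, hx, hxx, hxs, hb⟩ := exists_bad_invol h2 hno.1 h (by omega) hj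
    obtain ⟨W, ⟨hWd, hW⟩, hWx⟩ := H x hx ⟨1, hxx⟩ hxs
    have := hb W hW hWx
    omega
  · intro hc x hx ⟨z, hz⟩ _
    obtain ⟨hzz, hpow⟩ := OSame.scalar_power hx hne hz
    obtain rfl := scalar_one_of_odd ⟨j, hn⟩ hx hz hzz
    exact involution_member h2 h (by omega) hm (hc.imp id fun h' => by omega) hx fun v => by
      have := hpow v
      rwa [pow_two, Module.End.mul_apply, one_smul] at this

/-- Order two, even dimension. -/
theorem two_even (h2 : (2 : F) ≠ 0) (h : Shape Q j e) (he : e = 0 ∨ e = 2) (hj : 3 ≤ j) {d : ℕ}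
    (hd : 2 * j + e = 2 * d) {m : ℕ} (hm : m ≤ j) :
    All Q m 2 ↔ (IsSquare (-1 : F) ∨ (m + (2 - e) ≤ j ∧
      (Even m ∨ ¬ (IsSquare ((2 : F) ^ d) ∧ (e = 0 ↔ IsSquare ((-1 : F) ^ d)))))) := by
  classical
  have hV : finrank F (ι → F) = 2 * d := by rw [h.dim, hd]
  have hne := exists_value h (by omega)
  constructor
  · intro H
    by_contra hno
    rw [not_or, not_and_or] at hno
    obtain ⟨hns, hno | hno⟩ := hno
    · obtain ⟨x, hx, hxx, hxs, hb⟩ := exists_bad_invol h2 hns h (by omega) (by omega)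
      obtain ⟨W, ⟨hWd, hW⟩, hWx⟩ := H x hx ⟨1, hxx⟩ hxs
      have := hb W hW hWx
      omega
    rw [not_or, not_not] at hno
    obtain ⟨hmo, hsq2, hT⟩ := hno
    obtain ⟨z, -, hz, -⟩ := OType.exists_family (κ := Fin d × Fin 2) (Q := Q) (W := ⊤)
      (OFree.top_nondeg h.pnd) (by rw [finrank_top, hV]; simp [mul_comm])
    have hzsq : IsSquare (OType.gdet Q z) := by
      rw [← shape_type h he, OTwo.plus_iff_disc h2 h.pnd (by omega) hV z hz,
        OOmega.isSquare_iff_mul h2 (pow_ne_zero _ (neg_ne_zero.mpr one_ne_zero)) hz] at hT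
      tauto
    obtain ⟨G, hG⟩ := OTwo.exists_rot h2 hV z hz hzsq
    obtain ⟨x, hx, hxG⟩ := exists_invol ((OTwo.rot_facts h2 h.pnd hV G hG).2.mpr hsq2)
    obtain ⟨W, ⟨hWd, -⟩, hWx⟩ := H x hx ⟨-1, toLin_sq fun v => by rw [hxG, hxG, hG, neg_one_smul]⟩ fun z hz => by
      obtain ⟨v₀, hv₀⟩ := hne
      have hgz : ∀ v, G.1 v = z • v := fun v => by rw [← hxG, hz]; simp
      have h1 := hG v₀
      rw [hgz, hgz, smul_smul] at h1
      have hv0 : v₀ ≠ 0 := fun h0 => hv₀ (by rw [h0, QuadraticMap.map_zero])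
      exact hns ⟨z, ((smul_left_injective F hv0).eq_iff.mp (by simpa using h1)).symm⟩
    exact hmo (hWd ▸ even_of_rot hns (g := Matrix.toLin' (x : Matrix ι ι F)) (fun v => by rw [hxG, hxG, hG])
      fun v hv => hWx ⟨v, hv, rfl⟩)
  · intro hc x hx ⟨z, hz⟩ _
    obtain ⟨hzz, hpow⟩ := OSame.scalar_power hx hne hz
    simp only [pow_two, Module.End.mul_apply] at hpow
    rcases mul_self_eq_one_iff.mp hzz with rfl | rfl
    · exact involution_member h2 h (by omega) hm (hc.imp id And.left) hx fun v => (hpow v).trans (one_smul F v)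
    obtain ⟨g, hg⟩ : ∃ g : Module.End F (ι → F), g = Matrix.toLin' (x : Matrix ι ι F) := ⟨_, rfl⟩
    have hgg : ∀ v, g (g v) = -v := fun v => by rw [hg, hpow, neg_one_smul]
    have hgi : ∀ v, Q (g v) = Q v := fun v => by rw [hg]; exact OFree.omega_iso hx v
    by_cases hns : IsSquare (-1 : F)
    · obtain ⟨c, hc'⟩ := hns
      obtain ⟨W, hinv, hWd, hW⟩ := exists_ts_eigen h2 h.pnd hgg hgi hc'.symm (m := m) (by omega)
      refine ⟨W, ⟨hWd, hW⟩, ?_⟩
      rintro _ ⟨v, hv, rfl⟩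
      exact hg ▸ hinv v hv
    obtain ⟨hc1, hc2⟩ := hc.resolve_left hns
    have hme : Even m := hc2.resolve_right fun hno => hno (by
      obtain ⟨y, hy, rfl⟩ := hx
      rw [SetLike.mem_coe, OOmega.omega_eq_map] at hy
      obtain ⟨G, hG, rfl⟩ := hy
      have hGG : ∀ v, G.1 (G.1 v) = -v := fun v => by
        have h' := hgg v
        rw [hg] at h'
        simp only [Matrix.toLin'_apply] at h'
        rw [← ORefl.toMat_apply G v, ← ORefl.toMat_apply G]
        exact h'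
      obtain ⟨⟨z, hz, hzsq⟩, hiff⟩ := OTwo.rot_facts h2 h.pnd hV G hGG
      refine ⟨hiff.mp hG, ?_⟩
      rw [← shape_type h he, OTwo.plus_iff_disc h2 h.pnd (by omega) hV z hz, Orth.isSquare_mul_iff hzsq hz])
    obtain ⟨l, hl⟩ := hme
    -- the complex dimension leaves room
    have hpar : 4 * l ≤ finrank F (ι → F) := by rw [hV]; omega
    obtain ⟨W, hinv, hWd, hW⟩ := exists_ts_rot h2 hns h.pnd hgg hgi l (Or.inr hpar)
    refine ⟨W, ⟨by omega, hW⟩, ?_⟩
    rintro _ ⟨v, hv, rfl⟩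
    exact hg ▸ hinv v hv

end Cfsg.Agent.Classical.Elusive.OTs
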