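import Cfsg.Agent.Lib.Classical.Elusive.OrthTsIff
import Cfsg.Agent.Lib.Classical.Elusive.OrthEvenSameStmt

/-!
# Totally singular members: statement forms
-/

set_option autoImplicit false
set_option linter.unusedSectionVars false

universe u

namespace Cfsg.Agent.Classical.Elusive.OTs

open Module QuadraticMap
open Cfsg.Agent.Small

variable {F : Type u} [Field F] [Fintype F]

theorem shape_plus (d : ℕ) :
    Shape (OOmega.formOf d (Equiv.sumEmpty (Fin d ⊕ Fin d) Empty).symm (0 : QuadraticForm F (Empty → F))) d 0 := by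
  have h := shape_formOf (m := d) (Equiv.sumEmpty (Fin d ⊕ Fin d) Empty).symm (0 : QuadraticForm F (Empty → F))
    OOmega.pnd_empty (fun z _ => funext fun k => k.elim)
  rwa [Fintype.card_empty] at h

theorem shape_odd (h2 : (2 : F) ≠ 0) (d : ℕ) :
    Shape (OOmega.formOf d (Equiv.sumComm Unit (Fin d ⊕ Fin d)) (OCount.lineForm F)) d 1 := by
  have h := shape_formOf (m := d) (Equiv.sumComm Unit (Fin d ⊕ Fin d)) (OCount.lineForm F)
    (OOmega.pnd_line h2) (fun z hz => funext fun _ => mul_self_eq_zero.mp (show z () * z () = 0 from hz))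
  rwa [Fintype.card_unit] at h

theorem shape_minus (d : ℕ) {a b : F} (hab : ∀ x y : F, x ^ 2 + a * x * y + b * y ^ 2 = 0 → x = 0 ∧ y = 0) :
    Shape (OOmega.formOf d (Equiv.refl ((Fin d ⊕ Fin d) ⊕ Fin 2)) (OCount.planeForm a b)) d 2 := by
  have h := shape_formOf (m := d) (Equiv.refl ((Fin d ⊕ Fin d) ⊕ Fin 2)) (OCount.planeForm a b)
    (OOmega.pnd_plane hab) (fun z hz => by
      rw [OCount.planeForm_apply] at hz
      obtain ⟨h0, h1⟩ := hab _ _ hz
      funext k; fin_cases k <;> assumption)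
  rwa [Fintype.card_fin] at h

/-- The two shapes of the answer for odd primes. -/
theorem free_cases {ι : Type} [Fintype ι] [DecidableEq ι] {Q : QuadraticForm F (ι → F)} {j e : ℕ}
    (h : Shape Q j e) (he : e ≤ 2) (hn : 5 ≤ Fintype.card ι) {m : ℕ} (hm1 : 1 ≤ m) (hm : m ≤ j) (hme : m < j + e)
    {r : ℕ} (hr : r.Prime) (hr2 : r ≠ 2)
    (hdvd : r ∣ Nat.card {W : Submodule F (ι → F) // finrank F W = m ∧ IsTs Q W}) {i c : ℕ}
    (hcu : c = OFree.unit F r) (hiu : i = orderOf (Fintype.card F : ZMod r))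
    (hc : c = if Even i then i else 2 * i) :
    All Q m r ↔
      ((Odd i ∧ i ≤ m ∧ m % i ≤ j % i) ∨
        (Even i ∧ i ≤ m ∧ (r - 1) / i + 2 * (m / i) ≤ (2 * j + e) / i ∧
          ((2 * (m % i) ≤ i ∧ (2 * j + e) % i < defect i e ((2 * j + e) / i) ∧
              (r - 1) / i + 2 * (m / i) < (2 * j + e) / i) ∨
            2 * (m % i) + defect i e ((2 * j + e) / i) ≤ (2 * j + e) % i))) := by
  haveI : Fact r.Prime := ⟨hr⟩
  obtain ⟨hr0, -⟩ := prime_dvd h hm hme hr hdvd
  obtain ⟨k, hk, hroom⟩ := room h hm hme hr hr2 hdvd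
  rw [free_iff h he hn hm hr hr2 hr0, ← hiu, ← hcu]
  rw [← hiu] at hroom
  rcases Nat.even_or_odd i with hev | hod
  · have hno : ¬ Odd i := Nat.not_odd_iff_even.mpr hev
    obtain ⟨h', hh'⟩ := hev
    have hipos : 0 < i := hiu ▸ (OFree.unit_pos (F := F) hr hr0).1
    have ht : 1 ≤ (r - 1) / i := by
      refine (Nat.one_le_div_iff hipos).mpr (Nat.le_of_dvd (by have := hr.two_le; omega) ?_)
      rw [hiu]
      exact ZMod.orderOf_dvd_card_sub_one (OFree.card_ne_zero (F := F) hr hr0)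
    rw [crit_even (i := i) (h := h') (by omega) (by omega) (by rw [hc, if_pos ⟨h', hh'⟩]) ht he hm1 hm
      ⟨k, hk, hroom.imp id fun ⟨a, b, e1, e2⟩ => ⟨b, by rw [e2, show a = h' by omega]⟩⟩]
    simp only [hno, false_and, false_or, show Even i from ⟨h', hh'⟩, true_and]
  · have hne : ¬ Even i := Nat.not_even_iff_odd.mpr hod
    rw [crit_odd hod (by rw [hc, if_neg hne]) hm
      ⟨k, hk, hroom.resolve_right fun ⟨a, b, e1, _⟩ => hne ⟨a, by omega⟩⟩]
    simp only [hne, hod, false_and, or_false, true_and]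

/-- Doubling a residue. -/
theorem mod_double (d i : ℕ) : (2 * d) % (2 * i) = 2 * (d % i) := Nat.mul_mod_mul_left 2 d i

theorem mod_double_succ (d i : ℕ) (hi : 0 < i) : (2 * d + 1) % (2 * i) = 2 * (d % i) + 1 := by
  have h1 := Nat.div_add_mod d i
  have h2 := Nat.mod_lt d hi
  rw [show 2 * d + 1 = (2 * (d % i) + 1) + 2 * i * (d / i) by rw [mul_assoc]; omega, Nat.add_mul_mod_self_left,
    Nat.mod_eq_of_lt (by omega)]

theorem mod_pred (d i : ℕ) (hd : 1 ≤ d) (hi : 0 < i) :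
    (d % i = 0 ∧ (d - 1) % i + 1 = i) ∨ d % i = (d - 1) % i + 1 := by
  have h2 := Nat.mod_lt (d - 1) hi
  have h3 : d % i = ((d - 1) % i + 1) % i := by
    rw [Nat.mod_add_mod, Nat.sub_add_cancel hd]
  rcases Nat.lt_or_ge ((d - 1) % i + 1) i with h | h
  · right; rw [h3, Nat.mod_eq_of_lt h]
  · left; rw [h3, show (d - 1) % i + 1 = i by omega, Nat.mod_self]; exact ⟨rfl, rfl⟩

end Cfsg.Agent.Classical.Elusive.OTs
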