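import Cfsg.Agent.Lib.Classical.OrthForms
import Cfsg.Agent.Lib.Classical.OrthEvenSplit
import Cfsg.Agent.Lib.Small.QuadDisc
import Cfsg.Agent.Lib.Small.QuadModels

/-!
# Types of nondegenerate subspaces of quadratic spaces, odd characteristic
-/

set_option autoImplicit false
set_option linter.unusedSectionVars false

universe u

namespace Cfsg.Agent.Classical.Elusive.OType

open Module QuadraticMap
open Cfsg.Agent.Small

variable {F : Type u} [Field F] [Fintype F] {V : Type u} [AddCommGroup V] [Module F V] [FiniteDimensional F V]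
  {Q : QuadraticForm F V}

/-- A totally singular subspace of half the dimension exists. -/
def IsPlus (Q : QuadraticForm F V) (W : Submodule F V) : Prop :=
  ∃ U ≤ W, (∀ u ∈ U, Q u = 0) ∧ 2 * finrank F U = finrank F W

theorem polar_comp {W : Type*} [AddCommGroup W] [Module F W] (L : W →ₗ[F] V) (u v : W) :
    polar (⇑(Q.comp L)) u v = polar Q (L u) (L v) := by
  simp only [polar, QuadraticMap.comp_apply, map_add]

/-- A family with invertible Gram matrix. -/
theorem span_facts {κ : Type*} [Fintype κ] [DecidableEq κ] (z : κ → V)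
    (h : (Matrix.of fun a b => polar Q (z a) (z b)).det ≠ 0) :
    LinearIndependent F z ∧ QuadBasis.Nondeg Q (Submodule.span F (Set.range z)) ∧
      finrank F (Submodule.span F (Set.range z)) = Fintype.card κ := by
  have hker : ∀ c : κ → F, (∀ b, polar Q (z b) (∑ a, c a • z a) = 0) → c = 0 := fun c hc => by
    refine Matrix.eq_zero_of_mulVec_eq_zero h (funext fun b => ?_)
    have := hc b
    rw [← polarBilin_apply_apply, map_sum] at this
    simpa [Matrix.mulVec, dotProduct, mul_comm] using this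
  have hli : LinearIndependent F z := Fintype.linearIndependent_iff.mpr fun c hc i => congrFun (hker c fun b => by
    rw [hc, polar_zero_right]) i
  refine ⟨hli, fun x hx hperp => ?_, finrank_span_eq_card hli⟩
  obtain ⟨c, rfl⟩ := (Submodule.mem_span_range_iff_exists_fun F).mp hx
  have : c = 0 := hker c fun b => by
    rw [polar_comm]
    exact hperp _ (Submodule.subset_span ⟨b, rfl⟩)
  simp [this]

theorem gram_ne_zero {W : Submodule F V} (hW : QuadBasis.Nondeg Q W) {κ : Type*} [Fintype κ] [DecidableEq κ]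
    (b : Basis κ F W) : (Matrix.of fun i j => polar Q (b i : V) (b j : V)).det ≠ 0 := by
  have h := (LinearMap.nondegenerate_iff_det_ne_zero b).mp (QuadModels.nondegenerate (QuadModels.pnd_res Q hW))
  have e : LinearMap.toMatrix₂ b b (polarBilin (Q.comp W.subtype)) = Matrix.of fun i j => polar Q (b i : V) (b j : V) := by
    ext i j
    rw [LinearMap.toMatrix₂_apply, polarBilin_apply_apply]
    simp [polar]
  rwa [e] at h

/-- The models of a nondegenerate even-dimensional subspace. -/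
theorem model {W : Submodule F V} (hW : QuadBasis.Nondeg Q W) {e : ℕ} (he : 1 ≤ e) (hd : finrank F W = 2 * e)
    (a c : F) (hac : ∀ z₁ z₂ : F, z₁ ^ 2 + a * z₁ * z₂ + c * z₂ ^ 2 = 0 → z₁ = 0 ∧ z₂ = 0) :
    (IsPlus Q W ∧ ∃ L : (Fin e ⊕ Fin e → F) ≃ₗ[F] W, ∀ v, Q (L v : V) = Cfsg.quadFormPlus e F v) ∨
      (¬ IsPlus Q W ∧ ∃ L : ((Fin (e - 1) ⊕ Fin (e - 1)) ⊕ Fin 2 → F) ≃ₗ[F] W,
        ∀ v, Q (L v : V) = Cfsg.quadFormMinus (e - 1) F a c v) := by
  rcases QuadModels.even_model (Q.comp W.subtype) he hd (QuadModels.nondegenerate (QuadModels.pnd_res Q hW)) a c hac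
    with ⟨L, hL⟩ | ⟨L, hL⟩
  · refine Or.inl ⟨?_, L, hL⟩
    let S : (Fin e → F) →ₗ[F] (Fin e ⊕ Fin e → F) :=
      { toFun := fun x => Sum.elim x 0
        map_add' := fun x y => by funext i; rcases i with i | i <;> simp
        map_smul' := fun r x => by funext i; rcases i with i | i <;> simp }
    refine ⟨LinearMap.range (W.subtype ∘ₗ L.toLinearMap ∘ₗ S), ?_, ?_, ?_⟩
    · rintro _ ⟨x, rfl⟩; exact (L (S x)).2
    · rintro _ ⟨x, rfl⟩
      exact (hL _).trans (by simp [Cfsg.quadFormPlus, S])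
    · rw [LinearMap.finrank_range_of_inj, Module.finrank_fin_fun, hd]
      exact W.injective_subtype.comp (L.injective.comp fun x y e => funext fun i => congrFun e (.inl i))
  · refine Or.inr ⟨?_, L, hL⟩
    rintro ⟨U, hUW, hU, hUd⟩
    let T := (U.comap W.subtype).map L.symm.toLinearMap
    have h := OEven.minus_model_no_half hac (U := T) fun v hv => by
      obtain ⟨w, hw, rfl⟩ := hv
      rw [← hL, LinearEquiv.coe_coe, LinearEquiv.apply_symm_apply]
      exact hU _ hw
    rw [LinearEquiv.finrank_map_eq, (Submodule.comapSubtypeEquivOfLe hUW).finrank_eq] at h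
    omega

/-- Equal types give isometries. -/
theorem exists_isometry {W₁ W₂ : Submodule F V} (h₁ : QuadBasis.Nondeg Q W₁) (h₂ : QuadBasis.Nondeg Q W₂) {e : ℕ}
    (he : 1 ≤ e) (hd₁ : finrank F W₁ = 2 * e) (hd₂ : finrank F W₂ = 2 * e) (ht : IsPlus Q W₁ ↔ IsPlus Q W₂) :
    ∃ φ : W₁ ≃ₗ[F] W₂, ∀ w, Q (φ w : V) = Q (w : V) := by
  obtain ⟨a, c, hac⟩ := QuadModels.exists_aniso (F := F)
  rcases model h₁ he hd₁ a c hac with ⟨p₁, L₁, hL₁⟩ | ⟨p₁, L₁, hL₁⟩ <;>
    rcases model h₂ he hd₂ a c hac with ⟨p₂, L₂, hL₂⟩ | ⟨p₂, L₂, hL₂⟩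
  · exact ⟨L₁.symm.trans L₂, fun w => by rw [LinearEquiv.trans_apply, hL₂, ← hL₁, L₁.apply_symm_apply]⟩
  · exact absurd (ht.mp p₁) p₂
  · exact absurd (ht.mpr p₂) p₁
  · exact ⟨L₁.symm.trans L₂, fun w => by rw [LinearEquiv.trans_apply, hL₂, ← hL₁, L₁.apply_symm_apply]⟩

/-- Gram determinants in different square classes give different types. -/
theorem exists_type (h2 : (2 : F) ≠ 0) {e : ℕ} (he : 1 ≤ e) {κ : Type*} [Fintype κ] [DecidableEq κ]
    (hκ : Fintype.card κ = 2 * e) (z₁ z₂ : κ → V)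
    (h₁ : (Matrix.of fun a b => polar Q (z₁ a) (z₁ b)).det ≠ 0)
    (hns : ¬ IsSquare ((Matrix.of fun a b => polar Q (z₁ a) (z₁ b)).det *
      (Matrix.of fun a b => polar Q (z₂ a) (z₂ b)).det)) (P : Prop) :
    (IsPlus Q (Submodule.span F (Set.range z₁)) ↔ P) ∨ (IsPlus Q (Submodule.span F (Set.range z₂)) ↔ P) := by
  have h₂ : (Matrix.of fun a b => polar Q (z₂ a) (z₂ b)).det ≠ 0 := fun h => hns (by rw [h, mul_zero]; exact IsSquare.zero)
  obtain ⟨l₁, n₁, d₁⟩ := span_facts z₁ h₁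
  obtain ⟨l₂, n₂, d₂⟩ := span_facts z₂ h₂
  suffices hne : ¬ (IsPlus Q (Submodule.span F (Set.range z₁)) ↔ IsPlus Q (Submodule.span F (Set.range z₂))) by tauto
  intro ht
  obtain ⟨φ, hφ⟩ := exists_isometry n₁ n₂ he (d₁.trans hκ) (d₂.trans hκ) ht
  obtain ⟨σ⟩ : Nonempty (Fin (2 * e) ≃ κ) := ⟨(finCongr hκ.symm).trans (Fintype.equivFin κ).symm⟩
  let b₁ := (Basis.span l₁).reindex σ.symm
  let b₂ := (Basis.span l₂).reindex σ.symm
  have hG : ∀ (z : κ → V) (l : LinearIndependent F z),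
      (Matrix.of fun i j : Fin (2 * e) => polar
        (⇑(Q.comp ((Submodule.span F (Set.range z)).subtype ∘ₗ ((Basis.span l).reindex σ.symm).equivFun.symm.toLinearMap)))
        (Pi.single i 1) (Pi.single j 1)).det = (Matrix.of fun a b => polar Q (z a) (z b)).det := by
    intro z l
    rw [← Matrix.det_submatrix_equiv_self σ (Matrix.of fun a b => polar Q (z a) (z b))]
    congr 1
    ext i j
    rw [Matrix.submatrix_apply, Matrix.of_apply, Matrix.of_apply, polar_comp]
    simp [Basis.span_apply, Pi.single_apply]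
  have hnd : ∀ (z : κ → V) (l : LinearIndependent F z), QuadBasis.Nondeg Q (Submodule.span F (Set.range z)) →
      (polarBilin (Q.comp ((Submodule.span F (Set.range z)).subtype ∘ₗ
        ((Basis.span l).reindex σ.symm).equivFun.symm.toLinearMap))).Nondegenerate := by
    intro z l hn
    refine QuadModels.nondegenerate fun v hv => ((Basis.span l).reindex σ.symm).equivFun.symm.injective ?_
    rw [map_zero]
    refine QuadModels.pnd_res Q hn _ fun w => ?_
    have := hv (((Basis.span l).reindex σ.symm).equivFun w)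
    rw [polar_comp, LinearMap.comp_apply, LinearMap.comp_apply, LinearEquiv.coe_coe, LinearEquiv.symm_apply_apply] at this
    rw [polar_comp]
    exact this
  refine hns ?_
  rw [← hG z₁ l₁, ← hG z₂ l₂]
  refine (QuadBasis.isometric_iff h2 _ _ (hnd z₁ l₁ n₁) (hnd z₂ l₂ n₂)).mp
    ⟨(b₁.equivFun.symm.trans φ).trans b₂.equivFun, fun v => ?_⟩
  simp only [QuadraticMap.comp_apply, LinearMap.comp_apply, LinearEquiv.coe_coe, LinearEquiv.trans_apply,
    Submodule.coe_subtype]
  show Q (b₂.equivFun.symm (b₂.equivFun (φ (b₁.equivFun.symm v))) : V) = _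
  rw [LinearEquiv.symm_apply_apply, hφ]

theorem exists_nondeg_sub (h2 : (2 : F) ≠ 0) {A : Submodule F V} (hA : QuadBasis.Nondeg Q A) {a : ℕ}
    (ha : a ≤ finrank F A) : ∃ U ≤ A, QuadBasis.Nondeg Q U ∧ finrank F U = a := by
  rcases Nat.eq_zero_or_pos a with rfl | ha0
  · exact ⟨⊥, bot_le, fun x hx _ => (Submodule.mem_bot F).mp hx, finrank_bot F V⟩
  obtain ⟨n, hn⟩ : ∃ n, finrank F A = n + 1 := ⟨finrank F A - 1, by omega⟩
  obtain ⟨v, d, hd, hvA, hvo, hvq⟩ := QuadBasis.exists_diagonal Q h2 n A hA hn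
  let z : Fin a → V := fun i => v (Fin.castLE (hn ▸ ha) i)
  have hG : (Matrix.of fun i j => polar Q (z i) (z j)).det ≠ 0 := by
    rw [show (Matrix.of fun i j => polar Q (z i) (z j)) = Matrix.diagonal (fun i => polar Q (z i) (z i)) from
      Matrix.ext fun i j => by
        rcases eq_or_ne i j with rfl | hij
        · simp
        · rw [Matrix.of_apply, Matrix.diagonal_apply_ne _ hij]
          exact hvo _ _ fun h => hij (Fin.castLE_injective _ h), Matrix.det_diagonal]
    refine Finset.prod_ne_zero_iff.mpr fun i _ => ?_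
    rw [QuadBasis.p_self, hvq]
    refine mul_ne_zero h2 ?_
    split_ifs
    · exact hd
    · exact one_ne_zero
  obtain ⟨-, hnd, hdim⟩ := span_facts z hG
  exact ⟨_, Submodule.span_le.mpr (by rintro _ ⟨i, rfl⟩; exact hvA _), hnd, by rw [hdim, Fintype.card_fin]⟩

/-- Completing a nondegenerate space by part of an orthogonal one to either type. -/
theorem exists_adjust (h2 : (2 : F) ≠ 0) {U A : Submodule F V} (hU : QuadBasis.Nondeg Q U) (hA : QuadBasis.Nondeg Q A)
    (hperp : ∀ x ∈ U, ∀ y ∈ A, polar Q x y = 0) {s e : ℕ} (hs : 1 ≤ s) (hsA : s < finrank F A)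
    (hdim : finrank F U + s = 2 * e) (P : Prop) :
    ∃ T ≤ A, QuadBasis.Nondeg Q (U ⊔ T) ∧ finrank F (↥(U ⊔ T)) = 2 * e ∧ (IsPlus Q (U ⊔ T) ↔ P) := by
  classical
  obtain ⟨s, rfl⟩ : ∃ t, s = t + 1 := ⟨s - 1, by omega⟩
  obtain ⟨n, hn⟩ : ∃ n, finrank F A = n + 1 := ⟨finrank F A - 1, by omega⟩
  obtain ⟨v, d, hd, hvA, hvo, hvq⟩ := QuadBasis.exists_diagonal Q h2 n A hA hn
  have hq0 : ∀ i, Q (v i) ≠ 0 := fun i => by rw [hvq]; split_ifs <;> simp [hd]
  obtain ⟨p₀, hp₀⟩ : ∃ p₀ : Fin (n + 1), p₀.val = s := ⟨⟨s, by omega⟩, rfl⟩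
  obtain ⟨p₁, hp₁⟩ : ∃ p₁ : Fin (n + 1), p₁.val = s + 1 := ⟨⟨s + 1, by omega⟩, rfl⟩
  obtain ⟨ν, hν⟩ : ∃ ν : F, ¬ IsSquare ν := FiniteField.exists_nonsquare fun h => h2 (by
    have : CharP F 2 := ringChar.of_eq h
    exact CharP.cast_eq_zero F 2)
  have hν0 : ν ≠ 0 := fun h => hν (h ▸ IsSquare.zero)
  obtain ⟨s₁, t₁, hst⟩ := QuadBasis.exists_form_rep h2 (Q (v p₀)) (Q (v p₁)) (ν * Q (v p₀)) (hq0 p₀) (hq0 p₁)
  have hp01 : p₀ ≠ p₁ := fun h => by rw [h] at hp₀; omega
  obtain ⟨y, hy⟩ : ∃ y, y = s₁ • v p₀ + t₁ • v p₁ := ⟨_, rfl⟩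
  have hQy : Q y = ν * Q (v p₀) := by
    rw [hy, QuadBasis.q_add, QuadBasis.q_smul, QuadBasis.q_smul, QuadBasis.p_smul_left, QuadBasis.p_smul_right,
      hvo _ _ hp01, mul_zero, mul_zero, add_zero]
    linear_combination hst
  let bU := Module.finBasis F U
  let fam : V → (Fin (finrank F U) ⊕ (Fin s ⊕ Unit)) → V := fun x =>
    Sum.elim (fun i => (bU i : V)) (Sum.elim (fun i => v ⟨i, by omega⟩) fun _ => x)
  have hlow : ∀ x, x = v p₀ ∨ x = y → ∀ i : Fin s, polar Q (v ⟨i, by omega⟩) x = 0 := by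
    intro x hx i
    have e0 : (⟨i, by omega⟩ : Fin (n + 1)) ≠ p₀ := fun h => by rw [← h] at hp₀; simp at hp₀; omega
    have e1 : (⟨i, by omega⟩ : Fin (n + 1)) ≠ p₁ := fun h => by rw [← h] at hp₁; simp at hp₁; omega
    rcases hx with rfl | rfl
    · exact hvo _ _ e0
    · rw [hy, polar_add_right, QuadBasis.p_smul_right, QuadBasis.p_smul_right, hvo _ _ e0, hvo _ _ e1]; ring
  have hxA : ∀ x, x = v p₀ ∨ x = y → x ∈ A := by
    rintro x (rfl | rfl)
    · exact hvA _
    · exact hy ▸ A.add_mem (A.smul_mem _ (hvA _)) (A.smul_mem _ (hvA _))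
  have hdetfam : ∀ x, x = v p₀ ∨ x = y → (Matrix.of fun a b => polar Q (fam x a) (fam x b)).det =
      (Matrix.of fun i j => polar Q (bU i : V) (bU j : V)).det *
        ((∏ i : Fin s, polar Q (v ⟨i, by omega⟩) (v ⟨i, by omega⟩)) * (2 * Q x)) := by
    intro x hx
    have hxp : polar Q x x = 2 * Q x := QuadBasis.p_self Q x
    have e : (Matrix.of fun a b => polar Q (fam x a) (fam x b)) = Matrix.fromBlocks
        (Matrix.of fun i j => polar Q (bU i : V) (bU j : V)) 0 0
        (Matrix.diagonal (Sum.elim (fun i : Fin s => polar Q (v ⟨i, by omega⟩) (v ⟨i, by omega⟩)) fun _ : Unit => 2 * Q x)) := by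
      ext (i | (i | i)) (j | (j | j))
      · simp [fam]
      · simpa [fam] using hperp _ (bU i).2 _ (hvA ⟨j, by omega⟩)
      · simpa [fam] using hperp _ (bU i).2 _ (hxA x hx)
      · simpa [fam, polar_comm _ (v _)] using hperp _ (bU j).2 _ (hvA ⟨i, by omega⟩)
      · rcases eq_or_ne i j with rfl | hij
        · simp [fam]
        · simpa [fam, hij] using hvo ⟨i, by omega⟩ ⟨j, by omega⟩ (fun h => hij (Fin.ext (congrArg (fun z : Fin (n + 1) => z.val) h)))
      · simpa [fam] using hlow x hx i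
      · simpa [fam, polar_comm _ x] using hperp _ (bU j).2 _ (hxA x hx)
      · simpa [fam, polar_comm _ x] using hlow x hx j
      · simpa [fam] using hxp
    rw [e, Matrix.det_fromBlocks_zero₂₁, Matrix.det_diagonal, Fintype.prod_sum_type]
    simp
  have hpr : ∏ i : Fin s, polar Q (v ⟨i, by omega⟩) (v ⟨i, by omega⟩) ≠ 0 :=
    Finset.prod_ne_zero_iff.mpr fun i _ => by rw [QuadBasis.p_self]; exact mul_ne_zero h2 (hq0 _)
  have hgU := gram_ne_zero hU bU
  have h₁ : (Matrix.of fun a b => polar Q (fam (v p₀) a) (fam (v p₀) b)).det ≠ 0 := by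
    rw [hdetfam _ (Or.inl rfl)]
    exact mul_ne_zero hgU (mul_ne_zero hpr (mul_ne_zero h2 (hq0 _)))
  have h₂ : (Matrix.of fun a b => polar Q (fam y a) (fam y b)).det =
      ν * (Matrix.of fun a b => polar Q (fam (v p₀) a) (fam (v p₀) b)).det := by
    rw [hdetfam _ (Or.inl rfl), hdetfam _ (Or.inr rfl), hQy]; ring
  have he : 1 ≤ e := by omega
  have hκ : Fintype.card (Fin (finrank F U) ⊕ (Fin s ⊕ Unit)) = 2 * e := by simp; omega
  have hns : ¬ IsSquare ((Matrix.of fun a b => polar Q (fam (v p₀) a) (fam (v p₀) b)).det *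
      (Matrix.of fun a b => polar Q (fam y a) (fam y b)).det) := by
    rw [h₂]
    rintro ⟨r, hr⟩
    refine hν ⟨r / (Matrix.of fun a b => polar Q (fam (v p₀) a) (fam (v p₀) b)).det, ?_⟩
    field_simp
    linear_combination hr
  have hfin : ∀ x, x = v p₀ ∨ x = y → (Matrix.of fun a b => polar Q (fam x a) (fam x b)).det ≠ 0 →
      (IsPlus Q (Submodule.span F (Set.range (fam x))) ↔ P) →
      ∃ T ≤ A, QuadBasis.Nondeg Q (U ⊔ T) ∧ finrank F (↥(U ⊔ T)) = 2 * e ∧ (IsPlus Q (U ⊔ T) ↔ P) := by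
    intro x hx hne hP
    obtain ⟨-, hnd, hdim'⟩ := span_facts (fam x) hne
    refine ⟨Submodule.span F (Set.range (Sum.elim (fun i : Fin s => v ⟨i, by omega⟩) fun _ : Unit => x)),
      Submodule.span_le.mpr ?_, ?_⟩
    · rintro _ ⟨i | i, rfl⟩
      · exact hvA _
      · exact hxA x hx
    have hspan : Submodule.span F (Set.range fun i => (bU i : V)) = U := by
      rw [show (fun i => (bU i : V)) = U.subtype ∘ bU from rfl, Set.range_comp, Submodule.span_image, bU.span_eq,
        Submodule.map_subtype_top]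
    have heq : U ⊔ Submodule.span F (Set.range (Sum.elim (fun i : Fin s => v ⟨i, by omega⟩) fun _ : Unit => x)) =
        Submodule.span F (Set.range (fam x)) := by
      show _ = Submodule.span F (Set.range (Sum.elim _ _))
      rw [Set.Sum.elim_range _ (Sum.elim (fun i : Fin s => v ⟨i, by omega⟩) fun _ : Unit => x), Submodule.span_union, hspan]
    rw [heq]
    exact ⟨hnd, hdim'.trans hκ, hP⟩
  rcases exists_type h2 he hκ (fam (v p₀)) (fam y) h₁ hns P with h | h
  · exact hfin _ (Or.inl rfl) h₁ h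
  · exact hfin _ (Or.inr rfl) (h₂ ▸ mul_ne_zero hν0 h₁) h

end Cfsg.Agent.Classical.Elusive.OType
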