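import Cfsg.Agent.Lib.Classical.Elusive.Unipotent
import Cfsg.Agent.Lib.Classical.OrthForms
import Cfsg.Agent.Lib.Small.OrthJordan
import Cfsg.Agent.Lib.Small.QuadDisc
import Cfsg.Agent.Lib.Small.QuadModels
import Cfsg.Prelude.Def_GeometricClasses

/-!
# Unipotent elements of orthogonal groups and invariant nondegenerate subspaces, odd characteristic
-/

set_option autoImplicit false
set_option linter.unusedSectionVars false

namespace Cfsg.Agent.Classical.Elusive

open Module QuadraticMap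
open Cfsg.Agent.Small (QuadBasis.isometric_iff)
open Cfsg.Agent.Small.JordanType (IsChain parts exists_chain sum_parts count_parts count_zero_parts)
open Cfsg.Agent.Small.JordanCent (nilM jordan_eq)
open Cfsg.Agent.Small.SpJordan (Nb jordanBlock_eq)

variable {F : Type*} [Field F] {p : ℕ} [Fact p.Prime]

section Abstract

variable {V : Type*} [AddCommGroup V] [Module F V] [FiniteDimensional F V]

theorem pow_pred_mul {f : Module.End F V} (hfp : f ^ p = 1) : f ^ (p - 1) * f = 1 ∧ f * f ^ (p - 1) = 1 := by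
  have hp := (Fact.out : p.Prime).pos
  constructor
  · rw [← pow_succ, Nat.sub_add_cancel hp, hfp]
  · rw [← pow_succ', Nat.sub_add_cancel hp, hfp]

theorem polar_map {Q : QuadraticForm F V} {f : Module.End F V} (hf : ∀ v, Q (f v) = Q v) (u v : V) :
    polar Q (f u) (f v) = polar Q u v := by
  simp only [polar, ← map_add, hf]

theorem polar_nil_pow {Q : QuadraticForm F V} {f : Module.End F V} (hfp : f ^ p = 1) (hf : ∀ v, Q (f v) = Q v) :
    ∀ (i : ℕ) (w : V), ((f - 1) ^ i) w = 0 → ∀ a, polar Q (((f - 1) ^ i) a) w = 0 := by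
  obtain ⟨hgf, hfg⟩ := pow_pred_mul hfp
  intro i
  induction i with
  | zero =>
    intro w hw a
    rw [pow_zero, Module.End.one_apply] at hw
    rw [hw, polar_zero_right]
  | succ i ih =>
    intro w hw a
    obtain ⟨u, hu⟩ : ∃ u, u = ((f - 1) ^ i) a := ⟨_, rfl⟩
    obtain ⟨g, hg⟩ : ∃ g, g = f ^ (p - 1) := ⟨_, rfl⟩
    rw [← hg] at hgf hfg
    have hfgw : f (g w) = w := by rw [← Module.End.mul_apply, hfg, Module.End.one_apply]
    have hswap : polar Q ((f - 1) u) w = -polar Q u ((f - 1) (g w)) := by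
      have h1 := polar_map hf u (g w)
      rw [hfgw] at h1
      simp only [LinearMap.sub_apply, Module.End.one_apply, polar_sub_left, polar_sub_right, hfgw, h1]
      ring
    have hcomm : Commute ((f - 1) ^ (i + 1)) g := by
      rw [hg]
      exact ((Commute.refl f).sub_left (Commute.one_left f)).pow_pow _ _
    rw [pow_succ', Module.End.mul_apply, ← hu, hswap, neg_eq_zero, hu]
    refine ih _ ?_ a
    rw [← Module.End.mul_apply, ← pow_succ, ← Module.End.mul_apply, hcomm.eq, Module.End.mul_apply, hw, map_zero]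

/-- With blocks of even size only, there is a totally singular subspace of half the dimension. -/
theorem exists_singular_half (h2 : (2 : F) ≠ 0) {Q : QuadraticForm F V} {f : Module.End F V} (hfp : f ^ p = 1)
    (hf : ∀ v, Q (f v) = Q v) {ι : Type*} [Fintype ι] {k : ι → ℕ} {b : Basis (Σ i, Fin (k i)) F V}
    (hb : IsChain (f - 1) b) (he : ∀ i, Even (k i)) :
    ∃ U : Submodule F V, (∀ u ∈ U, Q u = 0) ∧ 2 * finrank F U = finrank F V := by
  classical
  obtain ⟨J, hJ⟩ : ∃ J : (Σ i, Fin (k i / 2)) → (Σ i, Fin (k i)),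
      J = fun y => ⟨y.1, ⟨k y.1 - 1 - y.2, by have := y.2.isLt; omega⟩⟩ := ⟨_, rfl⟩
  have hinj : Function.Injective J := by
    rintro ⟨i, a⟩ ⟨j, c⟩ h
    rw [hJ] at h
    obtain rfl : i = j := congrArg Sigma.fst h
    simp only [Sigma.mk.injEq, heq_eq_eq, true_and, Fin.ext_iff] at h
    have := a.isLt
    have := c.isLt
    obtain rfl : a = c := Fin.ext (by omega)
    rfl
  have hshape : ∀ (i : ι) (a r : ℕ) (ha : a < k i), ((f - 1) ^ r) (b ⟨i, ⟨a, ha⟩⟩) =
      if h : a + r < k i then b ⟨i, ⟨a + r, h⟩⟩ else 0 := fun i a r ha => hb.pow r ⟨i, ⟨a, ha⟩⟩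
  have key : ∀ x y, ((J x).2 : ℕ) ≤ (J y).2 → polar Q (b (J y)) (b (J x)) = 0 := by
    intro x y hle
    obtain ⟨i, a⟩ := x
    obtain ⟨j, c⟩ := y
    have hx := a.isLt
    have hy := c.isLt
    subst hJ
    simp only at hle ⊢
    have h0 := hshape i (k i - 1 - a) (k j - 1 - c) (by omega)
    rw [dif_neg (show ¬ (k i - 1 - (a : ℕ) + (k j - 1 - c) < k i) by omega)] at h0
    have h1 := hshape j 0 (k j - 1 - c) (by omega)
    rw [dif_pos (by omega)] at h1
    have h3 := polar_nil_pow hfp hf _ _ h0 (b ⟨j, ⟨0, by omega⟩⟩)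
    rw [h1] at h3
    simpa using h3
  have hpol : ∀ x y, polar Q (b (J x)) (b (J y)) = 0 := by
    intro x y
    rcases le_total ((J x).2 : ℕ) (J y).2 with h | h
    · rw [polar_comm]; exact key x y h
    · exact key y x h
  refine ⟨Submodule.span F (Set.range fun y => b (J y)), fun u hu => ?_, ?_⟩
  · obtain ⟨c, rfl⟩ := (Submodule.mem_span_range_iff_exists_fun F).mp hu
    rw [Cfsg.Agent.Small.QuadBasis.q_sum]
    · refine Finset.sum_eq_zero fun y _ => ?_
      have h := hpol y y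
      rw [Cfsg.Agent.Small.QuadBasis.p_self, mul_eq_zero] at h
      rw [Cfsg.Agent.Small.QuadBasis.q_smul, h.resolve_left h2, mul_zero]
    · intro i j _
      rw [Cfsg.Agent.Small.QuadBasis.p_smul_left, Cfsg.Agent.Small.QuadBasis.p_smul_right, hpol, mul_zero, mul_zero]
  · rw [finrank_span_eq_card (show LinearIndependent F (fun y => b (J y)) from b.linearIndependent.comp _ hinj), Fintype.card_sigma, ← hb.sum_eq, Finset.mul_sum]
    refine Finset.sum_congr rfl fun i _ => ?_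
    rw [Fintype.card_fin]
    obtain ⟨r, hr⟩ := he i
    omega

/-- Even block sizes occur with even multiplicity. -/
theorem even_count_of_isometry (h2 : (2 : F) ≠ 0) {Q : QuadraticForm F V} (hQ : (polarBilin Q).Nondegenerate)
    {f : Module.End F V} (hf : ∀ v, Q (f v) = Q v) {t : ℕ} {k : Fin t → ℕ}
    {b : Basis (Σ i, Fin (k i)) F V} (hb : IsChain (f - 1) b) (e : ℕ) (he : Even e) :
    Even ((parts k).count e) := by
  classical
  rcases eq_or_ne e 0 with rfl | he0
  · rw [count_zero_parts]; exact ⟨0, rfl⟩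
  rw [count_parts k he0, Nat.card_eq_fintype_card, Fintype.card_subtype]
  have hM : LinearMap.toMatrix b b f = Cfsg.jordanTypeMatrix k F := by
    rw [jordan_eq, show f = 1 + (f - 1) by abel, map_add, LinearMap.toMatrix_one]
    congr 1
    ext ⟨i, a⟩ ⟨j, c⟩
    rw [LinearMap.toMatrix_apply, hb, nilM]
    by_cases h : (c : ℕ) + 1 < k j
    · rw [dif_pos h, Basis.repr_self, Finsupp.single_apply]
      rcases eq_or_ne i j with rfl | hij
      · simp [Fin.ext_iff, eq_comm]
      · simp [hij, Ne.symm hij]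
    · rw [dif_neg h, map_zero, Finsupp.zero_apply, if_neg]
      rintro ⟨h1, h2⟩
      dsimp only at h1 h2
      subst h1
      have := a.isLt
      omega
  obtain ⟨Ω, hΩ⟩ : ∃ Ω, Ω = LinearMap.toMatrix₂ b b (polarBilin Q) := ⟨_, rfl⟩
  refine Cfsg.Agent.Small.SpJordan.even_of_form_gen k (ε := (1 : F)) (one_mul 1) (Ω := Ω) ?_ ?_ ?_ e
    (Nat.pos_of_ne_zero he0) ?_ (Or.inl h2)
  · rw [Matrix.isUnit_iff_isUnit_det, isUnit_iff_ne_zero, hΩ]
    exact (LinearMap.nondegenerate_iff_det_ne_zero b).mp hQ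
  · rw [one_smul, hΩ]
    ext x y
    rw [Matrix.transpose_apply, LinearMap.toMatrix₂_apply, LinearMap.toMatrix₂_apply, polarBilin_apply_apply,
      polarBilin_apply_apply, polar_comm]
  · rw [hΩ, ← hM, ← LinearMap.toMatrix₂_compl₁₂]
    refine congrArg _ (LinearMap.ext fun u => LinearMap.ext fun v => ?_)
    rw [LinearMap.compl₁₂_apply, polarBilin_apply_apply, polarBilin_apply_apply, polar_map hf]
  · rw [one_mul, Odd.neg_one_pow]
    obtain ⟨r, hr⟩ := he
    exact ⟨r - 1, by omega⟩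

/-- The block sizes on an invariant nondegenerate subspace. -/
theorem sub_parts (h2 : (2 : F) ≠ 0) {Q : QuadraticForm F V}
    {f : Module.End F V} (hfp : f ^ p = 1) (hf : ∀ v, Q (f v) = Q v)
    {ι : Type*} [Fintype ι] {k : ι → ℕ} {b : Basis (Σ i, Fin (k i)) F V} (hb : IsChain (f - 1) b)
    (hnil : IsNilpotent (f - 1))
    (W : Submodule F V) (hW : ∀ w ∈ W, (∀ y ∈ W, polar Q w y = 0) → w = 0) (hinv : ∀ w ∈ W, f w ∈ W) :
    ∃ ν : Multiset ℕ, ν ≤ parts k ∧ ν.sum = finrank F W ∧ (∀ e, Even e → Even (ν.count e)) ∧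
      ((∀ a ∈ ν, Even a) → ∃ U ≤ W, (∀ u ∈ U, Q u = 0) ∧ 2 * finrank F U = finrank F W) := by
  classical
  obtain ⟨K, hK⟩ : ∃ K : Submodule F V, K = LinearMap.ker (W.subtype.dualMap ∘ₗ polarBilin Q) := ⟨_, rfl⟩
  have hmem : ∀ v, v ∈ K ↔ ∀ w ∈ W, polar Q v w = 0 := fun v => by
    rw [hK, LinearMap.mem_ker]
    constructor
    · intro h w hw
      exact LinearMap.congr_fun h ⟨w, hw⟩
    · exact fun h => LinearMap.ext fun w => h w.1 w.2
  have hdis : Disjoint W K := Submodule.disjoint_def.mpr fun x hx hx' => hW x hx ((hmem x).mp hx')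
  have hC : IsCompl W K := by
    refine ⟨hdis, codisjoint_iff.mpr (Submodule.eq_top_of_finrank_eq ?_)⟩
    have h1 := Submodule.finrank_sup_add_finrank_inf_eq W K
    rw [hdis.eq_bot, finrank_bot] at h1
    have h3 := (W.subtype.dualMap ∘ₗ polarBilin Q).finrank_range_add_finrank_ker
    have h4 := Submodule.finrank_le (LinearMap.range (W.subtype.dualMap ∘ₗ polarBilin Q))
    rw [Subspace.dual_finrank_eq] at h4
    have h5 := Submodule.finrank_le (W ⊔ K)
    rw [← hK] at h3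
    omega
  have hgW : ∀ (j : ℕ) (w : V), w ∈ W → (f ^ j) w ∈ W := by
    intro j
    induction j with
    | zero => exact fun w hw => hw
    | succ j ih => intro w hw; rw [pow_succ', Module.End.mul_apply]; exact hinv _ (ih w hw)
  have hWN : W.map (f - 1) ≤ W := by
    rintro _ ⟨w, hw, rfl⟩
    rw [LinearMap.sub_apply, Module.End.one_apply]
    exact W.sub_mem (hinv w hw) hw
  have hKN : K.map (f - 1) ≤ K := by
    rintro _ ⟨v, hv, rfl⟩
    rw [LinearMap.sub_apply, Module.End.one_apply]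
    refine K.sub_mem ((hmem _).mpr fun w hw => ?_) hv
    have hw' : f ((f ^ (p - 1)) w) = w := by
      rw [← Module.End.mul_apply, (pow_pred_mul hfp).2, Module.End.one_apply]
    rw [← hw', polar_map hf]
    exact (hmem v).mp hv _ (hgW _ w hw)
  obtain ⟨t, kW, bW, ν', hbW, hsum⟩ := parts_add_chain hC hWN hKN hnil hb
  obtain ⟨fW, hfW⟩ : ∃ fW, fW = f.restrict hinv := ⟨_, rfl⟩
  have hbW' : IsChain (fW - 1) bW := by
    have e : (fW - 1 : Module.End F W) = (f - 1).restrict (fun x hx => hWN ⟨x, hx, rfl⟩) :=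
      LinearMap.ext fun x => Subtype.ext (by rw [hfW]; rfl)
    rw [e]; exact hbW
  have hpW : ∀ (j : ℕ) (w : W), (((fW ^ j) w : W) : V) = (f ^ j) (w : V) := by
    intro j w
    induction j with
    | zero => rfl
    | succ j ih => rw [pow_succ', pow_succ', Module.End.mul_apply, Module.End.mul_apply, ← ih, hfW]; rfl
  have hfWp : fW ^ p = 1 := LinearMap.ext fun w => Subtype.ext (by rw [hpW, hfp]; rfl)
  have hfW' : ∀ w, Q.comp W.subtype (fW w) = Q.comp W.subtype w := fun w => by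
    rw [hfW, QuadraticMap.comp_apply, QuadraticMap.comp_apply]
    exact hf _
  have hnd : (polarBilin (Q.comp W.subtype)).Nondegenerate :=
    Cfsg.Agent.Small.QuadModels.nondegenerate fun x hx =>
      Subtype.ext (hW x.1 x.2 fun y hy => hx ⟨y, hy⟩)
  refine ⟨parts kW, hsum ▸ Multiset.le_add_right _ _, by rw [sum_parts, hbW.sum_eq],
    fun e he => even_count_of_isometry h2 hnd hfW' hbW' e he, fun hev => ?_⟩
  obtain ⟨U, hU, hUd⟩ := exists_singular_half h2 (Q := Q.comp W.subtype) hfWp hfW' hbW' fun i => by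
    rcases eq_or_ne (kW i) 0 with h0 | h0
    · rw [h0]; exact ⟨0, rfl⟩
    · refine hev _ ?_
      rw [parts, Multiset.mem_filter]
      exact ⟨Multiset.mem_map.mpr ⟨i, Finset.mem_univ i, rfl⟩, h0⟩
  refine ⟨U.map W.subtype, Submodule.map_subtype_le W U, ?_, ?_⟩
  · rintro _ ⟨u, hu, rfl⟩
    exact hU u hu
  · rw [Submodule.finrank_map_subtype_eq]; exact hUd

end Abstract

section Existence

variable [Fintype F] [CharP F p]

theorem exists_enum (μ : Multiset ℕ) : ∃ (t : ℕ) (d : Fin t → ℕ), Finset.univ.val.map d = μ :=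
  ⟨μ.toList.length, fun i => μ.toList.get i, by rw [Fin.univ_val_map, List.ofFn_get, Multiset.coe_toList]⟩

/-- In every nondegenerate space, an isometry with given block sizes, one of them odd. -/
theorem exists_isometry_fin (h2 : (2 : F) ≠ 0) {n : ℕ} (Q : QuadraticForm F (Fin n → F))
    (hQ : (polarBilin Q).Nondegenerate) (μ : Multiset ℕ) (hμ : ∀ a ∈ μ, 0 < a ∧ a ≤ p)
    (hev : ∀ a, Even a → Even (μ.count a)) (hsum : μ.sum = n) (hodd : ∃ e ∈ μ, Odd e) :
    ∃ (f : Module.End F (Fin n → F)) (t : ℕ) (k : Unit ⊕ Fin t → ℕ) (b : Basis (Σ i, Fin (k i)) F (Fin n → F)),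
      f ^ p = 1 ∧ (∀ v, Q (f v) = Q v) ∧ IsChain (f - 1) b ∧ parts k = μ := by
  classical
  obtain ⟨e, he, heo⟩ := hodd
  obtain ⟨μ', rfl⟩ := Multiset.exists_cons_of_mem he
  obtain ⟨t, d, hd⟩ := exists_enum μ'
  have hd1 : ∀ i, 0 < d i ∧ d i ≤ p := fun i =>
    hμ _ (Multiset.mem_cons_of_mem (hd ▸ Multiset.mem_map.mpr ⟨i, Finset.mem_univ i, rfl⟩))
  have hev' : ∀ j : ℕ, Even j → 0 < j → Even (Finset.univ.filter (fun i : Fin t => d i = j)).card := by
    intro j hj hj0
    have h := hev j hj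
    rw [Multiset.count_cons_of_ne (fun h : j = e => Nat.not_even_iff_odd.mpr heo (h ▸ hj))] at h
    have hpd : parts d = μ' := by
      rw [parts, hd]
      exact Multiset.filter_eq_self.mpr fun a ha => (hμ a (Multiset.mem_cons_of_mem ha)).1.ne'
    rwa [← hpd, count_parts d hj0.ne', Nat.card_eq_fintype_card, Fintype.card_subtype] at h
  obtain ⟨E, hEu, hEs, hEi⟩ := Cfsg.Agent.Small.OrthJordan.exists_sym_inv (F := F) h2 heo
  obtain ⟨Ω, hΩu, hΩs, hΩi⟩ := Cfsg.Agent.Small.OrthJordan.exists_sym_form d h2 (fun i => (hd1 i).1) hev'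
  have hE0 := ((Matrix.isUnit_iff_isUnit_det _).mp hEu).ne_zero
  have hΩ0 := ((Matrix.isUnit_iff_isUnit_det _).mp hΩu).ne_zero
  obtain ⟨k, hk⟩ : ∃ k : Unit ⊕ Fin t → ℕ, k = Sum.elim (fun _ => e) d := ⟨_, rfl⟩
  have hparts : parts k = e ::ₘ μ' := by
    rw [hk, parts, ← Finset.univ_disjSum_univ, Finset.val_disjSum, Multiset.disjSum, Multiset.map_add,
      Multiset.map_map, Multiset.map_map]
    refine (Multiset.filter_eq_self.mpr fun a ha => (hμ a ?_).1.ne').trans ?_
    · simpa [hd] using ha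
    · simp [Function.comp_def, hd]
  let ψ : (Σ i, Fin (k i)) ≃ Fin e ⊕ (Σ i, Fin (d i)) :=
    { toFun := fun x => match x with
        | ⟨.inl _, a⟩ => .inl (Fin.cast (by simp [hk]) a)
        | ⟨.inr i, a⟩ => .inr ⟨i, Fin.cast (by simp [hk]) a⟩
      invFun := fun y => match y with
        | .inl a => ⟨.inl (), Fin.cast (by simp [hk]) a⟩
        | .inr x => ⟨.inr x.1, Fin.cast (by simp [hk]) x.2⟩
      left_inv := by rintro ⟨u | i, a⟩ <;> rfl
      right_inv := by rintro (a | ⟨i, a⟩) <;> rfl }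
  obtain ⟨τ⟩ : Nonempty (Fin n ≃ Fin e ⊕ (Σ i, Fin (d i))) := ⟨Fintype.equivOfCardEq (by
    rw [Fintype.card_fin, Fintype.card_sum, Fintype.card_fin, Fintype.card_sigma, ← hsum, Multiset.sum_cons, ← hd]
    simp [Finset.sum])⟩
  obtain ⟨D, hD⟩ : ∃ D, D = (Matrix.of fun i j : Fin n => polar ⇑Q (Pi.single i 1) (Pi.single j 1)).det := ⟨_, rfl⟩
  have hgram : ∀ R : QuadraticForm F (Fin n → F),
      (Matrix.of fun i j : Fin n => polar ⇑R (Pi.single i 1) (Pi.single j 1)) =
        LinearMap.toMatrix₂' F (polarBilin R) := fun R => by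
    ext i j
    rw [LinearMap.toMatrix₂'_apply, polarBilin_apply_apply]
    rfl
  have hD0 : D ≠ 0 := by
    rw [hD, hgram, ← LinearMap.nondegenerate_toLinearMap₂'_iff_det_ne_zero, Matrix.toLinearMap₂'_toMatrix']
    exact hQ
  obtain ⟨c, hc⟩ : ∃ c, c = 2 ^ n * E.det * Ω.det * D := ⟨_, rfl⟩
  have hc0 : c ≠ 0 := hc ▸ mul_ne_zero (mul_ne_zero (mul_ne_zero (pow_ne_zero _ h2) hE0) hΩ0) hD0
  obtain ⟨G, hG⟩ : ∃ G, G = (Matrix.fromBlocks (c • E) 0 0 Ω).submatrix τ τ := ⟨_, rfl⟩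
  obtain ⟨Nm, hNm⟩ : ∃ Nm, Nm = (Matrix.fromBlocks (Nb e F) 0 0 (nilM F d)).submatrix τ τ := ⟨_, rfl⟩
  have hM : 1 + Nm = (Matrix.fromBlocks (Cfsg.jordanBlock e F) 0 0 (Cfsg.jordanTypeMatrix d F)).submatrix τ τ := by
    rw [hNm, jordanBlock_eq, jordan_eq, ← Matrix.submatrix_one_equiv τ, ← Matrix.fromBlocks_one]
    show (Matrix.fromBlocks 1 0 0 1 + Matrix.fromBlocks (Nb e F) 0 0 (nilM F d)).submatrix τ τ = _
    rw [Matrix.fromBlocks_add, add_zero, add_zero]
  have hGs : G.transpose = G := by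
    rw [hG, Matrix.transpose_submatrix, Matrix.fromBlocks_transpose, Matrix.transpose_smul, hEs, hΩs,
      Matrix.transpose_zero, Matrix.transpose_zero]
  have hGi : (1 + Nm).transpose * G * (1 + Nm) = G + 0 := by
    rw [hM, hG, Matrix.transpose_submatrix, Matrix.submatrix_mul_equiv, Matrix.submatrix_mul_equiv, add_zero,
      Matrix.fromBlocks_transpose, Matrix.fromBlocks_multiply, Matrix.fromBlocks_multiply]
    simp [hEi, hΩi]
  have hdet : (G + G.transpose).det = 2 ^ n * (c ^ e * E.det * Ω.det) := by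
    rw [hGs, ← two_smul F G, Matrix.det_smul, Fintype.card_fin, hG, Matrix.det_submatrix_equiv_self,
      Matrix.det_fromBlocks_zero₁₂, Matrix.det_smul, Fintype.card_fin]
  obtain ⟨g, hg⟩ := (QuadBasis.isometric_iff h2 (Cfsg.Agent.Small.OrthJordan.qf G) Q (by
      rw [Cfsg.Agent.Small.OrthJordan.qf_polarBilin, LinearMap.nondegenerate_toLinearMap₂'_iff_det_ne_zero, hdet]
      exact mul_ne_zero (pow_ne_zero _ h2) (mul_ne_zero (mul_ne_zero (pow_ne_zero _ hc0) hE0) hΩ0)) hQ).mpr (by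
      rw [hgram (Cfsg.Agent.Small.OrthJordan.qf G), Cfsg.Agent.Small.OrthJordan.qf_polarBilin,
        LinearMap.toMatrix'_toLinearMap₂', hdet, ← hD]
      obtain ⟨r, hr⟩ := heo
      refine ⟨c ^ (r + 1), ?_⟩
      rw [← pow_add, show r + 1 + (r + 1) = e + 1 by omega, pow_succ]
      nth_rw 3 [hc]
      ring)
  have hb0 : IsChain (Matrix.toLin' Nm) ((Pi.basisFun F (Fin n)).reindex (τ.trans ψ.symm)) := by
    intro x
    obtain ⟨y, rfl⟩ := ψ.symm.surjective x
    rw [Basis.reindex_apply, Pi.basisFun_apply, Matrix.toLin'_apply, Matrix.mulVec_single_one]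
    funext r
    obtain ⟨z, rfl⟩ := τ.symm.surjective r
    rcases y with a | ⟨j, a⟩
    · by_cases h : (a : ℕ) + 1 < e
      · rw [dif_pos (by simpa [ψ, hk] using h), Basis.reindex_apply, Pi.basisFun_apply]
        rcases z with i | i <;>
          simp [hNm, ψ, Nb, Pi.single_apply, Fin.ext_iff]
      · rw [dif_neg (by simpa [ψ, hk] using h), Pi.zero_apply]
        rcases z with i | i
        · have := i.isLt
          simp [hNm, ψ, Nb]
          omega
        · simp [hNm, ψ]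
    · by_cases h : (a : ℕ) + 1 < d j
      · rw [dif_pos (by simpa [ψ, hk] using h), Basis.reindex_apply, Pi.basisFun_apply]
        rcases z with i | ⟨l, i⟩
        · simp [hNm, ψ, Pi.single_apply]
        · rcases eq_or_ne l j with rfl | hlj
          · simp [hNm, ψ, nilM, Pi.single_apply, Fin.ext_iff]
          · simp [hNm, ψ, nilM, Pi.single_apply, hlj]
      · rw [dif_neg (by simpa [ψ, hk] using h), Pi.zero_apply]
        rcases z with i | ⟨l, i⟩
        · simp [hNm, ψ]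
        · rcases eq_or_ne l j with rfl | hlj
          · have := i.isLt
            simp [hNm, ψ, nilM]
            omega
          · simp [hNm, ψ, nilM, hlj]
  obtain ⟨f, hfdef⟩ : ∃ f : Module.End F (Fin n → F), ∀ v, f v = g (Matrix.toLin' (1 + Nm) (g.symm v)) :=
    ⟨g.toLinearMap ∘ₗ Matrix.toLin' (1 + Nm) ∘ₗ g.symm.toLinearMap, fun _ => rfl⟩
  have hb1 : IsChain (f - 1) (((Pi.basisFun F (Fin n)).reindex (τ.trans ψ.symm)).map g) := by
    intro x
    rw [Basis.map_apply, LinearMap.sub_apply, Module.End.one_apply, hfdef, LinearEquiv.symm_apply_apply, map_add,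
      Matrix.toLin'_one, LinearMap.add_apply, LinearMap.id_apply, map_add, add_sub_cancel_left, hb0]
    split_ifs <;> simp
  have hp1 : ∀ i, k i ≤ p := by
    rintro (u | i)
    · rw [hk]; exact (hμ e (Multiset.mem_cons_self e μ')).2
    · rw [hk]; exact (hd1 i).2
  have hn : 0 < n := by
    rw [← hsum, Multiset.sum_cons]
    exact Nat.lt_of_lt_of_le heo.pos (Nat.le_add_right _ _)
  haveI := char_end (F := F) (p := p) hn.ne'
  haveI : ExpChar (Module.End F (Fin n → F)) p := ExpChar.prime Fact.out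
  refine ⟨f, t, k, _, ?_, fun v => ?_, hb1, hparts⟩
  · rw [show f = 1 + (f - 1) by abel, add_pow_char_of_commute p (Commute.one_left _), one_pow,
      (hb1.pow_eq_zero_iff p).mpr hp1, add_zero]
  · rw [hfdef, hg, Matrix.toLin'_apply,
      Cfsg.Agent.Small.OrthJordan.isometric_of_alt hGi (fun _ _ => by simp) (fun _ => rfl), ← hg,
      LinearEquiv.apply_symm_apply]

variable {ι : Type} [Fintype ι] [DecidableEq ι]

/-- An element of `Ω` of order the characteristic with given block sizes, one of them odd. -/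
theorem exists_omega_unipotent (h2 : (2 : F) ≠ 0) {Q : QuadraticForm F (ι → F)} (hQ : OCount.PND Q) (μ : Multiset ℕ)
    (hμ : ∀ a ∈ μ, 0 < a ∧ a ≤ p) (hev : ∀ a, Even a → Even (μ.count a)) (hsum : μ.sum = Fintype.card ι)
    (hodd : ∃ e ∈ μ, Odd e) (hbig : ∃ e ∈ μ, 2 ≤ e) :
    ∃ x : GL ι F, x ∈ Cfsg.Geo.omegaGL ⇑Q ∧ x ^ p = 1 ∧ (∀ z : F, (x : Matrix ι ι F) ≠ z • (1 : Matrix ι ι F)) ∧
      (∀ v, Q (Matrix.toLin' (x : Matrix ι ι F) v) = Q v) ∧
      ∃ (t : ℕ) (k : Unit ⊕ Fin t → ℕ) (b : Basis (Σ i, Fin (k i)) F (ι → F)),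
        IsChain (Matrix.toLin' (x : Matrix ι ι F) - 1) b ∧ parts k = μ := by
  classical
  obtain ⟨L⟩ : Nonempty ((Fin (Fintype.card ι) → F) ≃ₗ[F] (ι → F)) :=
    ⟨LinearEquiv.funCongrLeft F F (Fintype.equivFin ι)⟩
  obtain ⟨f, t, k, b, hfp, hf, hb, hk⟩ := exists_isometry_fin h2 (Q.comp L.toLinearMap)
    (Cfsg.Agent.Small.QuadModels.nondegenerate fun v hv => L.injective (by
      rw [map_zero]
      refine hQ _ fun w => ?_
      have := hv (L.symm w)
      simpa [polar] using this)) μ hμ hev hsum hodd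
  obtain ⟨A, hA⟩ := (Matrix.toLin' (R := F) (m := ι) (n := ι)).surjective
    (L.toLinearMap ∘ₗ f ∘ₗ L.symm.toLinearMap)
  have hA' : ∀ v, Matrix.toLin' A v = L (f (L.symm v)) := fun v => by rw [hA]; rfl
  have hpow : ∀ (j : ℕ) v, ((Matrix.toLin' A) ^ j) v = L ((f ^ j) (L.symm v)) := by
    intro j v
    induction j generalizing v with
    | zero => simp
    | succ j ih => rw [pow_succ, Module.End.mul_apply, hA', ih, LinearEquiv.symm_apply_apply, pow_succ]; rfl
  have hAp : A ^ p = 1 := by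
    apply Matrix.toLin'.injective
    refine LinearMap.ext fun v => ?_
    rw [Matrix.toLin'_pow, hpow, hfp, Matrix.toLin'_one]
    simp
  obtain ⟨x, rfl⟩ := IsUnit.of_pow_eq_one hAp (Fact.out : p.Prime).ne_zero
  have hxp : x ^ p = 1 := Units.ext hAp
  have hiso : ∀ v, Q (Matrix.toLin' (x : Matrix ι ι F) v) = Q v := fun v => by
    rw [hA']
    have h := hf (L.symm v)
    simpa using h
  have hb' : IsChain (Matrix.toLin' (x : Matrix ι ι F) - 1) (b.map L) := by
    intro y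
    rw [Basis.map_apply, LinearMap.sub_apply, Module.End.one_apply, hA', LinearEquiv.symm_apply_apply, ← map_sub,
      show f (b y) - b y = (f - 1) (b y) from rfl, hb]
    split_ifs <;> simp
  have hx : x ∈ Cfsg.isometryGroup F ⇑Q := fun v _ => hiso v
  refine ⟨x, ?_, hxp, ?_, hiso, t, k, b.map L, hb', hk⟩
  · obtain ⟨r, hr⟩ : Odd p := (Fact.out : p.Prime).odd_of_ne_two fun h => h2 (by
      subst h; exact CharP.cast_eq_zero F 2)
    obtain ⟨y, hy⟩ : ∃ y : ↥(Cfsg.isometryGroup F ⇑Q), y = ⟨x, hx⟩ ^ (r + 1) := ⟨_, rfl⟩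
    refine ⟨y * y, ?_, ?_⟩
    · rw [SetLike.mem_coe, OOmega.omega_eq_map]
      refine ⟨(ORefl.toMat Q).symm (y * y), ?_, MulEquiv.apply_symm_apply _ _⟩
      rw [SetLike.mem_coe, OOmega.commutator_eq h2 hQ ?_, MonoidHom.mem_ker, map_mul, map_mul]
      · exact Prod.ext (Int.units_mul_self _) (Int.units_mul_self _)
      · rw [finrank_fintype_fun_eq_card, ← hsum]
        obtain ⟨a, ha, ha2⟩ := hbig
        exact ha2.trans (Multiset.le_sum_of_mem ha)
    · rw [hy, Subgroup.coe_subtype, Subgroup.coe_mul, SubgroupClass.coe_pow, ← pow_add,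
        show r + 1 + (r + 1) = p + 1 by omega, pow_succ, hxp, one_mul]
  · intro z hz
    obtain ⟨a, ha, ha2⟩ := hbig
    rw [← hk, parts, Multiset.mem_filter, Multiset.mem_map] at ha
    obtain ⟨i, -, rfl⟩ := ha.1
    have h3 := hb' ⟨i, ⟨0, by omega⟩⟩
    rw [dif_pos (show (0 : ℕ) + 1 < k i by omega), LinearMap.sub_apply, Module.End.one_apply, hz, map_smul,
      Matrix.toLin'_one, LinearMap.smul_apply, LinearMap.id_apply] at h3
    have h5 := congrArg (fun v => (b.map L).repr v ⟨i, ⟨0 + 1, by omega⟩⟩) h3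
    simp [Finsupp.single_apply] at h5

/-- A fixed nondegenerate `m`-space gives a subpartition of `m`. -/
theorem subpartition_of_fixed (h2 : (2 : F) ≠ 0) {Q : QuadraticForm F (ι → F)} (hQ : OCount.PND Q) {m : ℕ}
    (P : Submodule F (ι → F) → Prop)
    (H : ∀ x : GL ι F, x ∈ Cfsg.Geo.omegaGL ⇑Q → x ^ p = 1 →
      (∀ z : F, (x : Matrix ι ι F) ≠ z • (1 : Matrix ι ι F)) →
      ∃ W : Submodule F (ι → F), (finrank F ↥W = m ∧ Cfsg.Geo.IsNondegenerateOn (polar ⇑Q) W ∧ P W) ∧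
        W.map (Matrix.toLin' (x : Matrix ι ι F)) ≤ W)
    (μ : Multiset ℕ) (hμ : ∀ a ∈ μ, 0 < a ∧ a ≤ p) (hev : ∀ a, Even a → Even (μ.count a))
    (hsum : μ.sum = Fintype.card ι) (hodd : ∃ e ∈ μ, Odd e) (hbig : ∃ e ∈ μ, 2 ≤ e) :
    ∃ ν : Multiset ℕ, ν ≤ μ ∧ ν.sum = m ∧ (∀ e, Even e → Even (ν.count e)) ∧
      ((∀ a ∈ ν, Even a) → ∃ W, P W ∧ Cfsg.Geo.IsPlusTypeOn ⇑Q W) := by
  obtain ⟨x, hx, hxp, hxs, hiso, t, k, b, hb, rfl⟩ := exists_omega_unipotent h2 hQ μ hμ hev hsum hodd hbig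
  obtain ⟨W, ⟨hWd, hWn, hP⟩, hWx⟩ := H x hx hxp hxs
  have hfp : (Matrix.toLin' (x : Matrix ι ι F)) ^ p = 1 := by
    rw [← Matrix.toLin'_pow, ← Units.val_pow_eq_pow_val, hxp, Units.val_one, Matrix.toLin'_one]
    rfl
  obtain ⟨ν, h1, hs, he, hU⟩ := sub_parts h2 hfp hiso hb
    ⟨p, (hb.pow_eq_zero_iff p).mpr fun i => by
      rcases eq_or_ne (k i) 0 with h0 | h0
      · omega
      · refine (hμ (k i) ?_).2
        rw [parts, Multiset.mem_filter]
        exact ⟨Multiset.mem_map.mpr ⟨i, Finset.mem_univ i, rfl⟩, h0⟩⟩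
    W (fun w hw h => by
      by_contra hne
      obtain ⟨y, hy, hyw⟩ := (hWn w hw hne).2
      exact hyw (h y hy))
    fun w hw => hWx ⟨w, hw, rfl⟩
  refine ⟨ν, h1, hs.trans hWd, he, fun ha => ?_⟩
  obtain ⟨U, hUW, hU0, hUd⟩ := hU ha
  exact ⟨W, hP, U, hUW, hU0, hUd⟩

end Existence

/-! ### Partitions -/

theorem le_cons_cases {a : ℕ} {ν s : Multiset ℕ} (h : ν ≤ a ::ₘ s) :
    ν ≤ s ∨ ∃ ν₁, ν = a ::ₘ ν₁ ∧ ν₁ ≤ s := by
  by_cases ha : a ∈ ν
  · obtain ⟨ν₁, rfl⟩ := Multiset.exists_cons_of_mem ha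
    exact Or.inr ⟨ν₁, rfl, (Multiset.cons_le_cons_iff a).mp h⟩
  · exact Or.inl ((Multiset.le_cons_of_notMem ha).mp h)

theorem even_sum {ν : Multiset ℕ} (h : ∀ a ∈ ν, Even a) : Even ν.sum :=
  even_iff_two_dvd.mpr (Multiset.dvd_sum fun a ha => even_iff_two_dvd.mp (h a ha))

theorem sum_mod_four_of_twos {ν : Multiset ℕ} {j : ℕ} (h : ν ≤ Multiset.replicate j 2) (he : Even (ν.count 2)) :
    ν.sum % 4 = 0 := by
  obtain ⟨c, -, rfl⟩ := Multiset.le_replicate_iff.mp h
  rw [Multiset.count_replicate_self] at he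
  obtain ⟨r, rfl⟩ := he
  rw [Multiset.sum_replicate, smul_eq_mul]
  omega

/-- It suffices to treat partitions having an odd part and a part at least two. -/
theorem partition_cond {p : ℕ} (hp : Odd p) {n m : ℕ} (hme : Even m) (hmn : m ≤ n)
    (H : ∀ μ : Multiset ℕ, (∀ e ∈ μ, 0 < e ∧ e ≤ p) → (∀ e : ℕ, Even e → Even (μ.count e)) → μ.sum = n →
      (∃ e ∈ μ, Odd e) → (∃ e ∈ μ, 2 ≤ e) →
      ∃ ν : Multiset ℕ, ν ≤ μ ∧ ν.sum = m ∧ ∀ e : ℕ, Even e → Even (ν.count e))
    (μ : Multiset ℕ) (hμ : ∀ e ∈ μ, 0 < e ∧ e ≤ p) (hev : ∀ e : ℕ, Even e → Even (μ.count e)) (hsum : μ.sum = n) :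
    ∃ ν : Multiset ℕ, ν ≤ μ ∧ ν.sum = m ∧ ∀ e : ℕ, Even e → Even (ν.count e) := by
  by_cases hb : ∃ e ∈ μ, 2 ≤ e
  swap
  · push Not at hb
    have h1 : μ = Multiset.replicate (Multiset.card μ) 1 :=
      Multiset.eq_replicate_card.mpr fun a ha => by have := hb a ha; have := (hμ a ha).1; omega
    have hc : Multiset.card μ = n := by rw [← hsum, h1]; simp
    refine ⟨Multiset.replicate m 1, ?_, by simp, fun e he => ?_⟩
    · rw [h1, hc]; exact (Multiset.replicate_le_replicate 1).mpr hmn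
    · rw [Multiset.count_replicate, if_neg (fun h => by subst h; exact absurd he (by decide))]
      exact ⟨0, rfl⟩
  by_cases ho : ∃ e ∈ μ, Odd e
  · exact H μ hμ hev hsum ho hb
  have hall : ∀ e ∈ μ, Even e := fun e he => Nat.not_odd_iff_even.mp fun h => ho ⟨e, he, h⟩
  obtain ⟨e, hem, he2⟩ := hb
  have hee := hall e hem
  obtain ⟨μ₁, rfl⟩ := Multiset.exists_cons_of_mem hem
  have hem1 : e ∈ μ₁ := Multiset.count_pos.mp (by
    have h := hev e hee
    rw [Multiset.count_cons_self] at h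
    obtain ⟨r, hr⟩ := h
    omega)
  obtain ⟨μ', rfl⟩ := Multiset.exists_cons_of_mem hem1
  obtain ⟨r, hr⟩ := hp
  obtain ⟨s, hs⟩ := hee
  have hep : e ≤ p := (hμ e (Multiset.mem_cons_self _ _)).2
  have hμ' : ∀ a ∈ μ', Even a := fun a ha => hall a (Multiset.mem_cons_of_mem (Multiset.mem_cons_of_mem ha))
  obtain ⟨ν, hν, hνs, hνe⟩ := H ((e + 1) ::ₘ (e - 1) ::ₘ μ')
    (fun a ha => by
      rcases Multiset.mem_cons.mp ha with rfl | ha
      · omega
      rcases Multiset.mem_cons.mp ha with rfl | ha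
      · omega
      exact hμ a (Multiset.mem_cons_of_mem (Multiset.mem_cons_of_mem ha)))
    (fun a ha => by
      obtain ⟨u, hu⟩ := ha
      rw [Multiset.count_cons_of_ne (by omega), Multiset.count_cons_of_ne (by omega)]
      have h := hev a ⟨u, hu⟩
      by_cases hae : a = e
      · subst hae
        rw [Multiset.count_cons_self, Multiset.count_cons_self] at h
        obtain ⟨v, hv⟩ := h
        exact ⟨v - 1, by omega⟩
      · rwa [Multiset.count_cons_of_ne hae, Multiset.count_cons_of_ne hae] at h)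
    (by simp only [Multiset.sum_cons] at hsum ⊢; omega)
    ⟨e + 1, Multiset.mem_cons_self _ _, ⟨s, by omega⟩⟩ ⟨e + 1, Multiset.mem_cons_self _ _, by omega⟩
  obtain ⟨w, hw⟩ := hme
  rcases le_cons_cases hν with hν' | ⟨ν₁, rfl, hν₁⟩
  · rcases le_cons_cases hν' with hν'' | ⟨ν₂, rfl, hν₂⟩
    · exact ⟨ν, hν''.trans ((Multiset.le_cons_self _ _).trans (Multiset.le_cons_self _ _)), hνs, hνe⟩
    · obtain ⟨v, hv⟩ := even_sum fun a ha => hμ' a (Multiset.mem_of_le hν₂ ha)
      rw [Multiset.sum_cons] at hνs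
      omega
  · rcases le_cons_cases hν₁ with hν'' | ⟨ν₂, rfl, hν₂⟩
    · obtain ⟨v, hv⟩ := even_sum fun a ha => hμ' a (Multiset.mem_of_le hν'' ha)
      rw [Multiset.sum_cons] at hνs
      omega
    · refine ⟨e ::ₘ e ::ₘ ν₂, Multiset.cons_le_cons _ (Multiset.cons_le_cons _ hν₂), ?_, fun a ha => ?_⟩
      · simp only [Multiset.sum_cons] at hνs ⊢; omega
      · have h := hνe a ha
        obtain ⟨u, hu⟩ := ha
        rw [Multiset.count_cons_of_ne (by omega), Multiset.count_cons_of_ne (by omega)] at h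
        obtain ⟨v, hv⟩ := h
        by_cases hae : a = e
        · subst hae
          rw [Multiset.count_cons_self, Multiset.count_cons_self]
          exact ⟨v + 1, by omega⟩
        · rw [Multiset.count_cons_of_ne hae, Multiset.count_cons_of_ne hae]
          exact ⟨v, hv⟩

end Cfsg.Agent.Classical.Elusive
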