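import Cfsg.Agent.Lib.Classical.Elusive.Cases

/-!
# Pairs of invariant subspaces
-/

set_option autoImplicit false

namespace Cfsg.Agent.Classical.Elusive

open Polynomial Module

universe u

variable {F : Type u} [Field F]

/-- Disjoint invariant subspaces give a divisor of the characteristic polynomial of product shape. -/
theorem exists_dvd_pair {V : Type*} [AddCommGroup V] [Module F V] [FiniteDimensional F V] {f : Module.End F V}
    (hs : f.IsSemisimple) {U W : Submodule F V} (hU : U.map f ≤ U) (hW : W.map f ≤ W) (hle : U ≤ W) :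
    ∃ g₁ g₂ : F[X], g₁ * g₂ ∣ f.charpoly ∧ g₁.natDegree = finrank F U ∧
      g₂.natDegree + finrank F W = finrank F V := by
  have hW' : W ∈ f.invtSubmodule := (Module.End.mem_invtSubmodule_iff_map_le f).mpr hW
  obtain ⟨C, hC, hc⟩ := Module.End.isSemisimple_iff.1 hs W hW'
  have hU' : (U.comap W.subtype).map (f.restrict hW') ≤ U.comap W.subtype := by
    rintro _ ⟨x, hx, rfl⟩
    exact hU ⟨(x : V), hx, rfl⟩
  obtain ⟨g₁, hg₁, hd⟩ := exists_dvd_of_invariant (Module.End.IsSemisimple.restrict hW' hs) hU'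
  refine ⟨g₁, (f.restrict hC).charpoly, ?_, ?_, ?_⟩
  · rw [charpoly_pieces hc hW' hC]
    exact mul_dvd_mul_right hg₁ _
  · rw [hd]; exact (Submodule.comapSubtypeEquivOfLe hle).finrank_eq
  · rw [LinearMap.charpoly_natDegree, add_comm]
    exact Submodule.finrank_add_eq_of_isCompl hc

theorem degree_pair {q g₁ g₂ : F[X]} (hq : Irreducible q) (hq1 : 2 ≤ q.natDegree) {a b : ℕ}
    (hg : g₁ * g₂ ∣ (X - C (1 : F)) ^ a * q ^ b) :
    ∃ a₁ b₁ a₂ b₂, a₁ + a₂ ≤ a ∧ g₁.natDegree = a₁ + q.natDegree * b₁ ∧ g₂.natDegree = a₂ + q.natDegree * b₂ := by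
  have key : ∀ g, g ∣ (X - C (1 : F)) ^ a * q ^ b → ∃ a' b', Associated g ((X - C (1 : F)) ^ a' * q ^ b') ∧
      g.natDegree = a' + q.natDegree * b' := fun g hg => by
    obtain ⟨d₁, d₂, h₁, h₂, rfl⟩ := exists_dvd_and_dvd_of_dvd_mul hg
    obtain ⟨a', -, e₁⟩ := (dvd_prime_pow (prime_X_sub_C (1 : F)) a).mp h₁
    obtain ⟨b', -, e₂⟩ := (dvd_prime_pow hq.prime b).mp h₂
    refine ⟨a', b', e₁.mul_mul e₂, ?_⟩
    rw [natDegree_eq_of_degree_eq (degree_eq_degree_of_associated (e₁.mul_mul e₂)),
      natDegree_mul (pow_ne_zero _ (X_sub_C_ne_zero _)) (pow_ne_zero _ hq.ne_zero),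
      natDegree_pow, natDegree_pow, natDegree_X_sub_C, mul_one, mul_comm]
  obtain ⟨a₁, b₁, e₁, d₁⟩ := key g₁ ((dvd_mul_right _ _).trans hg)
  obtain ⟨a₂, b₂, e₂, d₂⟩ := key g₂ ((dvd_mul_left _ _).trans hg)
  refine ⟨a₁, b₁, a₂, b₂, ?_, d₁, d₂⟩
  have h1 : (X - C (1 : F)) ^ (a₁ + a₂) ∣ (X - C (1 : F)) ^ a * q ^ b := by
    rw [pow_add]
    exact (mul_dvd_mul ((dvd_mul_right _ _).trans e₁.symm.dvd) ((dvd_mul_right _ _).trans e₂.symm.dvd)).trans hg
  have hco : IsCoprime (X - C (1 : F)) q := (irreducible_X_sub_C (1 : F)).coprime_iff_not_dvd.mpr fun h => by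
    have := natDegree_eq_of_degree_eq (degree_eq_degree_of_associated
      ((irreducible_X_sub_C (1 : F)).associated_of_dvd hq h))
    rw [natDegree_X_sub_C] at this
    omega
  have := natDegree_le_of_dvd ((hco.pow (m := a₁ + a₂) (n := b)).dvd_of_dvd_mul_right h1) (pow_ne_zero _ (X_sub_C_ne_zero _))
  rwa [natDegree_pow, natDegree_pow, natDegree_X_sub_C, mul_one, mul_one] at this

variable [Fintype F]

/-- Duality between dimensions. -/
theorem card_subspaces_symm {n k : ℕ} (hk : k ≤ n) :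
    Nat.card {W : Submodule F (Fin n → F) // finrank F W = k} =
      Nat.card {W : Submodule F (Fin n → F) // finrank F W = n - k} := by
  classical
  have key : ∀ k, k ≤ n → Nat.card {W : Submodule F (Fin n → F) // finrank F W = k} ≤
      Nat.card {W : Submodule F (Fin n → F) // finrank F W = n - k} := fun k hk => by
    let e : Module.Dual F (Fin n → F) ≃ₗ[F] (Fin n → F) := ((Pi.basisFun F (Fin n)).toDualEquiv).symm
    refine Nat.card_le_card_of_injective
      (fun W => ⟨W.1.dualAnnihilator.map (e : Module.Dual F (Fin n → F) →ₗ[F] (Fin n → F)), ?_⟩) fun W₁ W₂ h => ?_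
    · rw [LinearEquiv.finrank_map_eq]
      have := Subspace.finrank_add_finrank_dualAnnihilator_eq W.1
      rw [W.2, Module.finrank_fin_fun] at this
      omega
    · have h' := Submodule.map_injective_of_injective e.injective (congrArg Subtype.val h)
      exact Subtype.ext (Subspace.dualAnnihilator_inj.mp h')
  refine le_antisymm (key k hk) ?_
  have := key (n - k) (Nat.sub_le _ _)
  rwa [Nat.sub_sub_self hk] at this

theorem card_subspaces_of_equiv {n k : ℕ} (W : Submodule F (Fin n → F)) :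
    Nat.card {U : Submodule F (Fin n → F) // U ≤ W ∧ finrank F U = k} =
      Nat.card {U : Submodule F (Fin (finrank F W) → F) // finrank F U = k} := by
  let e : W ≃ₗ[F] (Fin (finrank F W) → F) := (Module.finBasis F W).equivFun
  refine Nat.card_congr
    { toFun := fun U => ⟨(U.1.comap W.subtype).map (e : W →ₗ[F] (Fin (finrank F W) → F)), by
        rw [LinearEquiv.finrank_map_eq, (Submodule.comapSubtypeEquivOfLe U.2.1).finrank_eq, U.2.2]⟩
      invFun := fun U => ⟨(U.1.map (e.symm : (Fin (finrank F W) → F) →ₗ[F] W)).map W.subtype, Submodule.map_subtype_le _ _, by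
        rw [Submodule.finrank_map_subtype_eq, LinearEquiv.finrank_map_eq, U.2]⟩
      left_inv := fun U => Subtype.ext (by
        show (((U.1.comap W.subtype).map (e : W →ₗ[F] (Fin (finrank F W) → F))).map (e.symm : (Fin (finrank F W) → F) →ₗ[F] W)).map W.subtype = U.1
        rw [← Submodule.map_comp (f := (e : W →ₗ[F] (Fin (finrank F W) → F))), LinearEquiv.symm_comp, Submodule.map_id,
          Submodule.map_comap_eq, Submodule.range_subtype, inf_eq_right.mpr U.2.1])
      right_inv := fun U => Subtype.ext (by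
        show (((U.1.map (e.symm : (Fin (finrank F W) → F) →ₗ[F] W)).map W.subtype).comap W.subtype).map (e : W →ₗ[F] (Fin (finrank F W) → F)) = U.1
        rw [Submodule.comap_map_eq_of_injective W.injective_subtype, ← Submodule.map_comp, LinearEquiv.comp_symm,
          Submodule.map_id]) }

/-- A prime divisor of the number of flags `U ≤ W`. -/
theorem prime_dvd_flags {p : ℕ} [Fact p.Prime] [CharP F p] {r : ℕ} [Fact r.Prime] {n m : ℕ} (hmn : 2 * m ≤ n)
    (h : r ∣ Nat.card {P : Submodule F (Fin n → F) × Submodule F (Fin n → F) //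
        P.1 ≤ P.2 ∧ finrank F P.1 = m ∧ finrank F P.2 = n - m}) :
    r ≠ p ∧ ∃ e, n - 2 * m < e ∧ e ≤ n ∧ orderOf (Fintype.card F : ZMod r) ∣ e := by
  classical
  haveI : Fintype {W : Submodule F (Fin n → F) // finrank F W = n - m} := Fintype.ofFinite _
  have h1 : Nat.card {P : Submodule F (Fin n → F) × Submodule F (Fin n → F) //
      P.1 ≤ P.2 ∧ finrank F P.1 = m ∧ finrank F P.2 = n - m} =
      Nat.card {W : Submodule F (Fin n → F) // finrank F W = n - m} *
        Nat.card {U : Submodule F (Fin (n - m) → F) // finrank F U = m} := by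
    rw [Nat.card_congr (β := Σ W : {W : Submodule F (Fin n → F) // finrank F W = n - m},
        {U : Submodule F (Fin n → F) // U ≤ W.1 ∧ finrank F U = m})
      { toFun := fun P => ⟨⟨P.1.2, P.2.2.2⟩, ⟨P.1.1, P.2.1, P.2.2.1⟩⟩
        invFun := fun x => ⟨(x.2.1, x.1.1), x.2.2.1, x.2.2.2, x.1.2⟩
        left_inv := fun P => rfl
        right_inv := fun x => rfl }, Nat.card_sigma,
      Finset.sum_congr rfl (fun W _ => by rw [card_subspaces_of_equiv W.1, W.2]), Finset.sum_const, smul_eq_mul,
      Finset.card_univ, ← Nat.card_eq_fintype_card]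
  rw [h1, ← card_subspaces_symm (by omega : m ≤ n)] at h
  rcases (Nat.Prime.dvd_mul Fact.out).mp h with h | h
  · obtain ⟨hrp, j, hj, hd⟩ := prime_dvd_subspaces (p := p) (by omega) h
    exact ⟨hrp, n - j, by omega, Nat.sub_le _ _, (orderOf_dvd_iff' _).mp hd⟩
  · obtain ⟨hrp, j, hj, hd⟩ := prime_dvd_subspaces (p := p) (by omega) h
    exact ⟨hrp, n - m - j, by omega, by omega, (orderOf_dvd_iff' _).mp hd⟩

end Cfsg.Agent.Classical.Elusive
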