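import Cfsg.Agent.Lib.Classical.Elusive.FreeModels
import Cfsg.Agent.Lib.Classical.Elusive.OrthFreeCases

/-!
# A square root of a nonsquare from the periods of roots of unity
-/

set_option autoImplicit false
set_option linter.unusedSectionVars false

universe u

namespace Cfsg.Agent.Classical.Elusive.SelfAdjoint

open Module Polynomial

variable {F : Type u} [Field F] [Fintype F] {r : ℕ}

theorem sum_shift {M : Type*} [AddCommMonoid M] (φ : ℕ → M) {n : ℕ} (h : ∀ a, φ (a + n) = φ a) (s : ℕ) :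
    ∑ a ∈ Finset.range n, φ (a + s) = ∑ a ∈ Finset.range n, φ a := by
  induction s with
  | zero => rfl
  | succ s ih =>
    rw [← ih]
    rcases n with _ | k
    · rfl
    rw [Finset.sum_range_succ, Finset.sum_range_succ' (fun a => φ (a + s))]
    refine congrArg₂ (· + ·) (Finset.sum_congr rfl fun a _ => congrArg φ (by ring)) ?_
    rw [Nat.zero_add, show k + (s + 1) = s + (k + 1) by ring, h]

/-- The polynomial. -/
theorem exists_period (hr : r.Prime) (hr2 : r ≠ 2) (hr0 : (r : F) ≠ 0) {h : ℕ}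
    (hh : orderOf (Fintype.card F : ZMod r) = 2 * h) (he : Even h) (h2 : (2 : F) ≠ 0) {ν : F} (hν : ¬ IsSquare ν) :
    ∃ f : F[X], f.eval 1 = 0 ∧
      (X ^ r - 1 : F[X]) ∣ f * f - C ν * (1 - C (r : F)⁻¹ * ∑ k ∈ Finset.range r, X ^ k) ∧
      (X ^ r - 1 : F[X]) ∣ f.comp (X ^ (r - 1)) - f := by
  classical
  haveI : Fact r.Prime := ⟨hr⟩
  obtain ⟨hipos, -, -⟩ := OFree.unit_pos (F := F) hr hr0
  obtain ⟨K, _, _, _, -, hK, -, -, z, hzr, hz1⟩ := Free.exists_field (F := F) hr hr0 (t := 0) (by simp)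
  obtain ⟨q, hq⟩ : ∃ q, q = Fintype.card F := ⟨_, rfl⟩
  obtain ⟨i, hi⟩ : ∃ i, i = orderOf (Fintype.card F : ZMod r) := ⟨_, rfl⟩
  rw [← hi] at hK hh hipos
  have hν0 : ν ≠ 0 := fun h0 => hν (h0 ▸ IsSquare.zero)
  have hchar : ringChar F ≠ 2 := fun hc => h2 (by
    have := ringChar.Nat.cast_ringChar (R := F)
    rw [hc] at this
    exact_mod_cast this)
  have hνq : ν ^ (q / 2) = -1 := hq ▸ ((FiniteField.pow_dichotomy hchar hν0).resolve_left fun h1 =>
    hν ((FiniteField.isSquare_iff hchar hν0).mpr h1))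
  have hqodd : q % 2 = 1 := hq ▸ FiniteField.odd_card_of_char_ne_two hchar
  -- a square root in the big field
  obtain ⟨s, hs⟩ : ∃ s : K, s * s = algebraMap F K ν := by
    have hcharK : ringChar K ≠ 2 := fun hc => h2 ((algebraMap F K).injective (by
      have := ringChar.Nat.cast_ringChar (R := K)
      rw [hc] at this
      rw [map_ofNat, map_zero]
      exact_mod_cast this))
    have hne : algebraMap F K ν ≠ 0 := (_root_.map_ne_zero _).mpr hν0
    obtain ⟨w, hw⟩ : IsSquare (algebraMap F K ν) := by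
      rw [FiniteField.isSquare_iff hcharK hne, ← map_pow, ← (algebraMap F K).map_one]
      refine congrArg _ ?_
      rw [Module.card_eq_pow_finrank (K := F) (V := K), hK, ← hq, hh, pow_mul]
      obtain ⟨a, ha⟩ : ∃ a, q = 2 * a + 1 := ⟨q / 2, by omega⟩
      have hqa : q / 2 = a := by omega
      rw [hqa] at hνq
      obtain ⟨b, hb⟩ : Odd ((q ^ 2) ^ h) := Odd.pow (Odd.pow ⟨a, ha⟩)
      have hdiv : a * 2 ∣ b := by
        obtain ⟨c, hc⟩ : q ^ 2 - 1 ∣ (q ^ 2) ^ h - 1 := Nat.sub_one_dvd_pow_sub_one (q ^ 2) h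
        have e : q ^ 2 - 1 = 4 * (a * (a + 1)) := by rw [ha]; ring_nf; omega
        rw [e, hb] at hc
        exact ⟨(a + 1) * c, by
          have e2 : 4 * (a * (a + 1)) * c = 2 * (a * 2 * ((a + 1) * c)) := by ring
          omega⟩
      obtain ⟨c, rfl⟩ := hdiv
      rw [show (q ^ 2) ^ h / 2 = a * 2 * c by omega, pow_mul, pow_mul, hνq, neg_one_sq, one_pow]
    exact ⟨w, hw.symm⟩
  have hsq : s ^ q = -s := by
    rw [show q = 2 * (q / 2) + 1 by omega, pow_succ, pow_mul, pow_two, hs, ← map_pow, hνq, map_neg, map_one,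
      neg_one_mul]
  -- the generator of the exponents
  obtain ⟨γ, hγ⟩ := IsCyclic.exists_monoid_generator (α := (ZMod r)ˣ)
  have hq0 : (q : ZMod r) ≠ 0 := hq ▸ OFree.card_ne_zero (F := F) hr hr0
  obtain ⟨n, hn⟩ : ∃ n, n = r - 1 := ⟨_, rfl⟩
  have hγn : orderOf γ = n := by
    rw [orderOf_eq_card_of_forall_mem_powers hγ, Nat.card_eq_fintype_card, ZMod.card_units r, hn]
  have hn0 : 0 < n := by have := hr.two_le; omega
  have hlog : ∀ x : ZMod r, x ≠ 0 → ∃ a < n, (γ : ZMod r) ^ a = x := fun x hx => by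
    obtain ⟨a, ha⟩ := Submonoid.mem_powers_iff _ _ |>.mp (hγ (Units.mk0 x hx))
    refine ⟨a % n, Nat.mod_lt _ hn0, ?_⟩
    rw [← Units.val_pow_eq_pow_val, ← hγn, pow_mod_orderOf, ha, Units.val_mk0]
  have hper : ∀ a, (γ : ZMod r) ^ (a + n) = (γ : ZMod r) ^ a := fun a => by
    rw [pow_add, ← Units.val_pow_eq_pow_val γ n, ← hγn, pow_orderOf_eq_one, Units.val_one, mul_one]
  have hinj : ∀ a b, a < n → b < n → (γ : ZMod r) ^ a = (γ : ZMod r) ^ b → a = b := fun a b ha hb e =>
    pow_injOn_Iio_orderOf (x := γ) (by simpa [hγn] using ha) (by simpa [hγn] using hb) (Units.ext (by simpa using e))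
  obtain ⟨a₀, -, ha₀⟩ := hlog (q : ZMod r) hq0
  obtain ⟨t, ht⟩ : ∃ t, n = t * i := by
    obtain ⟨t, ht⟩ : i ∣ n := by
      rw [hi, hn]
      exact ZMod.orderOf_dvd_card_sub_one (hq ▸ hq0)
    exact ⟨t, by rw [ht, mul_comm]⟩
  have ht0 : 0 < t := Nat.pos_of_ne_zero fun h0 => by rw [h0, zero_mul] at ht; omega
  obtain ⟨w, hw, hwodd⟩ : ∃ w, a₀ = t * w ∧ w % 2 = 1 := by
    have hord : n / Nat.gcd n a₀ = i := by
      have h1 : orderOf (γ ^ a₀) = i := by
        rw [hi, ← orderOf_units, Units.val_pow_eq_pow_val, ha₀, hq]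
      rwa [orderOf_pow, hγn] at h1
    obtain ⟨g, hg⟩ : ∃ g, g = Nat.gcd n a₀ := ⟨_, rfl⟩
    have hgn : g ∣ n := hg ▸ Nat.gcd_dvd_left n a₀
    rw [← hg] at hord
    have hgt : g = t := by
      have h3 := Nat.div_mul_cancel hgn
      rw [hord, ht, mul_comm] at h3
      exact Nat.eq_of_mul_eq_mul_right hipos h3
    obtain ⟨w, hw⟩ : t ∣ a₀ := hgt ▸ hg ▸ Nat.gcd_dvd_right n a₀
    refine ⟨w, hw, ?_⟩
    by_contra hwe
    obtain ⟨w', rfl⟩ : 2 ∣ w := by omega
    have h4 : t * 2 ∣ Nat.gcd n a₀ := Nat.dvd_gcd (by rw [ht, hh]; exact ⟨h, by ring⟩) (by rw [hw]; exact ⟨w', by ring⟩)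
    rw [← hg, hgt] at h4
    have := Nat.le_of_dvd ht0 h4
    omega
  have hineg : (γ : ZMod r) ^ (t * h) = -1 := by
    have hsq' : ((γ : ZMod r) ^ (t * h)) * ((γ : ZMod r) ^ (t * h)) = 1 := by
      rw [← pow_add, ← two_mul, mul_left_comm, ← hh, ← ht, ← zero_add n, hper, pow_zero]
    refine (mul_self_eq_one_iff.mp hsq').resolve_left fun h1 => ?_
    have h0 := hinj (t * h) 0 (by rw [ht, hh]; exact Nat.mul_lt_mul_of_pos_left (by omega) ht0) hn0
      (by rw [h1, pow_zero])
    rcases Nat.mul_eq_zero.mp h0 with h' | h' <;> omega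
  -- the character
  have hz0 : z ≠ 0 := fun h0 => by rw [h0, zero_pow hr.ne_zero] at hzr; exact zero_ne_one hzr
  have hzord : orderOf z = r := orderOf_eq_prime hzr hz1
  obtain ⟨χ, hχdef⟩ : ∃ χ : ZMod r → K, χ = fun x => z ^ x.val := ⟨_, rfl⟩
  have hχ : ∀ m : ℕ, χ (m : ZMod r) = z ^ m := fun m => by
    rw [hχdef]
    show z ^ (m : ZMod r).val = z ^ m
    rw [ZMod.val_natCast, ← hzord, pow_mod_orderOf]
  have hχadd : ∀ x y, χ (x + y) = χ x * χ y := fun x y => by
    rw [show x + y = ((x.val + y.val : ℕ) : ZMod r) by rw [Nat.cast_add, ZMod.natCast_zmod_val, ZMod.natCast_zmod_val],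
      hχ, pow_add, hχdef]
  have hχpow : ∀ x (k : ℕ), χ x ^ k = χ (x * k) := fun x k => by
    rw [show x * (k : ZMod r) = ((x.val * k : ℕ) : ZMod r) by rw [Nat.cast_mul, ZMod.natCast_zmod_val], hχ, pow_mul,
      hχdef]
  have hχ1 : ∀ x, χ x = 1 → x = 0 := fun x hx => by
    simp only [hχdef] at hx
    have h1 := orderOf_dvd_of_pow_eq_one hx
    rw [hzord] at h1
    rw [← ZMod.natCast_zmod_val x]
    exact (ZMod.natCast_eq_zero_iff _ _).mpr h1
  have hχ0 : χ 0 = 1 := by rw [← Nat.cast_zero, hχ, pow_zero]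
  have hχinj : Function.Injective χ := fun x y hxy => by
    refine sub_eq_zero.mp (hχ1 _ ?_)
    have h1 := hχadd (x - y) y
    rw [sub_add_cancel, hxy] at h1
    exact (mul_eq_right₀ (fun h0 => by
      rw [hχdef] at h0; exact hz0 (pow_eq_zero_iff'.mp h0).1)).mp h1.symm
  have hrK : (r : K) ≠ 0 := fun h0 => hr0 ((algebraMap F K).injective (by rw [map_natCast, map_zero, h0]))
  -- coefficients
  obtain ⟨φ, hφ⟩ : ∃ φ : ℕ → ℕ → K, φ = fun (k a : ℕ) => (-1) ^ (a / t) * χ (-((γ : ZMod r) ^ a) * (k : ZMod r)) := ⟨_, rfl⟩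
  have hφper : ∀ k a, φ k (a + n) = φ k a := fun k a => by
    simp only [hφ]
    rw [hper, ht, show a + t * i = a + t * i from rfl, Nat.add_mul_div_left _ _ ht0, pow_add,
      (show Even i from ⟨h, by omega⟩).neg_one_pow, mul_one]
  obtain ⟨co, hco⟩ : ∃ co : ℕ → K, co = fun k => (r : K)⁻¹ * s * ∑ a ∈ Finset.range n, φ k a := ⟨_, rfl⟩
  have hfix : ∀ k, co k ∈ Set.range (algebraMap F K) := fun k => by
    obtain ⟨p, hpc⟩ := CharP.exists F
    haveI := hpc
    haveI : Fact p.Prime := ⟨CharP.char_is_prime F p⟩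
    haveI : CharP K p := charP_of_injective_algebraMap (algebraMap F K).injective p
    obtain ⟨e, -, hqe⟩ := FiniteField.card F p
    have hfr : co k ^ q = co k := by
      rw [hco]
      simp only [mul_pow, inv_pow]
      rw [show (r : K) ^ q = (r : K) by rw [← map_natCast (algebraMap F K), ← map_pow, hq, FiniteField.pow_card],
        hsq, hq, hqe, sum_pow_char_pow, ← hqe, ← hq,
        Finset.sum_congr rfl fun a _ => show φ k a ^ q = -φ k (a + a₀) from by
          simp only [hφ]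
          rw [mul_pow, ← pow_mul, mul_comm (a / t) q, pow_mul, Odd.neg_one_pow (Nat.odd_iff.mpr hqodd), hχpow,
            show -((γ : ZMod r) ^ a) * (k : ZMod r) * (q : ZMod r) = -((γ : ZMod r) ^ (a + a₀)) * k by
              rw [pow_add, ha₀]; ring,
            hw, Nat.add_mul_div_left _ _ ht0, pow_add (-1 : K), Odd.neg_one_pow (Nat.odd_iff.mpr hwodd)]
          ring,
        Finset.sum_neg_distrib, sum_shift _ (hφper k)]
      ring
    have hex : ∃ c : F, algebraMap F K c = co k := by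
      by_contra hno
      push Not at hno
      let P : K[X] := X ^ q - X
      have hq1 : 1 < q := hq ▸ Fintype.one_lt_card
      have hP0 : P ≠ 0 := FiniteField.X_pow_card_sub_X_ne_zero K hq1
      have hle := Polynomial.card_le_degree_of_subset_roots (p := P)
        (Z := insert (co k) (Finset.univ.image (algebraMap F K))) fun x hx => by
          rw [Polynomial.mem_roots hP0, Polynomial.IsRoot]
          rcases Finset.mem_insert.mp hx with rfl | hx
          · simp [P, hfr]
          · obtain ⟨c, -, rfl⟩ := Finset.mem_image.mp hx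
            simp [P, ← map_pow, hq, FiniteField.pow_card]
      rw [FiniteField.X_pow_card_sub_X_natDegree_eq K hq1, Finset.card_insert_of_notMem (fun hm => by
        obtain ⟨c, -, hc⟩ := Finset.mem_image.mp hm
        exact hno c hc), Finset.card_image_of_injective _ (algebraMap F K).injective, Finset.card_univ, ← hq] at hle
      omega
    exact hex
  choose cf hcf using hfix
  obtain ⟨f, hf⟩ : ∃ f : F[X], f = ∑ k ∈ Finset.range r, C (cf k) * X ^ k := ⟨_, rfl⟩
  have hgeo : ∀ y : ZMod r, ∑ k ∈ Finset.range r, χ (y * k) = if y = 0 then (r : K) else 0 := fun y => by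
    split_ifs with hy
    · simp [hy, hχ0]
    · rw [Finset.sum_congr rfl fun k _ => (hχpow y k).symm, geom_sum_eq (fun h1 => hy (hχ1 y h1)), hχpow,
        ZMod.natCast_self, mul_zero, hχ0, sub_self, zero_div]
  have hval : ∀ x : ZMod r, aeval (χ x) f =
      s * ∑ a ∈ Finset.range n, (-1) ^ (a / t) * (if x = (γ : ZMod r) ^ a then 1 else 0) := fun x => by
    rw [hf, map_sum]
    simp only [map_mul, aeval_C, map_pow, aeval_X, hcf, hco, hφ, hχpow]
    rw [Finset.mul_sum, Finset.sum_congr rfl fun k _ => by rw [Finset.mul_sum, Finset.sum_mul], Finset.sum_comm]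
    refine Finset.sum_congr rfl fun a _ => ?_
    rw [Finset.sum_congr rfl fun (k : ℕ) _ => show (r : K)⁻¹ * s * ((-1) ^ (a / t) * χ (-((γ : ZMod r) ^ a) * (k : ZMod r))) *
      χ (x * (k : ZMod r)) = (r : K)⁻¹ * s * (-1) ^ (a / t) * χ ((x - (γ : ZMod r) ^ a) * (k : ZMod r)) by
        rw [sub_mul, sub_eq_add_neg, hχadd, ← neg_mul]; ring, ← Finset.mul_sum, hgeo]
    simp only [sub_eq_zero]
    split_ifs
    · field_simp
    · ring
  have hval0 : aeval (χ 0) f = 0 := by
    rw [hval, Finset.sum_eq_zero, mul_zero]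
    intro a _
    rw [if_neg fun h0 => pow_ne_zero a (Units.ne_zero γ) h0.symm, mul_zero]
  have hvalγ : ∀ a < n, aeval (χ ((γ : ZMod r) ^ a)) f = s * (-1) ^ (a / t) := fun a ha => by
    rw [hval, Finset.sum_eq_single a]
    · simp
    · intro b hb hba
      rw [Finset.mem_range] at hb
      rw [if_neg fun e => hba (hinj b a hb ha e.symm), mul_zero]
    · exact fun hm => absurd (Finset.mem_range.mpr ha) hm
  -- vanishing at all roots
  have hdiv : ∀ P : F[X], (∀ x : ZMod r, aeval (χ x) P = 0) → (X ^ r - 1 : F[X]) ∣ P := fun P hP => by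
    have hmon : (X ^ r - 1 : F[X]).Monic := by
      rw [← C_1]; exact monic_X_pow_sub_C 1 hr.ne_zero
    rw [← modByMonic_eq_zero_iff_dvd hmon]
    refine (Polynomial.map_eq_zero_iff (algebraMap F K).injective).mp ?_
    refine Polynomial.eq_zero_of_natDegree_lt_card_of_eval_eq_zero _ hχinj (fun x => ?_) ?_
    · rw [eval_map_algebraMap, modByMonic_eq_sub_mul_div, map_sub, map_mul, hP, map_sub, map_pow, aeval_X,
        map_one, hχpow, ZMod.natCast_self, mul_zero, hχ0, sub_self, zero_mul, sub_zero]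
    · rw [natDegree_map, ZMod.card]
      have hne : (X ^ r - 1 : F[X]).natDegree = r := by rw [← C_1, natDegree_X_pow_sub_C]
      exact lt_of_lt_of_eq (natDegree_modByMonic_lt _ hmon fun h1 => by
        rw [h1, natDegree_one] at hne; exact hr.ne_zero hne.symm) hne
  refine ⟨f, ?_, hdiv _ fun x => ?_, hdiv _ fun x => ?_⟩
  · apply (algebraMap F K).injective
    rw [map_zero, ← aeval_algebraMap_apply_eq_algebraMap_eval, map_one, ← hχ0, hval0]
  · simp only [map_sub, map_mul, aeval_C, map_one, map_sum, map_pow, aeval_X, hχpow, hgeo, map_inv₀, map_natCast]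
    by_cases hx : x = 0
    · subst hx
      rw [if_pos rfl, hval0, inv_mul_cancel₀ hrK]
      ring
    · obtain ⟨a, ha, rfl⟩ := hlog x hx
      rw [if_neg hx, hvalγ a ha, mul_zero, sub_zero, mul_one, ← hs,
        show s * (-1) ^ (a / t) * (s * (-1) ^ (a / t)) = s * s * ((-1) ^ (a / t) * (-1) ^ (a / t)) by ring,
        ← mul_pow, neg_one_mul, neg_neg, one_pow, mul_one, sub_self]
  · rw [map_sub, aeval_comp, map_pow, aeval_X, hχpow, Nat.cast_sub hr.one_le, ZMod.natCast_self, Nat.cast_one,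
      zero_sub, mul_neg_one]
    by_cases hx : x = 0
    · subst hx
      rw [neg_zero, hval0, sub_zero]
    · obtain ⟨a, ha, rfl⟩ := hlog x hx
      obtain ⟨b, hb, hb'⟩ := hlog (-((γ : ZMod r) ^ a)) (neg_ne_zero.mpr hx)
      rw [← hb', hvalγ b hb, hvalγ a ha, sub_eq_zero]
      congr 1
      have e : b = (a + t * h) % n := by
        refine hinj b _ hb (Nat.mod_lt _ hn0) ?_
        rw [hb', ← Units.val_pow_eq_pow_val γ ((a + t * h) % n), ← hγn, pow_mod_orderOf, Units.val_pow_eq_pow_val,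
          pow_add, hineg, mul_neg_one]
      obtain ⟨c, hc⟩ : ∃ c, a + t * h = b + n * c := ⟨(a + t * h) / n, by rw [e]; exact (Nat.mod_add_div _ _).symm⟩
      have hd : (a + t * h) / t = (b + n * c) / t := by rw [hc]
      rw [Nat.add_mul_div_left _ _ ht0, ht, mul_assoc, Nat.add_mul_div_left _ _ ht0] at hd
      rw [neg_one_pow_eq_pow_mod_two (a / t), neg_one_pow_eq_pow_mod_two (b / t)]
      congr 1
      obtain ⟨h', rfl⟩ := he
      rw [hh, mul_assoc] at hd
      omega

end Cfsg.Agent.Classical.Elusive.SelfAdjoint
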