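import Mathlib
import Cfsg.Agent.Lib.Classical.SymplecticCount
import Cfsg.Agent.Lib.Classical.Elusive.SympSetup

/-!
# Counting pairs of complementary totally isotropic subspaces
-/

set_option autoImplicit false

namespace Cfsg.Agent.Classical.Elusive

open Module Cfsg.Agent.Classical.SpCount

universe u

variable {F : Type u} [Field F] {d : ℕ}

/-- A polarisation of the standard symplectic space. -/
def IsPolar (P : Submodule F (Fin d ⊕ Fin d → F) × Submodule F (Fin d ⊕ Fin d → F)) : Prop :=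
  IsCompl P.1 P.2 ∧ (∀ u ∈ P.1, ∀ v ∈ P.1, Cfsg.sympForm d F u v = 0) ∧
    (∀ u ∈ P.2, ∀ v ∈ P.2, Cfsg.sympForm d F u v = 0)

/-- The pairing of a complementary isotropic pair is non-degenerate. -/
theorem polar_pair_zero {P : Submodule F (Fin d ⊕ Fin d → F) × Submodule F (Fin d ⊕ Fin d → F)}
    (hP : IsPolar P) {w : Fin d ⊕ Fin d → F} (hw : w ∈ P.2) (h : ∀ u ∈ P.1, sympB d F u w = 0) : w = 0 := by
  refine sympB_nondeg w fun z => ?_
  obtain ⟨a, ha, b, hb, rfl⟩ := Submodule.mem_sup.mp (hP.1.sup_eq_top ▸ Submodule.mem_top (x := z))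
  rw [map_add, form_swap_of_alt sympB_self a w, h a ha, sympB_apply, hP.2.2 w hw b hb, neg_zero, add_zero]

theorem polar_finrank {P : Submodule F (Fin d ⊕ Fin d → F) × Submodule F (Fin d ⊕ Fin d → F)}
    (hP : IsPolar P) : finrank F P.1 = d ∧ finrank F P.2 = d := by
  have key : ∀ Q : Submodule F (Fin d ⊕ Fin d → F) × Submodule F (Fin d ⊕ Fin d → F), IsPolar Q →
      finrank F Q.2 ≤ finrank F Q.1 := by
    intro Q hQ
    have hinj : Function.Injective ((((sympB d F).flip).compl₂ Q.1.subtype).comp Q.2.subtype) := by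
      rw [← LinearMap.ker_eq_bot, LinearMap.ker_eq_bot']
      intro w hw
      exact Subtype.ext (polar_pair_zero hQ w.2 fun u hu => LinearMap.congr_fun hw ⟨u, hu⟩)
    exact (LinearMap.finrank_le_finrank_of_injective hinj).trans_eq (Subspace.dual_finrank_eq)
  have h1 := key P hP
  have h2 := key P.swap ⟨hP.1.symm, hP.2.2, hP.2.1⟩
  have h3 := Submodule.finrank_add_eq_of_isCompl hP.1
  rw [finrank_fintype_fun_eq_card, Fintype.card_sum, Fintype.card_fin] at h3
  simp only [Prod.fst_swap, Prod.snd_swap] at h2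
  omega

theorem stdForm_eq_sympB (u v : Fin d ⊕ Fin d → F) : stdForm d F u v = sympB d F u v := stdForm_apply u v

/-- The pair of subspaces spanned by a symplectic family. -/
def famPair (f : SpFam (stdForm d F) d) :
    {P : Submodule F (Fin d ⊕ Fin d → F) × Submodule F (Fin d ⊕ Fin d → F) // IsPolar P} :=
  ⟨(Submodule.span F (Set.range (f.1 ∘ Sum.inl)), Submodule.span F (Set.range (f.1 ∘ Sum.inr))), by
    have hli := fam_linearIndependent (stdForm_isAltND d) f
    have hiso : ∀ g : Fin d → Fin d ⊕ Fin d, (∀ i j, Matrix.J (Fin d) F (g i) (g j) = 0) →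
        ∀ u ∈ Submodule.span F (Set.range (f.1 ∘ g)), ∀ v ∈ Submodule.span F (Set.range (f.1 ∘ g)),
          Cfsg.sympForm d F u v = 0 := by
      intro g hg u hu v hv
      have h1 : Submodule.span F (Set.range (f.1 ∘ g)) ≤ LinearMap.ker ((stdForm d F).flip v) := by
        rw [Submodule.span_le]
        rintro _ ⟨l, rfl⟩
        have h2 : Submodule.span F (Set.range (f.1 ∘ g)) ≤ LinearMap.ker (stdForm d F (f.1 (g l))) := by
          rw [Submodule.span_le]
          rintro _ ⟨m, rfl⟩
          exact (f.2 (g l) (g m)).trans (hg l m)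
        exact h2 hv
      rw [← sympB_apply, ← stdForm_eq_sympB]
      exact h1 hu
    refine ⟨⟨(linearIndependent_sum.mp hli).2.2, ?_⟩, hiso Sum.inl (fun i j => by simp [Matrix.J]),
      hiso Sum.inr (fun i j => by simp [Matrix.J])⟩
    rw [codisjoint_iff, ← Submodule.span_union, ← Set.Sum.elim_range, Sum.elim_comp_inl_inr]
    exact hli.span_eq_top_of_card_eq_finrank' (by rw [finrank_fintype_fun_eq_card])⟩

theorem card_fibre_famPair [Fintype F] (P : {P : Submodule F (Fin d ⊕ Fin d → F) × Submodule F (Fin d ⊕ Fin d → F) //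
    IsPolar P}) :
    Nat.card {f // famPair f = P} = ∏ i : Fin d, (Fintype.card F ^ d - Fintype.card F ^ (i : ℕ)) := by
  classical
  obtain ⟨h1, h2⟩ := polar_finrank P.2
  have hcard := card_linearIndependent (K := F) (V := P.1.1) (k := d) h1.ge
  rw [h1] at hcard
  rw [← hcard]
  have hfst : ∀ f : {f // famPair f = P}, ∀ i, f.1.1 (Sum.inl i) ∈ P.1.1 ∧ f.1.1 (Sum.inr i) ∈ P.1.2 := by
    rintro ⟨f, rfl⟩ i
    exact ⟨Submodule.subset_span ⟨i, rfl⟩, Submodule.subset_span ⟨i, rfl⟩⟩
  let Φ : {f // famPair f = P} → {s : Fin d → P.1.1 // LinearIndependent F s} := fun f =>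
    ⟨fun i => ⟨f.1.1 (Sum.inl i), (hfst f i).1⟩, LinearIndependent.of_comp P.1.1.subtype
      ((fam_linearIndependent (stdForm_isAltND d) f.1).comp Sum.inl Sum.inl_injective)⟩
  refine Nat.card_congr (Equiv.ofBijective Φ ⟨fun f g h => ?_, fun s => ?_⟩)
  · have hl : ∀ i, f.1.1 (Sum.inl i) = g.1.1 (Sum.inl i) := fun i =>
      congrArg Subtype.val (congrFun (congrArg Subtype.val h) i)
    refine Subtype.ext (Subtype.ext (funext ?_))
    rintro (i | j)
    · exact hl i
    · refine sub_eq_zero.mp (polar_pair_zero P.2 (P.1.2.sub_mem (hfst f j).2 (hfst g j).2) fun u hu => ?_)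
      have hsp : P.1.1 ≤ LinearMap.ker ((stdForm d F).flip (f.1.1 (Sum.inr j) - g.1.1 (Sum.inr j))) := by
        rw [show P.1.1 = Submodule.span F (Set.range (f.1.1 ∘ Sum.inl)) from
          (congrArg (fun Q => Q.1.1) f.2).symm, Submodule.span_le]
        rintro _ ⟨i, rfl⟩
        show stdForm d F (f.1.1 (Sum.inl i)) (f.1.1 (Sum.inr j) - g.1.1 (Sum.inr j)) = 0
        rw [map_sub, f.1.2, hl i, g.1.2, sub_self]
      rw [← stdForm_eq_sympB]
      exact hsp hu
  · obtain ⟨s, hs⟩ := s
    let L : P.1.2 →ₗ[F] (Fin d → F) := LinearMap.pi fun i => (stdForm d F (s i : Fin d ⊕ Fin d → F)).comp P.1.2.subtype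
    have hsp : Submodule.span F (Set.range s) = ⊤ :=
      hs.span_eq_top_of_card_eq_finrank' (by rw [Fintype.card_fin, h1])
    have hinj : Function.Injective L := by
      rw [← LinearMap.ker_eq_bot, LinearMap.ker_eq_bot']
      intro w hw
      refine Subtype.ext (polar_pair_zero P.2 w.2 fun u hu => ?_)
      have hle : (⊤ : Submodule F P.1.1) ≤ LinearMap.ker (((stdForm d F).flip (w : Fin d ⊕ Fin d → F)).comp P.1.1.subtype) := by
        rw [← hsp, Submodule.span_le]
        rintro _ ⟨i, rfl⟩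
        exact congrFun hw i
      rw [← stdForm_eq_sympB]
      exact hle (Submodule.mem_top (x := (⟨u, hu⟩ : P.1.1)))
    have hsurj := (LinearMap.injective_iff_surjective_of_finrank_eq_finrank (by rw [h2, finrank_fin_fun])).mp hinj
    choose t ht using fun j : Fin d => hsurj (fun i => Matrix.J (Fin d) F (Sum.inl i) (Sum.inr j))
    have ht' : ∀ i j, stdForm d F (s i : Fin d ⊕ Fin d → F) (t j : Fin d ⊕ Fin d → F) =
        Matrix.J (Fin d) F (Sum.inl i) (Sum.inr j) := fun i j => congrFun (ht j) i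
    let g : SpFam (stdForm d F) d :=
      ⟨Sum.elim (fun i => (s i : Fin d ⊕ Fin d → F)) (fun i => (t i : Fin d ⊕ Fin d → F)), by
      rintro (i | i) (j | j) <;> simp only [Sum.elim_inl, Sum.elim_inr]
      · rw [stdForm_eq_sympB, sympB_apply, P.2.2.1 _ (s i).2 _ (s j).2]; simp [Matrix.J]
      · exact ht' i j
      · rw [(stdForm_isAltND d).swap, ht']; simp [Matrix.J, Matrix.one_apply, eq_comm]
      · rw [stdForm_eq_sympB, sympB_apply, P.2.2.2 _ (t i).2 _ (t j).2]; simp [Matrix.J]⟩
    refine ⟨⟨g, Subtype.ext (Prod.ext ?_ ?_)⟩, rfl⟩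
    · refine Submodule.eq_of_le_of_finrank_eq (Submodule.span_le.mpr (Set.range_subset_iff.mpr fun i => (s i).2)) ?_
      show finrank F (Submodule.span F (Set.range (g.1 ∘ Sum.inl))) = _
      rw [finrank_span_eq_card ((fam_linearIndependent (stdForm_isAltND d) g).comp Sum.inl Sum.inl_injective),
        h1, Fintype.card_fin]
    · refine Submodule.eq_of_le_of_finrank_eq (Submodule.span_le.mpr (Set.range_subset_iff.mpr fun i => (t i).2)) ?_
      show finrank F (Submodule.span F (Set.range (g.1 ∘ Sum.inr))) = _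
      rw [finrank_span_eq_card ((fam_linearIndependent (stdForm_isAltND d) g).comp Sum.inr Sum.inr_injective),
        h2, Fintype.card_fin]

/-- The number of polarisations. -/
theorem card_polar [Fintype F] :
    Nat.card {P : Submodule F (Fin d ⊕ Fin d → F) × Submodule F (Fin d ⊕ Fin d → F) // IsPolar P} *
      ∏ i ∈ Finset.range d, Fintype.card F ^ i =
    Fintype.card F ^ (d ^ 2) * ∏ i ∈ Finset.range d, (Fintype.card F ^ (i + 1) + 1) := by
  classical
  have hq : 1 < Fintype.card F := Fintype.one_lt_card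
  haveI : Finite (SpFam (stdForm d F) d) := Finite.of_equiv _ (groupEquiv d)
  haveI := Fintype.ofFinite {P : Submodule F (Fin d ⊕ Fin d → F) × Submodule F (Fin d ⊕ Fin d → F) // IsPolar P}
  have hS := card_symplecticGroup (F := F) d
  rw [Nat.card_congr ((groupEquiv (F := F) d).trans (Equiv.sigmaFiberEquiv famPair).symm), Nat.card_sigma,
    Finset.sum_congr rfl (fun P _ => card_fibre_famPair P), Finset.sum_const, smul_eq_mul, Finset.card_univ,
    ← Nat.card_eq_fintype_card (α := {P : _ // IsPolar P}),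
    Fin.prod_univ_eq_prod_range (fun i => Fintype.card F ^ d - Fintype.card F ^ i)] at hS
  generalize Fintype.card F = q at hq hS ⊢
  have h1 : ∏ i ∈ Finset.range d, (q ^ d - q ^ i) =
      (∏ i ∈ Finset.range d, q ^ i) * ∏ i ∈ Finset.range d, (q ^ (i + 1) - 1) := by
    rw [← Finset.prod_range_reflect (fun i => q ^ (i + 1) - 1), ← Finset.prod_mul_distrib]
    refine Finset.prod_congr rfl fun i hi => ?_
    rw [Finset.mem_range] at hi
    rw [Nat.mul_sub_one, ← pow_add, show i + (d - 1 - i + 1) = d by omega]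
  have h2 : ∏ i ∈ Finset.range d, (q ^ (2 * (i + 1)) - 1) =
      (∏ i ∈ Finset.range d, (q ^ (i + 1) + 1)) * ∏ i ∈ Finset.range d, (q ^ (i + 1) - 1) := by
    rw [← Finset.prod_mul_distrib]
    refine Finset.prod_congr rfl fun i _ => ?_
    rw [mul_comm 2 (i + 1), pow_mul, ← Nat.sq_sub_sq, one_pow]
  rw [h1, h2, ← mul_assoc, ← mul_assoc] at hS
  refine Nat.eq_of_mul_eq_mul_right (Finset.prod_pos fun i _ => ?_) hS
  have := Nat.one_lt_pow (n := i + 1) (by omega) hq
  omega

end Cfsg.Agent.Classical.Elusive
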