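import Cfsg.Agent.Lib.Classical.Elusive.SkewObstruction

/-!
# Self-adjoint operators commuting with elements of prime order, and their normal form in dimension four
-/

set_option autoImplicit false
set_option linter.unusedSectionVars false

universe u

namespace Cfsg.Agent.Classical.SelfAdjointField

open Module Matrix Cfsg Cfsg.Agent.Classical Cfsg.Agent.Classical.Elusive.Free

variable {F : Type u} [Field F] [Fintype F] {r d : ℕ}

/-- The free part extended by fixed points, as a symplectic matrix. -/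
theorem exists_extend {M : Type u} [AddCommGroup M] [Module F M] [FiniteDimensional F M]
    {B : LinearMap.BilinForm F M} (hB : SpCount.IsAltND B) {g : Module.End F M} (hg : IsFree B g r) {n a : ℕ}
    (hM : finrank F M = 2 * n) (hd : n + a = d) (hn : 0 < n) :
    ∃ (x : GL (Fin d ⊕ Fin d) F) (ι : M →ₗ[F] (Fin d ⊕ Fin d → F)), x ∈ Cfsg.spGL d F ∧
      (x : Matrix (Fin d ⊕ Fin d) (Fin d ⊕ Fin d) F) ^ r = 1 ∧
      (∀ z : F, (x : Matrix (Fin d ⊕ Fin d) (Fin d ⊕ Fin d) F) ≠ z • 1) ∧
      (∃ W : Submodule F (Fin d ⊕ Fin d → F), finrank F W = 2 * a ∧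
        ∀ w ∈ W, (x : Matrix (Fin d ⊕ Fin d) (Fin d ⊕ Fin d) F) *ᵥ w = w) ∧
      Function.Injective ι ∧ (∀ u v, sympForm d F (ι u) (ι v) = B u v) ∧
      ∀ A : Matrix (Fin d ⊕ Fin d) (Fin d ⊕ Fin d) F, A * x = x * A →
        ∃ D : Module.End F M, (∀ u, D (g u) = g (D u)) ∧ ∀ u, A *ᵥ ι u = ι (D u) := by
  classical
  let B' : LinearMap.BilinForm F (M × (Fin a ⊕ Fin a → F)) :=
    B.compl₁₂ (LinearMap.fst F _ _) (LinearMap.fst F _ _) +
      (Elusive.sympB a F).compl₁₂ (LinearMap.snd F _ _) (LinearMap.snd F _ _)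
  have hB' : ∀ u v, B' u v = B u.1 v.1 + Elusive.sympB a F u.2 v.2 := fun _ _ => rfl
  have hB'alt : SpCount.IsAltND B' := ⟨fun u => by rw [hB', hB.self, Elusive.sympB_self, add_zero], fun u hu =>
    Prod.ext (hB.nondeg _ fun v => by simpa [hB'] using hu (v, 0))
      (Elusive.sympB_nondeg _ fun v => by simpa [hB'] using hu (0, v))⟩
  let g' : Module.End F (M × (Fin a ⊕ Fin a → F)) := g.prodMap 1
  have hg' : ∀ u, g' u = (g u.1, u.2) := fun _ => rfl
  have hgr : ∀ (k : ℕ) u, (g' ^ k) u = ((g ^ k) u.1, u.2) := by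
    intro k
    induction k with
    | zero => intro u; rfl
    | succ k ih => intro u; rw [pow_succ', Module.End.mul_apply, ih, hg', pow_succ', Module.End.mul_apply]
  have hdim : finrank F (M × (Fin a ⊕ Fin a → F)) = 2 * d := by
    rw [Module.finrank_prod, hM, finrank_fintype_fun_eq_card, Fintype.card_sum, Fintype.card_fin]; omega
  obtain ⟨x, φ, hx, hφ⟩ := Elusive.TsSymp.exists_element hB'alt hdim (g := g')
    (fun u v => by rw [hB', hB', hg', hg', hg.isometry])
  have hxv : ∀ u, (x : Matrix (Fin d ⊕ Fin d) (Fin d ⊕ Fin d) F) *ᵥ φ u = φ (g' u) := fun u => by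
    rw [← hx, Matrix.toLin'_apply]
  have hpow : ∀ (k : ℕ) u, ((x : Matrix (Fin d ⊕ Fin d) (Fin d ⊕ Fin d) F) ^ k) *ᵥ φ u = φ ((g' ^ k) u) := by
    intro k
    induction k with
    | zero => intro u; simp
    | succ k ih => intro u; rw [pow_succ', ← Matrix.mulVec_mulVec, ih, hxv, pow_succ', Module.End.mul_apply]
  refine ⟨⟨x.1, (x⁻¹).1, by rw [← Submonoid.coe_mul, mul_inv_cancel, Submonoid.coe_one],
    by rw [← Submonoid.coe_mul, inv_mul_cancel, Submonoid.coe_one]⟩,
    φ.toLinearMap ∘ₗ LinearMap.inl F M (Fin a ⊕ Fin a → F),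
    fun u v => Lead.Symp.form_preserved x.2 u v, ?_, fun z hz => ?_, ?_, ?_, fun u v => ?_, fun A hA => ?_⟩
  · refine Matrix.toLin'.injective (LinearMap.ext fun w => ?_)
    obtain ⟨u, rfl⟩ := φ.surjective w
    rw [Matrix.toLin'_apply, hpow, hgr, hg.pow_eq, Matrix.toLin'_one, LinearMap.id_apply]
    rfl
  · change (x : Matrix (Fin d ⊕ Fin d) (Fin d ⊕ Fin d) F) = z • 1 at hz
    haveI : Nontrivial M := Module.nontrivial_of_finrank_pos (R := F) (by omega)
    obtain ⟨v, hv⟩ := exists_ne (0 : M)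
    have e : ∀ u, φ (g' u) = z • φ u := fun u => by
      rw [← hxv, hz, Matrix.smul_mulVec, Matrix.one_mulVec]
    have e1 : ∀ w, g w = z • w := fun w =>
      congrArg Prod.fst (φ.injective (by rw [e, map_smul] : φ (g' (w, 0)) = φ (z • (w, 0))))
    obtain ⟨w, hw⟩ : ∃ w, B v w ≠ 0 := by
      by_contra hc
      push Not at hc
      exact hv (hB.nondeg v hc)
    have hit : ∀ k : ℕ, (g ^ k) v = z ^ k • v := by
      intro k
      induction k with
      | zero => simp
      | succ k ih => rw [pow_succ', Module.End.mul_apply, ih, map_smul, e1, smul_smul, pow_succ]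
    have hzr : z ^ r = 1 := by
      have h1 := hit r
      rw [hg.pow_eq, Module.End.one_apply] at h1
      by_contra hne
      exact hv ((smul_eq_zero.mp (show (z ^ r - 1) • v = 0 by rw [sub_smul, one_smul, ← h1, sub_self])).resolve_left
        (sub_ne_zero.mpr hne))
    have hz2 : z * z = 1 := by
      have h1 := hg.isometry v w
      rw [e1 v, e1 w, map_smul, map_smul, LinearMap.smul_apply, smul_eq_mul, smul_eq_mul, ← mul_assoc] at h1
      exact mul_right_cancel₀ hw (h1.trans (one_mul _).symm)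
    obtain ⟨k, hk⟩ := hg.prime.odd_of_ne_two hg.odd
    rw [hk, pow_succ, pow_mul, pow_two, hz2, one_pow, one_mul] at hzr
    exact hv (hg.fixfree v (by rw [e1, hzr, one_smul]))
  · refine ⟨LinearMap.range (φ.toLinearMap ∘ₗ LinearMap.inr F M (Fin a ⊕ Fin a → F)), ?_, ?_⟩
    · have hinj : Function.Injective (φ.toLinearMap ∘ₗ LinearMap.inr F M (Fin a ⊕ Fin a → F)) :=
        φ.injective.comp (LinearMap.inr_injective (R := F) (M := M))
      rw [LinearMap.finrank_range_of_inj hinj, finrank_fintype_fun_eq_card,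
        Fintype.card_sum, Fintype.card_fin]
      ring
    · rintro _ ⟨w, rfl⟩
      show (x : Matrix (Fin d ⊕ Fin d) (Fin d ⊕ Fin d) F) *ᵥ φ (0, w) = φ (0, w)
      rw [hxv, hg']
      simp
  · exact φ.injective.comp LinearMap.inl_injective
  · show sympForm d F (φ (u, 0)) (φ (v, 0)) = B u v
    rw [hφ, hB']
    simp
  · change A * (x : Matrix (Fin d ⊕ Fin d) (Fin d ⊕ Fin d) F) = x * A at hA
    let D' : Module.End F (M × (Fin a ⊕ Fin a → F)) := φ.symm.conj (Matrix.toLin' A)
    have hD' : ∀ u, φ (D' u) = A *ᵥ φ u := fun u => by simp [D', LinearEquiv.conj_apply_apply]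
    have hcomm : ∀ u, D' (g' u) = g' (D' u) := fun u => φ.injective (by
      rw [hD', ← hxv, Matrix.mulVec_mulVec, hA, ← Matrix.mulVec_mulVec, ← hD', hxv])
    have hgsurj : Function.Surjective (g - 1 : Module.End F M) := LinearMap.injective_iff_surjective.mp
      ((injective_iff_map_eq_zero _).mpr fun w hw => hg.fixfree w (sub_eq_zero.mp hw))
    have hzero : ∀ u, (D' (u, 0)).2 = 0 := fun u => by
      obtain ⟨w, rfl⟩ := hgsurj u
      have e : ((g - 1 : Module.End F M) w, (0 : Fin a ⊕ Fin a → F)) = g' (w, 0) - (w, 0) := by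
        rw [hg']; simp
      rw [e, map_sub, hcomm, hg']
      simp
    let D : Module.End F M := LinearMap.fst F _ _ ∘ₗ D' ∘ₗ LinearMap.inl F M (Fin a ⊕ Fin a → F)
    have hDu : ∀ u, D' (u, 0) = (D u, 0) := fun u => Prod.ext rfl (hzero u)
    refine ⟨D, fun u => ?_, fun u => ?_⟩
    · have h := hcomm (u, 0)
      rw [hg', hDu, hg', hDu] at h
      exact congrArg Prod.fst h
    · show A *ᵥ φ (u, 0) = φ (D u, 0)
      rw [← hD', hDu]

/-- An element of even degree: operators fixed by the adjoint lie in the field of half the degree. -/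
theorem frob_fixed_even {M : Type u} [AddCommGroup M] [Module F M] [FiniteDimensional F M]
    {B : LinearMap.BilinForm F M} (hB : Refl B) {g : Module.End F M} (hg : IsFree B g r)
    (hd : finrank F M = orderOf (Fintype.card F : ZMod r)) {n : ℕ}
    (hn : orderOf (Fintype.card F : ZMod r) = 2 * n) (D : Module.End F M) (hDg : ∀ u, D (g u) = g (D u))
    (hadj : ∀ u v, B (D u) v = B u (D v)) : ∃ v, v ≠ 0 ∧ (D ^ (Fintype.card F ^ n)) v = D v := by
  classical
  haveI : Fact r.Prime := ⟨hg.prime⟩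
  haveI : Nontrivial M := Module.nontrivial_of_finrank_pos (R := F) (by rw [hd]; exact hg.order_pos)
  haveI : Finite M := Module.finite_of_finite F
  haveI : Finite (Module.End F M) := Finite.of_injective (fun T : Module.End F M => (T : M → M)) DFunLike.coe_injective
  have hDK := (centraliser_adjoin hg hd hDg).1
  obtain ⟨σ, hσ, hσg⟩ := exists_adjoint hg hd hB
  letI : Field ↥(Algebra.adjoin F ({g} : Set (Module.End F M))) := (adjoin_isField hg hd).toField
  have hk0 : 0 < n := by have := hg.order_pos; omega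
  have hqk : (Fintype.card F : ZMod r) ^ n = -1 := by
    refine (mul_self_eq_one_iff.mp ?_).resolve_left fun h => ?_
    · rw [← pow_add, ← two_mul, ← hn, pow_orderOf_eq_one]
    · have := Nat.le_of_dvd hk0 (orderOf_dvd_of_pow_eq_one h)
      omega
  have hgk : g ^ (Fintype.card F ^ n) = g ^ (r - 1) := by
    have e1 : ((Fintype.card F ^ n : ℕ) : ZMod r) = ((r - 1 : ℕ) : ZMod r) := by
      rw [Nat.cast_pow, hqk, Nat.cast_sub hg.prime.one_le, ZMod.natCast_self, Nat.cast_one, zero_sub]
    rw [pow_eq_pow_mod (Fintype.card F ^ n) hg.pow_eq, (ZMod.natCast_eq_natCast_iff' _ _ _).mp e1,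
      Nat.mod_eq_of_lt (by have := hg.prime.one_le; omega)]
  have h : σ = (FiniteField.frobeniusAlgHom F ↥(Algebra.adjoin F ({g} : Set (Module.End F M)))) ^ n := by
    refine AlgHom.adjoin_ext fun x hx => ?_
    obtain rfl : x = g := hx
    refine Subtype.ext ?_
    rw [hσg, AlgHom.coe_pow, FiniteField.coe_frobeniusAlgHom, pow_iterate]
    simp [hgk]
  have e1 : ((σ ⟨D, hDK⟩ : ↥(Algebra.adjoin F ({g} : Set (Module.End F M)))) : Module.End F M) = D := by
    refine LinearMap.ext fun v => sub_eq_zero.mp (hB.nondeg _ fun w => hB.zero_swap ?_)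
    rw [map_sub, ← hσ, hadj, sub_self]
  have e2 : ((σ ⟨D, hDK⟩ : ↥(Algebra.adjoin F ({g} : Set (Module.End F M)))) : Module.End F M) =
      D ^ (Fintype.card F ^ n) := by
    rw [h, AlgHom.coe_pow, FiniteField.coe_frobeniusAlgHom, pow_iterate]
    exact SubmonoidClass.coe_pow _ _
  obtain ⟨v, hv⟩ := exists_ne (0 : M)
  exact ⟨v, hv, by rw [← e2, e1]⟩

/-- An element of odd degree on a space of twice that dimension. -/
theorem frob_fixed_odd {M : Type u} [AddCommGroup M] [Module F M] [FiniteDimensional F M]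
    {B : LinearMap.BilinForm F M} (hB : SpCount.IsAltND B) {g : Module.End F M}
    (hg : IsFree B g r) (hd : finrank F M = 2 * orderOf (Fintype.card F : ZMod r))
    (hodd : Odd (orderOf (Fintype.card F : ZMod r))) (D : Module.End F M) (hDg : ∀ u, D (g u) = g (D u))
    (hadj : ∀ u v, B (D u) v = B u (D v)) :
    ∃ v, v ≠ 0 ∧ (D ^ (Fintype.card F ^ orderOf (Fintype.card F : ZMod r))) v = D v := by
  classical
  have hR : Refl B := Elusive.TsSymp.refl_of_alt hB
  obtain ⟨-, hex⟩ := hg.exists_irred (U := ⊤) fun x _ => trivial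
  obtain ⟨W, -, hW, hdW⟩ := hex fun h => by
    have h' := finrank_top F M
    rw [h, finrank_bot, hd] at h'
    have := hg.order_pos
    omega
  haveI : Fact r.Prime := ⟨hg.prime⟩
  have hfreeW := hg.restrict hW
  have hts : ∀ x ∈ W, ∀ y ∈ W, B x y = 0 := by
    refine (hg.ts_or_nondeg hW hdW).resolve_right fun hn => ?_
    have := (irreducible_norm hfreeW hdW (refl_restrict hR hn)).1
    rw [hdW] at this
    exact (Nat.not_even_iff_odd.mpr hodd) this
  have hinv : ∀ x ∈ W, D x ∈ W := by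
    let B' : LinearMap.BilinForm F W := (B.compl₂ D).compl₁₂ W.subtype W.subtype
    have hB' : ∀ u v : W, B' u v = B u.1 (D v.1) := fun _ _ => rfl
    have hfree' : IsFree B' (g.restrict hW) r :=
      { prime := hg.prime
        odd := hg.odd
        ne_zero := hg.ne_zero
        pow_eq := hfreeW.pow_eq
        isometry := fun u v => by
          rw [hB', hB']
          show B (g u.1) (D (g v.1)) = _
          rw [hDg, hg.isometry]
        fixfree := hfreeW.fixfree }
    let N : Submodule F W := LinearMap.ker B'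
    have hN : ∀ x ∈ N, g.restrict hW x ∈ N := fun x hx => by
      rw [LinearMap.mem_ker] at hx ⊢
      refine LinearMap.ext fun v => ?_
      obtain ⟨w, -, rfl⟩ := hfree'.map_eq (U := ⊤) (fun y _ => trivial) (x := v) trivial
      rw [hfree'.isometry, hx, LinearMap.zero_apply, LinearMap.zero_apply]
    rcases hfreeW.minimal (W := ⊤) (by rw [finrank_top, hdW]) hN le_top with hN0 | hN1
    · have hR' : Refl B' := ⟨⟨-1, fun u v => by rw [neg_one_mul, hB', hB', hB.swap v.1, hadj]⟩,
        fun v hv => (Submodule.mem_bot F).mp (hN0 ▸ LinearMap.mem_ker.mpr (LinearMap.ext hv))⟩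
      have := (irreducible_norm hfree' hdW hR').1
      rw [hdW] at this
      exact absurd this (Nat.not_even_iff_odd.mpr hodd)
    · intro x hx
      have hle : W ≤ B.orthogonal W := fun y hy z hz => hts z hz y hy
      have heq : W = B.orthogonal W := Submodule.eq_of_le_of_finrank_le hle (by
        rw [LinearMap.BilinForm.finrank_orthogonal hR.nondegenerate, hd, hdW]; omega)
      rw [heq]
      intro y hy
      exact LinearMap.congr_fun (LinearMap.mem_ker.mp (hN1 ▸ Submodule.mem_top : (⟨y, hy⟩ : W) ∈ N)) ⟨x, hx⟩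
  have hDg' : ∀ x : W, D.restrict hinv (g.restrict hW x) = g.restrict hW (D.restrict hinv x) :=
    fun x => Subtype.ext (hDg x)
  obtain ⟨hDK, hdeg⟩ := centraliser_adjoin hfreeW hdW hDg'
  haveI : Finite W := Module.finite_of_finite F
  haveI : Finite (Module.End F W) := Finite.of_injective (fun T : Module.End F W => (T : W → W)) DFunLike.coe_injective
  letI : Field ↥(Algebra.adjoin F ({g.restrict hW} : Set (Module.End F W))) :=
    (adjoin_isField hfreeW hdW).toField
  letI : Fintype ↥(Algebra.adjoin F ({g.restrict hW} : Set (Module.End F W))) := Fintype.ofFinite _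
  have e1 := congrArg Subtype.val (FiniteField.pow_card
    (⟨D.restrict hinv, hDK⟩ : ↥(Algebra.adjoin F ({g.restrict hW} : Set (Module.End F W)))))
  rw [SubmonoidClass.coe_pow, Module.card_eq_pow_finrank (K := F), hdeg, hdW] at e1
  haveI : Nontrivial W := Module.nontrivial_of_finrank_pos (R := F) (by rw [hdW]; exact hg.order_pos)
  obtain ⟨x, hx⟩ := exists_ne (0 : W)
  refine ⟨x.1, fun h => hx (Subtype.ext h), ?_⟩
  have key : ∀ (k : ℕ) (y : W), (((D.restrict hinv) ^ k) y).1 = (D ^ k) y.1 := fun k y =>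
    restrict_pow hinv k y
  rw [← key, e1]
  rfl

/-- The standard self-adjoint square root of `ν` in dimension four. -/
def S4 (ν : F) : Matrix (Fin 2 ⊕ Fin 2) (Fin 2 ⊕ Fin 2) F := Matrix.fromBlocks !![0, ν; 1, 0] 0 0 !![0, 1; ν, 0]

/-- Self-adjoint square roots of a non-square are conjugate in dimension four. -/
theorem exists_normal {ν : F} (hν : ¬ IsSquare ν) {A : Matrix (Fin 2 ⊕ Fin 2) (Fin 2 ⊕ Fin 2) F}
    (hA : A * A = ν • 1) (hadj : ∀ u v, sympForm 2 F (A *ᵥ u) v = sympForm 2 F u (A *ᵥ v))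
    (halt : ∀ u, sympForm 2 F (A *ᵥ u) u = 0) :
    ∃ g ∈ Cfsg.spGL 2 F, A * (g : Matrix (Fin 2 ⊕ Fin 2) (Fin 2 ⊕ Fin 2) F) =
      (g : Matrix (Fin 2 ⊕ Fin 2) (Fin 2 ⊕ Fin 2) F) * S4 ν := by
  classical
  set B := Elusive.sympB 2 F with hBdef
  have hB : SpCount.IsAltND B := ⟨Elusive.sympB_self, Elusive.sympB_nondeg⟩
  set T := Matrix.toLin' A with hTdef
  have hTT : ∀ u, T (T u) = ν • u := fun u => by
    rw [hTdef, Matrix.toLin'_apply, Matrix.toLin'_apply, Matrix.mulVec_mulVec, hA, Matrix.smul_mulVec,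
      Matrix.one_mulVec]
  have hT : ∀ u v, B (T u) v = B u (T v) := fun u v => hadj u v
  have hTu : ∀ u, B (T u) u = 0 := fun u => halt u
  have hTu' : ∀ u, B u (T u) = 0 := fun u => by rw [← hT, hTu]
  obtain ⟨u, hu⟩ := exists_ne (0 : Fin 2 ⊕ Fin 2 → F)
  obtain ⟨w, hw⟩ : ∃ w, B w u = 1 := by
    obtain ⟨z, hz⟩ : ∃ z, B z u ≠ 0 := by
      by_contra hc
      push Not at hc
      exact hu (hB.nondeg u fun z => by rw [hB.swap, hc, neg_zero])
    exact ⟨(B z u)⁻¹ • z, by rw [map_smul, LinearMap.smul_apply, smul_eq_mul, inv_mul_cancel₀ hz]⟩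
  obtain ⟨c, hc⟩ : ∃ c, B w (T u) = c := ⟨_, rfl⟩
  have hν0 : ν ≠ 0 := fun h => hν (h ▸ IsSquare.zero)
  have hD : ν - c * c ≠ 0 := fun h => hν ⟨c, sub_eq_zero.mp h⟩
  obtain ⟨v, hv⟩ : ∃ v, v = (ν / (ν - c * c)) • w + (-c / (ν - c * c)) • T w := ⟨_, rfl⟩
  have h1 : B v u = 1 := by
    rw [hv]
    simp only [map_add, map_smul, LinearMap.add_apply, LinearMap.smul_apply, smul_eq_mul, hw, hT, hc]
    rw [div_mul_eq_mul_div, div_mul_eq_mul_div, ← add_div, div_eq_iff hD]
    ring
  have h2 : B v (T u) = 0 := by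
    rw [hv]
    simp only [map_add, map_smul, LinearMap.add_apply, LinearMap.smul_apply, smul_eq_mul, hc, hT, hTT, hw]
    rw [div_mul_eq_mul_div, div_mul_eq_mul_div, ← add_div, div_eq_iff hD]
    ring
  have h1' : B u v = -1 := by rw [hB.swap, h1]
  have h2' : B (T u) v = 0 := by rw [hB.swap, h2, neg_zero]
  have h3 : B (T v) u = 0 := by rw [hT, h2]
  have h3' : B u (T v) = 0 := by rw [← hT, h2']
  have h4 : B (T v) (T u) = ν := by rw [hT, hTT, map_smul, h1, smul_eq_mul, mul_one]
  let f : Fin 2 ⊕ Fin 2 → (Fin 2 ⊕ Fin 2 → F) := Sum.elim ![u, T u] ![v, ν⁻¹ • T v]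
  refine SkewBlocks.exists_conj f ?_ ?_ ?_ A (S4 ν) ?_
  · intro i j
    fin_cases i <;> fin_cases j <;> simp [f, ← Elusive.sympB_apply, ← hBdef, hB.self, hTu, hTu']
  · intro i j
    fin_cases i <;> fin_cases j <;> simp [f, ← Elusive.sympB_apply, ← hBdef, hB.self, hTu, hTu']
  · intro i j
    fin_cases i <;> fin_cases j <;>
      simp [f, ← Elusive.sympB_apply, ← hBdef, h1, h2, h3, h4, hν0]
  · intro s
    have e : ∀ y, A *ᵥ y = T y := fun y => (Matrix.toLin'_apply A y).symm
    rcases s with j | j <;> fin_cases j <;>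
      simp [f, S4, e, hTT, Fintype.sum_sum_type, Fin.sum_univ_two, smul_smul, hν0]

end Cfsg.Agent.Classical.SelfAdjointField
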