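import Cfsg.Agent.Lib.Classical.Elusive.OrthEvenTypes
import Cfsg.Agent.Lib.Classical.Elusive.OrthDisc
import Cfsg.Agent.Lib.Small.QuadDisc
import Cfsg.Agent.Lib.Small.Orth.Words

/-!
# Self-adjoint square roots of a nonsquare in quadratic spaces: normal form
-/

set_option autoImplicit false
set_option linter.unusedSectionVars false

universe u

namespace Cfsg.Agent.Classical.Elusive.SelfAdjoint

open Module QuadraticMap
open Cfsg.Agent.Small

variable {F : Type u} [Field F] [Fintype F] {V : Type u} [AddCommGroup V] [Module F V] [FiniteDimensional F V]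
  {Q : QuadraticForm F V} {ν : F}

/-- A self-adjoint square root of `ν`. -/
structure SA (Q : QuadraticForm F V) (ν : F) (A : Module.End F V) : Prop where
  adj : ∀ u v, polar Q (A u) v = polar Q u (A v)
  sq : ∀ v, A (A v) = ν • v

theorem mul_sq_iff {a b : F} (h2 : (2 : F) ≠ 0) (hb : b ≠ 0) (ha : ¬ IsSquare a) (hb' : ¬ IsSquare b) :
    IsSquare (a * b) := by
  have hc : ringChar F ≠ 2 := fun hc => h2 (by
    have := ringChar.Nat.cast_ringChar (R := F)
    rw [hc] at this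
    exact_mod_cast this)
  have ha0 : a ≠ 0 := fun h => ha (h ▸ IsSquare.zero)
  rw [FiniteField.isSquare_iff hc (mul_ne_zero ha0 hb), mul_pow,
    (FiniteField.pow_dichotomy hc ha0).resolve_left fun h => ha ((FiniteField.isSquare_iff hc ha0).mpr h),
    (FiniteField.pow_dichotomy hc hb).resolve_left fun h => hb' ((FiniteField.isSquare_iff hc hb).mpr h)]
  ring

/-- Norms of `c + q√ν` vanish only at zero. -/
theorem norm_ne_zero (hν : ¬ IsSquare ν) {q c : F} (h : q ≠ 0 ∨ c ≠ 0) :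
    4 * ν * (q * q) - c * c ≠ 0 ∨ (2 : F) = 0 := by
  by_cases h2 : (2 : F) = 0
  · exact Or.inr h2
  refine Or.inl fun h0 => ?_
  by_cases hq : q = 0
  · subst hq
    exact h.resolve_left (fun h => h rfl) (mul_self_eq_zero.mp (by linear_combination -h0))
  · exact hν ⟨c / (2 * q), by field_simp; linear_combination h0⟩

theorem disc_ne_zero (h2 : (2 : F) ≠ 0) (hν : ¬ IsSquare ν) {q c : F} (h : q ≠ 0 ∨ c ≠ 0) :
    4 * ν * (q * q) - c * c ≠ 0 := (norm_ne_zero hν h).resolve_right h2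

variable {A : Module.End F V}

theorem SA.q_apply (h : SA Q ν A) (h2 : (2 : F) ≠ 0) (v : V) : Q (A v) = ν * Q v := by
  refine mul_left_cancel₀ h2 ?_
  rw [← QuadBasis.p_self, h.adj, h.sq, QuadBasis.p_smul_right, QuadBasis.p_self]
  ring

theorem SA.c_apply (h : SA Q ν A) (v : V) : polar Q (A v) (A (A v)) = ν * polar Q v (A v) := by
  rw [h.sq, QuadBasis.p_smul_right, polar_comm]

/-- Values on the line spanned by `u`. -/
theorem SA.values (h : SA Q ν A) (h2 : (2 : F) ≠ 0) (u : V) (s t : F) :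
    Q (s • u + t • A u) = (s * s + ν * (t * t)) * Q u + s * t * polar Q u (A u) ∧
      polar Q (s • u + t • A u) (A (s • u + t • A u)) =
        (s * s + ν * (t * t)) * polar Q u (A u) + 4 * ν * (s * t) * Q u := by
  constructor
  · rw [QuadBasis.q_add, QuadBasis.q_smul, QuadBasis.q_smul, h.q_apply h2, QuadBasis.p_smul_left,
      QuadBasis.p_smul_right]
    ring
  · rw [map_add, map_smul, map_smul, h.sq, polar_add_left, polar_add_right, polar_add_right]
    simp only [QuadBasis.p_smul_left, QuadBasis.p_smul_right, QuadBasis.p_self, h.q_apply h2]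
    rw [polar_comm Q (A u) u]
    ring

/-- The plane through `u`. -/
def plane (A : Module.End F V) (u : V) : Submodule F V := Submodule.span F {u, A u}

theorem plane_inv (h : SA Q ν A) {u x : V} (hx : x ∈ plane A u) : A x ∈ plane A u := by
  obtain ⟨s, t, rfl⟩ := Submodule.mem_span_pair.mp hx
  exact Submodule.mem_span_pair.mpr ⟨t * ν, s, by rw [map_add, map_smul, map_smul, h.sq, smul_smul]; abel⟩

theorem plane_facts (h : SA Q ν A) (h2 : (2 : F) ≠ 0) (hν : ¬ IsSquare ν) {u : V}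
    (hu : Q u ≠ 0 ∨ polar Q u (A u) ≠ 0) :
    QuadBasis.Nondeg Q (plane A u) ∧ finrank F (plane A u) = 2 := by
  have hD := disc_ne_zero h2 hν hu
  have key : ∀ s t : F, polar Q (s • u + t • A u) u = 0 → polar Q (s • u + t • A u) (A u) = 0 → s = 0 ∧ t = 0 := by
    intro s t e1 e2
    rw [polar_add_left, QuadBasis.p_smul_left, QuadBasis.p_smul_left, QuadBasis.p_self, polar_comm Q (A u) u] at e1
    rw [polar_add_left, QuadBasis.p_smul_left, QuadBasis.p_smul_left, QuadBasis.p_self, h.q_apply h2] at e2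
    constructor
    · exact (mul_eq_zero.mp (show (4 * ν * (Q u * Q u) - polar Q u (A u) * polar Q u (A u)) * s = 0 by
        linear_combination (2 * ν * Q u) * e1 - polar Q u (A u) * e2)).resolve_left hD
    · exact (mul_eq_zero.mp (show (4 * ν * (Q u * Q u) - polar Q u (A u) * polar Q u (A u)) * t = 0 by
        linear_combination (2 * Q u) * e2 - polar Q u (A u) * e1)).resolve_left hD
  refine ⟨fun x hx hperp => ?_, ?_⟩
  · obtain ⟨s, t, rfl⟩ := Submodule.mem_span_pair.mp hx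
    obtain ⟨rfl, rfl⟩ := key s t (hperp _ (Submodule.subset_span (by simp)))
      (hperp _ (Submodule.subset_span (by simp)))
    simp
  · have hli : LinearIndependent F ![u, A u] := by
      rw [LinearIndependent.pair_iff]
      intro s t hst
      exact key s t (by rw [hst, polar_zero_left]) (by rw [hst, polar_zero_left])
    have h' := finrank_span_eq_card hli
    rwa [Fintype.card_fin, Matrix.range_cons, Matrix.range_cons, Matrix.range_empty, Set.union_empty,
      ← Set.insert_eq] at h'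

/-- Splitting off a plane inside an invariant nondegenerate subspace. -/
theorem plane_compl (h : SA Q ν A) (h2 : (2 : F) ≠ 0) (hν : ¬ IsSquare ν) (hQ : OCount.PND Q) {W : Submodule F V}
    (hW : QuadBasis.Nondeg Q W) (hinv : ∀ x ∈ W, A x ∈ W) {u : V} (huW : u ∈ W)
    (hu : Q u ≠ 0 ∨ polar Q u (A u) ≠ 0) :
    ∃ C ≤ W, QuadBasis.Nondeg Q C ∧ (∀ x ∈ C, A x ∈ C) ∧ (∀ x ∈ plane A u, ∀ y ∈ C, polar Q x y = 0) ∧
      plane A u ⊔ C = W ∧ finrank F C + 2 = finrank F W := by
  obtain ⟨hn, hd⟩ := plane_facts h h2 hν hu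
  have hle : plane A u ≤ W := Submodule.span_le.mpr (by
    rintro x (rfl | rfl)
    · exact huW
    · exact hinv _ huW)
  obtain ⟨C, hC, hCn, hperp, hsup, hdim, hmem⟩ := OType.compl_in hQ hn hW hle
  refine ⟨C, hC, hCn, fun x hx => hmem _ (hinv _ (hC hx)) fun y hy => ?_, hperp, hsup, by omega⟩
  rw [h.adj, polar_comm]
  exact hperp _ (plane_inv h hy) x hx

/-- Every pair of values occurs in dimension at least three. -/
theorem exists_target (h : SA Q ν A) (h2 : (2 : F) ≠ 0) (hν : ¬ IsSquare ν) {W : Submodule F V}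
    (hW : QuadBasis.Nondeg Q W) (hinv : ∀ x ∈ W, A x ∈ W) (hd : 3 ≤ finrank F W) {q₀ c₀ : F}
    (h0 : q₀ ≠ 0 ∨ c₀ ≠ 0) : ∃ u ∈ W, Q u = q₀ ∧ polar Q u (A u) = c₀ := by
  obtain ⟨R, hR⟩ : ∃ R : QuadraticForm F V,
      R = c₀ • Q - q₀ • LinearMap.BilinMap.toQuadraticMap ((polarBilin Q).compl₂ A) := ⟨_, rfl⟩
  have hRa : ∀ v, R v = c₀ * Q v - q₀ * polar Q v (A v) := fun v => by
    rw [hR]; simp
  obtain ⟨v, hv, hv0, hRv⟩ := QuadBasis.exists_singular R hd
  rw [hRa, sub_eq_zero] at hRv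
  by_cases hz : Q v = 0 ∧ polar Q v (A v) = 0
  · obtain ⟨hQ0, hc0⟩ := hz
    obtain ⟨w, hw, hp⟩ : ∃ w ∈ W, polar Q v w ≠ 0 := by
      by_contra hno
      push Not at hno
      exact hv0 (hW v hv hno)
    obtain ⟨p, hpdef⟩ : ∃ p, p = polar Q v w := ⟨_, rfl⟩
    obtain ⟨p', hp'⟩ : ∃ p', p' = polar Q (A v) w := ⟨_, rfl⟩
    rw [← hpdef] at hp
    have hD : ν * (p * p) - p' * p' ≠ 0 := fun e => hν ⟨p' / p, by field_simp; linear_combination e⟩
    obtain ⟨a, ha⟩ : ∃ a, a = q₀ - Q w := ⟨_, rfl⟩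
    obtain ⟨b, hb⟩ : ∃ b, b = (c₀ - polar Q w (A w)) / 2 := ⟨_, rfl⟩
    obtain ⟨s, hs⟩ : ∃ s, s = (ν * p * a - p' * b) / (ν * (p * p) - p' * p') := ⟨_, rfl⟩
    obtain ⟨t, ht⟩ : ∃ t, t = (p * b - p' * a) / (ν * (p * p) - p' * p') := ⟨_, rfl⟩
    have e1 : s * p + t * p' = a := by
      rw [hs, ht, div_mul_eq_mul_div, div_mul_eq_mul_div, ← add_div, div_eq_iff hD]; ring
    have e2 : s * p' + t * (ν * p) = b := by
      rw [hs, ht, div_mul_eq_mul_div, div_mul_eq_mul_div, ← add_div, div_eq_iff hD]; ring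
    have hb' : 2 * b = c₀ - polar Q w (A w) := by rw [hb]; field_simp
    obtain ⟨hv1, hv2⟩ := h.values h2 v s t
    rw [hQ0, hc0] at hv1 hv2
    have hpol : polar Q (s • v + t • A v) w = a := by
      rw [polar_add_left, QuadBasis.p_smul_left, QuadBasis.p_smul_left, ← hpdef, ← hp', e1]
    have hpolA : polar Q (s • v + t • A v) (A w) = b := by
      rw [← h.adj, map_add, map_smul, map_smul, h.sq, polar_add_left, QuadBasis.p_smul_left, QuadBasis.p_smul_left,
        QuadBasis.p_smul_left, ← hpdef, ← hp', e2]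
    refine ⟨w + (s • v + t • A v), W.add_mem hw (W.add_mem (W.smul_mem _ hv) (W.smul_mem _ (hinv v hv))), ?_, ?_⟩
    · rw [QuadBasis.q_add, hv1, polar_comm, hpol, ha]
      ring
    · rw [map_add, polar_add_left, polar_add_right, polar_add_right, hv2, hpolA,
        show polar Q w (A (s • v + t • A v)) = b by rw [← h.adj, polar_comm, hpolA]]
      linear_combination hb'
  · obtain ⟨μ, hμ, hμq, hμc⟩ : ∃ μ, μ ≠ 0 ∧ Q v = μ * q₀ ∧ polar Q v (A v) = μ * c₀ := by
      by_cases hq : q₀ = 0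
      · subst hq
        have hc : c₀ ≠ 0 := h0.resolve_left fun h => h rfl
        rw [zero_mul] at hRv
        have hQ0 := (mul_eq_zero.mp hRv).resolve_left hc
        refine ⟨polar Q v (A v) / c₀, div_ne_zero (fun e => hz ⟨hQ0, e⟩) hc, by rw [hQ0, mul_zero],
          (div_mul_cancel₀ _ hc).symm⟩
      · refine ⟨Q v / q₀, div_ne_zero (fun e => hz ⟨e, ?_⟩) hq, (div_mul_cancel₀ _ hq).symm, ?_⟩
        · rw [e, mul_zero] at hRv
          exact (mul_eq_zero.mp hRv.symm).resolve_left hq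
        · field_simp
          linear_combination -hRv
    by_cases hs : IsSquare μ
    · obtain ⟨w, hw⟩ := hs
      have hw0 : w ≠ 0 := fun e => hμ (by rw [hw, e, mul_zero])
      refine ⟨w⁻¹ • v, W.smul_mem _ hv, ?_, ?_⟩
      · rw [QuadBasis.q_smul, hμq, hw]; field_simp
      · rw [map_smul, QuadBasis.p_smul_left, QuadBasis.p_smul_right, hμc, hw]; field_simp
    · obtain ⟨w, hw⟩ := mul_sq_iff h2 hμ hν hs
      have hν0 : ν ≠ 0 := fun e => hν (e ▸ IsSquare.zero)
      have hw0 : w ≠ 0 := fun e => mul_ne_zero hν0 hμ (by rw [hw, e, mul_zero])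
      refine ⟨w⁻¹ • A v, W.smul_mem _ (hinv v hv), ?_, ?_⟩
      · rw [QuadBasis.q_smul, h.q_apply h2, hμq, ← mul_assoc ν, hw]; field_simp
      · rw [map_smul, QuadBasis.p_smul_left, QuadBasis.p_smul_right, h.c_apply, hμc, ← mul_assoc ν, hw]; field_simp

/-- In a plane the square class of the norm decides. -/
theorem exists_in_plane (h : SA Q ν A) (h2 : (2 : F) ≠ 0) (hν : ¬ IsSquare ν) {u : V}
    (hu : Q u ≠ 0 ∨ polar Q u (A u) ≠ 0) {q₀ c₀ : F} (h0 : q₀ ≠ 0 ∨ c₀ ≠ 0)
    (hsq : IsSquare ((4 * ν * (Q u * Q u) - polar Q u (A u) * polar Q u (A u)) * (4 * ν * (q₀ * q₀) - c₀ * c₀))) :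
    ∃ s t : F, Q (s • u + t • A u) = q₀ ∧ polar Q (s • u + t • A u) (A (s • u + t • A u)) = c₀ := by
  obtain ⟨D, hD⟩ : ∃ D, D = 4 * ν * (Q u * Q u) - polar Q u (A u) * polar Q u (A u) := ⟨_, rfl⟩
  obtain ⟨D₀, hD₀⟩ : ∃ D₀, D₀ = 4 * ν * (q₀ * q₀) - c₀ * c₀ := ⟨_, rfl⟩
  have hDne : D ≠ 0 := hD ▸ disc_ne_zero h2 hν hu
  have hD₀ne : D₀ ≠ 0 := hD₀ ▸ disc_ne_zero h2 hν h0
  rw [← hD, ← hD₀] at hsq
  obtain ⟨w, hw⟩ := hsq
  obtain ⟨n, hn⟩ : ∃ n, n = w / D := ⟨_, rfl⟩
  obtain ⟨X, hX⟩ : ∃ X, X = (4 * ν * Q u * q₀ - polar Q u (A u) * c₀) / D := ⟨_, rfl⟩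
  obtain ⟨Y, hY⟩ : ∃ Y, Y = (Q u * c₀ - polar Q u (A u) * q₀) / D := ⟨_, rfl⟩
  have eX : X * Q u + Y * polar Q u (A u) = q₀ := by
    rw [hX, hY, div_mul_eq_mul_div, div_mul_eq_mul_div, ← add_div, div_eq_iff hDne, hD]; ring
  have eY : X * polar Q u (A u) + 4 * ν * Y * Q u = c₀ := by
    rw [hX, hY, div_mul_eq_mul_div, mul_div_assoc', div_mul_eq_mul_div, ← add_div, div_eq_iff hDne, hD]; ring
  have hn2 : X * X - 4 * ν * (Y * Y) = n * n := by
    rw [hn, hX, hY]
    field_simp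
    linear_combination hw - (4 * ν * (q₀ * q₀) - c₀ * c₀) * hD - D * hD₀
  suffices hst : ∃ s t : F, s * s + ν * (t * t) = X ∧ s * t = Y by
    obtain ⟨s, t, e1, e2⟩ := hst
    obtain ⟨hv1, hv2⟩ := h.values h2 u s t
    exact ⟨s, t, by rw [hv1, e1, e2, eX], by rw [hv2, e1, e2, eY]⟩
  have hn0 : n ≠ 0 := by
    rw [hn]
    refine div_ne_zero (fun e => mul_ne_zero hDne hD₀ne (by rw [hw, e, mul_zero])) hDne
  have hν0 : ν ≠ 0 := fun e => hν (e ▸ IsSquare.zero)
  by_cases hY0 : Y = 0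
  · by_cases hXs : IsSquare X
    · obtain ⟨s, hs⟩ := hXs
      exact ⟨s, 0, by rw [hs]; ring, by rw [hY0, mul_zero]⟩
    · obtain ⟨e, he⟩ := mul_sq_iff h2 (fun h0 => hXs (by rw [h0]; exact IsSquare.zero)) hν hXs
      exact ⟨0, e / ν, by field_simp; linear_combination -he, by rw [hY0, zero_mul]⟩
  obtain ⟨P, hP⟩ : ∃ P, P = (X + n) / 2 := ⟨_, rfl⟩
  obtain ⟨M, hM⟩ : ∃ M, M = (X - n) / 2 := ⟨_, rfl⟩
  have hPM : P * M = ν * (Y * Y) := by
    rw [hP, hM]; field_simp; linear_combination hn2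
  have hP0 : P ≠ 0 := fun e => mul_ne_zero hν0 (mul_ne_zero hY0 hY0) (by rw [← hPM, e, zero_mul])
  have hM0 : M ≠ 0 := fun e => mul_ne_zero hν0 (mul_ne_zero hY0 hY0) (by rw [← hPM, e, mul_zero])
  have hPM2 : P + M = X := by rw [hP, hM]; field_simp; ring
  have fin : ∀ P M : F, P ≠ 0 → P * M = ν * (Y * Y) → P + M = X → IsSquare P →
      ∃ s t : F, s * s + ν * (t * t) = X ∧ s * t = Y := by
    rintro P M hP0 hPM hsum ⟨s, hs⟩
    have hs0 : s ≠ 0 := fun e => hP0 (by rw [hs, e, mul_zero])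
    refine ⟨s, Y / s, ?_, by field_simp⟩
    rw [hs] at hPM hsum
    field_simp
    linear_combination (s * s) * hsum - hPM
  by_cases hPs : IsSquare P
  · exact fin P M hP0 hPM hPM2 hPs
  · refine fin M P hM0 (by rw [mul_comm, hPM]) (by rw [add_comm, hPM2]) ?_
    by_contra hMs
    have h1 := mul_sq_iff h2 hM0 hPs hMs
    rw [hPM, Orth.isSquare_mul_iff (IsSquare.mul_self Y) (mul_ne_zero hY0 hY0)] at h1
    exact hν h1

theorem plus_plane (h : SA Q ν A) (h2 : (2 : F) ≠ 0) (hν : ¬ IsSquare ν) {u : V}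
    (hu : Q u ≠ 0 ∨ polar Q u (A u) ≠ 0) :
    OType.IsPlus Q (plane A u) ↔ IsSquare (-(4 * ν * (Q u * Q u) - polar Q u (A u) * polar Q u (A u))) := by
  obtain ⟨hn, hd⟩ := plane_facts h h2 hν hu
  obtain ⟨D, hD⟩ : ∃ D, D = 4 * ν * (Q u * Q u) - polar Q u (A u) * polar Q u (A u) := ⟨_, rfl⟩
  have hDne : D ≠ 0 := hD ▸ disc_ne_zero h2 hν hu
  rw [← hD]
  constructor
  · rintro ⟨T, hT, hTs, hTd⟩
    obtain ⟨x, hx, hx0⟩ := Submodule.exists_mem_ne_zero_of_ne_bot (p := T) fun e => by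
      rw [e, finrank_bot, hd] at hTd; omega
    obtain ⟨s, t, rfl⟩ := Submodule.mem_span_pair.mp (hT hx)
    have h0 := hTs _ hx
    rw [(h.values h2 u s t).1] at h0
    by_cases ht : t = 0
    · subst ht
      have hs : s ≠ 0 := fun e => hx0 (by simp [e])
      have hQ0 : Q u = 0 := (mul_eq_zero.mp (show (s * s) * Q u = 0 by linear_combination h0)).resolve_left
        (mul_ne_zero hs hs)
      exact ⟨polar Q u (A u), by rw [hD, hQ0]; ring⟩
    · refine ⟨(2 * s * Q u + t * polar Q u (A u)) / t, ?_⟩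
      rw [hD]
      field_simp
      linear_combination -(4 * Q u) * h0
  · rintro ⟨e, he⟩
    obtain ⟨s, t, hst, h0⟩ : ∃ s t : F, (s ≠ 0 ∨ t ≠ 0) ∧
        (s * s + ν * (t * t)) * Q u + s * t * polar Q u (A u) = 0 := by
      by_cases hQ0 : Q u = 0
      · exact ⟨1, 0, Or.inl one_ne_zero, by rw [hQ0]; ring⟩
      · refine ⟨(e - polar Q u (A u)) / (2 * Q u), 1, Or.inr one_ne_zero, ?_⟩
        field_simp
        linear_combination -he - hD
    have hv : Q (s • u + t • A u) = 0 := (h.values h2 u s t).1.trans h0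
    have hne : s • u + t • A u ≠ 0 := fun e0 => by
      have hli : LinearIndependent F ![u, A u] := by
        refine linearIndependent_iff_card_eq_finrank_span.mpr ?_
        rw [Fintype.card_fin, Set.finrank, Matrix.range_cons, Matrix.range_cons, Matrix.range_empty, Set.union_empty,
          ← Set.insert_eq]
        exact hd.symm
      obtain ⟨h1, h3⟩ := LinearIndependent.pair_iff.mp hli s t e0
      exact hst.elim (fun h => h h1) fun h => h h3
    refine ⟨Submodule.span F {s • u + t • A u}, (Submodule.span_singleton_le_iff_mem _ _).mpr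
      (Submodule.mem_span_pair.mpr ⟨s, t, rfl⟩), fun x hx => ?_, by rw [finrank_span_singleton hne, hd]⟩
    obtain ⟨k, rfl⟩ := Submodule.mem_span_singleton.mp hx
    rw [QuadBasis.q_smul, hv, mul_zero]

/-- Coordinates on a plane, carried to another one. -/
theorem plane_map (h : SA Q ν A) (h2 : (2 : F) ≠ 0) (hν : ¬ IsSquare ν) {u u' : V}
    (hu : Q u ≠ 0 ∨ polar Q u (A u) ≠ 0) (A' : Module.End F V) :
    ∃ φ : Module.End F V, φ u = u' ∧ φ (A u) = A' u' ∧ ∀ x, polar Q x u = 0 → polar Q x (A u) = 0 → φ x = 0 := by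
  obtain ⟨D, hD⟩ : ∃ D, D = 4 * ν * (Q u * Q u) - polar Q u (A u) * polar Q u (A u) := ⟨_, rfl⟩
  have hDne : D ≠ 0 := hD ▸ disc_ne_zero h2 hν hu
  refine ⟨((D⁻¹ • ((2 * ν * Q u) • (polarBilin Q).flip u - polar Q u (A u) • (polarBilin Q).flip (A u))).smulRight u') +
      ((D⁻¹ • ((2 * Q u) • (polarBilin Q).flip (A u) - polar Q u (A u) • (polarBilin Q).flip u)).smulRight (A' u')),
    ?_, ?_, fun x h1 h3 => ?_⟩
  · simp only [LinearMap.add_apply, LinearMap.smulRight_apply, LinearMap.smul_apply, LinearMap.sub_apply,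
      LinearMap.flip_apply, polarBilin_apply_apply, smul_eq_mul, QuadBasis.p_self]
    rw [show D⁻¹ * (2 * ν * Q u * (2 * Q u) - polar Q u (A u) * polar Q u (A u)) = 1 by
        rw [inv_mul_eq_div, div_eq_one_iff_eq hDne, hD]; ring,
      show D⁻¹ * (2 * Q u * polar Q u (A u) - polar Q u (A u) * (2 * Q u)) = 0 by ring]
    simp
  · simp only [LinearMap.add_apply, LinearMap.smulRight_apply, LinearMap.smul_apply, LinearMap.sub_apply,
      LinearMap.flip_apply, polarBilin_apply_apply, smul_eq_mul, QuadBasis.p_self, h.q_apply h2,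
      polar_comm Q (A u) u]
    rw [show D⁻¹ * (2 * ν * Q u * polar Q u (A u) - polar Q u (A u) * (2 * (ν * Q u))) = 0 by ring,
      show D⁻¹ * (2 * Q u * (2 * (ν * Q u)) - polar Q u (A u) * polar Q u (A u)) = 1 by
        rw [inv_mul_eq_div, div_eq_one_iff_eq hDne, hD]; ring]
    simp
  · simp only [LinearMap.add_apply, LinearMap.smulRight_apply, LinearMap.smul_apply, LinearMap.sub_apply,
      LinearMap.flip_apply, polarBilin_apply_apply, smul_eq_mul, h1, h3]
    simp

/-- Two self-adjoint roots agree up to isometry on subspaces of the same type. -/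
theorem exists_transport (h2 : (2 : F) ≠ 0) (hν : ¬ IsSquare ν) (hQ : OCount.PND Q) {A A' : Module.End F V}
    (h : SA Q ν A) (h' : SA Q ν A') : ∀ (k : ℕ) (W W' : Submodule F V), finrank F W = 2 * k → finrank F W' = 2 * k →
      QuadBasis.Nondeg Q W → QuadBasis.Nondeg Q W' → (∀ x ∈ W, A x ∈ W) → (∀ x ∈ W', A' x ∈ W') →
      (OType.IsPlus Q W ↔ OType.IsPlus Q W') →
      ∃ φ : Module.End F V, ∀ w ∈ W, φ w ∈ W' ∧ Q (φ w) = Q w ∧ φ (A w) = A' (φ w) := by
  intro k
  induction k with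
  | zero =>
    intro W W' hW hW' _ _ _ _ _
    refine ⟨0, fun w hw => ?_⟩
    rw [Submodule.finrank_eq_zero.mp (by omega : finrank F W = 0), Submodule.mem_bot] at hw
    subst hw
    simp
  | succ k ih =>
    intro W W' hW hW' hn hn' hi hi' htype
    have hne : ∀ X : Submodule F V, finrank F X = 2 * (k + 1) → X ≠ ⊥ := fun X hX h0 => by
      rw [h0, finrank_bot] at hX; omega
    obtain ⟨u, u', huW, hu'W, hu, heq, hceq⟩ : ∃ u u', u ∈ W ∧ u' ∈ W' ∧ (Q u ≠ 0 ∨ polar Q u (A u) ≠ 0) ∧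
        Q u' = Q u ∧ polar Q u' (A' u') = polar Q u (A u) := by
      rcases Nat.eq_zero_or_pos k with rfl | hk
      · obtain ⟨u, hu, hQu⟩ := QuadBasis.exists_ne_zero_value Q hn (hne W hW)
        obtain ⟨u', hu', hQu'⟩ := QuadBasis.exists_ne_zero_value Q hn' (hne W' hW')
        have hP : plane A u = W := Submodule.eq_of_le_of_finrank_eq (Submodule.span_le.mpr (by
          rintro x (rfl | rfl)
          exacts [hu, hi _ hu])) (by rw [(plane_facts h h2 hν (Or.inl hQu)).2, hW])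
        have hP' : plane A' u' = W' := Submodule.eq_of_le_of_finrank_eq (Submodule.span_le.mpr (by
          rintro x (rfl | rfl)
          exacts [hu', hi' _ hu'])) (by rw [(plane_facts h' h2 hν (Or.inl hQu')).2, hW'])
        rw [← hP, ← hP', plus_plane h h2 hν (Or.inl hQu), plus_plane h' h2 hν (Or.inl hQu')] at htype
        have d1 := disc_ne_zero h2 hν (c := polar Q u (A u)) (Or.inl hQu)
        have d2 := disc_ne_zero h2 hν (c := polar Q u' (A' u')) (Or.inl hQu')
        obtain ⟨s, t, e1, e2⟩ := exists_in_plane h' h2 hν (Or.inl hQu') (q₀ := Q u) (c₀ := polar Q u (A u))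
          (Or.inl hQu) (by
            rw [mul_comm, ← neg_mul_neg]
            by_cases hs : IsSquare (-(4 * ν * (Q u * Q u) - polar Q u (A u) * polar Q u (A u)))
            · exact hs.mul (htype.mp hs)
            · exact mul_sq_iff h2 (neg_ne_zero.mpr d2) hs fun hs' => hs (htype.mpr hs'))
        exact ⟨u, s • u' + t • A' u', hu, W'.add_mem (W'.smul_mem _ hu') (W'.smul_mem _ (hi' _ hu')), Or.inl hQu,
          e1, e2⟩
      · obtain ⟨u, hu, e1, e2⟩ := exists_target h h2 hν hn hi (by omega) (q₀ := 1) (c₀ := 0) (Or.inl one_ne_zero)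
        obtain ⟨u', hu', e1', e2'⟩ := exists_target h' h2 hν hn' hi' (by omega) (q₀ := 1) (c₀ := 0)
          (Or.inl one_ne_zero)
        exact ⟨u, u', hu, hu', Or.inl (by rw [e1]; exact one_ne_zero), by rw [e1, e1'], by rw [e2, e2']⟩
    have hu' : Q u' ≠ 0 ∨ polar Q u' (A' u') ≠ 0 := by rwa [heq, hceq]
    obtain ⟨C, hCW, hCn, hCi, hCp, hCs, hCd⟩ := plane_compl h h2 hν hQ hn hi huW hu
    obtain ⟨C', hCW', hCn', hCi', hCp', hCs', hCd'⟩ := plane_compl h' h2 hν hQ hn' hi' hu'W hu'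
    obtain ⟨hPn, hPd⟩ := plane_facts h h2 hν hu
    obtain ⟨hPn', hPd'⟩ := plane_facts h' h2 hν hu'
    have hT := OType.plus_sup_iff hPn hCn hCp (e := 1) (e' := k) (by omega) (by omega)
    have hT' := OType.plus_sup_iff hPn' hCn' hCp' (e := 1) (e' := k) (by omega) (by omega)
    rw [hCs, plus_plane h h2 hν hu] at hT
    rw [hCs', plus_plane h' h2 hν hu', heq, hceq] at hT'
    obtain ⟨ψ, hψ⟩ := ih C C' (by omega) (by omega) hCn hCn' hCi hCi' (by
      rw [hT, hT'] at htype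
      tauto)
    obtain ⟨φ, hφu, hφA, hφ0⟩ := plane_map h h2 hν hu (u' := u') A'
    obtain ⟨π, hπu, hπA, hπ0⟩ := plane_map h h2 hν hu (u' := u) A
    refine ⟨φ + ψ ∘ₗ ((1 : Module.End F V) - π), fun w hw => ?_⟩
    obtain ⟨p, hp, y, hy, rfl⟩ := Submodule.mem_sup.mp (show w ∈ plane A u ⊔ C by rw [hCs]; exact hw)
    obtain ⟨s, t, rfl⟩ := Submodule.mem_span_pair.mp hp
    have hyu : polar Q y u = 0 := by rw [polar_comm]; exact hCp _ (Submodule.subset_span (by simp)) y hy
    have hyA : polar Q y (A u) = 0 := by rw [polar_comm]; exact hCp _ (Submodule.subset_span (by simp)) y hy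
    have happ : ∀ s t : F, ∀ y ∈ C, polar Q y u = 0 → polar Q y (A u) = 0 →
        (φ + ψ ∘ₗ ((1 : Module.End F V) - π)) (s • u + t • A u + y) = s • u' + t • A' u' + ψ y := by
      intro s t y _ e1 e2
      have e3 : π (s • u + t • A u + y) = s • u + t • A u := by
        rw [map_add, map_add, map_smul, map_smul, hπu, hπA, hπ0 y e1 e2, add_zero]
      rw [LinearMap.add_apply, LinearMap.comp_apply, LinearMap.sub_apply, Module.End.one_apply, e3,
        add_sub_cancel_left, map_add, map_add, map_smul, map_smul, hφu, hφA, hφ0 y e1 e2, add_zero]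
    rw [happ s t y hy hyu hyA]
    obtain ⟨hy1, hy2, hy3⟩ := hψ y hy
    refine ⟨W'.add_mem (W'.add_mem (W'.smul_mem _ hu'W) (W'.smul_mem _ (hi' _ hu'W))) (hCW' hy1), ?_, ?_⟩
    · rw [QuadBasis.q_add (Q := Q) (s • u' + t • A' u') (ψ y), QuadBasis.q_add (Q := Q) (s • u + t • A u) y,
        hCp' _ (Submodule.mem_span_pair.mpr ⟨s, t, rfl⟩) _ hy1, hCp _ (Submodule.mem_span_pair.mpr ⟨s, t, rfl⟩) _ hy,
        hy2, (h.values h2 u s t).1, (h'.values h2 u' s t).1, heq, hceq]
    · rw [map_add A, map_add A, map_smul, map_smul, h.sq, smul_smul, add_comm (s • A u) ((t * ν) • u),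
        happ (t * ν) s (A y) (hCi y hy)
          (by rw [polar_comm]; exact hCp _ (Submodule.subset_span (by simp)) _ (hCi y hy))
          (by rw [polar_comm]; exact hCp _ (Submodule.subset_span (by simp)) _ (hCi y hy)),
        hy3, map_add, map_add, map_smul, map_smul, h'.sq, smul_smul]
      abel

/-- Self-adjoint roots of the same nonsquare are conjugate by isometries. -/
theorem exists_conj (h2 : (2 : F) ≠ 0) (hν : ¬ IsSquare ν) (hQ : OCount.PND Q) {d : ℕ}
    (hV : finrank F V = 2 * d) {A A' : Module.End F V} (h : SA Q ν A) (h' : SA Q ν A') :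
    ∃ φ : V ≃ₗ[F] V, (∀ v, Q (φ v) = Q v) ∧ ∀ v, φ (A v) = A' (φ v) := by
  have ht : QuadBasis.Nondeg Q (⊤ : Submodule F V) := fun x _ hx => hQ x fun w => hx w trivial
  obtain ⟨φ, hφ⟩ := exists_transport h2 hν hQ h h' d ⊤ ⊤ (by rw [finrank_top, hV]) (by rw [finrank_top, hV]) ht ht
    (fun _ _ => trivial) (fun _ _ => trivial) Iff.rfl
  have hiso : ∀ v, Q (φ v) = Q v := fun v => (hφ v trivial).2.1
  have hinj : Function.Injective φ := (injective_iff_map_eq_zero _).mpr fun v hv => hQ v fun w => by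
    have e : polar Q (φ v) (φ w) = polar Q v w := by simp only [polar, ← map_add, hiso]
    rw [← e, hv, polar_zero_left]
  exact ⟨LinearEquiv.ofBijective φ ⟨hinj, LinearMap.injective_iff_surjective.mp hinj⟩, hiso,
    fun v => (hφ v trivial).2.2⟩

/-- An orthogonal family of pairs carries a self-adjoint root. -/
theorem exists_of_pairs (h2 : (2 : F) ≠ 0) (hQ : OCount.PND Q) {d : ℕ} (hV : finrank F V = 2 * d)
    (z : Fin d × Fin 2 → V) (hz : ∀ a, Q (z a) ≠ 0) (ho : ∀ a b, a ≠ b → polar Q (z a) (z b) = 0)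
    (a b : Fin d → F) (hab : ∀ j, a j * a j + b j * b j * (Q (z (j, 1)) / Q (z (j, 0))) = ν) :
    ∃ A : Module.End F V, SA Q ν A ∧
      ∀ j, A (z (j, 0)) = a j • z (j, 0) + b j • z (j, 1) ∧
        A (z (j, 1)) = (b j * (Q (z (j, 1)) / Q (z (j, 0)))) • z (j, 0) - a j • z (j, 1) := by
  classical
  have hg : OType.gdet Q z ≠ 0 := by
    have h : (Matrix.of fun a b => polar Q (z a) (z b)) = Matrix.diagonal fun a => 2 * Q (z a) := by
      ext x y
      rcases eq_or_ne x y with rfl | hxy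
      · rw [Matrix.of_apply, Matrix.diagonal_apply_eq, QuadBasis.p_self]
      · rw [Matrix.of_apply, Matrix.diagonal_apply_ne _ hxy, ho _ _ hxy]
    rw [OType.gdet, h, Matrix.det_diagonal]
    exact Finset.prod_ne_zero_iff.mpr fun x _ => mul_ne_zero h2 (hz x)
  let β : Basis (Fin d × Fin 2) F V := Basis.mk (OType.span_facts z hg).1
    (OType.span_eq_top hg (by simp [hV, mul_comm])).ge
  have hβ : ∀ x, β x = z x := fun x => Basis.mk_apply _ _ x
  obtain ⟨A, hA⟩ : ∃ A : Module.End F V, A = β.constr F fun x => if x.2 = 0 then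
      a x.1 • z (x.1, 0) + b x.1 • z (x.1, 1)
      else (b x.1 * (Q (z (x.1, 1)) / Q (z (x.1, 0)))) • z (x.1, 0) - a x.1 • z (x.1, 1) := ⟨_, rfl⟩
  have hAv : ∀ j, A (z (j, 0)) = a j • z (j, 0) + b j • z (j, 1) ∧
      A (z (j, 1)) = (b j * (Q (z (j, 1)) / Q (z (j, 0)))) • z (j, 0) - a j • z (j, 1) := fun j => by
    constructor <;> rw [← hβ (j, _), hA, Basis.constr_basis] <;> simp [hβ]
  refine ⟨A, ⟨fun u v => ?_, fun v => ?_⟩, hAv⟩
  · have e : LinearMap.BilinForm.compLeft (polarBilin Q) A = LinearMap.BilinForm.compRight (polarBilin Q) A := by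
      refine LinearMap.ext_basis β β fun ⟨i, s⟩ ⟨j, t⟩ => ?_
      simp only [LinearMap.BilinForm.compLeft_apply, LinearMap.BilinForm.compRight_apply, polarBilin_apply_apply, hβ]
      rcases eq_or_ne i j with rfl | hij
      · have ne : ∀ s t : Fin 2, s ≠ t → polar Q (z (i, s)) (z (i, t)) = 0 := fun s t hst => ho _ _ (by simp [hst])
        have hr := hz (i, 0)
        fin_cases s <;> fin_cases t <;>
          simp [hAv i, polar_sub_left, polar_sub_right, polar_add_left, polar_add_right, ne 0 1 (by decide),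
            ne 1 0 (by decide), QuadBasis.p_self] <;> field_simp
      · have ne : ∀ s t : Fin 2, polar Q (z (i, s)) (z (j, t)) = 0 := fun s t => ho _ _ (by simp [hij])
        fin_cases s <;> fin_cases t <;>
          simp [hAv i, hAv j, polar_sub_left, polar_sub_right, polar_add_left, polar_add_right, ne]
    exact LinearMap.congr_fun (LinearMap.congr_fun e u) v
  · have e : A ∘ₗ A = ν • (LinearMap.id : V →ₗ[F] V) := β.ext fun ⟨j, s⟩ => by
      simp only [LinearMap.comp_apply, LinearMap.smul_apply, LinearMap.id_apply, hβ]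
      fin_cases s <;> simp [hAv j, map_add, map_sub, map_smul, smul_sub, smul_add, smul_smul] <;>
        rw [← hab j] <;> module
    exact LinearMap.congr_fun e v

end Cfsg.Agent.Classical.Elusive.SelfAdjoint
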