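import Cfsg.Agent.Lib.Classical.Elusive.PeriodRoot
import Cfsg.Agent.Lib.Classical.Elusive.SelfAdjointPlanes
import Cfsg.Agent.Lib.Classical.Elusive.SelfAdjointField
import Cfsg.Agent.Lib.Classical.Elusive.OrthTsInvol
import Cfsg.Agent.Lib.Classical.Elusive.OrthEvenInvol

/-!
# Self-adjoint square roots commuting with given isometries

Groups of order a power of `r` always commute with one when the order of the field modulo `r` is divisible by four;
elements of order two always commute or anticommute with one inside a single class of the derived group; otherwise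
there are elements of order `r` commuting with none.
-/

set_option autoImplicit false
set_option linter.unusedSectionVars false

universe u

namespace Cfsg.Agent.Classical.Elusive.SelfAdjoint

open Module QuadraticMap Polynomial
open Cfsg.Agent.Small

section
variable {F : Type u} [Field F] {V : Type u} [AddCommGroup V] [Module F V] {Q : QuadraticForm F V}

/-- An isometry as an endomorphism. -/
def toEnd (Q : QuadraticForm F V) : ↥(ORefl.Iso Q) →* Module.End F V where
  toFun g := g.1.toLinearMap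
  map_one' := rfl
  map_mul' _ _ := rfl

theorem toEnd_apply (g : ↥(ORefl.Iso Q)) (v : V) : toEnd Q g v = g.1 v := rfl

theorem toEnd_inj : Function.Injective (toEnd Q) := fun _ _ h =>
  Subtype.ext (LinearEquiv.toLinearMap_injective h)

theorem aeval_fix {g : Module.End F V} {x : V} (hx : g x = x) (P : F[X]) : aeval g P x = P.eval 1 • x := by
  induction P using Polynomial.induction_on' with
  | add a b ha hb => simp [ha, hb, add_smul]
  | monomial m a =>
    have hm : ∀ k : ℕ, (g ^ k) x = x := by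
      intro k
      induction k with
      | zero => rfl
      | succ k ih => rw [pow_succ', Module.End.mul_apply, ih, hx]
    simp [aeval_monomial, Module.algebraMap_end_apply, hm]

theorem aeval_commute {g h : Module.End F V} (hc : h * g = g * h) (P : F[X]) :
    h * aeval g P = aeval g P * h := by
  induction P using Polynomial.induction_on' with
  | add a b ha hb => rw [map_add, mul_add, add_mul, ha, hb]
  | monomial m a =>
    rw [aeval_monomial, ← mul_assoc, ← Algebra.commutes a h, mul_assoc, mul_assoc,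
      (show Commute h g from hc).pow_right m]

theorem aeval_eq_of_dvd {g : Module.End F V} {r : ℕ} (hgr : g ^ r = 1) {P R : F[X]}
    (h : (X ^ r - 1 : F[X]) ∣ P - R) : aeval g P = aeval g R := by
  obtain ⟨c, hc⟩ := h
  rw [← sub_eq_zero, ← map_sub, hc, map_mul, map_sub, map_pow, aeval_X, map_one, hgr, sub_self, zero_mul]

end

variable {F : Type u} [Field F] [Fintype F] {V : Type u} [AddCommGroup V] [Module F V] [FiniteDimensional F V]
  {Q : QuadraticForm F V} {ν : F} {r : ℕ}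

/-- An orthogonal family spans. -/
theorem span_pairs (h2 : (2 : F) ≠ 0) {d : ℕ} (hV : finrank F V = 2 * d)
    (z : Fin d × Fin 2 → V) (hz : ∀ a, Q (z a) ≠ 0) (ho : ∀ a b, a ≠ b → polar Q (z a) (z b) = 0) :
    Submodule.span F (Set.range z) = ⊤ := by
  have hg : OType.gdet Q z ≠ 0 := by
    have h : (Matrix.of fun a b => polar Q (z a) (z b)) = Matrix.diagonal fun a => 2 * Q (z a) := by
      ext x y
      rcases eq_or_ne x y with rfl | hxy
      · rw [Matrix.of_apply, Matrix.diagonal_apply_eq, QuadBasis.p_self]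
      · rw [Matrix.of_apply, Matrix.diagonal_apply_ne _ hxy, ho _ _ hxy]
    rw [OType.gdet, h, Matrix.det_diagonal]
    exact Finset.prod_ne_zero_iff.mpr fun x _ => mul_ne_zero h2 (hz x)
  exact OType.span_eq_top hg (by simp [hV, mul_comm])

/-- Parameters for every family of pairs. -/
theorem exists_params (h2 : (2 : F) ≠ 0) {d : ℕ} (z : Fin d × Fin 2 → V) (hz : ∀ a, Q (z a) ≠ 0) :
    ∃ a b : Fin d → F, ∀ j, a j * a j + b j * b j * (Q (z (j, 1)) / Q (z (j, 0))) = ν := by
  have h : ∀ j, ∃ s t : F, 1 * (s * s) + Q (z (j, 1)) / Q (z (j, 0)) * (t * t) = ν := fun j =>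
    QuadBasis.exists_form_rep h2 1 _ ν one_ne_zero (div_ne_zero (hz _) (hz _))
  choose a b hab using h
  exact ⟨a, b, fun j => by linear_combination hab j⟩

/-- Every space of even dimension has one. -/
theorem exists_root (h2 : (2 : F) ≠ 0) (hQ : OCount.PND Q) (he : Even (finrank F V)) :
    ∃ A : Module.End F V, SA Q ν A := by
  obtain ⟨d, hd⟩ := he
  obtain ⟨b, hb, hbo⟩ := Small.Orth.exists_orth_basis (Q' := Q) h2 (⊤ : Submodule F V)
    fun x _ h => hQ x fun w => h w trivial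
  obtain ⟨τ⟩ : Nonempty (Fin d × Fin 2 ≃ Fin (finrank F ↥(⊤ : Submodule F V))) :=
    ⟨Fintype.equivOfCardEq (by simp [hd]; ring)⟩
  obtain ⟨z, hz⟩ : ∃ z : Fin d × Fin 2 → V, z = fun a => ((b (τ a) : (⊤ : Submodule F V)) : V) := ⟨_, rfl⟩
  have hzne : ∀ a, Q (z a) ≠ 0 := fun a => hz ▸ hb (τ a)
  have hzo : ∀ a a', a ≠ a' → polar Q (z a) (z a') = 0 := fun a a' h => by
    rw [hz]; exact hbo _ _ (τ.injective.ne h)
  obtain ⟨x, y, hxy⟩ := exists_params (ν := ν) h2 z hzne
  obtain ⟨A, hA, -⟩ := exists_of_pairs h2 hQ (d := d) (by omega) z hzne hzo x y hxy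
  exact ⟨A, hA⟩

local notation "ord" => orderOf (Fintype.card F : ZMod r)

/-- A group of order a power of `r` commutes with one. -/
theorem exists_commuting (hr : r.Prime) (hr2 : r ≠ 2) (hr0 : (r : F) ≠ 0) {h : ℕ} (hh : ord = 2 * h) (he : Even h)
    (h2 : (2 : F) ≠ 0) (hν : ¬ IsSquare ν) :
    ∀ (n : ℕ) {V : Type u} [AddCommGroup V] [Module F V] [FiniteDimensional F V] {Q : QuadraticForm F V},
      OCount.PND Q → Even (finrank F V) → finrank F V = n → ∀ P : Subgroup ↥(ORefl.Iso Q), IsPGroup r P →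
        ∃ A : Module.End F V, SA Q ν A ∧ ∀ g ∈ P, ∀ v, A (g.1 v) = g.1 (A v) := by
  intro n
  induction n using Nat.strong_induction_on with
  | _ n ih =>
  intro V _ _ _ Q hQ heven hn P hP
  classical
  haveI : Fact r.Prime := ⟨hr⟩
  haveI : Finite V := Module.finite_of_finite F
  haveI : Finite ↥(ORefl.Iso Q) := Finite.of_injective (fun g => (⇑g.1 : V → V))
    fun a b hab => Subtype.ext (LinearEquiv.ext fun x => congrFun hab x)
  rcases subsingleton_or_nontrivial P with hs | hs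
  · obtain ⟨A, hA⟩ := exists_root (ν := ν) h2 hQ heven
    refine ⟨A, hA, fun g hg v => ?_⟩
    rw [show g = 1 from congrArg Subtype.val (Subsingleton.elim (⟨g, hg⟩ : P) 1)]
    rfl
  haveI := hP.center_nontrivial
  obtain ⟨w, hw⟩ : ∃ w : Subgroup.center P, orderOf w = r := by
    obtain ⟨k, hk0, hk⟩ := (hP.to_subgroup (Subgroup.center P)).nontrivial_iff_card.mp inferInstance
    exact exists_prime_orderOf_dvd_card' r (hk ▸ dvd_pow_self r hk0.ne')
  obtain ⟨z, hz⟩ : ∃ z : ↥(ORefl.Iso Q), z = ((w : P) : ↥(ORefl.Iso Q)) := ⟨_, rfl⟩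
  have hzord : orderOf z = r := by rw [hz, Subgroup.orderOf_coe, Subgroup.orderOf_coe, hw]
  have hzc : ∀ g ∈ P, g * z = z * g := fun g hg => by
    rw [hz]
    exact congrArg Subtype.val (Subgroup.mem_center_iff.mp w.2 ⟨g, hg⟩)
  obtain ⟨g, hgdef⟩ : ∃ g, g = toEnd Q z := ⟨_, rfl⟩
  have hgr : g ^ r = 1 := by rw [hgdef, ← map_pow, ← hzord, pow_orderOf_eq_one, map_one]
  have hgi : ∀ v, Q (g v) = Q v := fun v => by rw [hgdef]; exact z.2 v
  have hg1 : g ≠ 1 := fun h1 => by
    have : z = 1 := toEnd_inj (by rw [← hgdef, h1, map_one])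
    rw [this, orderOf_one] at hzord
    exact hr.ne_one hzord.symm
  have hgP : ∀ x ∈ P, toEnd Q x * g = g * toEnd Q x := fun x hx => by
    rw [hgdef, ← map_mul, ← map_mul, hzc x hx]
  have hgt := OFree.tame_of (Q := Q) hr0 hgr hgi
  obtain ⟨hdim, hdvd, hfixn, -⟩ := OFree.parts_facts hQ hr hr2 hr0 hgr hgi
  obtain ⟨f, hf1, hfsq, hfadj⟩ := exists_period (F := F) hr hr2 hr0 hh he h2 hν
  -- the part on the moved space
  obtain ⟨A₀, hA₀⟩ : ∃ A₀, A₀ = aeval g f := ⟨_, rfl⟩
  obtain ⟨av, hav⟩ : ∃ av, av = Free.avg g r := ⟨_, rfl⟩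
  have havg : av = aeval g (C (r : F)⁻¹ * ∑ k ∈ Finset.range r, X ^ k) := by
    rw [hav, Free.avg, map_mul, aeval_C, map_sum, ← Algebra.smul_def]
    simp
  have hA₀a : A₀ * av = av * A₀ := by rw [hA₀, havg, ← map_mul, ← map_mul, mul_comm]
  have hA₀fix : ∀ x, g x = x → A₀ x = 0 := fun x hx => by rw [hA₀, aeval_fix hx, hf1, zero_smul]
  have havfix : ∀ x, g (av x) = av x := fun x => by
    rw [hav]; exact Free.mem_fixSpace.mp (hgt.avg_mem x)
  have havA : ∀ x, av (A₀ x) = 0 := fun x => by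
    rw [← Module.End.mul_apply, ← hA₀a, Module.End.mul_apply]
    exact hA₀fix _ (havfix x)
  have hA₀sq : ∀ x, A₀ (A₀ x) = ν • (x - av x) := fun x => by
    have e := LinearMap.congr_fun (aeval_eq_of_dvd hgr hfsq) x
    rw [map_mul, map_mul, map_sub, map_one, ← havg, aeval_C, Module.End.mul_apply, Module.End.mul_apply,
      Module.algebraMap_end_apply, LinearMap.sub_apply, Module.End.one_apply, ← hA₀] at e
    exact e
  have hA₀adj : ∀ u v, polar Q (A₀ u) v = polar Q u (A₀ v) := fun u v => by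
    have hg' : ∀ u v, polarBilin Q ((g ^ (r - 1)) u) v = polarBilin Q u (g v) := fun u v => by
      rw [← hgt.isometry ((g ^ (r - 1)) u) v, ← Module.End.mul_apply, ← pow_succ', Nat.sub_add_cancel hr.one_le,
        hgr, Module.End.one_apply]
    have e := OFree.aeval_adjoint (B := polarBilin Q) (g := g) (g' := g ^ (r - 1)) hg' f u v
    have e' : aeval (g ^ (r - 1)) f = A₀ := by
      rw [hA₀, ← aeval_eq_of_dvd hgr hfadj, aeval_comp, map_pow, aeval_X]
    rw [e', ← hA₀] at e
    exact e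
  have hA₀P : ∀ x ∈ P, toEnd Q x * A₀ = A₀ * toEnd Q x := fun x hx => hA₀ ▸ aeval_commute (hgP x hx) f
  have havP : ∀ x ∈ P, toEnd Q x * av = av * toEnd Q x := fun x hx => havg ▸ aeval_commute (hgP x hx) _
  -- the part on the fixed space
  obtain ⟨Y, hY⟩ : ∃ Y, Y = Free.fixSpace g := ⟨_, rfl⟩
  rw [← hY] at hfixn hdim
  have hYm : ∀ {x}, x ∈ Y ↔ g x = x := hY ▸ Free.mem_fixSpace
  have hPY : ∀ x ∈ P, ∀ y ∈ Y, x.1 y ∈ Y := fun x hx y hy => hYm.mpr (by
    have := LinearMap.congr_fun (hgP x hx) y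
    rw [Module.End.mul_apply, Module.End.mul_apply, hYm.mp hy, toEnd_apply] at this
    exact this.symm)
  have hYlt : finrank F Y < n := by
    by_contra hge
    have hM : Free.moved g = ⊥ := Submodule.finrank_eq_zero.mp (by omega)
    refine hg1 (LinearMap.ext fun v => sub_eq_zero.mp ?_)
    exact (Submodule.mem_bot F).mp (hM ▸ ⟨v, rfl⟩)
  have hYe : Even (finrank F Y) := by
    obtain ⟨-, -, hue⟩ := OFree.unit_pos (F := F) hr hr0
    have h1 : Even (finrank F (Free.moved g)) := (even_iff_two_dvd.mpr ((even_iff_two_dvd.mp hue).trans hdvd))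
    rw [← hdim, Nat.even_add] at heven
    exact heven.mpr h1
  let res : P →* ↥(ORefl.Iso (Q.comp Y.subtype)) :=
    { toFun := fun x => ⟨LinearEquiv.ofLinear ((toEnd Q x.1).restrict (hPY x.1 x.2))
        ((toEnd Q (x⁻¹).1).restrict (hPY _ (x⁻¹).2))
        (LinearMap.ext fun y => Subtype.ext (x.1.1.apply_symm_apply y.1))
        (LinearMap.ext fun y => Subtype.ext (x.1.1.symm_apply_apply y.1)), fun y => x.1.2 y.1⟩
      map_one' := rfl
      map_mul' := fun _ _ => rfl }
  obtain ⟨A₁, hA₁, hA₁P⟩ := ih _ hYlt (Q := Q.comp Y.subtype) (QuadModels.pnd_res Q hfixn) hYe rfl res.range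
    (hP.of_surjective res.rangeRestrict res.rangeRestrict_surjective)
  obtain ⟨E, hE⟩ : ∃ E : Module.End F V, E = Y.subtype ∘ₗ A₁ ∘ₗ av.codRestrict Y fun x => hYm.mpr (havfix x) :=
    ⟨_, rfl⟩
  have hEv : ∀ x, E x = (A₁ ⟨av x, hYm.mpr (havfix x)⟩ : V) := fun x => by rw [hE]; rfl
  have havY : ∀ y ∈ Y, av y = y := fun y hy => by rw [hav]; exact hgt.avg_fix (hYm.mp hy)
  have hperp : ∀ y ∈ Y, ∀ v, polar Q y v = polar Q y (av v) := fun y hy v => by
    conv_lhs => rw [← add_sub_cancel (av v) v]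
    rw [polar_add_right, hav, show polar Q y (v - Free.avg g r v) = 0 from
      hgt.perp (hY ▸ hy) (hgt.sub_avg_mem v), add_zero]
  refine ⟨A₀ + E, ⟨fun u v => ?_, fun v => ?_⟩, fun x hx v => ?_⟩
  · rw [LinearMap.add_apply, LinearMap.add_apply, polar_add_left, polar_add_right, hA₀adj, add_right_inj,
      hEv, hEv, hperp _ (A₁ ⟨av u, hYm.mpr (havfix u)⟩).2 v, polar_comm Q u,
      hperp _ (A₁ ⟨av v, hYm.mpr (havfix v)⟩).2 u, polar_comm Q _ (av u)]
    have := hA₁.adj ⟨av u, hYm.mpr (havfix u)⟩ ⟨av v, hYm.mpr (havfix v)⟩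
    simpa only [OType.polar_comp, Submodule.coe_subtype] using this
  · have e1 : av (A₀ v + E v) = E v := by rw [map_add, havA, zero_add, hEv, havY _ (A₁ _).2]
    have e2 : (⟨av (A₀ v + E v), hYm.mpr (havfix _)⟩ : Y) = A₁ ⟨av v, hYm.mpr (havfix v)⟩ :=
      Subtype.ext (e1.trans (hEv v))
    rw [LinearMap.add_apply, LinearMap.add_apply, hEv (A₀ v + E v), e2, hA₁.sq, map_add, hA₀sq,
      hA₀fix (E v) (by rw [hEv]; exact hYm.mp (A₁ _).2), add_zero, Submodule.coe_smul, ← smul_add, sub_add_cancel]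
  · have h1 := LinearMap.congr_fun (hA₀P x hx) v
    have h3 := LinearMap.congr_fun (havP x hx) v
    rw [Module.End.mul_apply, Module.End.mul_apply, toEnd_apply, toEnd_apply] at h1 h3
    rw [LinearMap.add_apply, LinearMap.add_apply, map_add, h1, add_right_inj, hEv, hEv]
    have e := congrArg Subtype.val (hA₁P _ ⟨⟨x, hx⟩, rfl⟩ ⟨av v, hYm.mpr (havfix v)⟩)
    have e2 : (⟨av (x.1 v), hYm.mpr (havfix _)⟩ : Y) = (res ⟨x, hx⟩).1 ⟨av v, hYm.mpr (havfix v)⟩ :=
      Subtype.ext h3.symm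
    rw [e2]
    exact e

/-- Pairs adapted to an element of order two of the derived group. -/
theorem exists_adapted (h2 : (2 : F) ≠ 0) (hQ : OCount.PND Q) {d : ℕ} (hV : finrank F V = 2 * d)
    (G : ↥(ORefl.Iso Q)) (hG : G ∈ commutator ↥(ORefl.Iso Q)) {c : F} (hc : c * c = 1)
    (hgg : ∀ v, G.1 (G.1 v) = c • v) :
    ∃ (σ : F) (z : Fin d × Fin 2 → V), σ * σ = 1 ∧ (∀ a, Q (z a) ≠ 0) ∧
      (∀ a b, a ≠ b → polar Q (z a) (z b) = 0) ∧
      ∀ (a b : Fin d → F) (A : Module.End F V),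
        (∀ j, A (z (j, 0)) = a j • z (j, 0) + b j • z (j, 1) ∧
          A (z (j, 1)) = (b j * (Q (z (j, 1)) / Q (z (j, 0)))) • z (j, 0) - a j • z (j, 1)) →
        ∀ v, G.1 (A v) = σ • A (G.1 v) := by
  classical
  have close : ∀ (σ : F) (z : Fin d × Fin 2 → V), (∀ a, Q (z a) ≠ 0) →
      (∀ a b, a ≠ b → polar Q (z a) (z b) = 0) → ∀ A : Module.End F V,
      (∀ p, G.1 (A (z p)) = σ • A (G.1 (z p))) → ∀ v, G.1 (A v) = σ • A (G.1 v) := by
    intro σ z hz ho A hp v
    have e : toEnd Q G * A = σ • (A * toEnd Q G) := LinearMap.ext_on_range (span_pairs h2 hV z hz ho) fun p => hp p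
    exact LinearMap.congr_fun e v
  rcases mul_self_eq_one_iff.mp hc with rfl | rfl
  · obtain ⟨U, A, k, hU, hA, hperp, -, hUd, hdim, -, hUg, hAg⟩ :=
      OTs.invol_parts h2 hQ G hG fun v => (hgg v).trans (one_smul _ v)
    obtain ⟨l, hl⟩ : ∃ l, d = k + l := ⟨d - k, by omega⟩
    subst hl
    obtain ⟨bU, hbU, hbUo⟩ := Small.Orth.exists_orth_basis (Q' := Q) h2 U hU
    obtain ⟨bA, hbA, hbAo⟩ := Small.Orth.exists_orth_basis (Q' := Q) h2 A hA
    obtain ⟨τ⟩ : Nonempty (Fin k × Fin 2 ≃ Fin (finrank F U)) := ⟨Fintype.equivOfCardEq (by simp; omega)⟩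
    obtain ⟨τ'⟩ : Nonempty (Fin l × Fin 2 ≃ Fin (finrank F A)) := ⟨Fintype.equivOfCardEq (by simp; omega)⟩
    obtain ⟨z, hz⟩ : ∃ z : Fin (k + l) × Fin 2 → V, z = fun p =>
        Fin.addCases (fun i => (bU (τ (i, p.2)) : V)) (fun i => (bA (τ' (i, p.2)) : V)) p.1 := ⟨_, rfl⟩
    have hzl : ∀ i s, z (Fin.castAdd l i, s) = (bU (τ (i, s)) : V) := fun i s => by rw [hz]; simp
    have hzr : ∀ i s, z (Fin.natAdd k i, s) = (bA (τ' (i, s)) : V) := fun i s => by rw [hz]; simp
    have hne : ∀ a, Q (z a) ≠ 0 := fun ⟨j, s⟩ => by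
      refine Fin.addCases (fun i => ?_) (fun i => ?_) j
      · rw [hzl]; exact hbU _
      · rw [hzr]; exact hbA _
    have hzo : ∀ a b, a ≠ b → polar Q (z a) (z b) = 0 := by
      rintro ⟨j, s⟩ ⟨j', t⟩
      refine Fin.addCases (fun i => ?_) (fun i => ?_) j <;> refine Fin.addCases (fun i' => ?_) (fun i' => ?_) j' <;>
        intro hab <;> simp only [hzl, hzr]
      · exact hbUo _ _ (τ.injective.ne fun e => hab (by simp_all))
      · exact hperp _ (bU _).2 _ (bA _).2
      · rw [polar_comm]; exact hperp _ (bU _).2 _ (bA _).2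
      · exact hbAo _ _ (τ'.injective.ne fun e => hab (by simp_all))
    refine ⟨1, z, one_mul 1, hne, hzo, fun a b A hA' => close 1 z hne hzo A fun ⟨j, s⟩ => ?_⟩
    obtain ⟨ε, hε⟩ : ∃ ε : F, ∀ t, G.1 (z (j, t)) = ε • z (j, t) := by
      refine Fin.addCases (fun i => ?_) (fun i => ?_) j
      · exact ⟨-1, fun t => by rw [hzl, hUg _ (bU _).2, neg_one_smul]⟩
      · exact ⟨1, fun t => by rw [hzr, hAg _ (bA _).2, one_smul]⟩
    have h0 := hε 0
    have h1 := hε 1
    fin_cases s <;>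
      simp only [Fin.zero_eta, Fin.mk_one, (hA' j).1, (hA' j).2, h0, h1, map_add, map_sub, map_smul] <;> module
  · obtain ⟨g, hg⟩ : ∃ g, g = toEnd Q G := ⟨_, rfl⟩
    have hggv : ∀ v, g (g v) = -v := fun v => by rw [hg]; exact (hgg v).trans (neg_one_smul _ v)
    have hgi : ∀ v, Q (g v) = Q v := fun v => by rw [hg]; exact G.2 v
    obtain ⟨k, e, hk, he, hperp⟩ := OTwo.exists_pairs (Q := Q) h2 hggv hgi (finrank F V) ⊤ (by rw [finrank_top])
      (fun x _ h => hQ x fun w => h w trivial) fun _ _ => trivial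
    obtain rfl : k = d := by rw [finrank_top, hV] at hk; omega
    have hpol : ∀ u v, polar Q (g u) (g v) = polar Q u v := fun u v => by simp only [polar, ← map_add, hgi]
    have hself : ∀ x, polar Q x (g x) = 0 := fun x => by
      have h := hpol x (g x)
      rw [hggv, polar_neg_right, polar_comm] at h
      exact (mul_eq_zero.mp (show (2 : F) * polar Q x (g x) = 0 by linear_combination -h)).resolve_left h2
    obtain ⟨z, hz⟩ : ∃ z : Fin k × Fin 2 → V, z = fun p => if p.2 = 0 then e p.1 else g (e p.1) := ⟨_, rfl⟩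
    have hz0 : ∀ j, z (j, 0) = e j := fun j => by rw [hz]; simp
    have hz1 : ∀ j, z (j, 1) = g (e j) := fun j => by rw [hz]; simp
    have hne : ∀ a, Q (z a) ≠ 0 := fun ⟨j, s⟩ => by
      fin_cases s <;> simp only [Fin.zero_eta, Fin.mk_one, hz0, hz1, hgi] <;> exact (he j).2
    have hzo : ∀ a b, a ≠ b → polar Q (z a) (z b) = 0 := by
      rintro ⟨i, s⟩ ⟨j, t⟩ hab
      rcases eq_or_ne i j with rfl | hij
      · fin_cases s <;> fin_cases t <;> simp only [Fin.zero_eta, Fin.mk_one, hz0, hz1] at hab ⊢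
        · exact absurd rfl hab
        · exact hself _
        · rw [polar_comm]; exact hself _
        · exact absurd rfl hab
      · fin_cases s <;> fin_cases t <;> simp only [Fin.zero_eta, Fin.mk_one, hz0, hz1, hpol]
        · exact (hperp i j hij).1
        · exact (hperp i j hij).2
        · rw [polar_comm]; exact (hperp j i hij.symm).2
        · exact (hperp i j hij).1
    refine ⟨-1, z, by ring, hne, hzo, fun a b A hA' => close (-1) z hne hzo A fun ⟨j, s⟩ => ?_⟩
    have h0 : G.1 (z (j, 0)) = z (j, 1) := by rw [hz0, hz1, hg, toEnd_apply]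
    have h1 : G.1 (z (j, 1)) = -z (j, 0) := by rw [hz0, hz1, ← hggv, hg, toEnd_apply, toEnd_apply]
    have hQ1 : Q (z (j, 1)) / Q (z (j, 0)) = 1 := by rw [hz0, hz1, hgi, div_self (he j).2]
    fin_cases s <;>
      simp only [Fin.zero_eta, Fin.mk_one, (hA' j).1, (hA' j).2, h0, h1, map_add, map_sub, map_smul, map_neg,
        hQ1, mul_one] <;> module

/-- A product of two reflections commuting with a root, of non-square value product. -/
theorem exists_twist (h2 : (2 : F) ≠ 0) (hν : ¬ IsSquare ν) (hQ : OCount.PND Q) (hd : 3 ≤ finrank F V)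
    {D : Module.End F V} (hD : SA Q ν D) :
    ∃ u, Q u ≠ 0 ∧ Q (D u) ≠ 0 ∧ Q u * Q (D u) = ν ∧
      ∀ v, (Orth.prodRf Q [u, D u]).1 (D v) = D ((Orth.prodRf Q [u, D u]).1 v) := by
  obtain ⟨u, -, hu, hc⟩ := exists_target hD h2 hν (W := ⊤) (fun x _ h => hQ x fun w => h w trivial)
    (fun _ _ => trivial) (by rw [finrank_top]; exact hd) (q₀ := 1) (c₀ := 0) (Or.inl one_ne_zero)
  have hν0 : ν ≠ 0 := fun e => hν (e ▸ IsSquare.zero)
  have hQD : Q (D u) = ν := by rw [hD.q_apply h2, hu, mul_one]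
  refine ⟨u, by rw [hu]; exact one_ne_zero, by rw [hQD]; exact hν0, by rw [hu, hQD, one_mul], fun v => ?_⟩
  have act : ∀ x, (Orth.prodRf Q [u, D u]).1 x =
      x - polar Q u x • u - (ν⁻¹ * polar Q (D u) x) • D u := fun x => by
    rw [Orth.prodRf_pair]
    show ORefl.refl Q u (ORefl.refl Q (D u) x) = _
    rw [ORefl.refl_apply, ORefl.refl_apply, hu, hQD, polar_sub_right, QuadBasis.p_smul_right, hc]
    match_scalars <;> ring
  have e1 : polar Q u (D v) = polar Q (D u) v := (hD.adj u v).symm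
  have e2 : polar Q (D u) (D v) = ν * polar Q u v := by rw [hD.adj, hD.sq, QuadBasis.p_smul_right]
  rw [act, act, map_sub, map_sub, map_smul, map_smul, hD.sq, e1, e2]
  match_scalars <;> field_simp

/-- An element of order two commutes or anticommutes with a conjugate of a given root. -/
theorem exists_involutive (h2 : (2 : F) ≠ 0) (hν : ¬ IsSquare ν) (hQ : OCount.PND Q) {d : ℕ} (hd : 2 ≤ d)
    (hV : finrank F V = 2 * d) {D : Module.End F V} (hD : SA Q ν D) (G : ↥(ORefl.Iso Q))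
    (hG : G ∈ commutator ↥(ORefl.Iso Q)) {c : F} (hc : c * c = 1) (hgg : ∀ v, G.1 (G.1 v) = c • v) :
    ∃ σ : F, σ * σ = 1 ∧ ∃ H ∈ commutator ↥(ORefl.Iso Q),
      ∀ v, (H⁻¹ * G * H).1 (D v) = σ • D ((H⁻¹ * G * H).1 v) := by
  classical
  obtain ⟨σ, z, hσ, hz, ho, hrel⟩ := exists_adapted h2 hQ hV G hG hc hgg
  obtain ⟨a, b, hab⟩ := exists_params (ν := ν) h2 z hz
  obtain ⟨j₀, -⟩ : ∃ j₀ : Fin d, j₀.1 = 0 := ⟨⟨0, by omega⟩, rfl⟩
  obtain ⟨b', hb'⟩ : ∃ b', b' = Function.update b j₀ (-b j₀) := ⟨_, rfl⟩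
  have hab' : ∀ j, a j * a j + b' j * b' j * (Q (z (j, 1)) / Q (z (j, 0))) = ν := fun j => by
    rcases eq_or_ne j j₀ with rfl | hj
    · rw [hb', Function.update_self]; linear_combination hab j
    · rw [hb', Function.update_of_ne hj]; exact hab j
  obtain ⟨A₁, hA₁, hA₁v⟩ := exists_of_pairs h2 hQ hV z hz ho a b hab
  obtain ⟨A₂, hA₂, hA₂v⟩ := exists_of_pairs h2 hQ hV z hz ho a b' hab'
  have hflip : ∀ v, ORefl.refl Q (z (j₀, 0)) (A₁ v) = A₂ (ORefl.refl Q (z (j₀, 0)) v) := by
    obtain ⟨R, hR⟩ : ∃ R : Module.End F V, R = (ORefl.refl Q (z (j₀, 0))).toLinearMap := ⟨_, rfl⟩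
    have hR0 : R (z (j₀, 0)) = -z (j₀, 0) := by rw [hR]; exact ORefl.refl_self (hz _)
    have hRp : ∀ p, p ≠ (j₀, 0) → R (z p) = z p := fun p hp => by rw [hR]; exact ORefl.refl_fix (ho _ _ hp.symm)
    have e : R * A₁ = A₂ * R := LinearMap.ext_on_range (span_pairs h2 hV z hz ho) fun ⟨j, s⟩ => by
      have h1 : R (z (j, 1)) = z (j, 1) := hRp _ (by simp)
      rcases eq_or_ne j j₀ with rfl | hj
      · fin_cases s <;>
          simp only [Fin.zero_eta, Fin.mk_one, Module.End.mul_apply, (hA₁v j).1, (hA₁v j).2, (hA₂v j).1, (hA₂v j).2,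
            map_add, map_sub, map_smul, map_neg, hR0, h1, hb', Function.update_self] <;> module
      · have h0 : R (z (j, 0)) = z (j, 0) := hRp _ (by simp [hj])
        fin_cases s <;>
          simp only [Fin.zero_eta, Fin.mk_one, Module.End.mul_apply, (hA₁v j).1, (hA₁v j).2, (hA₂v j).1, (hA₂v j).2,
            map_add, map_sub, map_smul, h0, h1, hb', Function.update_of_ne hj]
    intro v
    have := LinearMap.congr_fun e v
    rwa [hR] at this
  obtain ⟨φ, hφi, hφ⟩ := exists_conj h2 hν hQ hV hD hA₁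
  obtain ⟨vs, hvs, hvsφ⟩ := Orth.exists_list hQ (Or.inl (ORefl.card_field_ne_two h2)) (⟨φ, hφi⟩ : ↥(ORefl.Iso Q))
  obtain ⟨B, hB, hBG, ws, hws, hwse, hwsD⟩ : ∃ B : Module.End F V, SA Q ν B ∧
      (∀ v, G.1 (B v) = σ • B (G.1 v)) ∧ ∃ ws : List V, (∀ v ∈ ws, Q v ≠ 0) ∧ Even ws.length ∧
        ∀ v, (Orth.prodRf Q ws).1 (D v) = B ((Orth.prodRf Q ws).1 v) := by
    by_cases hev : Even vs.length
    · exact ⟨A₁, hA₁, hrel a b A₁ hA₁v, vs, hvs, hev, fun v => by rw [hvsφ]; exact hφ v⟩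
    · refine ⟨A₂, hA₂, hrel a b' A₂ hA₂v, z (j₀, 0) :: vs, ?_, ?_, fun v => ?_⟩
      · intro v hv
        rcases List.mem_cons.mp hv with rfl | hv
        exacts [hz _, hvs v hv]
      · rw [List.length_cons, Nat.even_add_one]; exact hev
      · rw [Orth.prodRf_cons, hvsφ]
        show ORefl.refl Q (z (j₀, 0)) (φ (D v)) = A₂ (ORefl.refl Q (z (j₀, 0)) (φ v))
        rw [hφ, hflip]
  obtain ⟨H, hHc, hH⟩ : ∃ H ∈ commutator ↥(ORefl.Iso Q), ∀ v, H.1 (D v) = B (H.1 v) := by
    by_cases hsq : IsSquare (ws.map fun v => Q v).prod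
    · exact ⟨_, (Orth.mem_commutator_iff hQ ws hws).mpr ⟨hwse, hsq⟩, hwsD⟩
    · obtain ⟨u, hu, hDu, hprod, hcomm⟩ := exists_twist h2 hν hQ (by omega) hD
      have hws' : ∀ v ∈ ws ++ [u, D u], Q v ≠ 0 := by
        intro v hv
        simp only [List.mem_append, List.mem_cons, List.not_mem_nil, or_false] at hv
        rcases hv with hv | rfl | rfl
        exacts [hws v hv, hu, hDu]
      refine ⟨Orth.prodRf Q (ws ++ [u, D u]), (Orth.mem_commutator_iff hQ _ hws').mpr ⟨?_, ?_⟩, fun v => ?_⟩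
      · rw [List.length_append]; exact hwse.add ⟨1, rfl⟩
      · rw [List.map_append, List.prod_append, show ([u, D u].map fun v => Q v).prod = ν by simp [hprod]]
        exact mul_sq_iff h2 (fun e => hν (e ▸ IsSquare.zero)) hsq hν
      · rw [Orth.prodRf_append]
        show (Orth.prodRf Q ws).1 ((Orth.prodRf Q [u, D u]).1 (D v)) = _
        rw [hcomm, hwsD]
        rfl
  refine ⟨σ, hσ, H, hHc, fun v => ?_⟩
  show H.1.symm (G.1 (H.1 (D v))) = σ • D (H.1.symm (G.1 (H.1 v)))
  rw [hH, hBG, map_smul]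
  congr 1
  refine H.1.injective ?_
  rw [hH, H.1.apply_symm_apply, H.1.apply_symm_apply]

/-- An element of order `r` commuting with no root. -/
theorem exists_derangement (hQ : OCount.PND Q) (h2 : (2 : F) ≠ 0) (hν : ¬ IsSquare ν) (hr : r.Prime) (hr2 : r ≠ 2)
    (hr0 : (r : F) ≠ 0) (hcase : ¬ ∃ h, ord = 2 * h ∧ Even h) {f : Module.End F V} (hfr : f ^ r = 1)
    (hfi : ∀ v, Q (f v) = Q v) (hf1 : f ≠ 1) :
    ∃ g : Module.End F V, g ^ r = 1 ∧ (∀ v, Q (g v) = Q v) ∧ g ≠ 1 ∧
      ∀ A : Module.End F V, SA Q ν A → (∀ v, A (g v) = g (A v)) → False := by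
  classical
  obtain ⟨-, hupos, -⟩ := OFree.unit_pos (F := F) hr hr0
  obtain ⟨-, ⟨N, hN⟩, -, -⟩ := OFree.parts_facts hQ hr hr2 hr0 hfr hfi
  have hft := OFree.tame_of (Q := Q) hr0 hfr hfi
  have hN1 : 1 ≤ N := Nat.pos_of_ne_zero fun h0 => hf1 (by
    rw [h0, mul_zero, Submodule.finrank_eq_zero] at hN
    refine LinearMap.ext fun v => sub_eq_zero.mp ?_
    exact (Submodule.mem_bot F).mp (hN ▸ ⟨v, rfl⟩))
  obtain ⟨U, hUM, hUi, hUd, hUn⟩ := OUnits.units_in_moved hQ hr hr2 hr0 hfr hfi hN hN1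
  rw [mul_one] at hUd
  obtain ⟨C, -, hCn, hperp, hsup, -, -⟩ := OType.compl_in hQ hUn (OFree.top_nondeg hQ) le_top
  have hC : IsCompl U C := ⟨(OType.sup_facts hUn hCn hperp).2.1, codisjoint_iff.mpr hsup⟩
  obtain ⟨g, hg⟩ : ∃ g : Module.End F V, ∀ (a : U) (b : C), g ((a : V) + b) = f (a : V) + b :=
    ⟨LinearMap.ofIsCompl hC (f ∘ₗ U.subtype) C.subtype, fun a b => by simp⟩
  have hall : ∀ v, ∃ (a : U) (b : C), (a : V) + b = v := fun v => by
    obtain ⟨a, ha, b, hb, h⟩ := Submodule.mem_sup.mp (show v ∈ U ⊔ C by rw [hsup]; trivial)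
    exact ⟨⟨a, ha⟩, ⟨b, hb⟩, h⟩
  have hgU : ∀ a ∈ U, g a = f a := fun a ha => by
    have := hg ⟨a, ha⟩ 0
    simpa using this
  have hpow : ∀ (k : ℕ) (a : U) (b : C), (g ^ k) ((a : V) + b) = (f ^ k) (a : V) + b := by
    intro k
    induction k with
    | zero => intro a b; rfl
    | succ k ih =>
      intro a b
      rw [pow_succ, Module.End.mul_apply, hg, show f (a : V) = ((⟨f a, hUi _ a.2⟩ : U) : V) from rfl, ih,
        pow_succ, Module.End.mul_apply]
  have hsurj : ∀ x ∈ U, ∃ w ∈ U, f w - w = x := fun x hx => by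
    obtain ⟨w, hw⟩ := (LinearMap.injective_iff_surjective (f := f.restrict hUi - 1)).mp
      ((injective_iff_map_eq_zero _).mpr fun a ha => Subtype.ext (OFree.moved_fix hft (hUM a.2)
        (congrArg Subtype.val (sub_eq_zero.mp ha : f.restrict hUi a = a)))) ⟨x, hx⟩
    exact ⟨w, w.2, congrArg Subtype.val hw⟩
  refine ⟨g, LinearMap.ext fun v => ?_, fun v => ?_, fun h1 => ?_, fun A hA hAg => ?_⟩
  · obtain ⟨a, b, rfl⟩ := hall v
    rw [hpow, hfr]; rfl
  · obtain ⟨a, b, rfl⟩ := hall v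
    rw [hg, QuadBasis.q_add, QuadBasis.q_add, hperp _ (hUi _ a.2) _ b.2, hperp _ a.2 _ b.2, hfi]
  · obtain ⟨x, hx, hx0⟩ := Submodule.exists_mem_ne_zero_of_ne_bot (p := U) fun h0 => by
      rw [h0, finrank_bot] at hUd; omega
    obtain ⟨w, hw, hwx⟩ := hsurj x hx
    rw [← hgU w hw, h1, Module.End.one_apply, sub_self] at hwx
    exact hx0 hwx.symm
  -- the root preserves the support
  have hAU : ∀ x ∈ U, A x ∈ U := fun x hx => by
    obtain ⟨w, hw, rfl⟩ := hsurj x hx
    rw [← hgU w hw, map_sub, hAg]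
    obtain ⟨a, b, hab⟩ := hall (A w)
    rw [← hab, hg, add_sub_add_right_eq_sub]
    exact U.sub_mem (hUi _ a.2) a.2
  obtain ⟨B₀, hB₀⟩ : ∃ B₀ : LinearMap.BilinForm F U, B₀ = LinearMap.BilinForm.restrict (polarBilin Q) U := ⟨_, rfl⟩
  have hB₀a : ∀ u v : U, B₀ u v = polar Q (u : V) (v : V) := fun u v => by rw [hB₀]; rfl
  have hfree₀ : Free.IsFree B₀ (f.restrict hUi) r :=
    { prime := hr
      odd := hr2
      ne_zero := hr0
      pow_eq := LinearMap.ext fun x => Subtype.ext (by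
        rw [Free.restrict_pow (fun _ hx => hUi _ hx), hfr]; rfl)
      fixfree := fun x hx => Subtype.ext (OFree.moved_fix hft (hUM x.2) (congrArg Subtype.val hx))
      isometry := fun u v => by
        rw [hB₀a, hB₀a]
        exact hft.isometry u.1 v.1 }
  obtain ⟨g₀, hg₀⟩ : ∃ g₀ : Module.End F U, g₀ = f.restrict hUi := ⟨_, rfl⟩
  rw [← hg₀] at hfree₀
  obtain ⟨B, hB⟩ : ∃ B : LinearMap.BilinForm F U,
      B = B₀.comp g₀ LinearMap.id - B₀.comp LinearMap.id g₀ := ⟨_, rfl⟩
  have hBa : ∀ u v, B u v = B₀ (g₀ u) v - B₀ u (g₀ v) := fun u v => by rw [hB]; rfl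
  have halt : SpCount.IsAltND B := ⟨fun u => by
      rw [hBa, hB₀a, hB₀a, polar_comm, sub_self],
    fun u hu => OFree.twist_facts hfree₀ (fun x hx => Subtype.ext (hUn x.1 x.2 fun y hy => by
      rw [← hB₀a x ⟨y, hy⟩]; exact hx _)) u (hB ▸ hu)⟩
  have hfree : Free.IsFree B g₀ r :=
    { prime := hr
      odd := hr2
      ne_zero := hr0
      pow_eq := hfree₀.pow_eq
      fixfree := hfree₀.fixfree
      isometry := fun u v => by rw [hBa, hBa, hfree₀.isometry, hfree₀.isometry] }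
  have hDg : ∀ x, A.restrict hAU (g₀ x) = g₀ (A.restrict hAU x) := fun x => Subtype.ext (by
    rw [hg₀]
    show A (f x.1) = f (A x.1)
    rw [← hgU _ x.2, hAg, hgU _ (hAU _ x.2)])
  have hadj₀ : ∀ u v, B₀ (A.restrict hAU u) v = B₀ u (A.restrict hAU v) := fun u v => by
    rw [hB₀a, hB₀a]; exact hA.adj _ _
  have hadj : ∀ u v, B (A.restrict hAU u) v = B u (A.restrict hAU v) := fun u v => by
    rw [hBa, hBa, ← hDg, hadj₀, hadj₀, hDg]
  have hD2 : A.restrict hAU * A.restrict hAU = algebraMap F _ ν := LinearMap.ext fun x => Subtype.ext (by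
    rw [Module.algebraMap_end_apply]
    exact hA.sq x.1)
  have hc2 : ringChar F ≠ 2 := fun hc => h2 (by
    have := ringChar.Nat.cast_ringChar (R := F)
    rw [hc] at this
    exact_mod_cast this)
  have contra : ∀ (m : ℕ) (v : U), Odd m → v ≠ 0 →
      (A.restrict hAU ^ (Fintype.card F ^ m)) v = A.restrict hAU v → False := by
    intro m v hm hv e
    rw [SkewObstruction.pow_skew hc2 hν hD2, hm.neg_one_pow, LinearMap.smul_apply, neg_one_smul] at e
    have h3 : (2 : F) • A.restrict hAU v = 0 := by rw [two_smul]; nth_rewrite 1 [← e]; exact neg_add_cancel _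
    have h4 : A v.1 = 0 := congrArg Subtype.val ((smul_eq_zero.mp h3).resolve_left h2)
    have h5 := hA.sq v.1
    rw [h4, map_zero] at h5
    exact hv (Subtype.ext ((smul_eq_zero.mp h5.symm).resolve_left fun e' => hν (e' ▸ IsSquare.zero)))
  rcases Nat.even_or_odd ord with ⟨n, hn⟩ | hod
  · obtain ⟨v, hv, e⟩ := SelfAdjointField.frob_fixed_even (Elusive.TsSymp.refl_of_alt halt) hfree
      (by rw [hUd, OFree.unit, if_pos ⟨n, hn⟩]) (n := n) (by omega) _ hDg hadj
    refine contra n v (Nat.not_even_iff_odd.mp fun hev => hcase ⟨n, by omega, hev⟩) hv e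
  · obtain ⟨v, hv, e⟩ := SelfAdjointField.frob_fixed_odd halt hfree
      (by rw [hUd, OFree.unit, if_neg (Nat.not_even_iff_odd.mpr hod)]) hod _ hDg hadj
    exact contra _ v hod hv e

/-- A unipotent element commuting with no root. -/
theorem exists_unipotent (h2 : (2 : F) ≠ 0) (hν : ¬ IsSquare ν) (hQ : OCount.PND Q) (hd : 5 ≤ finrank F V)
    (hr0 : (r : F) = 0) :
    ∃ G : ↥(ORefl.Iso Q), G ∈ commutator ↥(ORefl.Iso Q) ∧ G ^ r = 1 ∧ G ≠ 1 ∧
      ∀ A : Module.End F V, SA Q ν A → (∀ v, A (G.1 v) = G.1 (A v)) → False := by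
  classical
  obtain ⟨W, -, -, hWd, T, -, hT, hTd⟩ := OType.exists_plus_sub (Q := Q) 2 (OFree.top_nondeg hQ)
    (by rw [finrank_top]; omega)
  obtain ⟨b⟩ : Nonempty (Basis (Fin 2) F T) := ⟨finBasisOfFinrankEq F T (by omega)⟩
  obtain ⟨w, hw⟩ : ∃ w : Fin 1 × Fin 2 → V, w = fun a => (b a.2 : V) := ⟨_, rfl⟩
  have hli : LinearIndependent F w := by
    rw [hw]
    exact (b.linearIndependent.map' T.subtype (Submodule.ker_subtype _)).comp Prod.snd
      fun x y h => Prod.ext (Subsingleton.elim _ _) h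
  obtain ⟨G, N, hG, hGN, hNN, hts, halt, hrk⟩ := OInv.exists_square_zero hQ (Or.inr (by omega)) w hli
    (fun a c => hw ▸ OTs.IsTs.polar_eq hT (b a.2).2 (b c.2).2) (fun a => hw ▸ hT _ (b a.2).2)
  have hskew : ∀ u v, polar Q (N u) v = -polar Q u (N v) := fun u v => by
    have h := halt (u + v)
    rw [map_add, polar_add_left, polar_add_right, polar_add_right, halt, halt, polar_comm Q (N v) u] at h
    linear_combination h
  have hpow : ∀ k : ℕ, ∀ v, (G ^ k).1 v = v + (k : F) • N v := by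
    intro k
    induction k with
    | zero => intro v; simp
    | succ k ih =>
      intro v
      rw [pow_succ]
      show (G ^ k).1 (G.1 v) = _
      rw [hGN, ih, map_add, hNN, Nat.cast_succ]
      module
  refine ⟨G, hG, Subtype.ext (LinearEquiv.ext fun v => by rw [hpow, hr0, zero_smul, add_zero]; rfl), fun h1 => ?_,
    fun A hA hcomm => ?_⟩
  · have hN0 : N = 0 := LinearMap.ext fun v => by
      have := hGN v
      rw [h1] at this
      exact left_eq_add.mp this
    rw [hN0, LinearMap.range_zero, finrank_bot] at hrk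
    omega
  have hAN : ∀ v, A (N v) = N (A v) := fun v => by
    have := hcomm v
    rwa [hGN, hGN, map_add, add_right_inj] at this
  obtain ⟨x, hx⟩ : ∃ x, N x ≠ 0 := by
    by_contra hno
    push Not at hno
    rw [show N = 0 from LinearMap.ext hno, LinearMap.range_zero, finrank_bot] at hrk
    omega
  obtain ⟨u, hu⟩ : ∃ u, u = N x := ⟨_, rfl⟩
  rw [← hu] at hx
  have hli2 : LinearIndependent F ![u, A u] := by
    rw [LinearIndependent.pair_iff]
    intro s t hst
    by_cases ht : t = 0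
    · subst ht
      rw [zero_smul, add_zero] at hst
      exact ⟨(smul_eq_zero.mp hst).resolve_right hx, rfl⟩
    refine absurd ⟨s / t, ?_⟩ hν
    have e : A u = (-(s / t)) • u := by
      rw [neg_smul, ← sub_eq_zero, sub_neg_eq_add, add_comm, ← smul_right_inj ht, smul_zero, smul_add, smul_smul,
        mul_div_cancel₀ _ ht]
      exact hst
    have e' := hA.sq u
    rw [e, map_smul, e, smul_smul] at e'
    have := smul_left_injective F hx e'
    linear_combination -this
  have hspan : Submodule.span F (Set.range ![u, A u]) = LinearMap.range N := by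
    refine Submodule.eq_of_le_of_finrank_eq (Submodule.span_le.mpr ?_) ?_
    · rintro _ ⟨i, rfl⟩
      fin_cases i
      · exact ⟨x, hu.symm⟩
      · exact ⟨A x, by simp [hu, hAN]⟩
    · rw [finrank_span_eq_card hli2, hrk, Fintype.card_fin]
  have key : ∀ v, N v = 0 ∨ polar Q u v = 0 := by
    intro v
    obtain ⟨s, t, hst⟩ : ∃ s t : F, s • u + t • A u = N v := by
      have hmem : N v ∈ Submodule.span F (Set.range ![u, A u]) := hspan ▸ ⟨v, rfl⟩
      rw [Matrix.range_cons, Matrix.range_cons, Matrix.range_empty, Set.union_empty, ← Set.insert_eq] at hmem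
      exact Submodule.mem_span_pair.mp hmem
    have e1 : s * polar Q u v + t * polar Q (A u) v = 0 := by
      rw [← QuadBasis.p_smul_left, ← QuadBasis.p_smul_left, ← polar_add_left, hst, halt]
    have e2 : s * polar Q (A u) v + t * (ν * polar Q u v) = 0 := by
      have h1 : polar Q (N v) (A v) = 0 := by
        have : polar Q (N v) (A v) = -polar Q (N v) (A v) := by
          conv_lhs => rw [hskew, ← hAN, ← hA.adj, polar_comm]
        exact (mul_eq_zero.mp (show (2 : F) * polar Q (N v) (A v) = 0 by linear_combination this)).resolve_left h2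
      rw [← hst, ← hA.adj, map_add, map_smul, map_smul, hA.sq, polar_add_left, QuadBasis.p_smul_left,
        QuadBasis.p_smul_left, QuadBasis.p_smul_left] at h1
      exact h1
    refine or_iff_not_imp_right.mpr fun hp => ?_
    have hD : ν * (polar Q u v * polar Q u v) - polar Q (A u) v * polar Q (A u) v ≠ 0 := fun e =>
      hν ⟨polar Q (A u) v / polar Q u v, by field_simp; linear_combination e⟩
    have hs : s = 0 := (mul_eq_zero.mp (show (ν * (polar Q u v * polar Q u v) -
        polar Q (A u) v * polar Q (A u) v) * s = 0 by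
      linear_combination (ν * polar Q u v) * e1 - polar Q (A u) v * e2)).resolve_left hD
    have ht : t = 0 := (mul_eq_zero.mp (show (ν * (polar Q u v * polar Q u v) -
        polar Q (A u) v * polar Q (A u) v) * t = 0 by
      linear_combination polar Q u v * e2 - polar Q (A u) v * e1)).resolve_left hD
    rw [← hst, hs, ht, zero_smul, zero_smul, add_zero]
  obtain ⟨v, hv⟩ : ∃ v, polar Q u v ≠ 0 := by
    by_contra hno
    push Not at hno
    exact hx (hQ u hno)
  have hNv := (key v).resolve_right hv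
  have hNx : N x ≠ 0 := hu ▸ hx
  have hux := (key x).resolve_left hNx
  rcases key (x + v) with h | h
  · rw [map_add, hNv, add_zero] at h
    exact hNx h
  · rw [polar_add_right, hux, zero_add] at h
    exact hv h

end Cfsg.Agent.Classical.Elusive.SelfAdjoint
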