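import Cfsg.Agent.Lib.Classical.Elusive.SelfAdjointCommutant
import Cfsg.Agent.Lib.Classical.Elusive.OrthTsIff
import Cfsg.Agent.Lib.Classical.FieldSubalgebra

/-!
# Prime orders whose elements always normalize a self-adjoint quadratic field extension
-/

set_option autoImplicit false
set_option linter.unusedSectionVars false

universe u

namespace Cfsg.Agent.Classical.Elusive.SelfAdjoint

open Module QuadraticMap
open Cfsg.Agent.Small
open scoped Matrix

variable {F : Type u} [Field F] [Fintype F] {ι : Type} [Fintype ι] [DecidableEq ι] {Q : QuadraticForm F (ι → F)}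

variable (Q) in
/-- Isometries as invertible matrices. -/
noncomputable def toGL : ↥(ORefl.Iso Q) →* GL ι F :=
  (Cfsg.isometryGroup F ⇑Q).subtype.comp (ORefl.toMat Q).toMonoidHom

theorem toGL_apply (G : ↥(ORefl.Iso Q)) (v : ι → F) : ((toGL Q G : GL ι F) : Matrix ι ι F) *ᵥ v = G.1 v :=
  ORefl.toMat_apply G v

theorem toGL_inj : Function.Injective (toGL Q) := fun a b h =>
  (ORefl.toMat Q).injective (Subtype.ext h)

theorem mem_omega {x : GL ι F} :
    x ∈ Cfsg.Geo.omegaGL ⇑Q ↔ ∃ G ∈ commutator ↥(ORefl.Iso Q), toGL Q G = x := by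
  constructor
  · rintro ⟨y, hy, rfl⟩
    rw [SetLike.mem_coe, OOmega.omega_eq_map] at hy
    obtain ⟨G, hG, rfl⟩ := hy
    exact ⟨G, hG, rfl⟩
  · rintro ⟨G, hG, rfl⟩
    refine ⟨ORefl.toMat Q G, ?_, rfl⟩
    rw [SetLike.mem_coe, OOmega.omega_eq_map]
    exact ⟨G, hG, rfl⟩

theorem rel_iff {δ : Matrix ι ι F} {σ : F} (G : ↥(ORefl.Iso Q)) :
    ((toGL Q G : GL ι F) : Matrix ι ι F) * δ = σ • (δ * ((toGL Q G : GL ι F) : Matrix ι ι F)) ↔
      ∀ v, G.1 (Matrix.toLin' δ v) = σ • Matrix.toLin' δ (G.1 v) := by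
  constructor
  · intro h v
    simp only [Matrix.toLin'_apply, ← toGL_apply, Matrix.mulVec_mulVec, h, Matrix.smul_mulVec]
  · intro h
    refine Matrix.ext_of_mulVec_single fun i => ?_
    have := h (Pi.single i 1)
    simpa only [Matrix.toLin'_apply, ← toGL_apply, Matrix.mulVec_mulVec, ← Matrix.smul_mulVec] using this

theorem sign_mem {K : Subalgebra F (Matrix ι ι F)} {δ : Matrix ι ι F} (hδ : δ ∈ K)
    (hspan : ∀ k ∈ K, ∃ a b : F, k = a • (1 : Matrix ι ι F) + b • δ) {Y : GL ι F} {σ : F} (hσ : σ * σ = 1)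
    (hY : (Y : Matrix ι ι F) * δ = σ • (δ * (Y : Matrix ι ι F))) : Y ∈ Cfsg.Geo.subalgebraNormalizer K := by
  have hf : (Y : Matrix ι ι F) * δ * ((Y⁻¹ : GL ι F) : Matrix ι ι F) = σ • δ := by
    rw [hY, Matrix.smul_mul, mul_assoc, Units.mul_inv, mul_one]
  have hb : ((Y⁻¹ : GL ι F) : Matrix ι ι F) * δ * (Y : Matrix ι ι F) = σ • δ := by
    have e : δ * (Y : Matrix ι ι F) = σ • ((Y : Matrix ι ι F) * δ) := by rw [hY, smul_smul, hσ, one_smul]
    rw [mul_assoc, e, Matrix.mul_smul, ← mul_assoc, Units.inv_mul, one_mul]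
  intro k
  constructor
  · intro hk
    obtain ⟨a, b, rfl⟩ := hspan k hk
    simp only [mul_add, add_mul, Matrix.mul_smul, Matrix.smul_mul, mul_one, Units.mul_inv, hf]
    exact K.add_mem (K.smul_mem K.one_mem a) (K.smul_mem (K.smul_mem hδ σ) b)
  · intro hk
    obtain ⟨a, b, hab⟩ := hspan _ hk
    have e : k = ((Y⁻¹ : GL ι F) : Matrix ι ι F) * ((Y : Matrix ι ι F) * k * ((Y⁻¹ : GL ι F) : Matrix ι ι F)) *
        (Y : Matrix ι ι F) := by
      rw [← mul_assoc, ← mul_assoc, Units.inv_mul, one_mul, mul_assoc, Units.inv_mul, mul_one]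
    rw [e, hab]
    simp only [mul_add, add_mul, Matrix.mul_smul, Matrix.smul_mul, mul_one, Units.inv_mul, hb]
    exact K.add_mem (K.smul_mem K.one_mem a) (K.smul_mem (K.smul_mem hδ σ) b)

/-- A generator of the field with scalar square. -/
theorem exists_delta [Nonempty ι] (h2 : (2 : F) ≠ 0) {K : Subalgebra F (Matrix ι ι F)}
    (hK : Cfsg.Geo.IsFieldSubalgebra 2 K) (hKf : Cfsg.Geo.IsSelfAdjointFor (polar ⇑Q) K) :
    ∃ (δ : Matrix ι ι F) (ν : F), δ ∈ K ∧ ¬ IsSquare ν ∧ δ * δ = ν • (1 : Matrix ι ι F) ∧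
      (∀ k ∈ K, ∃ a b : F, k = a • (1 : Matrix ι ι F) + b • δ) ∧
      (∀ a b : F, a • (1 : Matrix ι ι F) + b • δ = 0 → a = 0 ∧ b = 0) ∧ SA Q ν (Matrix.toLin' δ) := by
  classical
  obtain ⟨k, hk, hk'⟩ : ∃ k ∈ K, ∀ c : F, k ≠ c • (1 : Matrix ι ι F) := by
    by_contra hno
    push Not at hno
    have hle : K ≤ ⊥ := fun k hk => by
      obtain ⟨c, rfl⟩ := hno k hk
      exact (⊥ : Subalgebra F _).smul_mem (Subalgebra.one_mem _) c
    have h1 := hK.finrank_eq
    rw [le_bot_iff.mp hle, Subalgebra.finrank_bot] at h1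
    omega
  have hind0 : ∀ {m : Matrix ι ι F}, (∀ c : F, m ≠ c • (1 : Matrix ι ι F)) →
      ∀ a b : F, a • (1 : Matrix ι ι F) + b • m = 0 → a = 0 ∧ b = 0 := by
    intro m hm a b hab
    by_cases hb : b = 0
    · subst hb
      rw [zero_smul, add_zero, smul_eq_zero] at hab
      exact ⟨hab.resolve_right one_ne_zero, rfl⟩
    refine absurd ?_ (hm (-(b⁻¹ * a)))
    rw [neg_smul, mul_smul, ← smul_neg, ← eq_neg_of_add_eq_zero_right hab, smul_smul, inv_mul_cancel₀ hb, one_smul]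
  have hspan0 : ∀ {m : Matrix ι ι F}, m ∈ K → (∀ c : F, m ≠ c • (1 : Matrix ι ι F)) →
      ∀ x ∈ K, ∃ a b : F, x = a • (1 : Matrix ι ι F) + b • m := by
    intro m hm hm' x hx
    have hli : LinearIndependent F ![(1 : K), ⟨m, hm⟩] := by
      rw [LinearIndependent.pair_iff]
      intro a b hab
      exact hind0 hm' a b (congrArg Subtype.val hab)
    have hsp := hli.span_eq_top_of_card_eq_finrank (by rw [Fintype.card_fin, hK.finrank_eq])
    have hmem : (⟨x, hx⟩ : K) ∈ Submodule.span F (Set.range ![(1 : K), ⟨m, hm⟩]) := hsp ▸ Submodule.mem_top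
    rw [Matrix.range_cons, Matrix.range_cons, Matrix.range_empty, Set.union_empty, ← Set.insert_eq,
      Submodule.mem_span_pair] at hmem
    obtain ⟨a, b, hab⟩ := hmem
    exact ⟨a, b, (congrArg Subtype.val hab).symm⟩
  obtain ⟨β, α, hkk⟩ := hspan0 hk hk' _ (K.mul_mem hk hk)
  obtain ⟨δ, hδ⟩ : ∃ δ, δ = (2 : F) • k - α • (1 : Matrix ι ι F) := ⟨_, rfl⟩
  have hδK : δ ∈ K := hδ ▸ K.sub_mem (K.smul_mem hk 2) (K.smul_mem K.one_mem α)
  have hsq : δ * δ = (4 * β + α * α) • (1 : Matrix ι ι F) := by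
    rw [hδ, mul_sub, sub_mul, sub_mul]
    simp only [Matrix.smul_mul, Matrix.mul_smul, one_mul, mul_one, hkk]
    module
  have hδs : ∀ c : F, δ ≠ c • (1 : Matrix ι ι F) := fun c hc => by
    refine hk' ((c + α) / 2) ?_
    rw [hδ, sub_eq_iff_eq_add, ← add_smul] at hc
    rw [div_eq_inv_mul, mul_smul, ← hc, smul_smul, inv_mul_cancel₀ h2, one_smul]
  refine ⟨δ, 4 * β + α * α, hδK, ?_, hsq, hspan0 hδK hδs, hind0 hδs,
    ⟨fun u v => by simp only [Matrix.toLin'_apply]; exact hKf δ hδK u v, fun v => by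
      simp only [Matrix.toLin'_apply, Matrix.mulVec_mulVec, hsq, Matrix.smul_mulVec, Matrix.one_mulVec]⟩⟩
  rintro ⟨s, hs⟩
  have e1 : (δ - s • (1 : Matrix ι ι F)) * (δ + s • (1 : Matrix ι ι F)) = 0 := by
    rw [mul_add, sub_mul, sub_mul, hsq, Matrix.mul_smul, mul_one, Matrix.smul_mul, one_mul, Matrix.smul_mul,
      one_mul, smul_smul, hs]
    abel
  rcases fieldSubalgebra_mul_eq_zero hK (K.sub_mem hδK (K.smul_mem K.one_mem s)) e1 with h | h
  · exact hδs s (sub_eq_zero.mp h)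
  · exact hδs (-s) (by rw [neg_smul]; exact eq_neg_of_add_eq_zero_left h)

/-- Elements of order two always fix a point; among the other primes dividing the index none does. -/
theorem fixed_iff_two (h2 : (2 : F) ≠ 0) (hQ : OCount.PND Q) {d : ℕ} (hd : 4 ≤ d) (hn : Fintype.card ι = 2 * d)
    {K : Subalgebra F (Matrix ι ι F)} (hK : Cfsg.Geo.IsFieldSubalgebra 2 K)
    (hKf : Cfsg.Geo.IsSelfAdjointFor (polar ⇑Q) K) {r : ℕ} (hr : r.Prime)
    (hΩ : r ∣ (Cfsg.Geo.subalgebraNormalizer K).relIndex (Cfsg.Geo.omegaGL ⇑Q)) :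
    (∀ x ∈ Cfsg.Geo.omegaGL ⇑Q, (∃ z : F, ((x ^ r : GL ι F) : Matrix ι ι F) = z • (1 : Matrix ι ι F)) →
      (∀ z : F, (x : Matrix ι ι F) ≠ z • (1 : Matrix ι ι F)) →
      ∃ g ∈ Cfsg.Geo.omegaGL ⇑Q, g⁻¹ * x * g ∈ Cfsg.Geo.subalgebraNormalizer K) ↔ r = 2 := by
  classical
  haveI : Fact r.Prime := ⟨hr⟩
  haveI : Nonempty ι := Fintype.card_pos_iff.mp (by omega)
  have hV : finrank F (ι → F) = 2 * d := by rw [finrank_fintype_fun_eq_card, hn]
  obtain ⟨δ, ν, hδK, hν, hsq, hspan, hind, hD⟩ := exists_delta h2 hK hKf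
  have hne := OSame.exists_value hQ (by omega)
  constructor
  · intro hall
    by_contra hr2
    -- enough: an element of odd order commuting with no root
    suffices hno : ∃ G ∈ commutator ↥(ORefl.Iso Q), G ^ r = 1 ∧ G ≠ 1 ∧
        ∀ A : Module.End F (ι → F), SA Q ν A → (∀ v, A (G.1 v) = G.1 (A v)) → False by
      obtain ⟨G, hG, hGr, hG1, hbad⟩ := hno
      have hGs : ∀ z : F, ((toGL Q G : GL ι F) : Matrix ι ι F) ≠ z • (1 : Matrix ι ι F) := fun z hz => by
        have hx := mem_omega.mpr ⟨G, hG, rfl⟩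
        obtain ⟨hzz, -⟩ := OSame.scalar_power (r := 1) hx hne (z := z) (by rw [pow_one]; exact hz)
        have h1 : ((toGL Q G ^ r : GL ι F) : Matrix ι ι F) = (z ^ r) • (1 : Matrix ι ι F) := by
          rw [Units.val_pow_eq_pow_val, hz, smul_pow, one_pow]
        rw [← map_pow, hGr, map_one, Units.val_one] at h1
        have hzr : z ^ r = 1 := by
          obtain ⟨i⟩ := (inferInstance : Nonempty ι)
          have := congrFun (congrFun h1 i) i
          simpa using this.symm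
        obtain ⟨k, hk⟩ := hr.odd_of_ne_two hr2
        rw [hk, pow_succ, pow_mul, pow_two, hzz, one_pow, one_mul] at hzr
        refine hG1 (toGL_inj (Units.ext ?_))
        rw [hz, hzr, one_smul, map_one, Units.val_one]
      obtain ⟨g, hg, hY⟩ := hall _ (mem_omega.mpr ⟨G, hG, rfl⟩)
        ⟨1, by rw [← map_pow, hGr, map_one, Units.val_one, one_smul]⟩ hGs
      obtain ⟨H, -, rfl⟩ := mem_omega.mp hg
      rw [← map_inv, ← map_mul, ← map_mul] at hY
      obtain ⟨Z, hZ⟩ : ∃ Z, Z = H⁻¹ * G * H := ⟨_, rfl⟩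
      rw [← hZ] at hY
      obtain ⟨Y, hYdef⟩ : ∃ Y, Y = toGL Q Z := ⟨_, rfl⟩
      rw [← hYdef] at hY
      obtain ⟨a, b, hab⟩ := hspan _ ((hY δ).mp hδK)
      have e1 : (Y : Matrix ι ι F) * δ * ((Y⁻¹ : GL ι F) : Matrix ι ι F) *
          ((Y : Matrix ι ι F) * δ * ((Y⁻¹ : GL ι F) : Matrix ι ι F)) = ν • 1 := by
        simp only [mul_assoc, Units.inv_mul_cancel_left]
        rw [← mul_assoc δ, hsq, Matrix.smul_mul, one_mul, Matrix.mul_smul, Units.mul_inv]
      rw [hab, mul_add, add_mul, add_mul, Matrix.smul_mul, one_mul, Matrix.mul_smul, mul_one, Matrix.smul_mul,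
        one_mul, Matrix.smul_mul, Matrix.mul_smul, hsq, smul_smul, smul_smul, smul_smul, smul_smul] at e1
      have e2 : (a * a + b * b * ν - ν) • (1 : Matrix ι ι F) + (2 * (a * b)) • δ = 0 := by
        rw [← sub_eq_zero] at e1
        rw [← e1]
        module
      obtain ⟨e3, e4⟩ := hind _ _ e2
      have hν0 : ν ≠ 0 := fun e => hν (e ▸ IsSquare.zero)
      obtain ⟨rfl, hb⟩ : a = 0 ∧ b * b = 1 := by
        rcases mul_eq_zero.mp ((mul_eq_zero.mp e4).resolve_left h2) with rfl | rfl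
        · exact ⟨rfl, mul_right_cancel₀ hν0 (by linear_combination e3)⟩
        · exact absurd ⟨a, by linear_combination -e3⟩ hν
      rw [zero_smul, zero_add] at hab
      have e5 : (Y : Matrix ι ι F) * δ = b • (δ * Y) := by
        rw [← Matrix.smul_mul, ← hab]
        simp only [mul_assoc, Units.inv_mul, mul_one]
      rw [hYdef, rel_iff] at e5
      have e6 : ∀ j : ℕ, ∀ v, (Z ^ j).1 (Matrix.toLin' δ v) = b ^ j • Matrix.toLin' δ ((Z ^ j).1 v) := by
        intro j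
        induction j with
        | zero => intro v; simp
        | succ j ih =>
          intro v
          rw [pow_succ Z]
          show (Z ^ j).1 (Z.1 _) = _
          rw [e5, map_smul, ih, smul_smul, ← pow_succ']
          rfl
      have hZr : Z ^ r = 1 := by
        rw [hZ, show H⁻¹ * G * H = H⁻¹ * G * (H⁻¹)⁻¹ by rw [inv_inv], conj_pow, hGr, mul_one, mul_inv_cancel]
      obtain ⟨v₀, hv₀⟩ : ∃ v, Matrix.toLin' δ v ≠ 0 := by
        by_contra hno
        push Not at hno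
        obtain ⟨w, hw⟩ := hne
        have := hD.sq w
        rw [hno] at this
        exact hw (by rw [(smul_eq_zero.mp this.symm).resolve_left hν0, QuadraticMap.map_zero])
      obtain ⟨k, hk⟩ := hr.odd_of_ne_two hr2
      have hbr : b ^ r = 1 := by
        have h := e6 r v₀
        rw [hZr] at h
        exact ((smul_left_injective F hv₀).eq_iff.mp (by simpa using h)).symm
      rw [hk, pow_succ, pow_mul, pow_two, hb, one_pow, one_mul] at hbr
      subst hbr
      refine hbad ((H.1.toLinearMap ∘ₗ Matrix.toLin' δ) ∘ₗ H.1.symm.toLinearMap) ⟨fun u v => ?_, fun v => ?_⟩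
        fun v => ?_
      · show polar Q (H.1 (Matrix.toLin' δ (H.1.symm u))) v = polar Q u (H.1 (Matrix.toLin' δ (H.1.symm v)))
        conv_lhs => rw [← H.1.apply_symm_apply v]
        conv_rhs => rw [← H.1.apply_symm_apply u]
        rw [ORefl.polar_iso H.2, ORefl.polar_iso H.2, hD.adj]
      · show H.1 (Matrix.toLin' δ (H.1.symm (H.1 (Matrix.toLin' δ (H.1.symm v))))) = ν • v
        rw [H.1.symm_apply_apply, hD.sq, map_smul, H.1.apply_symm_apply]
      · have h := e5 (H.1.symm v)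
        rw [hZ, one_smul] at h
        change H.1.symm (G.1 (H.1 (Matrix.toLin' δ (H.1.symm v)))) =
          Matrix.toLin' δ (H.1.symm (G.1 (H.1 (H.1.symm v)))) at h
        rw [H.1.apply_symm_apply, LinearEquiv.symm_apply_eq] at h
        exact h.symm
    -- construct the element
    haveI : Finite ↥(ORefl.Iso Q) := Finite.of_injective (fun g => (⇑g.1 : (ι → F) → (ι → F)))
      fun a b hab => Subtype.ext (LinearEquiv.ext fun x => congrFun hab x)
    by_cases hr0 : (r : F) = 0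
    · exact exists_unipotent h2 hν hQ (by omega) hr0
    obtain ⟨x, hx⟩ : ∃ x : ↥(Cfsg.Geo.omegaGL ⇑Q), orderOf x = r :=
      exists_prime_orderOf_dvd_card' r (hΩ.trans (Subgroup.index_dvd_card _))
    by_cases hcase : ∃ h, orderOf (Fintype.card F : ZMod r) = 2 * h ∧ Even h
    · exfalso
      obtain ⟨h, hh, he⟩ := hcase
      -- a maximal group of prime power order commutes with a root
      obtain ⟨S⟩ : Nonempty (Sylow r ↥(Cfsg.Geo.omegaGL ⇑Q)) := inferInstance
      obtain ⟨P, hP⟩ : ∃ P : Subgroup ↥(ORefl.Iso Q),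
          P = ((S : Subgroup ↥(Cfsg.Geo.omegaGL ⇑Q)).map (Cfsg.Geo.omegaGL ⇑Q).subtype).comap (toGL Q) := ⟨_, rfl⟩
      obtain ⟨A, hA, hAP⟩ := exists_commuting hr hr2 hr0 hh he h2 hν _ hQ (hV ▸ even_two_mul d) rfl P
        (hP ▸ (S.isPGroup'.map _).comap_of_injective _ toGL_inj)
      obtain ⟨φ, hφi, hφ⟩ := exists_conj h2 hν hQ hV hA hD
      obtain ⟨Φ, hΦ⟩ : ∃ Φ : ↥(ORefl.Iso Q), Φ = ⟨φ, hφi⟩ := ⟨_, rfl⟩
      obtain ⟨c, hc⟩ : ∃ c, c = toGL Q Φ := ⟨_, rfl⟩
      have hconj : ∀ s : (S : Subgroup ↥(Cfsg.Geo.omegaGL ⇑Q)),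
          c * (s.1 : GL ι F) * c⁻¹ ∈ Cfsg.Geo.omegaGL ⇑Q ∧
            c * (s.1 : GL ι F) * c⁻¹ ∈ Cfsg.Geo.subalgebraNormalizer K := by
        intro s
        obtain ⟨G, hG, hGs⟩ := mem_omega.mp s.1.2
        have hGP : G ∈ P := hP ▸ Subgroup.mem_comap.mpr (hGs.symm ▸ ⟨s.1, s.2, rfl⟩)
        have e : c * (s.1 : GL ι F) * c⁻¹ = toGL Q (Φ * G * Φ⁻¹) := by rw [map_mul, map_mul, map_inv, hGs, hc]
        rw [e]
        refine ⟨mem_omega.mpr ⟨_, (inferInstance : (commutator ↥(ORefl.Iso Q)).Normal).conj_mem G hG Φ, rfl⟩,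
          sign_mem hδK hspan (one_mul 1) ((rel_iff _).mpr fun v => ?_)⟩
        rw [one_smul, hΦ]
        show φ (G.1 (φ.symm (Matrix.toLin' δ v))) = Matrix.toLin' δ (φ (G.1 (φ.symm v)))
        have e2 : φ.symm (Matrix.toLin' δ v) = A (φ.symm v) := by
          rw [LinearEquiv.symm_apply_eq, hφ, φ.apply_symm_apply]
        rw [e2, ← hAP G hGP, hφ]
      let j : (S : Subgroup ↥(Cfsg.Geo.omegaGL ⇑Q)) →*
          ↥((Cfsg.Geo.subalgebraNormalizer K).subgroupOf (Cfsg.Geo.omegaGL ⇑Q)) :=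
        MonoidHom.mk' (fun s => ⟨⟨c * (s.1 : GL ι F) * c⁻¹, (hconj s).1⟩, Subgroup.mem_subgroupOf.mpr (hconj s).2⟩)
          fun s t => Subtype.ext (Subtype.ext (by simp [mul_assoc]))
      have hj : Function.Injective j := fun s t hst => by
        have := congrArg (fun u => (u.1 : GL ι F)) hst
        exact Subtype.ext (Subtype.ext (mul_left_cancel (mul_right_cancel this)))
      obtain ⟨m, hm⟩ := Subgroup.card_dvd_of_injective j hj
      have h1 := Subgroup.card_mul_index ((Cfsg.Geo.subalgebraNormalizer K).subgroupOf (Cfsg.Geo.omegaGL ⇑Q))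
      rw [← Subgroup.card_mul_index (S : Subgroup ↥(Cfsg.Geo.omegaGL ⇑Q)), hm, mul_assoc] at h1
      have h3 := Nat.eq_of_mul_eq_mul_left Nat.card_pos h1
      refine S.not_dvd_index ?_
      rw [← h3]
      exact dvd_mul_of_dvd_right hΩ _
    obtain ⟨f, hf⟩ : ∃ f : Module.End F (ι → F), f = Matrix.toLin' ((x : GL ι F) : Matrix ι ι F) := ⟨_, rfl⟩
    have hfr : f ^ r = 1 := by
      rw [hf, ← Matrix.toLin'_pow, ← Units.val_pow_eq_pow_val, ← Subgroup.coe_pow, ← hx, pow_orderOf_eq_one]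
      exact Matrix.toLin'_one
    have hf1 : f ≠ 1 := fun h1 => by
      rw [hf] at h1
      have : x = 1 := Subtype.ext (Units.ext (Matrix.toLin'.injective (h1.trans Matrix.toLin'_one.symm)))
      rw [this, orderOf_one] at hx
      exact hr.ne_one hx.symm
    obtain ⟨g, hgr, hgi, hg1, hbad⟩ := exists_derangement hQ h2 hν hr hr2 hr0 hcase hfr
      (fun v => hf ▸ OFree.omega_iso x.2 v) hf1
    obtain ⟨y, hy, hyr, hyg⟩ := OSame.omega_of_end hQ (by omega) hr hr2 hgr hgi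
    obtain ⟨G, hG, rfl⟩ := mem_omega.mp hy
    have hGg : ∀ v, G.1 v = g v := fun v => by rw [← hyg, Matrix.toLin'_apply, toGL_apply]
    refine ⟨G, hG, toGL_inj (by rw [map_pow, hyr, map_one]), fun h1 => hg1 ?_, fun A hA hAG => hbad A hA fun v => ?_⟩
    · refine LinearMap.ext fun v => ?_
      rw [← hGg, h1]
      rfl
    · rw [← hGg, ← hGg, hAG]
  · rintro rfl x hx ⟨z, hz⟩ -
    obtain ⟨hzz, hpow⟩ := OSame.scalar_power hx hne hz
    obtain ⟨G, hG, rfl⟩ := mem_omega.mp hx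
    have hgg : ∀ v, G.1 (G.1 v) = z • v := fun v => by
      have := hpow v
      rw [pow_two, Module.End.mul_apply, Matrix.toLin'_apply, Matrix.toLin'_apply, toGL_apply, toGL_apply] at this
      exact this
    obtain ⟨σ, hσ, H, hH, hrel⟩ := exists_involutive h2 hν hQ (by omega) hV hD G hG hzz hgg
    refine ⟨toGL Q H, mem_omega.mpr ⟨H, hH, rfl⟩, ?_⟩
    rw [← map_inv, ← map_mul, ← map_mul]
    exact sign_mem hδK hspan hσ ((rel_iff _).mpr hrel)

end Cfsg.Agent.Classical.Elusive.SelfAdjoint
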