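import Cfsg.Agent.Lib.Classical.Elusive.TsSymp
import Cfsg.Agent.Lib.Classical.Elusive.SkewBlocks

/-!
# Elements commuting with no skew square root of a non-square
-/

set_option autoImplicit false
set_option linter.unusedSectionVars false

universe u

namespace Cfsg.Agent.Classical.SkewObstruction

open Module Cfsg Cfsg.Agent.Classical Cfsg.Agent.Classical.Elusive.Free

variable {F : Type u} [Field F] [Fintype F]

theorem pow_skew (h2 : ringChar F ≠ 2) {ν : F} (hν : ¬ IsSquare ν) {A : Type*} [Ring A] [Algebra F A] {D : A}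
    (hD : D * D = algebraMap F A ν) (j : ℕ) : D ^ (Fintype.card F ^ j) = (-1 : F) ^ j • D := by
  have hν0 : ν ≠ 0 := fun h => hν (h ▸ IsSquare.zero)
  have hodd := FiniteField.odd_card_of_char_ne_two h2
  have h1 : ν ^ (Fintype.card F / 2) = -1 :=
    (FiniteField.pow_dichotomy h2 hν0).resolve_left fun h => hν ((FiniteField.isSquare_iff h2 hν0).mpr h)
  have hq : D ^ Fintype.card F = (-1 : F) • D := by
    conv_lhs => rw [show Fintype.card F = 2 * (Fintype.card F / 2) + 1 by omega]
    rw [pow_succ, pow_mul, pow_two, hD, ← map_pow, h1, Algebra.smul_def]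
  induction j with
  | zero => simp
  | succ j ih =>
    rw [pow_succ (Fintype.card F) j, pow_mul, ih, smul_pow, hq, smul_smul, ← pow_mul, mul_comm j, pow_mul,
      FiniteField.pow_card, pow_succ]

variable {r : ℕ}

/-- An irreducible element whose degree is divisible by four commutes with no such operator. -/
theorem no_commutant_four (h2 : ringChar F ≠ 2) {ν : F} (hν : ¬ IsSquare ν) {M : Type u} [AddCommGroup M]
    [Module F M] [FiniteDimensional F M] {B : LinearMap.BilinForm F M} (hB : Refl B) {g : Module.End F M}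
    (hg : IsFree B g r) (hd : finrank F M = orderOf (Fintype.card F : ZMod r))
    (h4 : 4 ∣ orderOf (Fintype.card F : ZMod r)) (D : Module.End F M) (hDg : ∀ u, D (g u) = g (D u))
    (hskew : ∀ u v, B (D u) v = -B u (D v)) (hD : D * D = algebraMap F _ ν) : False := by
  classical
  haveI : Fact r.Prime := ⟨hg.prime⟩
  haveI : Nontrivial M := Module.nontrivial_of_finrank_pos (R := F) (by rw [hd]; exact hg.order_pos)
  haveI : Finite M := Module.finite_of_finite F
  haveI : Finite (Module.End F M) := Finite.of_injective (fun T : Module.End F M => (T : M → M)) DFunLike.coe_injective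
  have hDK := (centraliser_adjoin hg hd hDg).1
  obtain ⟨σ, hσ, hσg⟩ := exists_adjoint hg hd hB
  letI : Field ↥(Algebra.adjoin F ({g} : Set (Module.End F M))) := (adjoin_isField hg hd).toField
  set e := orderOf (Fintype.card F : ZMod r) with he
  set k := e / 2 with hk
  have hek : e = 2 * k := by omega
  have hkev : Even k := ⟨e / 4, by omega⟩
  have hk0 : 0 < k := by have := hg.order_pos; omega
  have hqk : (Fintype.card F : ZMod r) ^ k = -1 := by
    refine (mul_self_eq_one_iff.mp ?_).resolve_left fun h => ?_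
    · rw [← pow_add, ← two_mul, ← hek, he, pow_orderOf_eq_one]
    · have := Nat.le_of_dvd hk0 (orderOf_dvd_of_pow_eq_one h)
      omega
  have hgk : g ^ (Fintype.card F ^ k) = g ^ (r - 1) := by
    have e1 : ((Fintype.card F ^ k : ℕ) : ZMod r) = ((r - 1 : ℕ) : ZMod r) := by
      rw [Nat.cast_pow, hqk, Nat.cast_sub hg.prime.one_le, ZMod.natCast_self, Nat.cast_one, zero_sub]
    rw [pow_eq_pow_mod (Fintype.card F ^ k) hg.pow_eq, (ZMod.natCast_eq_natCast_iff' _ _ _).mp e1,
      Nat.mod_eq_of_lt (by have := hg.prime.one_le; omega)]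
  have hfrob : ∀ S, σ S = S ^ (Fintype.card F ^ k) := by
    have h : σ = (FiniteField.frobeniusAlgHom F ↥(Algebra.adjoin F ({g} : Set (Module.End F M)))) ^ k := by
      refine AlgHom.adjoin_ext fun x hx => ?_
      obtain rfl : x = g := hx
      refine Subtype.ext ?_
      rw [hσg, AlgHom.coe_pow, FiniteField.coe_frobeniusAlgHom, pow_iterate]
      simp [hgk]
    intro S
    rw [h, AlgHom.coe_pow, FiniteField.coe_frobeniusAlgHom, pow_iterate]
  have e1 : ((σ ⟨D, hDK⟩ : ↥(Algebra.adjoin F ({g} : Set (Module.End F M)))) : Module.End F M) = -D := by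
    refine LinearMap.ext fun v => sub_eq_zero.mp (hB.nondeg _ fun w => hB.zero_swap ?_)
    rw [map_sub, LinearMap.neg_apply, map_neg, ← hσ, sub_neg_eq_add, hskew, neg_add_cancel]
  have e2 : ((σ ⟨D, hDK⟩ : ↥(Algebra.adjoin F ({g} : Set (Module.End F M)))) : Module.End F M) = D := by
    rw [hfrob, SubmonoidClass.coe_pow]
    rw [show ((⟨D, hDK⟩ : ↥(Algebra.adjoin F ({g} : Set (Module.End F M)))) : Module.End F M) = D from rfl,
      pow_skew h2 hν hD, hkev.neg_one_pow, one_smul]
  rw [e1] at e2
  have hD0 : D = 0 := by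
    have : (2 : F) • D = 0 := by rw [two_smul]; nth_rewrite 1 [← e2]; exact neg_add_cancel D
    exact (smul_eq_zero.mp this).resolve_left (Ring.two_ne_zero h2)
  rw [hD0, mul_zero, eq_comm, map_eq_zero_iff _ (FaithfulSMul.algebraMap_injective F (Module.End F M))] at hD
  exact hν (hD ▸ IsSquare.zero)

/-- An element of odd degree on a space of twice that dimension commutes with no such operator. -/
theorem no_commutant_odd (h2 : ringChar F ≠ 2) {ν : F} (hν : ¬ IsSquare ν) {M : Type u} [AddCommGroup M]
    [Module F M] [FiniteDimensional F M] {B : LinearMap.BilinForm F M} (hB : SpCount.IsAltND B) {g : Module.End F M}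
    (hg : IsFree B g r) (hd : finrank F M = 2 * orderOf (Fintype.card F : ZMod r))
    (hodd : Odd (orderOf (Fintype.card F : ZMod r))) (D : Module.End F M) (hDg : ∀ u, D (g u) = g (D u))
    (hskew : ∀ u v, B (D u) v = -B u (D v)) (hD : D * D = algebraMap F _ ν) : False := by
  classical
  have hν0 : ν ≠ 0 := fun h => hν (h ▸ IsSquare.zero)
  have hR : Refl B := Elusive.TsSymp.refl_of_alt hB
  have hDD : ∀ u, D (D u) = ν • u := fun u => by
    rw [← Module.End.mul_apply, hD, Module.algebraMap_end_apply]
  have hDinj : Function.Injective D := fun u v h => by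
    have e := congrArg D h
    rw [hDD, hDD] at e
    exact smul_right_injective M hν0 e
  obtain ⟨-, hex⟩ := hg.exists_irred (U := ⊤) fun x _ => trivial
  obtain ⟨W, -, hW, hdW⟩ := hex fun h => by
    have h' := finrank_top F M
    rw [h, finrank_bot, hd] at h'
    have := hg.order_pos
    omega
  haveI : Fact r.Prime := ⟨hg.prime⟩
  have hfreeW := hg.restrict hW
  have hts : ∀ x ∈ W, ∀ y ∈ W, B x y = 0 := by
    refine (hg.ts_or_nondeg hW hdW).resolve_right fun hn => ?_
    have := (irreducible_norm hfreeW hdW (refl_restrict hR hn)).1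
    rw [hdW] at this
    exact (Nat.not_even_iff_odd.mpr hodd) this
  by_cases hinv : ∀ x ∈ W, D x ∈ W
  · -- the square root would lie in an extension of odd degree
    have hDg' : ∀ x : W, D.restrict hinv (g.restrict hW x) = g.restrict hW (D.restrict hinv x) :=
      fun x => Subtype.ext (hDg x)
    obtain ⟨hDK, hdeg⟩ := centraliser_adjoin hfreeW hdW hDg'
    haveI : Finite W := Module.finite_of_finite F
    haveI : Finite (Module.End F W) := Finite.of_injective (fun T : Module.End F W => (T : W → W)) DFunLike.coe_injective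
    letI : Field ↥(Algebra.adjoin F ({g.restrict hW} : Set (Module.End F W))) :=
      (adjoin_isField hfreeW hdW).toField
    letI : Fintype ↥(Algebra.adjoin F ({g.restrict hW} : Set (Module.End F W))) := Fintype.ofFinite _
    have hDW : D.restrict hinv * D.restrict hinv = algebraMap F (Module.End F W) ν := by
      refine LinearMap.ext fun x => Subtype.ext ?_
      rw [Module.algebraMap_end_apply]
      exact hDD x
    have e1 := congrArg Subtype.val (FiniteField.pow_card
      (⟨D.restrict hinv, hDK⟩ : ↥(Algebra.adjoin F ({g.restrict hW} : Set (Module.End F W)))))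
    rw [SubmonoidClass.coe_pow, Module.card_eq_pow_finrank (K := F), hdeg, hdW] at e1
    rw [pow_skew h2 hν hDW, hodd.neg_one_pow, neg_one_smul] at e1
    haveI : Nontrivial W := Module.nontrivial_of_finrank_pos (R := F) (by rw [hdW]; exact hg.order_pos)
    obtain ⟨x, hx⟩ := exists_ne (0 : W)
    have e2 : -(D x.1) = D x.1 := congrArg Subtype.val (LinearMap.congr_fun e1 x)
    have e3 : (2 : F) • D x.1 = 0 := by rw [two_smul]; nth_rewrite 1 [← e2]; exact neg_add_cancel _
    exact hx (Subtype.ext (hDinj (by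
      rw [ZeroMemClass.coe_zero, map_zero]
      exact (smul_eq_zero.mp e3).resolve_left (Ring.two_ne_zero h2))))
  · -- the form twisted by the square root is non-degenerate on the subspace
    let B' : LinearMap.BilinForm F W := (B.compl₂ D).compl₁₂ W.subtype W.subtype
    have hB' : ∀ u v : W, B' u v = B u.1 (D v.1) := fun _ _ => rfl
    have hfree' : IsFree B' (g.restrict hW) r :=
      { prime := hg.prime
        odd := hg.odd
        ne_zero := hg.ne_zero
        pow_eq := hfreeW.pow_eq
        isometry := fun u v => by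
          rw [hB', hB']
          show B (g u.1) (D (g v.1)) = _
          rw [hDg, hg.isometry]
        fixfree := hfreeW.fixfree }
    let N : Submodule F W := LinearMap.ker B'
    have hN : ∀ x ∈ N, g.restrict hW x ∈ N := fun x hx => by
      rw [LinearMap.mem_ker] at hx ⊢
      refine LinearMap.ext fun v => ?_
      obtain ⟨w, -, rfl⟩ := hfree'.map_eq (U := ⊤) (fun y _ => trivial) (x := v) trivial
      rw [hfree'.isometry, hx, LinearMap.zero_apply, LinearMap.zero_apply]
    rcases hfreeW.minimal (W := ⊤) (by rw [finrank_top, hdW]) hN le_top with hN0 | hN1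
    · have hR' : Refl B' := ⟨⟨1, fun u v => by rw [one_mul, hB', hB', hB.swap v.1, hskew, neg_neg]⟩,
        fun v hv => (Submodule.mem_bot F).mp (hN0 ▸ LinearMap.mem_ker.mpr (LinearMap.ext hv))⟩
      have := (irreducible_norm hfree' hdW hR').1
      rw [hdW] at this
      exact (Nat.not_even_iff_odd.mpr hodd) this
    · refine hinv fun x hx => ?_
      have hle : W ≤ B.orthogonal W := fun y hy z hz => hts z hz y hy
      have heq : W = B.orthogonal W := Submodule.eq_of_le_of_finrank_le hle (by
        rw [LinearMap.BilinForm.finrank_orthogonal hR.nondegenerate, hd, hdW]; omega)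
      rw [heq]
      intro y hy
      exact LinearMap.congr_fun (LinearMap.mem_ker.mp (hN1 ▸ Submodule.mem_top : (⟨y, hy⟩ : W) ∈ N)) ⟨x, hx⟩

variable {d : ℕ}

open Matrix in
/-- The free part extended by fixed points, as a symplectic matrix. -/
theorem exists_no_commutant {M : Type u} [AddCommGroup M] [Module F M] [FiniteDimensional F M]
    {B : LinearMap.BilinForm F M} (hB : SpCount.IsAltND B) {g : Module.End F M} (hg : IsFree B g r) {n a : ℕ}
    (hM : finrank F M = 2 * n) (hd : n + a = d) (hn : 0 < n) {ν : F}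
    (hno : ∀ D : Module.End F M, (∀ u, D (g u) = g (D u)) → (∀ u v, B (D u) v = -B u (D v)) →
      D * D = algebraMap F _ ν → False) :
    ∃ x : GL (Fin d ⊕ Fin d) F, x ∈ Cfsg.spGL d F ∧
      (x : Matrix (Fin d ⊕ Fin d) (Fin d ⊕ Fin d) F) ^ r = 1 ∧
      (∀ z : F, (x : Matrix (Fin d ⊕ Fin d) (Fin d ⊕ Fin d) F) ≠ z • 1) ∧
      ∀ A : Matrix (Fin d ⊕ Fin d) (Fin d ⊕ Fin d) F, A * x = x * A →
        (∀ u v, sympForm d F (A *ᵥ u) v = -sympForm d F u (A *ᵥ v)) → A * A = ν • 1 → False := by
  classical
  let B' : LinearMap.BilinForm F (M × (Fin a ⊕ Fin a → F)) :=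
    B.compl₁₂ (LinearMap.fst F _ _) (LinearMap.fst F _ _) +
      (Elusive.sympB a F).compl₁₂ (LinearMap.snd F _ _) (LinearMap.snd F _ _)
  have hB' : ∀ u v, B' u v = B u.1 v.1 + Elusive.sympB a F u.2 v.2 := fun _ _ => rfl
  have hB'alt : SpCount.IsAltND B' := ⟨fun u => by rw [hB', hB.self, Elusive.sympB_self, add_zero], fun u hu =>
    Prod.ext (hB.nondeg _ fun v => by simpa [hB'] using hu (v, 0))
      (Elusive.sympB_nondeg _ fun v => by simpa [hB'] using hu (0, v))⟩
  let g' : Module.End F (M × (Fin a ⊕ Fin a → F)) := g.prodMap 1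
  have hg' : ∀ u, g' u = (g u.1, u.2) := fun _ => rfl
  have hgr : ∀ (k : ℕ) u, (g' ^ k) u = ((g ^ k) u.1, u.2) := by
    intro k
    induction k with
    | zero => intro u; rfl
    | succ k ih => intro u; rw [pow_succ', Module.End.mul_apply, ih, hg', pow_succ', Module.End.mul_apply]
  have hdim : finrank F (M × (Fin a ⊕ Fin a → F)) = 2 * d := by
    rw [Module.finrank_prod, hM, finrank_fintype_fun_eq_card, Fintype.card_sum, Fintype.card_fin]; omega
  obtain ⟨x, φ, hx, hφ⟩ := Elusive.TsSymp.exists_element hB'alt hdim (g := g')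
    (fun u v => by rw [hB', hB', hg', hg', hg.isometry])
  have hxv : ∀ u, (x : Matrix (Fin d ⊕ Fin d) (Fin d ⊕ Fin d) F) *ᵥ φ u = φ (g' u) := fun u => by
    rw [← hx, Matrix.toLin'_apply]
  have hpow : ∀ (k : ℕ) u, ((x : Matrix (Fin d ⊕ Fin d) (Fin d ⊕ Fin d) F) ^ k) *ᵥ φ u = φ ((g' ^ k) u) := by
    intro k
    induction k with
    | zero => intro u; simp
    | succ k ih => intro u; rw [pow_succ', ← Matrix.mulVec_mulVec, ih, hxv, pow_succ', Module.End.mul_apply]
  refine ⟨⟨x.1, (x⁻¹).1, by rw [← Submonoid.coe_mul, mul_inv_cancel, Submonoid.coe_one],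
    by rw [← Submonoid.coe_mul, inv_mul_cancel, Submonoid.coe_one]⟩,
    fun u v => Lead.Symp.form_preserved x.2 u v, ?_, fun z hz => ?_, fun A hA hskew hAA => ?_⟩
  · refine Matrix.toLin'.injective (LinearMap.ext fun w => ?_)
    obtain ⟨u, rfl⟩ := φ.surjective w
    rw [Matrix.toLin'_apply, hpow, hgr, hg.pow_eq, Matrix.toLin'_one, LinearMap.id_apply]
    rfl
  · change (x : Matrix (Fin d ⊕ Fin d) (Fin d ⊕ Fin d) F) = z • 1 at hz
    haveI : Nontrivial M := Module.nontrivial_of_finrank_pos (R := F) (by omega)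
    obtain ⟨v, hv⟩ := exists_ne (0 : M)
    have e : ∀ u, φ (g' u) = z • φ u := fun u => by
      rw [← hxv, hz, Matrix.smul_mulVec, Matrix.one_mulVec]
    have e1 : ∀ w, g w = z • w := fun w =>
      congrArg Prod.fst (φ.injective (by rw [e, map_smul] : φ (g' (w, 0)) = φ (z • (w, 0))))
    obtain ⟨w, hw⟩ : ∃ w, B v w ≠ 0 := by
      by_contra hc
      push Not at hc
      exact hv (hB.nondeg v hc)
    have hit : ∀ k : ℕ, (g ^ k) v = z ^ k • v := by
      intro k
      induction k with
      | zero => simp
      | succ k ih => rw [pow_succ', Module.End.mul_apply, ih, map_smul, e1, smul_smul, pow_succ]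
    have hzr : z ^ r = 1 := by
      have h1 := hit r
      rw [hg.pow_eq, Module.End.one_apply] at h1
      by_contra hne
      exact hv ((smul_eq_zero.mp (show (z ^ r - 1) • v = 0 by rw [sub_smul, one_smul, ← h1, sub_self])).resolve_left
        (sub_ne_zero.mpr hne))
    have hz2 : z * z = 1 := by
      have h1 := hg.isometry v w
      rw [e1 v, e1 w, map_smul, map_smul, LinearMap.smul_apply, smul_eq_mul, smul_eq_mul, ← mul_assoc] at h1
      exact mul_right_cancel₀ hw (h1.trans (one_mul _).symm)
    obtain ⟨k, hk⟩ := hg.prime.odd_of_ne_two hg.odd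
    rw [hk, pow_succ, pow_mul, pow_two, hz2, one_pow, one_mul] at hzr
    exact hv (hg.fixfree v (by rw [e1, hzr, one_smul]))
  · change A * (x : Matrix (Fin d ⊕ Fin d) (Fin d ⊕ Fin d) F) = x * A at hA
    let D' : Module.End F (M × (Fin a ⊕ Fin a → F)) := φ.symm.conj (Matrix.toLin' A)
    have hD' : ∀ u, φ (D' u) = A *ᵥ φ u := fun u => by simp [D', LinearEquiv.conj_apply_apply]
    have hcomm : ∀ u, D' (g' u) = g' (D' u) := fun u => φ.injective (by
      rw [hD', ← hxv, Matrix.mulVec_mulVec, hA, ← Matrix.mulVec_mulVec, ← hD', hxv])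
    have hskew' : ∀ u v, B' (D' u) v = -B' u (D' v) := fun u v => by rw [← hφ, ← hφ, hD', hD', hskew]
    have hsq : ∀ u, D' (D' u) = ν • u := fun u => φ.injective (by
      rw [hD', hD', Matrix.mulVec_mulVec, hAA, Matrix.smul_mulVec, Matrix.one_mulVec, map_smul])
    have hgsurj : Function.Surjective (g - 1 : Module.End F M) := LinearMap.injective_iff_surjective.mp
      ((injective_iff_map_eq_zero _).mpr fun w hw => hg.fixfree w (sub_eq_zero.mp hw))
    have hzero : ∀ u, (D' (u, 0)).2 = 0 := fun u => by
      obtain ⟨w, rfl⟩ := hgsurj u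
      have e : ((g - 1 : Module.End F M) w, (0 : Fin a ⊕ Fin a → F)) = g' (w, 0) - (w, 0) := by
        rw [hg']; simp
      rw [e, map_sub, hcomm, hg']
      simp
    let D : Module.End F M := LinearMap.fst F _ _ ∘ₗ D' ∘ₗ LinearMap.inl F M (Fin a ⊕ Fin a → F)
    have hDu : ∀ u, D' (u, 0) = (D u, 0) := fun u => Prod.ext rfl (hzero u)
    refine hno D (fun u => ?_) (fun u v => ?_) (LinearMap.ext fun u => ?_)
    · have h := hcomm (u, 0)
      rw [hg', hDu, hg', hDu] at h
      exact congrArg Prod.fst h
    · have h := hskew' (u, 0) (v, 0)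
      rw [hDu, hDu, hB', hB'] at h
      simpa using h
    · rw [Module.End.mul_apply, Module.algebraMap_end_apply]
      have h := hsq (u, 0)
      rw [hDu, hDu] at h
      exact congrArg Prod.fst h

end Cfsg.Agent.Classical.SkewObstruction
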