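import Cfsg.Agent.Lib.Small.SpOrderThree
import Cfsg.Agent.Lib.Classical.Elusive.CharTwoForms
import Cfsg.Agent.Lib.Classical.Elusive.SkewBlocks

/-!
# The symplectic centraliser of a skew square root of a non-square is a unitary group
-/

set_option autoImplicit false
set_option linter.unusedSectionVars false

universe u

namespace Cfsg.Agent.Classical.SkewUnitary

open Matrix Polynomial Cfsg Cfsg.Agent.Classical Cfsg.Agent.Small

open scoped MatrixGroups

variable {F : Type u} [Field F] {d : ℕ}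

/-- The element `a + √ν c`. -/
def blk (ν : F) (a c : Matrix (Fin d) (Fin d) F) : Matrix (Fin d ⊕ Fin d) (Fin d ⊕ Fin d) F :=
  Matrix.fromBlocks a (ν • c) c a

theorem blk_mem_iff {ν : F} (hν : ν ≠ 0) (a c : Matrix (Fin d) (Fin d) F) :
    blk ν a c ∈ Matrix.symplecticGroup (Fin d) F ↔ aᵀ * a - ν • (cᵀ * c) = 1 ∧ aᵀ * c = cᵀ * a := by
  rw [SymplecticGroup.mem_iff', blk, Matrix.J, Matrix.fromBlocks_transpose, Matrix.fromBlocks_multiply,
    Matrix.fromBlocks_multiply, Matrix.fromBlocks_inj]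
  simp only [Matrix.mul_zero, Matrix.zero_mul, zero_add, add_zero, Matrix.mul_one, Matrix.mul_neg, Matrix.neg_mul,
    Matrix.transpose_smul, Matrix.smul_mul, Matrix.mul_smul]
  constructor
  · rintro ⟨h1, -, h3, -⟩
    exact ⟨by linear_combination (norm := module) h3, by linear_combination (norm := module) -h1⟩
  · rintro ⟨h1, h2⟩
    exact ⟨by linear_combination (norm := module) -h2, by linear_combination (norm := module) -h1,
      by linear_combination (norm := module) h1, by linear_combination (norm := module) ν • h2⟩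

theorem blk_injective (ν : F) :
    Function.Injective fun t : Matrix (Fin d) (Fin d) F × Matrix (Fin d) (Fin d) F => blk ν t.1 t.2 := fun t t' h => by
  simp only [blk, Matrix.fromBlocks_inj] at h
  exact Prod.ext h.1 h.2.2.1

theorem commute_S_iff {ν : F} (X : Matrix (Fin d ⊕ Fin d) (Fin d ⊕ Fin d) F) :
    X * SkewBlocks.S d ν = SkewBlocks.S d ν * X ↔ ∃ a c, X = blk ν a c := by
  constructor
  · intro h
    rw [← Matrix.fromBlocks_toBlocks X, SkewBlocks.S, Matrix.fromBlocks_multiply, Matrix.fromBlocks_multiply,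
      Matrix.fromBlocks_inj] at h
    simp only [Matrix.mul_zero, zero_add, Matrix.zero_mul, Matrix.mul_one, Matrix.one_mul, add_zero,
      Matrix.smul_mul, Matrix.mul_smul] at h
    obtain ⟨h1, -, h3, -⟩ := h
    refine ⟨X.toBlocks₁₁, X.toBlocks₂₁, ?_⟩
    conv_lhs => rw [← Matrix.fromBlocks_toBlocks X]
    rw [blk, Matrix.fromBlocks_inj]
    exact ⟨rfl, h1, rfl, h3⟩
  · rintro ⟨a, c, rfl⟩
    simp only [SkewBlocks.S, blk, Matrix.fromBlocks_multiply, Matrix.mul_zero, zero_add, add_zero, Matrix.zero_mul,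
      Matrix.mul_one, Matrix.one_mul, Matrix.smul_mul, Matrix.mul_smul, Matrix.fromBlocks_inj, and_self, smul_zero, true_and, and_true]

/-- Transport to matrices over the extension field. -/
theorem card_commutant_aux {L : Type*} [Field L] [Algebra F L] [StarRing L] {ν : F} (hν0 : ν ≠ 0) (ω : L)
    (hω' : ω * ω = algebraMap F L ν)
    (hb : ∀ y : L, ∃! t : F × F, algebraMap F L t.1 + ω * algebraMap F L t.2 = y)
    (hωs : star ω = -ω) (hFs : ∀ a : F, star (algebraMap F L a) = algebraMap F L a) :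
    Nat.card {X : Matrix (Fin d ⊕ Fin d) (Fin d ⊕ Fin d) F //
        X ∈ Matrix.symplecticGroup (Fin d) F ∧ X * SkewBlocks.S d ν = SkewBlocks.S d ν * X} =
      Nat.card {M : Matrix (Fin d) (Fin d) L // Mᴴ * M = 1} := by
  let em := SpOrderThree.embed (F := F) (m := d) ω
  have hbij : Function.Bijective em := by
    refine ⟨fun s t h => ?_, fun M => ?_⟩
    · have h' : ∀ i j, (s.1 i j, s.2 i j) = (t.1 i j, t.2 i j) := fun i j =>
        (hb (em t i j)).unique (by rw [← h]; rfl) rfl
      exact Prod.ext (Matrix.ext fun i j => (Prod.mk.injEq _ _ _ _ ▸ h' i j).1)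
        (Matrix.ext fun i j => (Prod.mk.injEq _ _ _ _ ▸ h' i j).2)
    · choose t ht using fun i j => (hb (M i j)).exists
      exact ⟨(Matrix.of fun i j => (t i j).1, Matrix.of fun i j => (t i j).2), Matrix.ext fun i j => ht i j⟩
  have hherm : ∀ t : Matrix (Fin d) (Fin d) F × Matrix (Fin d) (Fin d) F,
      (em t)ᴴ * em t = em (t.1ᵀ * t.1 - ν • (t.2ᵀ * t.2), t.1ᵀ * t.2 - t.2ᵀ * t.1) := by
    intro t
    have hct : ∀ A : Matrix (Fin d) (Fin d) F,
        (A.map (algebraMap F L))ᴴ = Aᵀ.map (algebraMap F _) := fun A => by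
      ext i j
      simp only [Matrix.conjTranspose_apply, Matrix.map_apply, Matrix.transpose_apply, hFs]
    have hsm : ∀ A : Matrix (Fin d) (Fin d) F, (ν • A).map (algebraMap F L) =
        algebraMap F L ν • A.map (algebraMap F L) := fun A => by
      ext i j
      simp only [Matrix.map_apply, Matrix.smul_apply, smul_eq_mul, map_mul]
    simp only [em, SpOrderThree.embed, Matrix.conjTranspose_add, Matrix.conjTranspose_smul, hct, hωs, Matrix.add_mul,
      Matrix.mul_add, Matrix.smul_mul, Matrix.mul_smul, smul_smul, Matrix.map_sub (algebraMap F _) (map_sub _), hsm,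
      Matrix.map_mul]
    match_scalars <;> first | ring1 | linear_combination hω' | linear_combination -hω'
  have hone : em (1, 0) = 1 := by
    simp only [em, SpOrderThree.embed]
    rw [Matrix.map_one _ (map_zero _) (map_one _), Matrix.map_zero _ (map_zero _), smul_zero, add_zero]
  have hiff : ∀ t : Matrix (Fin d) (Fin d) F × Matrix (Fin d) (Fin d) F,
      (em t)ᴴ * em t = 1 ↔ blk ν t.1 t.2 ∈ Matrix.symplecticGroup (Fin d) F := fun t => by
    rw [hherm, ← hone, hbij.1.eq_iff, Prod.mk.injEq, sub_eq_zero (a := _ᵀ * _) (b := _ᵀ * _), blk_mem_iff hν0]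
  refine (Nat.card_eq_of_bijective (fun t : {t : Matrix (Fin d) (Fin d) F × Matrix (Fin d) (Fin d) F //
      blk ν t.1 t.2 ∈ Matrix.symplecticGroup (Fin d) F} => (⟨blk ν t.1.1 t.1.2, t.2,
        (commute_S_iff _).2 ⟨_, _, rfl⟩⟩ : {X : Matrix (Fin d ⊕ Fin d) (Fin d ⊕ Fin d) F //
        X ∈ Matrix.symplecticGroup (Fin d) F ∧ X * SkewBlocks.S d ν = SkewBlocks.S d ν * X})) ⟨?_, ?_⟩).symm.trans ?_
  · exact fun s t h => Subtype.ext (blk_injective ν (congrArg Subtype.val h))
  · rintro ⟨X, hX, hc⟩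
    obtain ⟨a, c, rfl⟩ := (commute_S_iff X).1 hc
    exact ⟨⟨(a, c), hX⟩, rfl⟩
  refine (Nat.card_congr (Equiv.subtypeEquiv (Equiv.ofBijective _ hbij)
    (p := fun t => blk ν t.1 t.2 ∈ Matrix.symplecticGroup (Fin d) F) fun t => (hiff t).symm))

variable [Fintype F] {q : ℕ}

/-- The centraliser has the order of the unitary group. -/
theorem card_commutant (hF : Fintype.card F = q) {ν : F} (hν : ¬ IsSquare ν) :
    Nat.card {X : Matrix (Fin d ⊕ Fin d) (Fin d ⊕ Fin d) F //
        X ∈ Matrix.symplecticGroup (Fin d) F ∧ X * SkewBlocks.S d ν = SkewBlocks.S d ν * X} =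
      q ^ (d * (d - 1) / 2) * ∏ i ∈ Finset.range d, (if Even i then q ^ (i + 1) + 1 else q ^ (i + 1) - 1) := by
  classical
  have hν0 : ν ≠ 0 := fun h => hν (h ▸ IsSquare.zero)
  have hfm : (X ^ 2 - C ν : F[X]).Monic := monic_X_pow_sub_C _ two_ne_zero
  have hfd : (X ^ 2 - C ν : F[X]).natDegree = 2 := natDegree_X_pow_sub_C
  have hirr : Irreducible (X ^ 2 - C ν : F[X]) := by
    refine X_pow_sub_C_irreducible_of_prime Nat.prime_two fun b hb => hν ⟨b, ?_⟩
    rw [← hb, pow_two]
  haveI : Fact (Irreducible (X ^ 2 - C ν : F[X])) := ⟨hirr⟩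
  obtain ⟨ω, hω⟩ : ∃ ω, ω = AdjoinRoot.root (X ^ 2 - C ν : F[X]) := ⟨_, rfl⟩
  have hω' : ω * ω = algebraMap F _ ν := by
    have h := AdjoinRoot.eval₂_root (X ^ 2 - C ν : F[X])
    rw [eval₂_sub, eval₂_X_pow, eval₂_C, ← hω, sub_eq_zero] at h
    exact (pow_two ω).symm.trans h
  let pb := AdjoinRoot.powerBasis' hfm
  have hdim : pb.dim = 2 := hfd
  haveI : Module.Finite F (AdjoinRoot (X ^ 2 - C ν : F[X])) := pb.finite
  haveI : Finite (AdjoinRoot (X ^ 2 - C ν : F[X])) := Module.finite_of_finite F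
  letI : Fintype (AdjoinRoot (X ^ 2 - C ν : F[X])) := Fintype.ofFinite _
  have hL : Fintype.card (AdjoinRoot (X ^ 2 - C ν : F[X])) = q ^ 2 := by
    rw [Module.card_eq_pow_finrank (K := F), hF, pb.finrank, hdim]
  have hb : ∀ z : AdjoinRoot (X ^ 2 - C ν : F[X]), ∃! t : F × F,
      algebraMap F _ t.1 + ω * algebraMap F _ t.2 = z := by
    intro z
    obtain ⟨b, hb⟩ : ∃ b : Module.Basis (Fin 2) F (AdjoinRoot (X ^ 2 - C ν : F[X])),
        b = pb.basis.reindex (finCongr hdim) := ⟨_, rfl⟩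
    have hb0 : b 0 = 1 := by rw [hb, Module.Basis.reindex_apply, pb.basis_eq_pow]; simp
    have hb1 : b 1 = ω := by
      rw [hb, Module.Basis.reindex_apply, pb.basis_eq_pow, hω]
      exact pow_one _
    have hrepr : ∀ t : F × F, b.equivFun.symm ![t.1, t.2] = algebraMap F _ t.1 + ω * algebraMap F _ t.2 := fun t => by
      rw [Module.Basis.equivFun_symm_apply, Fin.sum_univ_two, hb0, hb1]
      simp [Algebra.smul_def, mul_comm]
    refine ⟨(b.equivFun z 0, b.equivFun z 1), ?_, fun t ht => ?_⟩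
    · simp only
      rw [← hrepr (b.equivFun z 0, b.equivFun z 1)]
      conv_rhs => rw [← b.equivFun.symm_apply_apply z]
      congr 1
      funext i
      fin_cases i <;> rfl
    · simp only at ht
      rw [← hrepr] at ht
      rw [← ht, LinearEquiv.apply_symm_apply]
      rfl
  obtain ⟨p', e', σ, -, -, -, -, hσ⟩ := Cfsg.Agent.Classical.exists_usigma hL
  letI : StarRing (AdjoinRoot (X ^ 2 - C ν : F[X])) :=
    Hermitian.starRingOfInvolution (σ : AdjoinRoot (X ^ 2 - C ν : F[X]) →+* _) hσ.involutive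
  have hstar : ∀ z : AdjoinRoot (X ^ 2 - C ν : F[X]), star z = z ^ q := fun z => hσ.apply_eq z
  have hodd : Odd q := by
    rcases Nat.even_or_odd q with he | ho
    · exact absurd (FiniteField.isSquare_of_char_two (by
        by_contra hne
        have := FiniteField.odd_card_of_char_ne_two hne
        rw [hF] at this
        obtain ⟨k, hk⟩ := he
        omega) ν) hν
    · exact ho
  obtain ⟨k, hk⟩ := hodd
  have hωs : star ω = -ω := by
    have hF2 : ringChar F ≠ 2 := fun h => by
      have := FiniteField.even_card_iff_char_two.mp h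
      rw [hF] at this
      omega
    have h1 : ν ^ k = -1 := by
      have h := FiniteField.pow_dichotomy hF2 hν0
      rw [hF, show q / 2 = k by omega] at h
      refine h.resolve_left fun h1 => hν ((FiniteField.isSquare_iff hF2 hν0).mpr ?_)
      rw [hF, show q / 2 = k by omega, h1]
    rw [hstar, hk, show ω ^ (2 * k + 1) = (ω * ω) ^ k * ω by ring, hω', ← map_pow, h1, map_neg, map_one, neg_one_mul]
  have hFs : ∀ a : F, star (algebraMap F (AdjoinRoot (X ^ 2 - C ν : F[X])) a) = algebraMap F _ a := fun a => by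
    rw [hstar, ← map_pow, ← hF, FiniteField.pow_card]
  rw [← Cfsg.Agent.Classical.UCount.card_GU hσ d]
  refine (card_commutant_aux hν0 ω hω' hb hωs hFs).trans ?_
  refine (Nat.card_eq_of_bijective (fun g => ⟨g.1.1, (PSUn.mem_GU_iff_star hstar _).1 g.2⟩) ⟨?_, ?_⟩).symm
  · exact fun g h e => Subtype.ext (Units.ext (congrArg Subtype.val e))
  · rintro ⟨M, hM⟩
    exact ⟨⟨⟨M, Mᴴ, mul_eq_one_comm.1 hM, hM⟩, (PSUn.mem_GU_iff_star hstar _).2 hM⟩, rfl⟩

/-- The index of the centraliser is a product of the factors `q ^ i + (-1) ^ i`. -/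
theorem card_spGL_eq (hF : Fintype.card F = q) :
    Nat.card ↥(Cfsg.spGL d F) = (q ^ (d * (d - 1) / 2) *
        ∏ i ∈ Finset.range d, (if Even i then q ^ (i + 1) + 1 else q ^ (i + 1) - 1)) *
      (q ^ (d ^ 2 - d * (d - 1) / 2) *
        ∏ i ∈ Finset.range d, (if Even i then q ^ (i + 1) - 1 else q ^ (i + 1) + 1)) := by
  have h : d * (d - 1) / 2 ≤ d ^ 2 := (Nat.div_le_self _ _).trans (by rw [pow_two]; exact Nat.mul_le_mul_left _ (Nat.sub_le _ _))
  rw [CharTwoQuad.card_spGL, hF, mul_mul_mul_comm, ← pow_add, Nat.add_sub_cancel' h, ← Finset.prod_mul_distrib]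
  congr 1
  refine Finset.prod_congr rfl fun i _ => ?_
  have e : q ^ (2 * (i + 1)) - 1 = (q ^ (i + 1) + 1) * (q ^ (i + 1) - 1) := by
    rw [← Nat.sq_sub_sq, ← pow_mul, one_pow, mul_comm]
  rw [e]
  split_ifs <;> ring

end Cfsg.Agent.Classical.SkewUnitary
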