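import Cfsg.Agent.Lib.Classical.Elusive.SpNdCases
import Cfsg.Prelude.Def_GeometricClasses

/-!
# Orthogonal decompositions into nondegenerate subspaces permuted by an isometry of prime order
-/

set_option autoImplicit false

universe u

namespace Cfsg.Agent.Classical.Elusive.SpNd

open Module
open Cfsg.Agent.Classical (SpCount.IsAltND)

variable {F : Type u} [Field F] [Fintype F] {V : Type u} [AddCommGroup V] [Module F V] [FiniteDimensional F V]
  {B : LinearMap.BilinForm F V} {g : Module.End F V}

section Decomposition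

variable {t : ℕ} {D : Fin t → Submodule F V} (hn : ∀ j, ND B (D j))
  (ho : ∀ j j', j ≠ j' → ∀ u ∈ D j, ∀ v ∈ D j', B u v = 0)

include hn ho

/-- The sum map of pairwise orthogonal nondegenerate subspaces is injective. -/
theorem sum_injective {E : Fin t → Submodule F V} (hE : ∀ j, E j ≤ D j) (f : ∀ j, E j)
    (hf : ∑ j, (f j : V) = 0) : f = 0 := by
  funext j
  refine Subtype.ext (hn j _ (hE j (f j).2) fun y hy => ?_)
  have h := congrArg (fun v => B v y) hf
  simp only [map_sum, LinearMap.sum_apply, map_zero, LinearMap.zero_apply] at h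
  rwa [Finset.sum_eq_single j (fun k _ hk => ho k j hk _ (hE k (f k).2) y hy) (by simp)] at h

theorem sum_finrank_le {E : Fin t → Submodule F V} (hE : ∀ j, E j ≤ D j) {U : Submodule F V} (hU : ∀ j, E j ≤ U) :
    ∑ j, finrank F (E j) ≤ finrank F U := by
  classical
  let T : (∀ j, E j) →ₗ[F] U := ∑ j, (Submodule.inclusion (hU j)) ∘ₗ LinearMap.proj j
  rw [← Module.finrank_pi_fintype]
  refine LinearMap.finrank_le_finrank_of_injective (f := T) ((injective_iff_map_eq_zero T).mpr fun f hf => ?_)
  refine sum_injective hn ho hE f ?_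
  have := congrArg Subtype.val hf
  simpa [T] using this

theorem decomp_indep : iSupIndep D := by
  intro j
  refine Submodule.disjoint_def.mpr fun x hx hx' => hn j x hx fun y hy => ?_
  have h : (⨆ (k) (_ : k ≠ j), D k) ≤ LinearMap.ker (B.flip y) :=
    iSup₂_le fun k hk v hv => ho k j hk v hv y hy
  exact h hx'

theorem decomp_top {a : ℕ} (hd : ∀ j, finrank F (D j) = a) (hV : finrank F V = a * t) : iSup D = ⊤ := by
  refine Submodule.eq_top_of_finrank_eq (le_antisymm (Submodule.finrank_le _) ?_)
  refine le_of_eq_of_le ?_ (sum_finrank_le hn ho (fun _ => le_rfl) (fun j => le_iSup D j))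
  simp [hd, hV, mul_comm]

end Decomposition

theorem tame_restrict {r : ℕ} (hg : Free.IsTame B g r) {Y : Submodule F V} (hYi : ∀ x ∈ Y, g x ∈ Y) :
    Free.IsTame (B.restrict Y) (g.restrict hYi) r :=
  ⟨hg.ne_zero, LinearMap.ext fun x => Subtype.ext (by rw [Free.restrict_pow hYi r x, hg.pow_eq]; rfl),
    fun u v => hg.isometry u.1 v.1⟩

/-- Invariant orthogonal decompositions. -/
theorem exists_decomp (hB : SpCount.IsAltND B) {r : ℕ} (hr : r.Prime) (hr2 : r ≠ 2) (hg : Free.IsTame B g r) {a : ℕ}
    (hae : Even a) (hc0 : 0 < OFree.unit F r) (hce : Even (OFree.unit F r)) :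
    ∀ (t : ℕ) (Y : Submodule F V), ND B Y → (∀ x ∈ Y, g x ∈ Y) → finrank F Y = a * t →
      (t * (a % OFree.unit F r) < OFree.unit F r) →
      ∃ D : Fin t → Submodule F V, (∀ j, D j ≤ Y ∧ ND B (D j) ∧ (∀ x ∈ D j, g x ∈ D j) ∧ finrank F (D j) = a) ∧
        ∀ j j', j ≠ j' → ∀ u ∈ D j, ∀ v ∈ D j', B u v = 0 := by
  intro t
  induction t with
  | zero => intro Y _ _ _ _; exact ⟨Fin.elim0, fun j => j.elim0, fun j => j.elim0⟩
  | succ t ih =>
    intro Y hY hYi hYd hlt
    obtain ⟨W, hW, hWi, hWd⟩ := fixed_tame (alt_restrict hB hY) hr hr2 (tame_restrict hg hYi) hae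
      (by rw [hYd]; exact Nat.le_mul_of_pos_right a t.succ_pos) hc0 hce (by
        rw [hYd, Nat.mul_mod a (t + 1), ← Nat.mul_mod a (t + 1)]
        rw [mul_comm a (t + 1), ← Nat.mul_mod_mod (t + 1) a, Nat.mod_eq_of_lt hlt]
        exact Nat.le_mul_of_pos_left _ t.succ_pos)
    have hWY := Submodule.map_subtype_le Y W
    have hWn : ND B (W.map Y.subtype) := by
      rintro _ ⟨x, hx, rfl⟩ h0
      rw [hW x hx fun y hy => h0 _ ⟨y, hy, rfl⟩, map_zero]
    have hWinv : ∀ x ∈ W.map Y.subtype, g x ∈ W.map Y.subtype := by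
      rintro _ ⟨x, hx, rfl⟩
      exact ⟨_, hWi x hx, rfl⟩
    rw [← Submodule.finrank_map_subtype_eq] at hWd
    obtain ⟨hn', hi', hd', -⟩ := glue hB hg.isometry hY hYi hWY hWn hWinv
    obtain ⟨D, hD, hDo⟩ := ih _ hn' hi' (by rw [hYd, hWd, Nat.mul_succ] at hd'; omega)
      (lt_of_le_of_lt (Nat.mul_le_mul_right _ t.le_succ) hlt)
    have hperp : ∀ j, ∀ u ∈ W.map Y.subtype, ∀ v ∈ D j, B u v = 0 ∧ B v u = 0 := fun j u hu v hv => by
      have h : B u v = 0 := ((hD j).1 hv).2 u hu
      exact ⟨h, by rw [hB.swap, h, neg_zero]⟩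
    refine ⟨Fin.cons (W.map Y.subtype) D, fun j => Fin.cases ?_ (fun j => ?_) j, fun j => Fin.cases ?_ (fun j => ?_) j⟩
    · rw [Fin.cons_zero]; exact ⟨hWY, hWn, hWinv, hWd⟩
    · rw [Fin.cons_succ]; exact ⟨(hD j).1.trans inf_le_left, (hD j).2⟩
    · intro j'
      refine Fin.cases ?_ (fun j' => ?_) j'
      · exact fun h => absurd rfl h
      · intro _ u hu v hv
        rw [Fin.cons_zero] at hu
        rw [Fin.cons_succ] at hv
        exact (hperp j' u hu v hv).1
    · intro j'
      refine Fin.cases ?_ (fun j' => ?_) j'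
      · intro _ u hu v hv
        rw [Fin.cons_zero] at hv
        rw [Fin.cons_succ] at hu
        exact (hperp j v hv u hu).2
      · intro hne u hu v hv
        rw [Fin.cons_succ] at hu hv
        exact hDo j j' (fun e => hne (e ▸ rfl)) u hu v hv

/-! ### A moved summand -/

section Cycle

variable {r : ℕ} {t : ℕ} {D : Fin t → Submodule F V} {σ : Equiv.Perm (Fin t)}

theorem moved_summand (hB : SpCount.IsAltND B) (hr : r.Prime) (hg : Free.IsTame B g r) (hn : ∀ j, ND B (D j))
    (hne : ∀ j, D j ≠ ⊥) (ho : ∀ j j', j ≠ j' → ∀ u ∈ D j, ∀ v ∈ D j', B u v = 0)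
    (hσ : ∀ j, (D j).map g = D (σ j)) {j : Fin t} (hj : σ j ≠ j) :
    finrank F (D j) ≤ finrank F (Free.fixSpace g) ∧ (r - 1) * finrank F (D j) ≤ finrank F (Free.moved g) := by
  classical
  have hmem : ∀ (k : ℕ) v, v ∈ D j → (g ^ k) v ∈ D ((σ ^ k) j) := by
    intro k
    induction k with
    | zero => exact fun v hv => hv
    | succ k ih =>
      intro v hv
      rw [pow_succ', pow_succ', Module.End.mul_apply, Equiv.Perm.mul_apply, ← hσ]
      exact ⟨_, ih v hv, rfl⟩
  have hinj : Function.Injective D := fun i k h => by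
    by_contra hik
    obtain ⟨x, hx, hx0⟩ := (D i).exists_mem_ne_zero_of_ne_bot (hne i)
    exact hx0 (hn i x hx fun y hy => ho i k hik x hx y (h ▸ hy))
  have hper : Function.IsPeriodicPt σ r j := by
    show (σ : Fin t → Fin t)^[r] j = j
    rw [Equiv.Perm.iterate_eq_pow]
    refine hinj (le_antisymm (fun v hv => ?_) fun v hv => ?_)
    · have key : ∀ k : ℕ, (D j).map (g ^ k) = D ((σ ^ k) j) := by
        intro k
        induction k with
        | zero => exact Submodule.map_id _
        | succ k ih =>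
          rw [pow_succ', pow_succ', Equiv.Perm.mul_apply, ← hσ, ← ih, Module.End.mul_eq_comp, Submodule.map_comp]
      rw [← key r, hg.pow_eq] at hv
      simpa using hv
    · have := hmem r v hv
      rwa [hg.pow_eq, Module.End.one_apply] at this
  have hdist : ∀ k l, k < r → l < r → (σ ^ k) j = (σ ^ l) j → k = l := by
    intro k l hk hl h
    have hmin : Function.minimalPeriod σ j = r :=
      ((Nat.dvd_prime hr).mp hper.minimalPeriod_dvd).resolve_left
        fun h1 => hj (Function.minimalPeriod_eq_one_iff_isFixedPt.mp h1)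
    have := (Function.iterate_eq_iterate_iff_of_lt_minimalPeriod (hmin ▸ hk) (hmin ▸ hl)).mp
      (by rw [Equiv.Perm.iterate_eq_pow, Equiv.Perm.iterate_eq_pow]; exact h)
    exact this
  have hpair : ∀ k l, k < r → l < r → ∀ v ∈ D j, ∀ w ∈ D j,
      B ((g ^ k) v) ((g ^ l) w) = if k = l then B v w else 0 := by
    intro k l hk hl v hv w hw
    split_ifs with h
    · subst h
      clear hk hl
      induction k with
      | zero => rfl
      | succ k ih => rw [pow_succ', Module.End.mul_apply, Module.End.mul_apply, hg.isometry, ih]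
    · exact ho _ _ (fun e => h (hdist k l hk hl e)) _ (hmem k v hv) _ (hmem l w hw)
  constructor
  · let T : D j →ₗ[F] Free.fixSpace g := (Free.avg g r ∘ₗ (D j).subtype).codRestrict _ fun v => hg.avg_mem v.1
    refine LinearMap.finrank_le_finrank_of_injective (f := T) ((injective_iff_map_eq_zero T).mpr fun v hv => ?_)
    refine Subtype.ext (hn j v.1 v.2 fun w hw => ?_)
    have h : B (Free.avg g r v.1) w = 0 := by rw [show Free.avg g r v.1 = 0 from congrArg Subtype.val hv]; simp
    simp only [Free.avg, LinearMap.smul_apply, LinearMap.sum_apply, map_smul, map_sum, smul_eq_mul] at h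
    rw [Finset.sum_eq_single 0 (fun k hk hk0 => ?_) (fun h0 => absurd (Finset.mem_range.mpr hr.pos) h0)] at h
    · rw [pow_zero, Module.End.one_apply] at h
      exact (mul_eq_zero.mp h).resolve_left (inv_ne_zero hg.ne_zero)
    · have := hpair k 0 (Finset.mem_range.mp hk) hr.pos v.1 v.2 w hw
      rwa [pow_zero, Module.End.one_apply, if_neg hk0] at this
  · let S : (Fin (r - 1) → D j) →ₗ[F] V :=
      ∑ k : Fin (r - 1), (g ^ (k : ℕ)) ∘ₗ (D j).subtype ∘ₗ LinearMap.proj k
    let T : (Fin (r - 1) → D j) →ₗ[F] Free.moved g := ((g - 1) ∘ₗ S).codRestrict _ fun v => ⟨S v, rfl⟩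
    have := LinearMap.finrank_le_finrank_of_injective (f := T) ((injective_iff_map_eq_zero T).mpr fun v hv => ?_)
    · rwa [Module.finrank_pi_fintype, Finset.sum_const, Finset.card_univ, Fintype.card_fin, smul_eq_mul] at this
    have h0 : g (S v) - S v = 0 := congrArg Subtype.val hv
    have key : ∀ (l : ℕ) (hl : l < r - 1), v ⟨l, hl⟩ = 0 := by
      intro l
      induction l using Nat.strong_induction_on with
      | _ l ih =>
        intro hl
        refine Subtype.ext (hn j _ (v ⟨l, hl⟩).2 fun w hw => ?_)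
        have h := congrArg (fun u => B u ((g ^ l) w)) h0
        simp only [S, LinearMap.sum_apply, LinearMap.comp_apply, LinearMap.proj_apply, Submodule.coe_subtype,
          map_sum, map_sub, LinearMap.sub_apply, LinearMap.sum_apply, map_zero, LinearMap.zero_apply,
          ← Module.End.mul_apply, ← pow_succ'] at h
        rw [Finset.sum_eq_zero (fun k _ => ?_), Finset.sum_eq_single ⟨l, hl⟩ (fun k _ hk => ?_) (by simp),
          zero_sub, neg_eq_zero, hpair l l (by omega) (by omega) _ (v ⟨l, hl⟩).2 w hw, if_pos rfl] at h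
        · exact h
        · rw [hpair _ l (by omega) (by omega) _ (v k).2 w hw, if_neg fun e => hk (Fin.ext e)]
        · rw [hpair _ l (by omega) (by omega) _ (v k).2 w hw]
          split_ifs with e
          · rw [ih k (by omega) k.2, ZeroMemClass.coe_zero, map_zero, LinearMap.zero_apply]
          · rfl
    exact funext fun k => key k k.2

end Cycle

/-! ### Counting decompositions -/

section Count

variable {d a t : ℕ}

/-- The orthogonal decompositions into nondegenerate subspaces of dimension `a`. -/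
def IsDec (a : ℕ) (D : Fin t → Submodule F (Fin d ⊕ Fin d → F)) : Prop :=
  Cfsg.Geo.IsMDecomposition a D ∧ (∀ j, ∀ u ∈ D j, u ≠ 0 → ∃ v ∈ D j, Cfsg.sympForm d F u v ≠ 0) ∧
    (∀ j j', j ≠ j' → ∀ u ∈ D j, ∀ v ∈ D j', Cfsg.sympForm d F u v = 0)

theorem nd_of {W : Submodule F (Fin d ⊕ Fin d → F)} (h : ∀ u ∈ W, u ≠ 0 → ∃ v ∈ W, Cfsg.sympForm d F u v ≠ 0) :
    ND (sympB d F) W := by
  intro u hu h0
  by_contra hne
  obtain ⟨v, hv, hv0⟩ := h u hu hne
  exact hv0 (h0 v hv)

theorem isDec_of {D : Fin t → Submodule F (Fin d ⊕ Fin d → F)} (ht : 2 ≤ t) (ha : 0 < a) (hat : 2 * d = a * t)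
    (hn : ∀ j, ND (sympB d F) (D j)) (hd : ∀ j, finrank F (D j) = a)
    (ho : ∀ j j', j ≠ j' → ∀ u ∈ D j, ∀ v ∈ D j', sympB d F u v = 0) : IsDec a D :=
  ⟨⟨ht, ha, hd, decomp_indep hn ho, decomp_top hn ho hd (TsSymp.finrank_std.trans hat)⟩, fun j u hu hne => by
    by_contra hc
    push Not at hc
    exact hne (hn j u hu hc), ho⟩

omit [Fintype F] in
theorem factorial_dvd [Finite F] : Nat.factorial t ∣ Nat.card {D : Fin t → Submodule F (Fin d ⊕ Fin d → F) // IsDec a D} := by
  classical
  letI act : MulAction (Equiv.Perm (Fin t)) {D : Fin t → Submodule F (Fin d ⊕ Fin d → F) // IsDec a D} :=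
    { smul := fun s D => ⟨fun j => D.1 (s⁻¹ j),
        ⟨⟨D.2.1.two_le, D.2.1.pos, fun j => D.2.1.finrank_eq _, D.2.1.indep.comp s⁻¹.injective,
          (Equiv.iSup_comp (g := D.1) s⁻¹).trans D.2.1.iSup_eq_top⟩,
          fun j => D.2.2.1 _, fun j j' h => D.2.2.2 _ _ fun e => h (s⁻¹.injective e)⟩⟩
      one_smul := fun D => Subtype.ext (funext fun j => by show D.1 ((1 : Equiv.Perm (Fin t))⁻¹ j) = _; simp)
      mul_smul := fun s s' D => Subtype.ext (funext fun j => by
        show D.1 ((s * s')⁻¹ j) = D.1 (s'⁻¹ (s⁻¹ j))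
        rw [mul_inv_rev, Equiv.Perm.mul_apply]) }
  have hfree : ∀ D, MulAction.stabilizer (Equiv.Perm (Fin t))
      (D : {D : Fin t → Submodule F (Fin d ⊕ Fin d → F) // IsDec a D}) = ⊥ := fun D => by
    refine eq_bot_iff.mpr fun s hs => Subgroup.mem_bot.mpr (Equiv.ext fun j => ?_)
    by_contra hne
    have h : D.1 (s⁻¹ (s j)) = D.1 (s j) := congrFun (congrArg Subtype.val hs) (s j)
    rw [show s⁻¹ (s j) = j from s.symm_apply_apply j] at h
    have hbot : D.1 j = ⊥ := (Submodule.eq_bot_iff _).mpr fun x hx =>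
      Submodule.disjoint_def.mp (D.2.1.indep.pairwiseDisjoint fun e => hne e.symm) x hx (h ▸ hx)
    have h' := D.2.1.finrank_eq j
    rw [hbot, finrank_bot] at h'
    exact D.2.1.pos.ne h'
  refine ⟨Nat.card (Quotient (MulAction.orbitRel (Equiv.Perm (Fin t))
    {D : Fin t → Submodule F (Fin d ⊕ Fin d → F) // IsDec a D})), ?_⟩
  rw [Nat.card_congr (MulAction.selfEquivOrbitsQuotientProd hfree), Nat.card_prod, Nat.card_perm, Nat.card_fin,
    mul_comm]

theorem prime_dvd_decomp {p : ℕ} [Fact p.Prime] [CharP F p] (ht : 2 ≤ t) {h : ℕ} (hh : a = 2 * h) (hpos : 0 < h)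
    (hat : 2 * d = a * t) {r : ℕ} (hr : r.Prime) (hrp : r ≠ p)
    (hdvd : r ∣ Nat.card {D : Fin t → Submodule F (Fin d ⊕ Fin d → F) // IsDec a D}) :
    ∃ l < d, r ∣ Fintype.card F ^ (2 * (d - l)) - 1 := by
  classical
  have hB : SpCount.IsAltND (sympB d F) := TsSymp.std_alt
  have hth : d = t * h := by
    have : 2 * d = 2 * (t * h) := by rw [hat, hh]; ring
    omega
  let φ : Fin d ≃ Fin t × Fin h := (finCongr hth).trans finProdFinEquiv.symm
  let blk : SpCount.SpFam (sympB d F) d → Fin t → SpCount.SpFam (sympB d F) h := fun f j =>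
    ⟨fun i => f.1 (i.map (fun x => φ.symm (j, x)) fun x => φ.symm (j, x)), fun i k => by
      rw [f.2]
      rcases i with i | i <;> rcases k with k | k <;> simp [Matrix.J, Matrix.one_apply]⟩
  have hspan : ∀ f : SpCount.SpFam (sympB d F) h, finrank F (Submodule.span F (Set.range f.1)) = a ∧
      ND (sympB d F) (Submodule.span F (Set.range f.1)) := by
    intro f
    obtain ⟨h1, h2⟩ := range_facts (B := sympB d F) (Fintype.linearCombination F f.1) fun c hc => by
      have h : Matrix.vecMul c (Matrix.J (Fin h) F) = 0 := funext fun j => by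
        have := hc (Pi.single j 1)
        rw [Fintype.linearCombination_apply_single, one_smul, Fintype.linearCombination_apply, map_sum,
          LinearMap.sum_apply] at this
        simpa [Matrix.vecMul, dotProduct, f.2] using this
      exact Matrix.vecMul_injective_iff_isUnit.2
        ((Matrix.isUnit_iff_isUnit_det _).2 (Matrix.isUnit_det_J _ F)) (h.trans (Matrix.zero_vecMul _).symm)
    rw [Fintype.range_linearCombination] at h1 h2
    exact ⟨by rw [h2]; simp [hh, two_mul], h1⟩
  let π : SpCount.SpFam (sympB d F) d → {D : Fin t → Submodule F (Fin d ⊕ Fin d → F) // IsDec a D} := fun f =>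
    ⟨fun j => Submodule.span F (Set.range (blk f j).1), isDec_of ht (by omega) hat (fun j => (hspan _).2)
      (fun j => (hspan _).1) fun j j' hne => by
        intro u hu v hv
        have key : ∀ i, ∀ v ∈ Submodule.span F (Set.range (blk f j').1), sympB d F ((blk f j).1 i) v = 0 := by
          intro i v hv
          have hle : Submodule.span F (Set.range (blk f j').1) ≤ LinearMap.ker (sympB d F ((blk f j).1 i)) := by
            rw [Submodule.span_le]
            rintro _ ⟨k, rfl⟩
            show sympB d F (f.1 _) (f.1 _) = 0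
            rw [f.2]
            rcases i with i | i <;> rcases k with k | k <;> simp [Matrix.J, Matrix.one_apply, hne]
          exact hle hv
        have hle : Submodule.span F (Set.range (blk f j).1) ≤ LinearMap.ker ((sympB d F).flip v) := by
          rw [Submodule.span_le]
          rintro _ ⟨i, rfl⟩
          exact key i v hv
        exact hle hu⟩
  let e : ∀ D : {D : Fin t → Submodule F (Fin d ⊕ Fin d → F) // IsDec a D},
      {f : SpCount.SpFam (sympB d F) d // π f = D} ≃ ∀ j, SpCount.SpFam (LinearMap.BilinForm.restrict (sympB d F) (D.1 j)) h := fun D =>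
    { toFun := fun f j => ⟨fun i => ⟨(blk f.1 j).1 i, by
        have hW : Submodule.span F (Set.range (blk f.1 j).1) = D.1 j := congrFun (congrArg Subtype.val f.2) j
        exact hW.le (Submodule.subset_span ⟨i, rfl⟩)⟩, fun i k => (blk f.1 j).2 i k⟩
      invFun := fun f => ⟨⟨Sum.elim (fun x => ((f (φ x).1).1 (Sum.inl (φ x).2) : Fin d ⊕ Fin d → F))
          (fun x => ((f (φ x).1).1 (Sum.inr (φ x).2) : Fin d ⊕ Fin d → F)), fun i k => by
        have key : ∀ (x y : Fin d) (s s' : Fin h → Fin h ⊕ Fin h),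
            sympB d F ((f (φ x).1).1 (s (φ x).2) : Fin d ⊕ Fin d → F) ((f (φ y).1).1 (s' (φ y).2) : Fin d ⊕ Fin d → F) =
              if (φ x).1 = (φ y).1 then Matrix.J (Fin h) F (s (φ x).2) (s' (φ y).2) else 0 := by
          intro x y s s'
          generalize φ x = X
          generalize φ y = Y
          obtain ⟨j, z⟩ := X
          obtain ⟨j', z'⟩ := Y
          dsimp only
          split_ifs with e
          · subst e
            exact (f j).2 _ _
          · exact D.2.2.2 _ _ e _ ((f j).1 (s z)).2 _ ((f j').1 (s' z')).2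
        have J₁ := fun {m : ℕ} (a b : Fin m) => SpCount.J_apply (F := F) a b
        rcases i with x | x <;> rcases k with y | y <;> simp only [Sum.elim_inl, Sum.elim_inr, key] <;>
          simp only [(J₁ _ _).1, (J₁ _ _).2.1, (J₁ _ _).2.2.1, (J₁ _ _).2.2.2, ite_self]
        all_goals
          rcases eq_or_ne x y with rfl | hxy
          · simp
          · rw [if_neg hxy]
            by_cases h1 : (φ x).1 = (φ y).1
            · rw [if_pos h1, if_neg fun h2 => hxy (φ.injective (Prod.ext h1 h2))]
            · rw [if_neg h1]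
              try simp⟩, Subtype.ext (funext fun j => by
        refine Submodule.eq_of_le_of_finrank_eq ?_ ((hspan _).1.trans (D.2.1.finrank_eq j).symm)
        rw [Submodule.span_le]
        rintro _ ⟨i, rfl⟩
        rcases i with i | i <;>
        · simp only [blk, Sum.map_inl, Sum.map_inr, Sum.elim_inl, Sum.elim_inr]
          rw [φ.apply_symm_apply]
          exact Subtype.coe_prop _)⟩
      left_inv := fun f => Subtype.ext (Subtype.ext (funext fun i => by
        rcases i with x | x <;>
        · show f.1.1 _ = _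
          simp))
      right_inv := fun f => funext fun j => Subtype.ext (funext fun i => Subtype.ext (by
        rcases i with x | x <;>
        · simp only [blk, Sum.map_inl, Sum.map_inr, Sum.elim_inl, Sum.elim_inr]
          rw [φ.apply_symm_apply])) }
  haveI : Finite (SpCount.SpFam (sympB d F) d) :=
    Finite.of_injective (fun f => (f.1 : _ → (Fin d ⊕ Fin d → F))) Subtype.val_injective
  haveI : Finite (Submodule F (Fin d ⊕ Fin d → F)) :=
    Finite.of_injective (fun W => (W : Set (Fin d ⊕ Fin d → F))) SetLike.coe_injective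
  letI := Fintype.ofFinite {D : Fin t → Submodule F (Fin d ⊕ Fin d → F) // IsDec a D}
  have key : Nat.card (SpCount.SpFam (sympB d F) d) =
      Nat.card {D : Fin t → Submodule F (Fin d ⊕ Fin d → F) // IsDec a D} *
      (∏ l ∈ Finset.range h, ((Fintype.card F ^ (2 * (h - l)) - 1) * Fintype.card F ^ (2 * (h - l) - 1))) ^ t := by
    rw [← Nat.card_congr (Equiv.sigmaFiberEquiv π), Nat.card_sigma, Finset.sum_congr rfl fun D _ =>
      (Nat.card_congr (e D)).trans (Nat.card_pi.trans (Finset.prod_congr rfl fun j _ => card_fam_part h h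
        (alt_restrict hB (nd_of (D.2.2.1 j))) ((D.2.1.finrank_eq j).trans hh))), Finset.sum_const, smul_eq_mul,
      Finset.card_univ, Nat.card_eq_fintype_card, Finset.prod_const, Finset.card_univ, Fintype.card_fin]
  rw [card_fam_part d d hB TsSymp.finrank_std] at key
  obtain ⟨l, hl, hrl⟩ := (hr.prime.dvd_finsetProd_iff _).mp (key ▸ dvd_mul_of_dvd_left hdvd _)
  refine ⟨l, Finset.mem_range.mp hl, (hr.dvd_mul.mp hrl).resolve_right fun h => hrp ?_⟩
  obtain ⟨e, -, he⟩ := FiniteField.card F p
  rw [he] at h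
  exact (Nat.prime_dvd_prime_iff_eq hr (Fact.out : p.Prime)).mp (hr.dvd_of_dvd_pow (hr.dvd_of_dvd_pow h))

end Count

end Cfsg.Agent.Classical.Elusive.SpNd
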