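import Cfsg.Agent.Lib.Classical.Elusive.SpPieces
import Cfsg.Agent.Lib.Classical.Elusive.OrthUnipotent
import Cfsg.Agent.Lib.Small.SpJordan

/-!
# Symplectic elements of prime order with few invariant nondegenerate subspaces
-/

set_option autoImplicit false

universe u

namespace Cfsg.Agent.Classical.Elusive.SpNd

open Module
open Cfsg.Agent.Classical (SpCount.IsAltND)
open Cfsg.Agent.Small.JordanType (IsChain parts sum_parts count_parts count_zero_parts)
open Cfsg.Agent.Small.JordanCent (nilM jordan_eq)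

variable {F : Type u} [Field F] [Fintype F] {d : ℕ}

theorem scalar_eq {g : Module.End F (Fin d ⊕ Fin d → F)} (hd : 0 < d) {r : ℕ} (hgr : g ^ r = 1) (hr : Odd r)
    (hiso : ∀ u v, sympB d F (g u) (g v) = sympB d F u v) {z : F} (hz : ∀ u, g u = z • u) : z = 1 := by
  haveI : Nonempty (Fin d ⊕ Fin d) := ⟨Sum.inl ⟨0, hd⟩⟩
  obtain ⟨u, hu⟩ := exists_ne (0 : Fin d ⊕ Fin d → F)
  obtain ⟨v, hv⟩ : ∃ v, sympB d F u v ≠ 0 := by
    by_contra hc
    push Not at hc
    exact hu ((TsSymp.std_alt (d := d) (F := F)).nondeg u hc)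
  have hzz : z * z = 1 := by
    have e := hiso u v
    rw [hz, hz, map_smul, map_smul, LinearMap.smul_apply, smul_eq_mul, smul_eq_mul, ← mul_assoc] at e
    exact mul_right_cancel₀ hv (e.trans (one_mul _).symm)
  have hpow : ∀ k : ℕ, (g ^ k) u = z ^ k • u := by
    intro k
    induction k with
    | zero => simp
    | succ k ih => rw [pow_succ', Module.End.mul_apply, ih, map_smul, hz, smul_smul, pow_succ]
  obtain ⟨j, hj⟩ := hr
  have h1 := hpow r
  rw [hgr, hj, pow_succ, pow_mul, pow_two, hzz, one_pow, one_mul, Module.End.one_apply] at h1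
  by_contra hne
  exact hu ((smul_eq_zero.mp (show (z - 1) • u = 0 by rw [sub_smul, one_smul, ← h1, sub_self])).resolve_left
    (sub_ne_zero.mpr hne))

theorem toLin_pow {x : ↥(Matrix.symplecticGroup (Fin d) F)} {M : Type u} [AddCommGroup M] [Module F M]
    {g : Module.End F M} {φ : M ≃ₗ[F] (Fin d ⊕ Fin d → F)}
    (hx : ∀ u, Matrix.toLin' (x : Matrix (Fin d ⊕ Fin d) (Fin d ⊕ Fin d) F) (φ u) = φ (g u)) {r : ℕ} (hgr : g ^ r = 1) :
    Matrix.toLin' (x : Matrix (Fin d ⊕ Fin d) (Fin d ⊕ Fin d) F) ^ r = 1 ∧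
      ((x ^ r : ↥(Matrix.symplecticGroup (Fin d) F)) : Matrix (Fin d ⊕ Fin d) (Fin d ⊕ Fin d) F) = (1 : F) • 1 := by
  have hpow : ∀ (k : ℕ) u, (Matrix.toLin' (x : Matrix (Fin d ⊕ Fin d) (Fin d ⊕ Fin d) F) ^ k) (φ u) = φ ((g ^ k) u) := by
    intro k
    induction k with
    | zero => intro u; rfl
    | succ k ih => intro u; rw [pow_succ', Module.End.mul_apply, ih, hx, pow_succ', Module.End.mul_apply]
  have h1 : Matrix.toLin' (x : Matrix (Fin d ⊕ Fin d) (Fin d ⊕ Fin d) F) ^ r = 1 := LinearMap.ext fun w => by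
    obtain ⟨u, rfl⟩ := φ.surjective w
    rw [hpow, hgr]; rfl
  refine ⟨h1, ?_⟩
  apply Matrix.toLin'.injective
  rw [one_smul, SubmonoidClass.coe_pow, Matrix.toLin'_pow, h1, Matrix.toLin'_one]
  rfl

theorem toLin_scalar {x : ↥(Matrix.symplecticGroup (Fin d) F)} {z : F}
    (hz : (x : Matrix (Fin d ⊕ Fin d) (Fin d ⊕ Fin d) F) = z • 1) (u : Fin d ⊕ Fin d → F) :
    Matrix.toLin' (x : Matrix (Fin d ⊕ Fin d) (Fin d ⊕ Fin d) F) u = z • u := by
  rw [hz, map_smul, Matrix.toLin'_one]; rfl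

/-- An element whose fixed space has dimension `2 * a`, free on the rest. -/
theorem exists_tame_element {r N a : ℕ} (hr : r.Prime) (hr2 : r ≠ 2) (hr0 : (r : F) ≠ 0)
    (hd : OFree.unit F r * N + 2 * a = 2 * d) (hN : 0 < OFree.unit F r * N) :
    ∃ x : ↥(Matrix.symplecticGroup (Fin d) F),
      (∃ z : F, ((x ^ r : ↥(Matrix.symplecticGroup (Fin d) F)) : Matrix (Fin d ⊕ Fin d) (Fin d ⊕ Fin d) F) = z • 1) ∧
      (∀ z : F, (x : Matrix (Fin d ⊕ Fin d) (Fin d ⊕ Fin d) F) ≠ z • 1) ∧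
      Free.IsTame (sympB d F) (Matrix.toLin' (x : Matrix (Fin d ⊕ Fin d) (Fin d ⊕ Fin d) F)) r ∧
      finrank F (Free.fixSpace (Matrix.toLin' (x : Matrix (Fin d ⊕ Fin d) (Fin d ⊕ Fin d) F))) = 2 * a := by
  classical
  obtain ⟨M, _, _, _, B, g, hg, hB, hM⟩ : ∃ (M : Type u) (_ : AddCommGroup M) (_ : Module F M)
      (_ : FiniteDimensional F M) (B : LinearMap.BilinForm F M) (g : Module.End F M),
      Free.IsFree B g r ∧ SpCount.IsAltND B ∧ finrank F M = OFree.unit F r * N := by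
    by_cases he : Even (orderOf (Fintype.card F : ZMod r))
    · obtain ⟨M, i1, i2, i3, B, g, h1, h2, h3, -⟩ := Free.exists_spread (F := F) hr hr2 hr0 he N
      exact ⟨M, i1, i2, i3, B, g, h1, h2, by rw [h3, OFree.unit, if_pos he]⟩
    · obtain ⟨M, i1, i2, i3, B, g, h1, h2, h3⟩ := Free.exists_paired (F := F) hr hr2 hr0 N
      exact ⟨M, i1, i2, i3, B, g, h1, h2, by rw [h3, OFree.unit, if_neg he, mul_assoc]⟩
  let B' : LinearMap.BilinForm F (M × (Fin a ⊕ Fin a → F)) :=
    B.compl₁₂ (LinearMap.fst F _ _) (LinearMap.fst F _ _) + (sympB a F).compl₁₂ (LinearMap.snd F _ _) (LinearMap.snd F _ _)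
  have hB' : ∀ u v, B' u v = B u.1 v.1 + sympB a F u.2 v.2 := fun _ _ => rfl
  have hB'alt : SpCount.IsAltND B' := ⟨fun u => by rw [hB', hB.self, sympB_self, add_zero], fun u hu =>
    Prod.ext (hB.nondeg _ fun v => by simpa [hB'] using hu (v, 0))
      (sympB_nondeg _ fun v => by simpa [hB'] using hu (0, v))⟩
  let g' : Module.End F (M × (Fin a ⊕ Fin a → F)) := g.prodMap 1
  have hg' : ∀ u, g' u = (g u.1, u.2) := fun _ => rfl
  have hgr : ∀ (k : ℕ) u, (g' ^ k) u = ((g ^ k) u.1, u.2) := by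
    intro k
    induction k with
    | zero => intro u; rfl
    | succ k ih => intro u; rw [pow_succ', Module.End.mul_apply, ih, hg', pow_succ', Module.End.mul_apply]
  have hg'r : g' ^ r = 1 := LinearMap.ext fun u => by rw [hgr, hg.pow_eq]; rfl
  obtain ⟨x, φ, hx, hφ⟩ := TsSymp.exists_element (d := d) hB'alt (by
    rw [Module.finrank_prod, hM, finrank_fintype_fun_eq_card, Fintype.card_sum, Fintype.card_fin]; omega)
    (g := g') fun u v => by rw [hB', hB', hg', hg', hg.isometry]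
  obtain ⟨hxr, hxr'⟩ := toLin_pow hx hg'r
  have htame : Free.IsTame (sympB d F) (Matrix.toLin' (x : Matrix (Fin d ⊕ Fin d) (Fin d ⊕ Fin d) F)) r :=
    ⟨hg.ne_zero, hxr, sympB_toLin x⟩
  have hfix : Free.fixSpace (Matrix.toLin' (x : Matrix (Fin d ⊕ Fin d) (Fin d ⊕ Fin d) F)) =
      (LinearMap.range (LinearMap.inr F M (Fin a ⊕ Fin a → F))).map (φ : _ →ₗ[F] _) := by
    ext w
    obtain ⟨u, rfl⟩ := φ.surjective w
    rw [Free.mem_fixSpace, hx, φ.injective.eq_iff, hg']
    constructor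
    · intro h
      exact ⟨u, ⟨u.2, Prod.ext (hg.fixfree _ (congrArg Prod.fst h)).symm rfl⟩, rfl⟩
    · rintro ⟨_, ⟨b, rfl⟩, h⟩
      rw [← φ.injective h]
      simp
  have hfd : finrank F (Free.fixSpace (Matrix.toLin' (x : Matrix (Fin d ⊕ Fin d) (Fin d ⊕ Fin d) F))) = 2 * a := by
    rw [hfix, LinearEquiv.finrank_map_eq, LinearMap.finrank_range_of_inj LinearMap.inr_injective,
      finrank_fintype_fun_eq_card, Fintype.card_sum, Fintype.card_fin]
    omega
  refine ⟨x, ⟨1, hxr'⟩, fun z hz => ?_, htame, hfd⟩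
  have h1 := scalar_eq (by omega) hxr (hr.odd_of_ne_two hr2) htame.isometry (toLin_scalar hz)
  rw [show Free.fixSpace (Matrix.toLin' (x : Matrix (Fin d ⊕ Fin d) (Fin d ⊕ Fin d) F)) = ⊤ from
    eq_top_iff.mpr fun u _ => Free.mem_fixSpace.mpr (by rw [toLin_scalar hz, h1, one_smul]), finrank_top,
    TsSymp.finrank_std] at hfd
  omega

variable {V : Type u} [AddCommGroup V] [Module F V] [FiniteDimensional F V] {B : LinearMap.BilinForm F V}
  {g : Module.End F V}

/-- The moved part of an invariant nondegenerate subspace consists of units. -/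
theorem tame_dim_eq (hB : SpCount.IsAltND B) {r : ℕ} (hr : r.Prime) (hr2 : r ≠ 2) (hg : Free.IsTame B g r)
    {W : Submodule F V} (hW : ND B W) (hinv : ∀ x ∈ W, g x ∈ W) :
    ∃ j, finrank F W = OFree.unit F r * j + finrank F ↥(W ⊓ Free.fixSpace g) := by
  have hs := hg.finrank_split hinv
  have hWM : ND B (W ⊓ Free.moved g) := fun x hx h0 => hW x hx.1 fun y hy => by
    have hav : Free.avg g r y ∈ W := by
      have key : ∀ k : ℕ, (g ^ k) y ∈ W := by
        intro k
        induction k with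
        | zero => exact hy
        | succ k ih => rw [pow_succ', Module.End.mul_apply]; exact hinv _ ih
      simp only [Free.avg, LinearMap.smul_apply, LinearMap.sum_apply]
      exact W.smul_mem _ (W.sum_mem fun k _ => key k)
    rw [← add_sub_cancel (Free.avg g r y) y, map_add, h0 _ ⟨W.sub_mem hy hav, hg.sub_avg_mem y⟩, hB.swap,
      hg.perp (hg.avg_mem y) hx.2, neg_zero, add_zero]
  have hd := ((hg.free_moved hr hr2).exists_irred (U := (W ⊓ Free.moved g).comap (Free.moved g).subtype)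
    fun x hx => (⟨hinv _ hx.1, Free.moved_invariant hx.2⟩ : g x.1 ∈ W ⊓ Free.moved g)).1
  rw [(Submodule.comapSubtypeEquivOfLe (inf_le_right : W ⊓ Free.moved g ≤ Free.moved g)).finrank_eq] at hd
  obtain ⟨j, hj⟩ : OFree.unit F r ∣ finrank F ↥(W ⊓ Free.moved g) := by
    rw [OFree.unit]
    split_ifs with he
    · exact hd
    · exact Nat.Coprime.mul_dvd_of_dvd_of_dvd (Nat.coprime_two_left.mpr (Nat.not_even_iff_odd.mp he))
        (nd_even hB hWM).two_dvd hd
  exact ⟨j, by rw [hs, hj, add_comm]⟩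

theorem tame_dim (hB : SpCount.IsAltND B) {r : ℕ} (hr : r.Prime) (hr2 : r ≠ 2) (hg : Free.IsTame B g r)
    {W : Submodule F V} (hW : ND B W) (hinv : ∀ x ∈ W, g x ∈ W) :
    ∃ j b, finrank F W = OFree.unit F r * j + b ∧ b ≤ finrank F (Free.fixSpace g) := by
  obtain ⟨j, hj⟩ := tame_dim_eq hB hr hr2 hg hW hinv
  exact ⟨j, _, hj, Submodule.finrank_mono inf_le_right⟩

/-! ### Involutions in characteristic two -/

theorem dim_mod_four (hB : SpCount.IsAltND B) (hgg : ∀ v, g (g v) = v) (hiso : ∀ u v, B (g u) (g v) = B u v)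
    (hN : ∀ v, g (g v - v) = g v - v) (halt : ∀ v, B v (g v - v) = 0)
    (hker : ∀ u v, g u = u → g v = v → B u v = 0) {W : Submodule F V} (hW : ND B W) (hinv : ∀ x ∈ W, g x ∈ W) :
    finrank F W % 4 = 0 := by
  classical
  have hWalt := alt_restrict hB hW
  obtain ⟨N, hNdef⟩ : ∃ N : Module.End F W, N = g.restrict hinv - 1 := ⟨_, rfl⟩
  have hNa : ∀ w : W, ((N w : W) : V) = g w.1 - w.1 := fun w => by rw [hNdef]; rfl
  have hadj : ∀ u w : W, B ((N u : W) : V) w.1 = B u.1 (g w.1 - w.1) := fun u w => by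
    rw [hNa, map_sub, map_sub, LinearMap.sub_apply]
    congr 1
    conv_lhs => rw [← hgg w.1]
    rw [hiso]
  obtain ⟨C, hC⟩ := Submodule.exists_isCompl (LinearMap.ker N)
  have hev : Even (finrank F C) := by
    refine TsSymp.even_dim (B := (B.restrict W).compl₁₂ C.subtype (N ∘ₗ C.subtype)) ⟨fun c => ?_, fun c hc => ?_⟩
    · show B (c.1 : W).1 ((N c.1 : W) : V) = 0
      rw [hNa]
      exact halt _
    · have h0 : N c.1 = 0 := Subtype.ext (hW _ (N c.1).2 fun y hy => by
        obtain ⟨a, ha, b, hb, hab⟩ := Submodule.mem_sup.mp (hC.sup_eq_top.ge (Submodule.mem_top (x := (⟨y, hy⟩ : W))))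
        rw [show y = (a : V) + (b : V) from (congrArg Subtype.val hab).symm, map_add, hadj, hadj, ← hNa, ← hNa,
          show N a = 0 from ha]
        have := hc ⟨b, hb⟩
        simpa using this)
      exact Subtype.ext ((Submodule.mem_bot F).mp (hC.disjoint.le_bot ⟨h0, c.2⟩))
  have hts := Free.two_mul_finrank_le (TsSymp.refl_of_alt hWalt) (U := LinearMap.ker N) fun u hu v hv => by
    have hu' := congrArg Subtype.val (LinearMap.mem_ker.mp hu)
    have hv' := congrArg Subtype.val (LinearMap.mem_ker.mp hv)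
    rw [hNa, ZeroMemClass.coe_zero, sub_eq_zero] at hu' hv'
    exact hker _ _ hu' hv'
  have hle : LinearMap.range N ≤ LinearMap.ker N := by
    rintro _ ⟨w, rfl⟩
    refine LinearMap.mem_ker.mpr (Subtype.ext ?_)
    rw [hNa, hNa, hN, sub_self]
    rfl
  have h1 := Submodule.finrank_mono hle
  have h2 := N.finrank_range_add_finrank_ker
  have h3 := Submodule.finrank_add_eq_of_isCompl hC
  obtain ⟨c, hc⟩ := hev
  omega

theorem exists_involution (h2 : (2 : F) = 0) {e : ℕ} (he : 1 ≤ e) (hd : d = 2 * e) :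
    ∃ x : ↥(Matrix.symplecticGroup (Fin d) F),
      (∃ z : F, ((x ^ 2 : ↥(Matrix.symplecticGroup (Fin d) F)) : Matrix (Fin d ⊕ Fin d) (Fin d ⊕ Fin d) F) = z • 1) ∧
      (∀ z : F, (x : Matrix (Fin d ⊕ Fin d) (Fin d ⊕ Fin d) F) ≠ z • 1) ∧
      ∀ W : Submodule F (Fin d ⊕ Fin d → F), ND (sympB d F) W →
        (∀ v ∈ W, Matrix.toLin' (x : Matrix (Fin d ⊕ Fin d) (Fin d ⊕ Fin d) F) v ∈ W) → finrank F W % 4 = 0 := by
  classical
  let T := (Fin e ⊕ Fin e → F)
  let B' : LinearMap.BilinForm F (T × T) :=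
    (sympB e F).compl₁₂ (LinearMap.fst F T T) (LinearMap.snd F T T) +
      (sympB e F).compl₁₂ (LinearMap.snd F T T) (LinearMap.fst F T T)
  have hB' : ∀ u v, B' u v = sympB e F u.1 v.2 + sympB e F u.2 v.1 := fun _ _ => rfl
  have hω : SpCount.IsAltND (sympB e F) := TsSymp.std_alt
  have hB'alt : SpCount.IsAltND B' := ⟨fun u => by rw [hB', hω.swap u.1 u.2, neg_add_cancel], fun u hu =>
    Prod.ext (hω.nondeg _ fun v => by simpa [hB'] using hu (0, v))
      (hω.nondeg _ fun v => by simpa [hB'] using hu (v, 0))⟩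
  let g : Module.End F (T × T) := LinearMap.id + (LinearMap.inl F T T).comp (LinearMap.snd F T T)
  have hg : ∀ u, g u = (u.1 + u.2, u.2) := fun u => by simp [g, Prod.ext_iff]
  have hchar : ∀ a : F, a + a = 0 := fun a => by rw [← two_mul, h2, zero_mul]
  have hTT : ∀ a : T, a + a = 0 := fun a => funext fun i => hchar (a i)
  have hgg : ∀ u, g (g u) = u := fun u => by
    rw [hg, hg]
    exact Prod.ext (by rw [add_assoc, hTT, add_zero]) rfl
  obtain ⟨x, φ, hx, hφ⟩ := TsSymp.exists_element (d := d) hB'alt (by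
    rw [Module.finrank_prod, finrank_fintype_fun_eq_card, Fintype.card_sum, Fintype.card_fin]; omega) (g := g)
    fun u v => by
      rw [hB', hB', hg, hg]
      simp only [map_add, LinearMap.add_apply]
      linear_combination hchar (sympB e F u.2 v.2)
  refine ⟨x, ⟨1, (toLin_pow hx (LinearMap.ext fun u => by rw [pow_two, Module.End.mul_apply, hgg]; rfl)).2⟩,
    fun z hz => ?_, fun W hW hinv => ?_⟩
  · haveI : Nonempty (Fin e ⊕ Fin e) := ⟨Sum.inl ⟨0, he⟩⟩
    obtain ⟨y, hy⟩ := exists_ne (0 : T)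
    have h0 := hx (0, y)
    rw [toLin_scalar hz, ← map_smul] at h0
    have h1 := congrArg Prod.fst (φ.injective h0)
    rw [hg] at h1
    exact hy (by simpa using h1.symm)
  · refine dim_mod_four (TsSymp.std_alt) (fun v => ?_) (sympB_toLin x) (fun v => ?_) (fun v => ?_)
      (fun u v hu hv => ?_) hW hinv
    · obtain ⟨u, rfl⟩ := φ.surjective v
      rw [hx, hx, hgg]
    · obtain ⟨u, rfl⟩ := φ.surjective v
      rw [hx, ← map_sub, hx, hg, hg]
      congr 1
      simp [Prod.ext_iff]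
    · obtain ⟨u, rfl⟩ := φ.surjective v
      show Cfsg.sympForm d F (φ u) _ = 0
      rw [hx, ← map_sub, hφ, hB', hg]
      simp [hω.self]
    · obtain ⟨u, rfl⟩ := φ.surjective u
      obtain ⟨v, rfl⟩ := φ.surjective v
      show Cfsg.sympForm d F (φ u) (φ v) = 0
      rw [hx, φ.injective.eq_iff, hg] at hu hv
      have hu2 : u.2 = 0 := by simpa using congrArg Prod.fst hu
      have hv2 : v.2 = 0 := by simpa using congrArg Prod.fst hv
      rw [hφ, hB', hu2, hv2]
      simp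

/-! ### Unipotent elements -/

section Unipotent

variable {p : ℕ} [Fact p.Prime] [CharP F p]

theorem sub_one_pow (f : Module.End F V) : (f - 1) ^ p = f ^ p - 1 := by
  have h := congrArg (Polynomial.aeval f) (sub_pow_char (R := Polynomial F) (p := p) Polynomial.X 1)
  simpa using h

/-- Odd block sizes occur with even multiplicity. -/
theorem even_count_alt (hB : SpCount.IsAltND B) (hiso : ∀ u v, B (g u) (g v) = B u v) {t : ℕ} {k : Fin t → ℕ}
    {b : Basis (Σ i, Fin (k i)) F V} (hb : IsChain (g - 1) b) (e : ℕ) (he : Odd e) :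
    Even ((parts k).count e) := by
  classical
  rw [count_parts k he.pos.ne', Nat.card_eq_fintype_card, Fintype.card_subtype]
  have hM : LinearMap.toMatrix b b g = Cfsg.jordanTypeMatrix k F := by
    rw [jordan_eq, show g = 1 + (g - 1) by abel, map_add, LinearMap.toMatrix_one]
    congr 1
    ext ⟨i, a⟩ ⟨j, c⟩
    rw [LinearMap.toMatrix_apply, hb, nilM]
    by_cases h : (c : ℕ) + 1 < k j
    · rw [dif_pos h, Basis.repr_self, Finsupp.single_apply]
      rcases eq_or_ne i j with rfl | hij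
      · simp [Fin.ext_iff, eq_comm]
      · simp [hij, Ne.symm hij]
    · rw [dif_neg h, map_zero, Finsupp.zero_apply, if_neg]
      rintro ⟨h1, h2⟩
      dsimp only at h1 h2
      subst h1
      have := a.isLt
      omega
  obtain ⟨Ω, hΩ⟩ : ∃ Ω, Ω = LinearMap.toMatrix₂ b b B := ⟨_, rfl⟩
  refine Cfsg.Agent.Small.SpJordan.even_of_form k (Ω := Ω) ?_ ?_ (fun x => ?_) ?_ e he
  · rw [Matrix.isUnit_iff_isUnit_det, isUnit_iff_ne_zero, hΩ]
    exact (LinearMap.nondegenerate_iff_det_ne_zero b).mp (TsSymp.refl_of_alt hB).nondegenerate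
  · rw [hΩ]
    ext x y
    rw [Matrix.transpose_apply, Matrix.neg_apply, LinearMap.toMatrix₂_apply, LinearMap.toMatrix₂_apply, hB.swap]
  · rw [hΩ, LinearMap.toMatrix₂_apply]
    exact hB.self _
  · rw [hΩ, ← hM, ← LinearMap.toMatrix₂_compl₁₂]
    exact congrArg _ (LinearMap.ext fun u => LinearMap.ext fun v => by rw [LinearMap.compl₁₂_apply, hiso])

/-- The block sizes on an invariant nondegenerate subspace. -/
theorem sub_parts_alt (hB : SpCount.IsAltND B) (hiso : ∀ u v, B (g u) (g v) = B u v)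
    {ι : Type*} [Fintype ι] {k : ι → ℕ} {b : Basis (Σ i, Fin (k i)) F V} (hb : IsChain (g - 1) b)
    (hnil : IsNilpotent (g - 1)) {W : Submodule F V} (hW : ND B W) (hinv : ∀ w ∈ W, g w ∈ W) :
    ∃ ν : Multiset ℕ, ν ≤ parts k ∧ ν.sum = finrank F W ∧ ∀ e, Odd e → Even (ν.count e) := by
  classical
  obtain ⟨-, hKi, -, -⟩ := glue hB hiso (nd_top hB) (fun _ _ => trivial) le_top hW hinv
  have hC : IsCompl W (B.orthogonal W) := (LinearMap.BilinForm.isCompl_orthogonal_iff_disjoint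
    (TsSymp.refl_of_alt hB).isRefl).mpr (disjoint_iff.mpr ((nd_iff hB).mp hW))
  have hWN : W.map (g - 1) ≤ W := by
    rintro _ ⟨w, hw, rfl⟩
    rw [LinearMap.sub_apply, Module.End.one_apply]
    exact W.sub_mem (hinv w hw) hw
  have hKN : (B.orthogonal W).map (g - 1) ≤ B.orthogonal W := by
    rintro _ ⟨v, hv, rfl⟩
    rw [LinearMap.sub_apply, Module.End.one_apply]
    exact Submodule.sub_mem _ (hKi v ⟨trivial, hv⟩).2 hv
  obtain ⟨t, kW, bW, ν', hbW, hsum⟩ := parts_add_chain hC hWN hKN hnil hb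
  have hbW' : IsChain (g.restrict hinv - 1) bW := by
    have e : (g.restrict hinv - 1 : Module.End F W) = (g - 1).restrict (fun x hx => hWN ⟨x, hx, rfl⟩) :=
      LinearMap.ext fun x => Subtype.ext rfl
    rw [e]; exact hbW
  exact ⟨parts kW, hsum ▸ Multiset.le_add_right _ _, by rw [sum_parts, hbW.sum_eq],
    fun e he => even_count_alt (alt_restrict hB hW) (fun u v => hiso u.1 v.1) hbW' e he⟩

theorem exists_unipotent_element (hp2 : p ≠ 2) (μ : Multiset ℕ) (hμ : ∀ a ∈ μ, 0 < a ∧ a ≤ p)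
    (hev : ∀ a, Odd a → Even (μ.count a)) (hsum : μ.sum = 2 * d) (hbig : ∃ e ∈ μ, 2 ≤ e) :
    ∃ x : ↥(Matrix.symplecticGroup (Fin d) F),
      (∃ z : F, ((x ^ p : ↥(Matrix.symplecticGroup (Fin d) F)) : Matrix (Fin d ⊕ Fin d) (Fin d ⊕ Fin d) F) = z • 1) ∧
      (∀ z : F, (x : Matrix (Fin d ⊕ Fin d) (Fin d ⊕ Fin d) F) ≠ z • 1) ∧
      ∀ W : Submodule F (Fin d ⊕ Fin d → F), ND (sympB d F) W →
        (∀ v ∈ W, Matrix.toLin' (x : Matrix (Fin d ⊕ Fin d) (Fin d ⊕ Fin d) F) v ∈ W) →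
        ∃ ν : Multiset ℕ, ν ≤ μ ∧ ν.sum = finrank F W ∧ ∀ e, Odd e → Even (ν.count e) := by
  classical
  obtain ⟨t, k, hk⟩ := exists_enum μ
  have hmem : ∀ i, k i ∈ μ := fun i => hk ▸ Multiset.mem_map.mpr ⟨i, Finset.mem_univ i, rfl⟩
  have hparts : parts k = μ := by
    rw [parts, hk]
    exact Multiset.filter_eq_self.mpr fun a ha => (hμ a ha).1.ne'
  obtain ⟨Ω, hu, hskew, hdiag, hinvΩ⟩ := Cfsg.Agent.Small.SpJordan.exists_form (F := F) k
    (fun i => (hμ _ (hmem i)).1) fun j hj => by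
      have := hev j hj
      rwa [← hparts, count_parts k hj.pos.ne', Nat.card_eq_fintype_card, Fintype.card_subtype] at this
  obtain ⟨B, hBdef⟩ : ∃ B : LinearMap.BilinForm F ((Σ i, Fin (k i)) → F), B = Matrix.toLinearMap₂' F Ω := ⟨_, rfl⟩
  have hBa : ∀ u v, B u v = dotProduct u (Matrix.mulVec Ω v) := fun u v => by rw [hBdef]; exact Matrix.toLinearMap₂'_apply' Ω u v
  have hB : SpCount.IsAltND B := by
    refine ⟨fun v => ?_, fun v hv => ?_⟩
    · rw [hBa]
      exact Cfsg.Agent.Small.SpJordan.alt_self (fun a b => congrFun (congrFun hskew a) b) hdiag v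
    · refine Matrix.vecMul_injective_iff_isUnit.2 hu (?_ : Matrix.vecMul v Ω = Matrix.vecMul 0 Ω)
      rw [Matrix.zero_vecMul]
      funext y
      have := hv (Pi.single y 1)
      rwa [hBa, Matrix.dotProduct_mulVec, dotProduct_single, mul_one] at this
  obtain ⟨g, hgdef⟩ : ∃ g : Module.End F ((Σ i, Fin (k i)) → F), g = Matrix.toLin' (Cfsg.jordanTypeMatrix k F) :=
    ⟨_, rfl⟩
  have hiso : ∀ u v, B (g u) (g v) = B u v := fun u v => by
    rw [hBa, hBa, hgdef, Matrix.toLin'_apply, Matrix.toLin'_apply, Matrix.mulVec_mulVec, ← Matrix.vecMul_transpose,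
      ← Matrix.dotProduct_mulVec, Matrix.mulVec_mulVec, ← Matrix.mul_assoc, hinvΩ]
  have hchain : IsChain (g - 1) (Pi.basisFun F (Σ i, Fin (k i))) := by
    intro y
    rw [hgdef, show (1 : Module.End F ((Σ i, Fin (k i)) → F)) = Matrix.toLin' 1 from Matrix.toLin'_one.symm,
      ← map_sub, jordan_eq, add_sub_cancel_left, Pi.basisFun_apply, Matrix.toLin'_apply, Matrix.mulVec_single_one]
    split_ifs with h
    · rw [Pi.basisFun_apply]
      funext z
      obtain ⟨i, a⟩ := z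
      obtain ⟨j, c⟩ := y
      simp only [Matrix.col_apply, nilM, Pi.single_apply]
      rcases eq_or_ne i j with rfl | hij
      · simp [Fin.ext_iff]
      · simp [hij]
    · funext z
      obtain ⟨i, a⟩ := z
      obtain ⟨j, c⟩ := y
      simp only [Matrix.col_apply, nilM, Pi.zero_apply]
      rw [if_neg]
      rintro ⟨h1, h2⟩
      dsimp only at h1 h2 h
      subst h1
      have := a.isLt
      omega
  have hgp : g ^ p = 1 := by
    rw [← sub_eq_zero, ← sub_one_pow]
    exact (hchain.pow_eq_zero_iff p).mpr fun i => (hμ _ (hmem i)).2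
  obtain ⟨x, φ, hx, hφ⟩ := TsSymp.exists_element (d := d) hB (by
    rw [finrank_fintype_fun_eq_card, Fintype.card_sigma, ← hsum, ← hparts, sum_parts]
    simp) hiso
  obtain ⟨hxp, hxp'⟩ := toLin_pow hx hgp
  refine ⟨x, ⟨1, hxp'⟩, fun z hz => ?_, fun W hW hinv => ?_⟩
  · obtain ⟨a, ha, ha2⟩ := hbig
    rw [← hk, Multiset.mem_map] at ha
    obtain ⟨i, -, rfl⟩ := ha
    have hd0 : 0 < d := by
      have := Multiset.le_sum_of_mem (hmem i)
      omega
    have h1 := scalar_eq hd0 hxp ((Fact.out : p.Prime).odd_of_ne_two hp2) (sympB_toLin x) (toLin_scalar hz)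
    have h2 := hx (Pi.basisFun F (Σ i, Fin (k i)) ⟨i, ⟨0, by omega⟩⟩)
    rw [toLin_scalar hz, h1, one_smul, φ.injective.eq_iff] at h2
    have h3 := hchain ⟨i, ⟨0, by omega⟩⟩
    rw [dif_pos (show (0 : ℕ) + 1 < k i by omega), LinearMap.sub_apply, Module.End.one_apply, ← h2, sub_self] at h3
    exact (Pi.basisFun F (Σ i, Fin (k i))).ne_zero _ h3.symm
  · have hb' : IsChain (Matrix.toLin' (x : Matrix (Fin d ⊕ Fin d) (Fin d ⊕ Fin d) F) - 1)
        ((Pi.basisFun F (Σ i, Fin (k i))).map φ) := by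
      intro y
      rw [Basis.map_apply, LinearMap.sub_apply, Module.End.one_apply, hx, ← map_sub,
        show g (Pi.basisFun F _ y) - Pi.basisFun F _ y = (g - 1) (Pi.basisFun F _ y) from rfl, hchain]
      split_ifs <;> simp
    obtain ⟨ν, h1, h2, h3⟩ := sub_parts_alt TsSymp.std_alt (sympB_toLin x) hb'
      ⟨p, by rw [sub_one_pow, hxp, sub_self]⟩ hW hinv
    exact ⟨ν, hparts ▸ h1, h2, h3⟩

end Unipotent

end Cfsg.Agent.Classical.Elusive.SpNd
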