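import Cfsg.Agent.Lib.Classical.Elusive.SpNdCount
import Cfsg.Agent.Lib.Classical.Elusive.SpNdModels

/-!
# Existence of fixed nondegenerate subspaces for isometries of alternating spaces
-/

set_option autoImplicit false

universe u

namespace Cfsg.Agent.Classical.Elusive.SpNd

open Module
open Cfsg.Agent.Classical (SpCount.IsAltND)

variable {F : Type u} [Field F] [Fintype F] {V : Type u} [AddCommGroup V] [Module F V] [FiniteDimensional F V]
  {B : LinearMap.BilinForm F V} {g : Module.End F V}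

/-- An involutory or anti-involutory isometry in odd characteristic fixes one of every even dimension. -/
theorem fixed_two (hB : SpCount.IsAltND B) (h2 : (2 : F) ≠ 0) (hiso : ∀ u v, B (g u) (g v) = B u v) {z : F}
    (hz : z = 1 ∨ z = -1) (hgg : ∀ v, g (g v) = z • v) {m : ℕ} (hme : Even m) (hmn : m ≤ finrank F V) :
    ∃ W : Submodule F V, ND B W ∧ (∀ x ∈ W, g x ∈ W) ∧ finrank F W = m := by
  obtain ⟨A, hA, hAs, hAW⟩ := exists_pieces hB hiso (fun a : ℕ => a) (· = 2) (fun a h => by omega) (by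
    rcases hz with rfl | rfl
    · exact step_one hB h2 hiso fun v => by rw [hgg, one_smul]
    · exact step_neg hB h2 hiso fun v => by rw [hgg, neg_one_smul])
  have hAr : A = Multiset.replicate A.card 2 := Multiset.eq_replicate_card.mpr hA
  obtain ⟨e, he⟩ := hme
  rw [Multiset.map_id', hAr, Multiset.sum_replicate, smul_eq_mul] at hAs
  obtain ⟨W, h1, h3, h4⟩ := hAW (Multiset.replicate e 2) (by rw [hAr, Multiset.replicate_le_replicate]; omega)
  exact ⟨W, h1, h3, by rw [h4, Multiset.map_id', Multiset.sum_replicate, smul_eq_mul]; omega⟩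

/-- An isometry of odd prime order prime to the characteristic. -/
theorem fixed_tame (hB : SpCount.IsAltND B) {r : ℕ} (hr : r.Prime) (hr2 : r ≠ 2) (hg : Free.IsTame B g r) {m : ℕ}
    (hme : Even m) (hmn : m ≤ finrank F V) (hc0 : 0 < OFree.unit F r) (hce : Even (OFree.unit F r))
    (hk : m % OFree.unit F r ≤ finrank F V % OFree.unit F r) :
    ∃ W : Submodule F V, ND B W ∧ (∀ x ∈ W, g x ∈ W) ∧ finrank F W = m := by
  classical
  obtain ⟨c, hc⟩ : ∃ c, c = OFree.unit F r := ⟨_, rfl⟩
  obtain ⟨A, -, hAs, hAW⟩ := exists_pieces hB hg.isometry (fun a : Bool => if a then 2 else OFree.unit F r)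
    (fun _ => True) (fun a _ => by cases a <;> simp [hc0]) (step_tame hB hr hr2 hg)
  obtain ⟨s, f, rfl⟩ : ∃ s f, A = Multiset.replicate s true + Multiset.replicate f false :=
    ⟨A.count true, A.count false, Multiset.ext.mpr fun b => by cases b <;> simp [Multiset.count_replicate]⟩
  rw [← hc] at hc0 hce hk hAs hAW
  simp only [Multiset.map_add, Multiset.map_replicate, Multiset.sum_add, Multiset.sum_replicate, smul_eq_mul,
    if_true, Bool.false_eq_true, if_false] at hAs
  have hdm := Nat.div_add_mod m c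
  have hks : finrank F V % c ≤ 2 * s := by
    rw [← hAs, Nat.add_mul_mod_self_right, mul_comm s 2]
    exact Nat.mod_le _ _
  obtain ⟨j, hj, hjs, hje⟩ : ∃ j ≤ f, c * j ≤ m ∧ m - c * j ≤ 2 * s := by
    rcases le_or_gt (m / c) f with h | h
    · exact ⟨m / c, h, by omega, by omega⟩
    · refine ⟨f, le_rfl, ?_, ?_⟩
      · have := Nat.mul_le_mul_left c h.le
        omega
      · rw [mul_comm f c] at hAs
        omega
  have hev : Even (m - c * j) := (Nat.even_sub hjs).mpr (iff_of_true hme (hce.mul_right j))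
  obtain ⟨e, he⟩ := hev
  obtain ⟨W, h1, h3, h4⟩ := hAW (Multiset.replicate e true + Multiset.replicate j false)
    (add_le_add ((Multiset.replicate_le_replicate _).mpr (by omega)) ((Multiset.replicate_le_replicate _).mpr hj))
  refine ⟨W, h1, h3, ?_⟩
  rw [h4]
  simp only [Multiset.map_add, Multiset.map_replicate, Multiset.sum_add, Multiset.sum_replicate, smul_eq_mul,
    if_true, Bool.false_eq_true, if_false]
  rw [mul_comm j c]
  omega

/-- An involution in characteristic two. -/
theorem fixed_char_two (hB : SpCount.IsAltND B) (h2 : (2 : F) = 0) (hiso : ∀ u v, B (g u) (g v) = B u v)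
    (hgg : g * g = 1) (hNN : (g - 1) ^ 2 = 0) {d e : ℕ} (hV : finrank F V = 2 * d) (hed : e ≤ d)
    (hde : Odd d ∨ Even e) :
    ∃ W : Submodule F V, ND B W ∧ (∀ x ∈ W, g x ∈ W) ∧ finrank F W = 2 * e := by
  classical
  obtain ⟨A, hA, hAs, hAW⟩ := exists_pieces hB hiso (fun a : ℕ => a) (fun a => a = 2 ∨ a = 4)
    (fun a h => by omega) fun Y hY hYi hne => by
      obtain ⟨P, h1, h3, h4, ⟨k, b⟩, ⟨hk1, hk2, hkt, -⟩, hd⟩ := step_unipotent hB hiso hgg hNN Y hY hYi hne
      dsimp only at hk1 hk2 hkt hd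
      refine ⟨P, h1, h3, h4, finrank F P, ?_, rfl⟩
      cases b
      · simp only [Bool.false_eq_true, if_false] at hd
        omega
      · obtain ⟨t, ht⟩ := hkt rfl
        simp only [if_true] at hd
        omega
  obtain ⟨s, f, rfl⟩ : ∃ s f, A = Multiset.replicate s 2 + Multiset.replicate f 4 := by
    refine ⟨A.count 2, A.count 4, Multiset.ext.mpr fun b => ?_⟩
    by_cases hb : b ∈ A
    · rcases hA b hb with rfl | rfl <;> simp [Multiset.count_replicate]
    · rw [Multiset.count_eq_zero.mpr hb, Multiset.count_add, Multiset.count_replicate, Multiset.count_replicate]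
      split_ifs with h1 h3 h3 <;> subst_vars <;> simp_all
  rw [Multiset.map_id', Multiset.sum_add, Multiset.sum_replicate, Multiset.sum_replicate, smul_eq_mul, smul_eq_mul,
    hV] at hAs
  rw [Nat.even_iff, Nat.odd_iff] at hde
  obtain ⟨s', f', hs', hf', hsum⟩ : ∃ s' f', s' ≤ s ∧ f' ≤ f ∧ s' * 2 + f' * 4 = 2 * e := by
    rcases le_or_gt (e / 2) f with h | h
    · exact ⟨e % 2, e / 2, by omega, h, by omega⟩
    · exact ⟨e - 2 * f, f, by omega, le_rfl, by omega⟩
  obtain ⟨W, h1, h3, h4⟩ := hAW (Multiset.replicate s' 2 + Multiset.replicate f' 4)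
    (add_le_add ((Multiset.replicate_le_replicate _).mpr hs') ((Multiset.replicate_le_replicate _).mpr hf'))
  refine ⟨W, h1, h3, ?_⟩
  rw [h4, Multiset.map_id', Multiset.sum_add, Multiset.sum_replicate, Multiset.sum_replicate, smul_eq_mul,
    smul_eq_mul]
  exact hsum

/-- Collections of pieces and partitions. -/
theorem pieces_sub (n : ℕ) (A : Multiset (ℕ × Bool))
    (hA : ∀ a ∈ A, 1 ≤ a.1 ∧ a.1 ≤ n ∧ (a.2 = true → Even a.1) ∧ (a.2 = false → Odd a.1)) :
    ∃ μ : Multiset ℕ, (∀ b ∈ μ, 0 < b ∧ b ≤ n) ∧ (∀ b, Odd b → Even (μ.count b)) ∧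
      μ.sum = (A.map fun a => if a.2 then a.1 else 2 * a.1).sum ∧
      ∀ ν ≤ μ, (∀ b, Odd b → Even (ν.count b)) →
        ∃ A' ≤ A, (A'.map fun a => if a.2 then a.1 else 2 * a.1).sum = ν.sum := by
  classical
  induction A using Multiset.induction_on with
  | empty => exact ⟨0, by simp, by simp, by simp, fun ν hν _ => ⟨0, le_rfl, by simp [Multiset.le_zero.mp hν]⟩⟩
  | cons a A ih =>
    obtain ⟨μ, h1, h2, h3, h4⟩ := ih fun b hb => hA b (Multiset.mem_cons_of_mem hb)
    obtain ⟨k, b⟩ := a
    obtain ⟨hk1, hk2, hkt, hkf⟩ := hA (k, b) (Multiset.mem_cons_self _ _)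
    cases b
    · have ho : Odd k := hkf rfl
      refine ⟨k ::ₘ k ::ₘ μ, fun x hx => ?_, fun x hx => ?_, by simp [h3]; ring, fun ν hν hev => ?_⟩
      · rcases Multiset.mem_cons.mp hx with rfl | hx
        · exact ⟨hk1, hk2⟩
        rcases Multiset.mem_cons.mp hx with rfl | hx
        · exact ⟨hk1, hk2⟩
        exact h1 x hx
      · rcases eq_or_ne x k with rfl | hxk
        · rw [Multiset.count_cons_self, Multiset.count_cons_self]
          obtain ⟨t, ht⟩ := h2 x hx
          exact ⟨t + 1, by omega⟩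
        · rw [Multiset.count_cons_of_ne hxk, Multiset.count_cons_of_ne hxk]
          exact h2 x hx
      · by_cases hm : k ∈ ν
        · obtain ⟨ν₁, rfl⟩ := Multiset.exists_cons_of_mem hm
          have hm' : k ∈ ν₁ := by
            have := hev k ho
            rw [Multiset.count_cons_self] at this
            refine Multiset.count_pos.mp (Nat.pos_of_ne_zero fun h0 => ?_)
            rw [h0] at this
            exact Nat.not_even_one this
          obtain ⟨ν₂, rfl⟩ := Multiset.exists_cons_of_mem hm'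
          obtain ⟨A', hle, hA'⟩ := h4 ν₂ ((Multiset.cons_le_cons_iff k).mp ((Multiset.cons_le_cons_iff k).mp hν))
            fun x hx => by
              have := hev x hx
              rcases eq_or_ne x k with rfl | hxk
              · rw [Multiset.count_cons_self, Multiset.count_cons_self] at this
                rw [Nat.even_iff] at this ⊢
                omega
              · rwa [Multiset.count_cons_of_ne hxk, Multiset.count_cons_of_ne hxk] at this
          exact ⟨(k, false) ::ₘ A', Multiset.cons_le_cons _ hle, by simp [hA']; ring⟩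
        · obtain ⟨A', hle, hA'⟩ := h4 ν
            ((Multiset.le_cons_of_notMem hm).mp ((Multiset.le_cons_of_notMem hm).mp hν)) hev
          exact ⟨A', hle.trans (Multiset.le_cons_self _ _), hA'⟩
    · have he : Even k := hkt rfl
      refine ⟨k ::ₘ μ, fun x hx => ?_, fun x hx => ?_, by simp [h3], fun ν hν hev => ?_⟩
      · rcases Multiset.mem_cons.mp hx with rfl | hx
        · exact ⟨hk1, hk2⟩
        exact h1 x hx
      · rw [Multiset.count_cons_of_ne (show x ≠ k by rintro rfl; exact Nat.not_even_iff_odd.mpr hx he)]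
        exact h2 x hx
      · by_cases hm : k ∈ ν
        · obtain ⟨ν₁, rfl⟩ := Multiset.exists_cons_of_mem hm
          obtain ⟨A', hle, hA'⟩ := h4 ν₁ ((Multiset.cons_le_cons_iff k).mp hν) fun x hx => by
            have := hev x hx
            rwa [Multiset.count_cons_of_ne (show x ≠ k by rintro rfl; exact Nat.not_even_iff_odd.mpr hx he)] at this
          exact ⟨(k, true) ::ₘ A', Multiset.cons_le_cons _ hle, by simp [hA']⟩
        · obtain ⟨A', hle, hA'⟩ := h4 ν ((Multiset.le_cons_of_notMem hm).mp hν) hev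
          exact ⟨A', hle.trans (Multiset.le_cons_self _ _), hA'⟩

/-- A unipotent isometry in odd characteristic. -/
theorem fixed_unipotent (hB : SpCount.IsAltND B) (h2 : (2 : F) ≠ 0) (hiso : ∀ u v, B (g u) (g v) = B u v) {n : ℕ}
    (hn : 1 ≤ n) (hgn : g ^ n = 1) (hN : (g - 1) ^ n = 0) {m : ℕ}
    (hP : ∀ μ : Multiset ℕ, (∀ a ∈ μ, 0 < a ∧ a ≤ n) → (∀ a, Odd a → Even (μ.count a)) → μ.sum = finrank F V →
      ∃ ν ≤ μ, ν.sum = m ∧ ∀ a, Odd a → Even (ν.count a)) :
    ∃ W : Submodule F V, ND B W ∧ (∀ x ∈ W, g x ∈ W) ∧ finrank F W = m := by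
  obtain ⟨A, hA, hAs, hAW⟩ := exists_pieces hB hiso (fun a : ℕ × Bool => if a.2 then a.1 else 2 * a.1)
    (fun a => 1 ≤ a.1 ∧ a.1 ≤ n ∧ (a.2 = true → Even a.1) ∧ (a.2 = false → Odd a.1 ∨ (2 : F) = 0))
    (fun a h => by obtain ⟨k, b⟩ := a; cases b <;> simp at h ⊢ <;> omega)
    (step_unipotent hB hiso (g' := g ^ (n - 1)) (by rw [← pow_succ', Nat.sub_add_cancel hn, hgn]) hN)
  obtain ⟨μ, h1, h3, h4, h5⟩ := pieces_sub n A fun a ha =>
    ⟨(hA a ha).1, (hA a ha).2.1, (hA a ha).2.2.1, fun hb => ((hA a ha).2.2.2 hb).resolve_right h2⟩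
  obtain ⟨ν, hν, hνs, hνe⟩ := hP μ h1 h3 (h4.trans hAs)
  obtain ⟨A', hle, hA'⟩ := h5 ν hν hνe
  obtain ⟨W, hW1, hW2, hW3⟩ := hAW A' hle
  exact ⟨W, hW1, hW2, by rw [hW3, hA', hνs]⟩

end Cfsg.Agent.Classical.Elusive.SpNd
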