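import Cfsg.Agent.Lib.Classical.Elusive.SpPieces

/-!
# The number of nondegenerate subspaces of an alternating space and its prime divisors
-/

set_option autoImplicit false

universe u

namespace Cfsg.Agent.Classical.Elusive.SpNd

open Module
open Cfsg.Agent.Classical (SpCount.IsAltND)

variable {F : Type u} [Field F] [Fintype F]

theorem card_fam_part : ∀ (a D : ℕ) {V : Type u} [AddCommGroup V] [Module F V] [FiniteDimensional F V]
    {B : V →ₗ[F] V →ₗ[F] F}, SpCount.IsAltND B → finrank F V = 2 * D →
    Nat.card (SpCount.SpFam B a) = ∏ l ∈ Finset.range a,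
      ((Fintype.card F ^ (2 * (D - l)) - 1) * Fintype.card F ^ (2 * (D - l) - 1)) := by
  intro a
  induction a with
  | zero =>
    intro D V _ _ _ B _ _
    haveI : Unique (SpCount.SpFam B 0) :=
      ⟨⟨⟨fun i => i.elim Fin.elim0 Fin.elim0, fun i => i.elim Fin.elim0 Fin.elim0⟩⟩,
        fun f => Subtype.ext (funext fun i => i.elim (fun x => x.elim0) fun x => x.elim0)⟩
    rw [Nat.card_unique, Finset.prod_range_zero]
  | succ a ih =>
    intro D V _ _ _ B hB hV
    classical
    haveI : Finite V := Module.finite_of_finite F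
    letI := Fintype.ofFinite {p : V × V // SpCount.IsHPair B p}
    haveI : ∀ p : {p : V × V // SpCount.IsHPair B p}, Finite (SpCount.SpFam (SpCount.res B p.1) a) := fun p =>
      Finite.of_injective (fun f => (f.1 : _ → SpCount.comp B p.1)) Subtype.val_injective
    rw [Nat.card_congr (SpCount.famEquiv hB a), Nat.card_sigma,
      Finset.sum_congr rfl fun p _ => ih (D - 1) (SpCount.res_isAltND hB p.2)
        (by have := SpCount.finrank_comp hB p.2; omega),
      Finset.sum_const, smul_eq_mul, Finset.card_univ, ← Nat.card_eq_fintype_card, SpCount.card_pairs hB, hV,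
      Finset.prod_range_succ', Nat.sub_zero, mul_comm]
    congr 1
    exact Finset.prod_congr rfl fun l _ => by rw [show D - 1 - l = D - (l + 1) by omega]

variable {p : ℕ} [Fact p.Prime] [CharP F p] {V : Type u} [AddCommGroup V] [Module F V] [FiniteDimensional F V]
  {B : LinearMap.BilinForm F V}

theorem prime_dvd_nondeg (hB : SpCount.IsAltND B) {D a r : ℕ} (hV : finrank F V = 2 * D) (hr : r.Prime) (hrp : r ≠ p)
    (hdvd : r ∣ Nat.card {W : Submodule F V // finrank F W = 2 * a ∧ ND B W}) :
    ∃ l < a, r ∣ Fintype.card F ^ (2 * (D - l)) - 1 := by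
  classical
  haveI : Finite V := Module.finite_of_finite F
  have hspan : ∀ f : SpCount.SpFam B a, finrank F (Submodule.span F (Set.range f.1)) = 2 * a ∧
      ND B (Submodule.span F (Set.range f.1)) := by
    intro f
    obtain ⟨h1, h2⟩ := range_facts (B := B) (Fintype.linearCombination F f.1) fun c hc => by
      have h : Matrix.vecMul c (Matrix.J (Fin a) F) = 0 := funext fun j => by
        have := hc (Pi.single j 1)
        rw [Fintype.linearCombination_apply_single, one_smul, Fintype.linearCombination_apply, map_sum,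
          LinearMap.sum_apply] at this
        simpa [Matrix.vecMul, dotProduct, f.2] using this
      exact Matrix.vecMul_injective_iff_isUnit.2
        ((Matrix.isUnit_iff_isUnit_det _).2 (Matrix.isUnit_det_J (Fin a) F)) (h.trans (Matrix.zero_vecMul _).symm)
    rw [Fintype.range_linearCombination] at h1 h2
    exact ⟨by rw [h2]; simp [two_mul], h1⟩
  let π : SpCount.SpFam B a → {W : Submodule F V // finrank F W = 2 * a ∧ ND B W} :=
    fun f => ⟨Submodule.span F (Set.range f.1), hspan f⟩
  let e : ∀ W : {W : Submodule F V // finrank F W = 2 * a ∧ ND B W},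
      {f : SpCount.SpFam B a // π f = W} ≃ SpCount.SpFam (B.restrict W.1) a := fun W =>
    { toFun := fun f => ⟨fun i => ⟨f.1.1 i, by
        have hW : Submodule.span F (Set.range f.1.1) = W.1 := congrArg Subtype.val f.2
        exact hW.le (Submodule.subset_span ⟨i, rfl⟩)⟩, fun i j => f.1.2 i j⟩
      invFun := fun h => ⟨⟨fun i => (h.1 i : V), fun i j => h.2 i j⟩, Subtype.ext (by
        refine Submodule.eq_of_le_of_finrank_eq ?_ ?_
        · rw [Submodule.span_le]
          rintro _ ⟨i, rfl⟩
          exact (h.1 i).2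
        · exact (hspan ⟨fun i => (h.1 i : V), fun i j => h.2 i j⟩).1.trans W.2.1.symm)⟩
      left_inv := fun f => Subtype.ext (Subtype.ext rfl)
      right_inv := fun h => Subtype.ext rfl }
  haveI : Finite (SpCount.SpFam B a) := Finite.of_injective (fun f => (f.1 : _ → V)) Subtype.val_injective
  haveI : Finite (Submodule F V) := Finite.of_injective (fun W => (W : Set V)) SetLike.coe_injective
  letI := Fintype.ofFinite {W : Submodule F V // finrank F W = 2 * a ∧ ND B W}
  have key : Nat.card (SpCount.SpFam B a) = Nat.card {W : Submodule F V // finrank F W = 2 * a ∧ ND B W} *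
      ∏ l ∈ Finset.range a, ((Fintype.card F ^ (2 * (a - l)) - 1) * Fintype.card F ^ (2 * (a - l) - 1)) := by
    rw [← Nat.card_congr (Equiv.sigmaFiberEquiv π), Nat.card_sigma, Finset.sum_congr rfl fun W _ =>
      (Nat.card_congr (e W)).trans (card_fam_part a a (alt_restrict hB W.2.2) W.2.1), Finset.sum_const, smul_eq_mul,
      Finset.card_univ, Nat.card_eq_fintype_card]
  rw [card_fam_part a D hB hV] at key
  obtain ⟨l, hl, hrl⟩ := (hr.prime.dvd_finsetProd_iff _).mp (key ▸ dvd_mul_of_dvd_left hdvd _)
  refine ⟨l, Finset.mem_range.mp hl, (hr.dvd_mul.mp hrl).resolve_right fun h => hrp ?_⟩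
  obtain ⟨e, -, he⟩ := FiniteField.card F p
  rw [he] at h
  exact (Nat.prime_dvd_prime_iff_eq hr (Fact.out : p.Prime)).mp (hr.dvd_of_dvd_pow (hr.dvd_of_dvd_pow h))

end Cfsg.Agent.Classical.Elusive.SpNd
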