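import Cfsg.Agent.Lib.Classical.Elusive.OrthSimFix
import Cfsg.Agent.Lib.Classical.Subfield
import Cfsg.Agent.Lib.Classical.FormPower
import Cfsg.Agent.Lib.Small.NilpotentCommutantGroups

/-!
# Semisimple prime order elements and subfield subgroups of `GL_n`
-/

set_option autoImplicit false
set_option linter.unusedSectionVars false
set_option linter.style.haveILetI false
set_option maxHeartbeats 400000

namespace Cfsg.Agent.Classical.Elusive.SubGL

open Matrix Polynomial Module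

universe u

variable {F : Type u} [Field F] [Fintype F] {n : ℕ} {F₀ : Subfield F} {k q₀ : ℕ}

theorem exists_frob {p : ℕ} [Fact p.Prime] [CharP F p] (F₀ : Subfield F) (hF₀ : Nat.card ↥F₀ = q₀) :
    ∃ b, q₀ = p ^ b ∧ ∃ σ : F →+* F, (∀ a, σ a = a ^ q₀) ∧ ∀ a, σ a = a ↔ a ∈ F₀ := by
  obtain ⟨⟨e, he⟩, hp, hcard⟩ := FiniteField.card F p
  obtain ⟨b, -, -, hb, hiff⟩ := Classical.subfield_card_eq hp hcard F₀
  haveI : ExpChar F p := ExpChar.prime hp
  rw [hF₀] at hb
  refine ⟨b, hb, iterateFrobenius F p b, fun a => by rw [iterateFrobenius_def, hb], fun a => ?_⟩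
  rw [iterateFrobenius_def, hiff]

/-- A conjugate in the subfield group gives a scalar multiple with a rational characteristic polynomial. -/
theorem charpoly_fixed_of_mem {σ : F →+* F} (hfix : ∀ a, σ a = a ↔ a ∈ F₀)
    {x P : Matrix.SpecialLinearGroup (Fin n) F}
    (h : P⁻¹ * x * P ∈ (Cfsg.Geo.subfieldSubgroup F₀ 1).comap
      (Matrix.SpecialLinearGroup.toGL : Matrix.SpecialLinearGroup (Fin n) F →* GL (Fin n) F)) :
    ∃ μ : F, μ ≠ 0 ∧ ((μ • x.1).charpoly).map σ = (μ • x.1).charpoly := by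
  haveI : (Cfsg.Geo.scalars (Fin n) F).Normal :=
    ⟨fun z hz g => by rw [← Classical.scalars_commute hz g, mul_inv_cancel_right]; exact hz⟩
  rw [Subgroup.mem_comap, map_mul, map_mul, map_inv, Classical.mem_subfieldSubgroup, inv_one, one_mul, mul_one,
    Subgroup.mem_sup_of_normal_right] at h
  obtain ⟨A, hA, s, hs, he⟩ := h
  obtain ⟨z, hz⟩ := (Cfsg.Geo.mem_scalars_iff s).mp hs
  have hAe := Classical.range_map_subfield_entries hA
  obtain ⟨G, hG⟩ : ∃ G, G = Matrix.SpecialLinearGroup.toGL P := ⟨_, rfl⟩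
  rw [← hG] at he
  have h1 : (↑G⁻¹ : Matrix (Fin n) (Fin n) F) * x.1 * G.1 = (z : F) • A.1 := by
    have e := congrArg (fun g : GL (Fin n) F => g.1) he
    simp only [Units.val_mul, hz, Matrix.mul_smul, Matrix.mul_one] at e
    exact e.symm
  have h2 : (z : F)⁻¹ • x.1 = G.1 * A.1 * (↑G⁻¹ : Matrix (Fin n) (Fin n) F) := by
    have e : x.1 = G.1 * ((z : F) • A.1) * (↑G⁻¹ : Matrix (Fin n) (Fin n) F) := by
      rw [← h1]
      simp only [← mul_assoc, Units.mul_inv, one_mul]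
      rw [mul_assoc, Units.mul_inv, mul_one]
    rw [e, Matrix.mul_smul, Matrix.smul_mul, smul_smul, inv_mul_cancel₀ z.ne_zero, one_smul]
  refine ⟨(z : F)⁻¹, inv_ne_zero z.ne_zero, ?_⟩
  rw [h2, Matrix.coe_units_inv G, Matrix.charpoly_units_conj, ← Matrix.charpoly_map]
  congr 1
  ext i j
  exact (hfix _).mpr (hAe i j)

/-- A scalar multiple with a rational characteristic polynomial gives a conjugate in the subfield group. -/
theorem fix_of_charpoly {p : ℕ} [Fact p.Prime] [CharP F p] {σ : F →+* F} (hfix : ∀ a, σ a = a ↔ a ∈ F₀) {r : ℕ}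
    [Fact r.Prime] (hrp : r ≠ p) (x : Matrix.SpecialLinearGroup (Fin n) F) {z : F} (hz : x.1 ^ r = z • 1) {μ : F}
    (hμ : μ ≠ 0) (hμx : ((μ • x.1).charpoly).map σ = (μ • x.1).charpoly) :
    ∃ P : Matrix.SpecialLinearGroup (Fin n) F, P⁻¹ * x * P ∈ (Cfsg.Geo.subfieldSubgroup F₀ 1).comap
      (Matrix.SpecialLinearGroup.toGL : Matrix.SpecialLinearGroup (Fin n) F →* GL (Fin n) F) := by
  classical
  rcases Nat.eq_zero_or_pos n with rfl | hn0
  · exact ⟨x, by rw [show x⁻¹ * x * x = 1 from Subsingleton.elim _ _]; exact one_mem _⟩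
  haveI : Nonempty (Fin n) := ⟨⟨0, hn0⟩⟩
  have hz0 : z ≠ 0 := fun h => by
    have := congrArg Matrix.det hz
    rw [Matrix.det_pow, x.2, one_pow, h, zero_smul, Matrix.det_zero] at this
    exact one_ne_zero this
  haveI : Fintype ↥F₀ := Fintype.ofFinite _
  haveI : CharP ↥F₀ p := RingHom.charP F₀.subtype Subtype.val_injective p
  obtain ⟨P₀, hP₀⟩ : ∃ P₀ : (↥F₀)[X], P₀.map F₀.subtype = (μ • x.1).charpoly := by
    rw [← Polynomial.mem_lifts, Polynomial.lifts_iff_coeff_lifts]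
    intro i
    have := congrArg (fun Q => Q.coeff i) hμx
    simp only [coeff_map] at this
    exact ⟨⟨_, (hfix _).mp this⟩, rfl⟩
  have hm : P₀.Monic := monic_of_injective F₀.subtype.injective (by rw [hP₀]; exact Matrix.charpoly_monic _)
  have hd : P₀.natDegree = n := by
    rw [← natDegree_map F₀.subtype, hP₀, Matrix.charpoly_natDegree_eq_dim, Fintype.card_fin]
  obtain ⟨A, hA⟩ := Small.Semisimple.exists_matrix P₀ hm hd
  obtain ⟨y, hy⟩ : ∃ y : GL (Fin n) F, y.1 = μ • x.1 := ⟨Matrix.GeneralLinearGroup.mkOfDetNeZero (μ • x.1) (by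
    rw [Matrix.det_smul, x.2, mul_one]; exact pow_ne_zero _ hμ), rfl⟩
  have hA0 : A.det ≠ 0 := fun h => by
    have h1 := Matrix.det_eq_sign_charpoly_coeff A
    have h2 := Matrix.det_eq_sign_charpoly_coeff y.1
    rw [hy, ← hP₀, coeff_map] at h2
    rw [hA, h] at h1
    have h3 : P₀.coeff 0 = 0 := (mul_eq_zero.mp h1.symm).resolve_left (pow_ne_zero _ (neg_ne_zero.mpr one_ne_zero))
    rw [h3, map_zero, mul_zero, Matrix.det_smul, x.2, mul_one] at h2
    exact pow_ne_zero _ hμ h2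
  obtain ⟨m, hm'⟩ := Small.Semisimple.exists_pow_coprime (F := ↥F₀) p (Matrix.GeneralLinearGroup.mkOfDetNeZero A hA0)
  obtain ⟨A', hA'⟩ : ∃ A', A' = Matrix.GeneralLinearGroup.mkOfDetNeZero A hA0 ^ Fintype.card ↥F₀ ^ m := ⟨_, rfl⟩
  rw [← hA'] at hm'
  obtain ⟨B, hB⟩ : ∃ B : GL (Fin n) F, B = Matrix.GeneralLinearGroup.map (F₀.subtype : ↥F₀ →+* F) A' := ⟨_, rfl⟩
  have hBo : (orderOf B).Coprime p := Nat.Coprime.coprime_dvd_left (hB ▸ orderOf_map_dvd _ _) hm'
  have hyo : (orderOf y).Coprime p := by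
    have hq1 : (Fintype.card F - 1).Coprime p := by
      obtain ⟨f, -, hf⟩ := FiniteField.card F p
      refine ((Fact.out : p.Prime).coprime_iff_not_dvd.mpr fun h => ?_).symm
      have h1 : p ∣ Fintype.card F := hf ▸ dvd_pow_self p f.ne_zero
      have h2 := Nat.dvd_sub h1 h
      rw [Nat.sub_sub_self Fintype.card_pos] at h2
      exact (Fact.out : p.Prime).one_lt.ne' (Nat.dvd_one.mp h2)
    have hrc : r.Coprime p := (Nat.coprime_primes Fact.out Fact.out).mpr hrp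
    refine Nat.Coprime.coprime_dvd_left (orderOf_dvd_of_pow_eq_one (n := r * (Fintype.card F - 1)) (Units.ext ?_))
      (hrc.mul_left hq1)
    rw [Units.val_pow_eq_pow_val, hy, pow_mul, _root_.smul_pow, hz, smul_smul, _root_.smul_pow, one_pow,
      FiniteField.pow_card_sub_one_eq_one _ (mul_ne_zero (pow_ne_zero _ hμ) hz0), one_smul, Units.val_one]
  have hc : (y : Matrix (Fin n) (Fin n) F).charpoly = (B : Matrix (Fin n) (Fin n) F).charpoly := by
    rw [hy, ← hP₀, hB]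
    show _ = ((A' : Matrix (Fin n) (Fin n) ↥F₀).map (F₀.subtype : ↥F₀ →+* F)).charpoly
    rw [Matrix.charpoly_map, hA', Units.val_pow_eq_pow_val, Matrix.GeneralLinearGroup.val_mkOfDetNeZero,
      Small.Semisimple.charpoly_pow_card_pow, hA]
  obtain ⟨c, hcy⟩ := isConj_iff.mp (Small.Semisimple.isConj_of_charpoly p y B hyo hBo hc)
  obtain ⟨h, hh, hhd⟩ := Small.Semisimple.exists_centralizing_det p B c hBo
  obtain ⟨g, hg⟩ : ∃ g, g = c⁻¹ * h := ⟨_, rfl⟩
  have hgd : g.1.det = 1 := by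
    rw [hg, Units.val_mul, Matrix.det_mul, hhd, ← Matrix.det_mul, ← Units.val_mul, inv_mul_cancel, Units.val_one,
      Matrix.det_one]
  obtain ⟨P, hP⟩ : ∃ P : Matrix.SpecialLinearGroup (Fin n) F, P.1 = g.1 := ⟨⟨g.1, hgd⟩, rfl⟩
  refine ⟨P, ?_⟩
  rw [Subgroup.mem_comap, map_mul, map_mul, map_inv,
    show Matrix.SpecialLinearGroup.toGL P = g from Units.ext hP]
  refine Classical.mem_subfieldSubgroup_of_scaled (ν := μ) hμ fun i j => ?_
  rw [inv_one, one_mul, mul_one]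
  have e : g⁻¹ * y * g = B := by
    rw [hg, _root_.mul_inv_rev, inv_inv,
      show h⁻¹ * c * y * (c⁻¹ * h) = h⁻¹ * (c * y * c⁻¹) * h by group, hcy, mul_assoc, ← hh, ← mul_assoc,
      inv_mul_cancel, one_mul]
  have e2 : μ • ((g⁻¹ * Matrix.SpecialLinearGroup.toGL x * g : GL (Fin n) F) : Matrix (Fin n) (Fin n) F) = B.1 := by
    rw [← e, Units.val_mul, Units.val_mul, Units.val_mul, Units.val_mul, hy, Matrix.mul_smul, Matrix.smul_mul]
    rfl
  rw [← smul_eq_mul, ← Matrix.smul_apply, e2]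
  exact Classical.range_map_subfield_entries (F₀ := F₀) ⟨A', hB.symm⟩ i j

/-- Which cyclotomic degrees occur when the prime divides the index. -/
theorem index_dvd (hn : 0 < n) (hk : k ≠ 0) (hF₀ : Nat.card ↥F₀ = q₀) (hqk : Fintype.card F = q₀ ^ k) {r : ℕ}
    (hr : r.Prime) (hrq : ¬ r ∣ q₀) (hrk : ¬ r ∣ k)
    (hΩ : r ∣ ((Cfsg.Geo.subfieldSubgroup F₀ 1).comap
      (Matrix.SpecialLinearGroup.toGL : Matrix.SpecialLinearGroup (Fin n) F →* GL (Fin n) F)).index) :
    ∃ i, 2 ≤ i ∧ i ≤ n ∧ r ∣ Fintype.card F ^ i - 1 ∧ ¬ r ∣ q₀ ^ i - 1 := by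
  classical
  haveI := Fintype.ofFinite ↥F₀
  have hq₀1 : 1 < q₀ := by rw [← hF₀, Nat.card_eq_fintype_card]; exact Fintype.one_lt_card
  obtain ⟨H, hH⟩ : ∃ H, H = (Cfsg.Geo.subfieldSubgroup F₀ (1 : GL (Fin n) F)).comap
      (Matrix.SpecialLinearGroup.toGL : Matrix.SpecialLinearGroup (Fin n) F →* GL (Fin n) F) := ⟨_, rfl⟩
  rw [← hH] at hΩ
  let φ := Matrix.SpecialLinearGroup.map (n := Fin n) (F₀.subtype : F₀ →+* F)
  have hle : φ.range ≤ H := by
    rintro _ ⟨g, rfl⟩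
    rw [hH, Subgroup.mem_comap]
    refine Classical.mem_subfieldSubgroup_of_scaled (ν := 1) one_ne_zero fun i j => ?_
    rw [one_mul, inv_one, one_mul, mul_one]
    exact ((g : Matrix (Fin n) (Fin n) F₀) i j).2
  have hinj : Function.Injective φ := fun g g' h => Subtype.ext (Matrix.ext fun i j => Subtype.ext
    (congrFun (congrFun (congrArg Subtype.val h) i) j))
  have hdvd : r ∣ φ.range.index := hΩ.trans (Subgroup.index_dvd_of_le hle)
  have hmul := φ.range.card_mul_index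
  rw [Nat.card_congr (MonoidHom.ofInjective hinj).toEquiv.symm] at hmul
  have hS := Cfsg.Agent.Small.NilCommutant.card_SL_mul (F := F) hn
  have hS₀ := Cfsg.Agent.Small.NilCommutant.card_SL_mul (F := F₀) hn
  have hcard₀ : Fintype.card ↥F₀ = q₀ := by rw [← hF₀, Nat.card_eq_fintype_card]
  rw [prod_pow_sub (F := F) n n le_rfl, Finset.prod_pow_eq_pow_sum,
    Fin.prod_univ_eq_prod_range (fun j => Fintype.card F ^ (n - j) - 1) n, ← Finset.prod_range_reflect, hqk,
    ← pow_mul, ← hmul] at hS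
  rw [prod_pow_sub (F := ↥F₀) n n le_rfl, Finset.prod_pow_eq_pow_sum,
    Fin.prod_univ_eq_prod_range (fun j => Fintype.card ↥F₀ ^ (n - j) - 1) n, ← Finset.prod_range_reflect, hcard₀] at hS₀
  obtain ⟨j, rfl⟩ : ∃ j, n = j + 1 := ⟨n - 1, by omega⟩
  have hre : ∀ (g : ℕ → ℕ), ∏ i ∈ Finset.range (j + 1), g (j + 1 - (j + 1 - 1 - i)) =
      g 1 * ∏ i ∈ Finset.range j, g (i + 2) := fun g => by
    rw [Finset.prod_range_succ', mul_comm]
    congr 1
    · congr 1; omega
    · refine Finset.prod_congr rfl fun i hi => ?_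
      rw [Finset.mem_range] at hi
      congr 1; omega
  rw [hre (fun l => (q₀ ^ k) ^ l - 1), pow_one] at hS
  rw [hre (fun l => q₀ ^ l - 1), pow_one] at hS₀
  obtain ⟨G, hG⟩ : ∃ G : ℕ → ℕ, ∀ l, G l = ∑ t ∈ Finset.range k, (q₀ ^ l) ^ t := ⟨_, fun l => rfl⟩
  have hgeom : ∀ l, (q₀ ^ k) ^ l - 1 = (q₀ ^ l - 1) * G l := fun l => by
    rw [hG, ← pow_mul, mul_comm k, pow_mul, mul_comm (q₀ ^ l - 1)]
    exact (geom_sum_mul_of_one_le (Nat.one_le_pow _ _ (by omega)) k).symm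
  obtain ⟨N, hN⟩ : ∃ N, N = ∑ i : Fin (j + 1), (i : ℕ) := ⟨_, rfl⟩
  rw [← hN] at hS hS₀
  obtain ⟨E, hE⟩ : ∃ E, E = ∏ i ∈ Finset.range j, (q₀ ^ (i + 2) - 1) := ⟨_, rfl⟩
  have hpos : 0 < E := hE ▸ Finset.prod_pos fun i _ => Nat.sub_pos_of_lt (Nat.one_lt_pow (by omega) hq₀1)
  rw [← hE] at hS₀
  have hS1 : Nat.card (Matrix.SpecialLinearGroup (Fin (j + 1)) ↥F₀) = q₀ ^ N * E :=
    Nat.eq_of_mul_eq_mul_right (show 0 < q₀ - 1 by omega) (by rw [hS₀]; ring)
  have hS2 : φ.range.index * q₀ ^ N = q₀ ^ (k * N) * ∏ i ∈ Finset.range j, G (i + 2) := by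
    refine Nat.eq_of_mul_eq_mul_right (Nat.mul_pos hpos (show 0 < q₀ ^ k - 1 from Nat.sub_pos_of_lt (Nat.one_lt_pow hk hq₀1))) ?_
    calc _ = Nat.card (Matrix.SpecialLinearGroup (Fin (j + 1)) ↥F₀) * φ.range.index * (q₀ ^ k - 1) := by
          rw [hS1]; ring
      _ = _ := by
          rw [hS, Finset.prod_congr rfl fun i _ => hgeom (i + 2), Finset.prod_mul_distrib, hE]
          ring
  have h1 : r ∣ q₀ ^ (k * N) * ∏ i ∈ Finset.range j, G (i + 2) := hS2 ▸ hdvd.mul_right _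
  rcases hr.dvd_mul.mp h1 with h | h
  · exact absurd (hr.dvd_of_dvd_pow h) hrq
  obtain ⟨i, hi, h3⟩ := (hr.prime.dvd_finsetProd_iff _).mp h
  rw [Finset.mem_range] at hi
  refine ⟨i + 2, by omega, by omega, by rw [hqk, hgeom]; exact h3.mul_left _, fun h4 => hrk ?_⟩
  haveI : Fact r.Prime := ⟨hr⟩
  rw [← ZMod.natCast_eq_zero_iff, Nat.cast_sub (Nat.one_le_pow _ _ (by omega)), Nat.cast_pow, Nat.cast_one,
    sub_eq_zero] at h4
  rw [← ZMod.natCast_eq_zero_iff, hG] at h3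
  rw [← ZMod.natCast_eq_zero_iff]
  push_cast at h3
  rw [h4] at h3
  simpa using h3

/-- An element with no rational scalar multiple. -/
def IsDer (σ : F →+* F) (n r : ℕ) : Prop :=
  ∃ x : Matrix.SpecialLinearGroup (Fin n) F,
    (∃ z : F, x.1 ^ r = z • 1) ∧ (∀ z : F, x.1 ≠ z • 1) ∧
    ∀ μ : F, μ ≠ 0 → ((μ • x.1).charpoly).map σ ≠ (μ • x.1).charpoly

theorem charpoly_diagonal_eq (d : Fin n → F) : (Matrix.diagonal d).charpoly = ∏ i, (X - C (d i)) := by
  rw [Matrix.charpoly, Matrix.charmatrix, show (Matrix.scalar (Fin n)) X - C.mapMatrix (Matrix.diagonal d) =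
      Matrix.diagonal (fun i => X - C (d i)) by
    rw [Matrix.scalar_apply, RingHom.mapMatrix_apply, Matrix.diagonal_map (map_zero C), Matrix.diagonal_sub],
    Matrix.det_diagonal]

theorem perm_of_fixed {σ : F →+* F} (v : Fin n → F)
    (h : ((Matrix.diagonal v).charpoly).map σ = (Matrix.diagonal v).charpoly) :
    ∃ π : Equiv.Perm (Fin n), ∀ i, v (π i) = σ (v i) := by
  classical
  rw [charpoly_diagonal_eq, Polynomial.map_prod, Finset.prod_congr rfl (fun i _ => show (X - C (v i)).map σ = X - C (σ (v i)) by simp)] at h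
  have h' := congrArg Polynomial.roots h
  rw [Polynomial.roots_prod (fun i => X - C (σ (v i))) Finset.univ (Finset.prod_ne_zero_iff.mpr fun i _ => X_sub_C_ne_zero _),
    Polynomial.roots_prod (fun i => X - C (v i)) Finset.univ (Finset.prod_ne_zero_iff.mpr fun i _ => X_sub_C_ne_zero _)] at h'
  simp only [roots_X_sub_C, Multiset.bind_singleton] at h'
  refine USim.perm_of_counts v (fun i => σ (v i)) fun a => ?_
  have h2 := congrArg (Multiset.count a) h'
  rw [Multiset.count_map, Multiset.count_map] at h2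
  simp only [eq_comm (a := a)] at h2
  exact h2

/-- A diagonal element with exponents not permuted by an affine map. -/
theorem der_diag {σ : F →+* F} (hσ : ∀ a, σ a = a ^ q₀) {r : ℕ} [Fact r.Prime] {ζ : F} (hζ : IsPrimitiveRoot ζ r)
    (e : Fin n → ZMod r) (l : F) (hl : l ^ n * ζ ^ (∑ i, e i).val = 1) (he : ∃ i j, e i ≠ e j)
    (hno : ∀ (a : ZMod r) (π : Equiv.Perm (Fin n)), ∃ i, e (π i) ≠ (q₀ : ZMod r) * e i + a) : IsDer σ n r := by
  classical
  haveI : NeZero r := ⟨(Fact.out : r.Prime).ne_zero⟩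
  obtain ⟨χ, hχ⟩ : ∃ χ : AddChar (ZMod r) F, ∀ a, χ a = ζ ^ a.val :=
    ⟨AddChar.zmodChar r hζ.pow_eq_one, fun a => AddChar.zmodChar_apply _ _⟩
  have hinj : ∀ a b, χ a = χ b → a = b := fun a b h => by
    rw [hχ, hχ] at h
    exact ZMod.val_injective r (hζ.pow_inj (ZMod.val_lt a) (ZMod.val_lt b) h)
  have hl0 : l ≠ 0 := fun h => by
    obtain ⟨i, -⟩ := he
    rw [h, zero_pow (Nat.pos_iff_ne_zero.mp (Fin.pos i)), zero_mul] at hl
    exact zero_ne_one hl
  have hχs : ∀ s : Finset (Fin n), χ (∑ i ∈ s, e i) = ∏ i ∈ s, χ (e i) := by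
    intro s
    induction s using Finset.induction_on with
    | empty => simp
    | insert j s hj ih => rw [Finset.sum_insert hj, Finset.prod_insert hj, AddChar.map_add_eq_mul, ih]
  have hdet : (Matrix.diagonal fun i => l * χ (e i)).det = 1 := by
    rw [Matrix.det_diagonal, Finset.prod_mul_distrib, Finset.prod_const, Finset.card_univ, Fintype.card_fin,
      ← hχs, hχ, hl]
  refine ⟨⟨_, hdet⟩, ⟨l ^ r, ?_⟩, fun z hz => ?_, fun μ hμ h => ?_⟩
  · show (Matrix.diagonal fun i => l * χ (e i)) ^ r = _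
    rw [Matrix.diagonal_pow, Matrix.smul_one_eq_diagonal]
    congr 1
    funext i
    rw [Pi.pow_apply, mul_pow, hχ, ← pow_mul, mul_comm _ r, pow_mul, hζ.pow_eq_one, one_pow, mul_one]
  · obtain ⟨i, j, hij⟩ := he
    have hi := congrFun (congrFun hz i) i
    have hj := congrFun (congrFun hz j) j
    simp at hi hj
    exact hij (hinj _ _ (mul_left_cancel₀ hl0 (hi.trans hj.symm)))
  · rw [show (μ • (Matrix.diagonal fun i => l * χ (e i))) = Matrix.diagonal (fun i => μ * l * χ (e i)) by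
      rw [← Matrix.diagonal_smul]; congr 1; funext i; simp [mul_assoc]] at h
    obtain ⟨π, hπ⟩ := perm_of_fixed _ h
    obtain ⟨i₀, -⟩ := he
    have hσ0 : σ (μ * l) ≠ 0 := (map_ne_zero σ).mpr (mul_ne_zero hμ hl0)
    have key : ∀ i, μ * l * χ (e (π i) - (q₀ : ZMod r) * e i) = σ (μ * l) := fun i => by
      have hσχ : σ (χ (e i)) = χ ((q₀ : ZMod r) * e i) := by
        rw [hσ, ← AddChar.map_nsmul_eq_pow, nsmul_eq_mul]
      have h2 := hπ i
      rw [map_mul, hσχ] at h2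
      refine mul_right_cancel₀ (b := χ ((q₀ : ZMod r) * e i)) ?_ ?_
      · rw [hχ]; exact pow_ne_zero _ (hζ.ne_zero (Fact.out : r.Prime).ne_zero)
      · rw [mul_assoc, ← AddChar.map_add_eq_mul, sub_add_cancel, h2]
    obtain ⟨i, hi⟩ := hno (e (π i₀) - (q₀ : ZMod r) * e i₀) π
    refine hi ?_
    have := hinj _ _ (mul_left_cancel₀ (mul_ne_zero hμ hl0) ((key i).trans (key i₀).symm))
    rw [← this]; ring

theorem smul_eigen {K : Type*} [Field K] {X' : Matrix (Fin n) (Fin n) K} {v : Fin n → K} {θ : K} (hv0 : v ≠ 0)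
    (hv : X' *ᵥ v = θ • v) (c : K) : (c • X').charpoly.eval (c * θ) = 0 := by
  rw [Matrix.eval_charpoly]
  refine Matrix.exists_mulVec_eq_zero_iff.mp ⟨v, hv0, ?_⟩
  rw [Matrix.sub_mulVec, Matrix.scalar_apply, ← Matrix.smul_one_eq_diagonal, Matrix.smul_mulVec, Matrix.one_mulVec,
    Matrix.smul_mulVec, hv, smul_smul, sub_self]

/-- A block whose roots are not permuted by the smaller Frobenius. -/
theorem der_block {p : ℕ} [Fact p.Prime] [CharP F p] {σ : F →+* F} {b : ℕ} (hσ : ∀ a, σ a = a ^ q₀) (hb : q₀ = p ^ b)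
    {r : ℕ} [Fact r.Prime] (hrp : r ≠ p) (hi : 2 ≤ orderOf (Fintype.card F : ZMod r))
    (hin : orderOf (Fintype.card F : ZMod r) ≤ n)
    (hno : ∀ j : ℕ, (Fintype.card F : ZMod r) ^ j ≠ (q₀ : ZMod r)) (hq0r : ¬ r ∣ q₀) : IsDer σ n r := by
  classical
  obtain ⟨a, ha⟩ : ∃ a, a + orderOf (Fintype.card F : ZMod r) * 1 = n :=
    ⟨n - orderOf (Fintype.card F : ZMod r), by omega⟩
  obtain ⟨x, hx, φ, hφi, hm, hd, hdiv, hch⟩ := OSimilar.exists_mixed_one (F := F) hrp hi ha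
  rw [pow_one] at hch
  haveI : Fact (Irreducible φ) := ⟨hφi⟩
  obtain ⟨hθr, hord, hfac⟩ := OSimilar.roots_data hm hd hdiv hi
  obtain ⟨θ, hθ⟩ : ∃ θ, θ = AdjoinRoot.root φ := ⟨_, rfl⟩
  rw [← hθ] at hθr hord hfac
  obtain ⟨ι, hι⟩ : ∃ ι : F →+* AdjoinRoot φ, ι = algebraMap F (AdjoinRoot φ) := ⟨_, rfl⟩
  rw [← hι] at hfac
  have hθF : ∀ c : F, θ ≠ ι c := by
    intro c hc
    have h1 : (minpoly F θ).natDegree = 1 := by rw [hc, hι, minpoly.eq_X_sub_C, natDegree_X_sub_C]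
    rw [hθ, AdjoinRoot.minpoly_root hφi.ne_zero, hm.leadingCoeff, inv_one, C_1, mul_one, hd] at h1
    omega
  have hθc : ((x : Matrix (Fin n) (Fin n) F).map ι).charpoly.eval θ = 0 := by
    rw [Matrix.charpoly_map, eval_map, hι, ← aeval_def, hch, map_mul, hθ,
      AdjoinRoot.aeval_eq φ, AdjoinRoot.mk_self, mul_zero]
  obtain ⟨v, hv0, hv⟩ := USim.eigen_of_root hθc
  obtain ⟨l, hl⟩ : ∃ l, v l ≠ 0 := Function.ne_iff.mp hv0
  refine ⟨x, ⟨1, by rw [hx, one_smul]⟩, fun z hz => ?_, fun μ hμ h => ?_⟩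
  · rw [hz, Matrix.map_smul' _ z (1 : Matrix (Fin n) (Fin n) F) (map_mul ι), Matrix.map_one _ (map_zero ι) (map_one ι),
      Matrix.smul_mulVec, Matrix.one_mulVec] at hv
    exact hθF z (mul_right_cancel₀ hl (congrFun hv l)).symm
  haveI : CharP (AdjoinRoot φ) p := charP_of_injective_algebraMap (algebraMap F (AdjoinRoot φ)).injective p
  haveI : ExpChar (AdjoinRoot φ) p := ExpChar.prime Fact.out
  obtain ⟨Φ, hΦ⟩ : ∃ Φ : AdjoinRoot φ →+* AdjoinRoot φ, ∀ w, Φ w = w ^ q₀ :=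
    ⟨iterateFrobenius (AdjoinRoot φ) p b, fun w => by rw [iterateFrobenius_def, ← hb]⟩
  have hcomp : ι.comp σ = Φ.comp ι := RingHom.ext fun c => by simp [hΦ, hσ]
  have hsm : (μ • x.1).map ι = ι μ • x.1.map ι := Matrix.map_smul' _ μ x.1 (map_mul ι)
  have h1 : (((μ • x.1).charpoly).map ι).eval (ι μ * θ) = 0 := by
    rw [← Matrix.charpoly_map, hsm]; exact smul_eigen hv0 hv (ι μ)
  have h2 : (((μ • x.1).charpoly).map ι).eval ((ι μ * θ) ^ q₀) = 0 := by
    rw [← hΦ, ← h, Polynomial.map_map, hcomp, eval_map, ← Polynomial.hom_eval₂, ← eval_map, h1, map_zero]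
  have hμ0 : ι μ ≠ 0 := (map_ne_zero ι).mpr hμ
  obtain ⟨w, hw⟩ : ∃ w, w = (ι μ)⁻¹ * (ι μ * θ) ^ q₀ := ⟨_, rfl⟩
  have h3 : (x.1.map ι).charpoly.eval w = 0 := by
    rw [← Matrix.charpoly_map, hsm] at h2
    obtain ⟨u, hu0, hu⟩ := USim.eigen_of_root h2
    have h4 := smul_eigen hu0 hu (ι μ)⁻¹
    rwa [smul_smul, inv_mul_cancel₀ hμ0, one_smul, ← hw] at h4
  obtain ⟨c, hc⟩ : ∃ c : F, w = ι c * θ ^ q₀ := ⟨μ⁻¹ * μ ^ q₀, by rw [hw, map_mul, map_inv₀, map_pow, mul_pow, mul_assoc]⟩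
  rw [Matrix.charpoly_map, hch, Polynomial.map_mul, eval_mul, mul_eq_zero] at h3
  have hθ0 : θ ≠ 0 := fun h => by rw [h, zero_pow (Fact.out : r.Prime).ne_zero] at hθr; exact zero_ne_one hθr
  have hc0 : ι c ≠ 0 := fun h => by
    rw [h, zero_mul] at hc
    rw [hw] at hc
    exact mul_ne_zero (inv_ne_zero hμ0) (pow_ne_zero _ (mul_ne_zero hμ0 hθ0)) hc
  have hc1 : ∀ t : AdjoinRoot φ, t ^ r = 1 → w = t → θ ^ q₀ = t := fun t ht hwt => by
    have hcr : c ^ r = 1 := ι.injective (by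
      rw [map_pow, map_one]
      have := congrArg (· ^ r) (hc.symm.trans hwt)
      simp only [mul_pow, ht, ← pow_mul, mul_comm q₀ r] at this
      rwa [pow_mul, hθr, one_pow, mul_one] at this)
    rw [← hwt, hc, OSimilar.mult_one hi hcr, map_one, one_mul]
  rcases h3 with h3 | h3
  · rw [Polynomial.map_pow, eval_pow, Polynomial.map_sub, map_X, map_C, eval_sub, eval_X, eval_C, map_one] at h3
    have h4 := hc1 1 (one_pow r) (sub_eq_zero.mp (eq_zero_of_pow_eq_zero h3))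
    exact hq0r (hord ▸ orderOf_dvd_of_pow_eq_one h4)
  · rw [hfac, eval_prod, Finset.prod_eq_zero_iff] at h3
    obtain ⟨j, -, h3⟩ := h3
    rw [eval_sub, eval_X, eval_C, sub_eq_zero] at h3
    have h4 := hc1 _ (by rw [← pow_mul, mul_comm, pow_mul, hθr, one_pow]) h3
    refine hno j ?_
    obtain ⟨u, hu⟩ : ∃ u : (AdjoinRoot φ)ˣ, (u : AdjoinRoot φ) = θ := ⟨Units.mk0 θ hθ0, rfl⟩
    have h5 : u ^ q₀ = u ^ (Fintype.card F ^ j) := Units.ext (by simpa [hu] using h4)
    have h6 := pow_eq_pow_iff_modEq.mp h5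
    rw [← orderOf_units, hu, hord] at h6
    rw [← Nat.cast_pow]
    exact ((ZMod.natCast_eq_natCast_iff _ _ _).mpr h6).symm

theorem der_pair {σ : F →+* F} (hσ : ∀ a, σ a = a ^ q₀) {r : ℕ} [Fact r.Prime] (hr7 : 7 ≤ r)
    (hrq : r ∣ Fintype.card F - 1) (hn : 2 ≤ n) (h1 : (q₀ : ZMod r) ≠ 1) (h1' : (q₀ : ZMod r) ≠ -1)
    (h0 : (q₀ : ZMod r) ≠ 0) :
    IsDer σ n r := by
  classical
  obtain ⟨ζ, hζ⟩ := USim.exists_zeta (F := F) (r := r) hrq
  obtain ⟨m, rfl⟩ : ∃ m, n = m + 2 := ⟨n - 2, by omega⟩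
  haveI : NeZero r := ⟨(Fact.out : r.Prime).ne_zero⟩
  haveI : Fact (2 < r) := ⟨by omega⟩
  obtain ⟨e, he⟩ : ∃ e, e = (Fin.cons 1 (Fin.cons (-1) (0 : Fin m → ZMod r)) : Fin (m + 2) → ZMod r) := ⟨_, rfl⟩
  have hsum : ∑ i, e i = 0 := by rw [he, Fin.sum_cons, Fin.sum_cons]; simp
  have he0 : e 0 = 1 := by rw [he]; rfl
  have he1 : e (Fin.succ 0) = -1 := by rw [he]; rfl
  have hval : ∀ i, e i = 1 ∨ e i = -1 ∨ e i = 0 := by
    intro i
    rw [he]
    refine Fin.cases (Or.inl rfl) (fun i => ?_) i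
    refine Fin.cases (Or.inr (Or.inl rfl)) (fun i => ?_) i
    exact Or.inr (Or.inr rfl)
  refine der_diag hσ hζ e 1 (by rw [hsum, ZMod.val_zero, pow_zero, one_pow, one_mul]) ⟨0, Fin.succ 0, by
    rw [he0, he1]; exact ZMod.neg_one_ne_one.symm⟩ fun a π => ?_
  by_contra hc
  push Not at hc
  have ha : a = 0 := by
    by_cases h5 : m + 2 < r
    · have h := Finset.sum_congr rfl (fun i (_ : i ∈ Finset.univ) => hc i)
      rw [Equiv.sum_comp π e, hsum, Finset.sum_add_distrib, ← Finset.mul_sum, hsum, mul_zero, zero_add,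
        Finset.sum_const, Finset.card_univ, Fintype.card_fin, nsmul_eq_mul] at h
      exact (mul_eq_zero.mp h.symm).resolve_left (USim.natCast_ne (m + 2) (by omega) h5)
    · by_contra hne
      have hlt : ∀ i : Fin m, ((π i.succ.succ : Fin (m + 2)) : ℕ) < 2 := fun i => by
        by_contra hge
        have h := hc i.succ.succ
        rw [show e i.succ.succ = 0 by rw [he]; rfl, mul_zero, zero_add] at h
        refine hne (h.symm.trans ?_)
        obtain ⟨t, ht⟩ : ∃ t, π i.succ.succ = t := ⟨_, rfl⟩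
        rw [ht] at hge ⊢
        rw [he]
        revert hge
        refine Fin.cases (fun h => absurd (by simp) h) (fun t => ?_) t
        refine Fin.cases (fun h => absurd (by simp) h) (fun t _ => rfl) t
      have := Fintype.card_le_of_injective (fun i : Fin m => (⟨_, hlt i⟩ : Fin 2)) fun u v huv => by
        have h1 := Fin.ext (Fin.mk.inj_iff.mp huv)
        simpa using π.injective h1
      simp at this
      omega
  have h := hc 0
  rw [ha, add_zero, he0, mul_one] at h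
  rcases hval (π 0) with e' | e' | e' <;> rw [e'] at h
  exacts [h1 h.symm, h1' h.symm, h0 h.symm]

/-- Asymmetric exponents for a quadratic extension. -/
theorem der_split {σ : F →+* F} (hσ : ∀ a, σ a = a ^ q₀) {r : ℕ} [Fact r.Prime] (hr2 : r ≠ 2)
    (hrq : r ∣ Fintype.card F - 1) (hρ : (q₀ : ZMod r) = -1) (hn : 3 ≤ n)
    (hgap : ¬ (n = 6 ∧ r = 3)) (hne : ¬ ((r = 3 ∨ r = 5) ∧ n = r ∧ padicValNat r (Fintype.card F - 1) = 1)) :
    IsDer σ n r := by
  classical
  have hr := (Fact.out : r.Prime)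
  have h2q : 2 ≤ Fintype.card F := Fintype.one_lt_card
  have hd0 : ∀ {ζ : F}, IsPrimitiveRoot ζ r → ∀ (e : Fin n → ZMod r) (l : F), l ^ n * ζ ^ (∑ i, e i).val = 1 →
      (∃ i j, e i ≠ e j) → (∀ (a : ZMod r) (π : Equiv.Perm (Fin n)), ∃ i, e (π i) + e i ≠ a) → IsDer σ n r :=
    fun hζ e l hl he hno => der_diag hσ hζ e l hl he fun a π => by
      obtain ⟨i, hi⟩ := hno a π
      exact ⟨i, fun h => hi (by rw [h, hρ]; ring)⟩
  by_cases hex : (r = 3 ∨ r = 5) ∧ n = r
  · obtain ⟨hr35, rfl⟩ := hex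
    have hv : 2 ≤ padicValNat n (Fintype.card F - 1) := by
      have h1 : 1 ≤ padicValNat n (Fintype.card F - 1) := one_le_padicValNat_of_dvd (by omega) hrq
      have h2 : padicValNat n (Fintype.card F - 1) ≠ 1 := fun h => hne ⟨hr35, rfl, h⟩
      omega
    have hd : n ^ 2 ∣ Fintype.card F - 1 := (pow_dvd_pow n hv).trans pow_padicValNat_dvd
    obtain ⟨g, hg⟩ := IsCyclic.exists_ofOrder_eq_natCard (α := Fˣ)
    rw [Nat.card_units, Nat.card_eq_fintype_card] at hg
    obtain ⟨η, hη⟩ : ∃ η : Fˣ, orderOf η = n ^ 2 :=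
      ⟨_, orderOf_pow_orderOf_div (orderOf_pos g).ne' (hg ▸ hd)⟩
    have hζ : IsPrimitiveRoot (((η ^ n)⁻¹ : Fˣ) : F) n := by
      refine IsPrimitiveRoot.coe_units_iff.mpr ?_
      have h1 : orderOf ((η ^ n)⁻¹) = n := by
        rw [orderOf_inv, orderOf_pow' _ hr.ne_zero, hη, pow_two, Nat.gcd_eq_right (dvd_mul_right n n),
          Nat.mul_div_cancel _ hr.pos]
      have h2 := IsPrimitiveRoot.orderOf ((η ^ n)⁻¹)
      rwa [h1] at h2
    haveI : NeZero n := ⟨hr.ne_zero⟩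
    haveI : Fact (1 < n) := ⟨hr.one_lt⟩
    refine hd0 hζ (Pi.single 0 1) (η : F) ?_
      ⟨0, ⟨1, by omega⟩, by simp [Fin.ext_iff]⟩ fun a π => ?_
    · rw [Finset.sum_pi_single', if_pos (Finset.mem_univ _), ZMod.val_one, pow_one, ← Units.val_pow_eq_pow_val,
        ← Units.val_mul, mul_inv_cancel, Units.val_one]
    · by_contra hc
      push Not at hc
      have h1 := hc ⟨1, by omega⟩
      have h2 := hc ⟨2, by omega⟩
      rw [Pi.single_eq_of_ne (M := fun _ : Fin n => ZMod n) (show (⟨1, by omega⟩ : Fin n) ≠ 0 by simp [Fin.ext_iff]) (1 : ZMod n), add_zero] at h1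
      rw [Pi.single_eq_of_ne (M := fun _ : Fin n => ZMod n) (show (⟨2, by omega⟩ : Fin n) ≠ 0 by simp [Fin.ext_iff]) (1 : ZMod n), add_zero] at h2
      have ha : a = 0 := by
        by_contra ha
        have e1 : π ⟨1, by omega⟩ = 0 := by
          by_contra e; rw [Pi.single_eq_of_ne e] at h1; exact ha h1.symm
        have e2 : π ⟨2, by omega⟩ = 0 := by
          by_contra e; rw [Pi.single_eq_of_ne e] at h2; exact ha h2.symm
        have := π.injective (e1.trans e2.symm)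
        simp [Fin.ext_iff] at this
      have h3 := hc 0
      rw [ha, Pi.single_eq_same] at h3
      by_cases e : π 0 = 0
      · rw [e, Pi.single_eq_same] at h3
        exact USim.natCast_ne (r := n) 2 two_pos (by omega) (by push_cast; linear_combination h3)
      · rw [Pi.single_eq_of_ne e, zero_add] at h3
        exact one_ne_zero h3
  · obtain ⟨ζ, hζ⟩ := USim.exists_zeta (F := F) (r := r) hrq
    obtain ⟨m, rfl⟩ : ∃ m, n = m + 3 := ⟨n - 3, by omega⟩
    have hm : ((m + 3 : ℕ) : ZMod r) ≠ 0 ∨ 4 ≤ m := by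
      by_cases h : ((m + 3 : ℕ) : ZMod r) = 0
      · obtain ⟨d, hd⟩ := (ZMod.natCast_eq_zero_iff _ r).mp h
        right
        rcases (show r = 3 ∨ r = 5 ∨ 7 ≤ r by
          have := hr.two_le
          by_contra hc
          have h4 : r = 4 ∨ r = 6 := by omega
          rcases h4 with rfl | rfl <;> norm_num at hr) with rfl | rfl | h7
        · have : m + 3 ≠ 3 := fun e => hex ⟨Or.inl rfl, e⟩
          have : m + 3 ≠ 6 := fun e => hgap ⟨e, rfl⟩
          omega
        · have : m + 3 ≠ 5 := fun e => hex ⟨Or.inr rfl, e⟩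
          omega
        · have : d ≠ 0 := fun e => by rw [e, mul_zero] at hd; omega
          have : r * 1 ≤ r * d := Nat.mul_le_mul_left r (by omega)
          omega
      · exact Or.inl h
    have hc : ∀ c : ℕ, 0 < c → c < r → (c : ZMod r) ≠ 0 := USim.natCast_ne
    haveI : NeZero r := ⟨hr.ne_zero⟩
    suffices h : ∃ a₀ a₁ a₂ : ZMod r, a₀ + a₁ + a₂ = 0 ∧ a₀ ≠ 0 ∧ -a₀ ≠ a₁ ∧ -a₀ ≠ a₂ ∧ (a₀ ≠ a₂ ∨ 1 ≤ m) by
      obtain ⟨a₀, a₁, a₂, hsum, h0, h01, h02, hns⟩ := h
      obtain ⟨hs, hno⟩ := USim.three_asym hr2 hm hsum h0 h01 h02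
      refine hd0 hζ _ 1 ?_ ?_ hno
      · rw [hs, ZMod.val_zero, pow_zero, one_pow, one_mul]
      · rcases hns with h | h
        · exact ⟨0, Fin.succ (Fin.succ 0), by simpa only [Fin.cons_zero, Fin.cons_succ] using h⟩
        · exact ⟨0, Fin.succ (Fin.succ (Fin.succ ⟨0, by omega⟩)), by
            simpa only [Fin.cons_zero, Fin.cons_succ, Pi.zero_apply] using h0⟩
    rcases (show r = 3 ∨ r = 5 ∨ 7 ≤ r by
      have := hr.two_le
      by_contra hc'
      have h4 : r = 4 ∨ r = 6 := by omega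
      rcases h4 with rfl | rfl <;> norm_num at hr) with rfl | rfl | h7
    · refine ⟨(1 : ZMod 3), (1 : ZMod 3), (1 : ZMod 3), USim.small_three.1, one_ne_zero, USim.small_three.2, USim.small_three.2, Or.inr ?_⟩
      by_contra hm0
      exact hex ⟨Or.inl rfl, by omega⟩
    · exact ⟨(1 : ZMod 5), (1 : ZMod 5), (3 : ZMod 5), USim.small_five.1, one_ne_zero, USim.small_five.2.1, USim.small_five.2.2.1, Or.inl USim.small_five.2.2.2⟩
    · refine ⟨1, 2, -3, by norm_num, one_ne_zero, fun h => hc 3 (by norm_num) (by omega) ?_,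
        fun h => hc 2 two_pos (by omega) ?_, Or.inl fun h => hc 4 (by norm_num) (by omega) ?_⟩
      · push_cast; linear_combination -h
      · push_cast; linear_combination h
      · push_cast; linear_combination h

/-- Elements fixing a point when the prime is the degree of the extension. -/
theorem fix_same {p : ℕ} [Fact p.Prime] [CharP F p] {σ : F →+* F} {b : ℕ} (hσ : ∀ a, σ a = a ^ q₀)
    (hfix : ∀ a, σ a = a ↔ a ∈ F₀) (hb : q₀ = p ^ b) {r : ℕ} [Fact r.Prime] (hrp : r ≠ p) (hn : 0 < n)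
    (hcong : (q₀ : ZMod r) = (Fintype.card F : ZMod r))
    (hcond : r ∣ Fintype.card F - 1 → Cond n r (Fintype.card F))
    (x : Matrix.SpecialLinearGroup (Fin n) F) {z : F} (hz : x.1 ^ r = z • 1) :
    ∃ P : Matrix.SpecialLinearGroup (Fin n) F, P⁻¹ * x * P ∈ (Cfsg.Geo.subfieldSubgroup F₀ 1).comap
      (Matrix.SpecialLinearGroup.toGL : Matrix.SpecialLinearGroup (Fin n) F →* GL (Fin n) F) := by
  classical
  haveI : Nonempty (Fin n) := ⟨⟨0, hn⟩⟩
  have hz0 : z ≠ 0 := fun h => by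
    have := congrArg Matrix.det hz
    rw [Matrix.det_pow, x.2, one_pow, h, zero_smul, Matrix.det_zero] at this
    exact one_ne_zero this
  have hr0 := cast_ne_zero (F := F) hrp
  have hU : Nat.card Fˣ = Fintype.card F - 1 := by rw [Nat.card_units, Nat.card_eq_fintype_card]
  by_cases hdvd : r ∣ Fintype.card F - 1
  · obtain ⟨bs, d, hd, hdr, -⟩ :=
      OSimilar.eigen_basis hrp hn.ne' (orderOf_eq_one_iff'.mpr hdvd) (hcond hdvd) x hz
    obtain ⟨i₀⟩ : Nonempty (Fin n) := inferInstance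
    have hd0 : d i₀ ≠ 0 := fun h => by
      have := hdr i₀
      rw [h, zero_pow (Fact.out : r.Prime).ne_zero] at this
      exact hz0 this.symm
    have hch : ((d i₀)⁻¹ • x.1).charpoly = (Matrix.diagonal fun i => (d i₀)⁻¹ * d i).charpoly := by
      rw [← Matrix.charpoly_toLin', ← LinearMap.charpoly_toMatrix (Matrix.toLin' _) bs, map_smul, map_smul, hd,
        ← Matrix.diagonal_smul]
      rfl
    refine fix_of_charpoly hfix hrp x hz (inv_ne_zero hd0) ?_
    rw [hch, charpoly_diagonal_eq, Polynomial.map_prod]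
    refine Finset.prod_congr rfl fun i _ => ?_
    rw [Polynomial.map_sub, map_X, map_C]
    congr 2
    have h1 : ((d i₀)⁻¹ * d i) ^ r = 1 := by rw [mul_pow, inv_pow, hdr, hdr, inv_mul_cancel₀ hz0]
    have hb1 : r ∣ q₀ - 1 := by
      rw [← ZMod.natCast_eq_zero_iff, Nat.cast_sub (by rw [hb]; exact Nat.one_le_pow _ _ (Fact.out : p.Prime).pos),
        hcong, Nat.cast_one, sub_eq_zero, ← Nat.cast_one]
      rw [← ZMod.natCast_eq_zero_iff, Nat.cast_sub Fintype.card_pos, sub_eq_zero] at hdvd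
      exact hdvd
    obtain ⟨t, ht⟩ := hb1
    have hq0 : 1 ≤ q₀ := by rw [hb]; exact Nat.one_le_pow _ _ (Fact.out : p.Prime).pos
    rw [hσ, show q₀ = r * t + 1 by omega, pow_succ, pow_mul, h1, one_pow, one_mul]
  · obtain ⟨l, hl⟩ := (powCoprime (G := Fˣ) (n := r) (Nat.Coprime.symm ((Nat.Prime.coprime_iff_not_dvd Fact.out).mpr
      (by rwa [hU])))).surjective (Units.mk0 z hz0)
    have hl' : (l : F) ^ r = z := by
      rw [← Units.val_pow_eq_pow_val]; exact congrArg Units.val hl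
    obtain ⟨y, hy⟩ : ∃ y, y = Matrix.toLin' ((l : F)⁻¹ • x.1) := ⟨_, rfl⟩
    have hyr : y ^ r = 1 := by
      rw [hy, ← Matrix.toLin'_pow, _root_.smul_pow, hz, smul_smul, inv_pow, hl', inv_mul_cancel₀ hz0, one_smul,
        Matrix.toLin'_one]
      rfl
    have hys : Module.End.IsSemisimple y := isSemisimple_of_pow hr0 one_ne_zero (by rw [hyr, one_smul])
    obtain ⟨m, qs, -, hch, hq⟩ := exists_blocks (finrank F (Fin n → F)) y le_rfl hys (X ^ r - 1) (by
      rw [map_sub, map_pow, aeval_X, map_one, hyr, sub_self])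
    refine fix_of_charpoly hfix hrp x hz (inv_ne_zero l.ne_zero) ?_
    rw [← Matrix.charpoly_toLin', ← hy, hch, Polynomial.map_prod]
    refine Finset.prod_congr rfl fun j _ => ?_
    obtain ⟨hqi, hqm, hqd⟩ := hq j
    haveI : Fact (Irreducible (qs j)) := ⟨hqi⟩
    haveI : CharP (AdjoinRoot (qs j)) p := charP_of_injective_algebraMap (algebraMap F (AdjoinRoot (qs j))).injective p
    haveI : ExpChar (AdjoinRoot (qs j)) p := ExpChar.prime Fact.out
    haveI : Module.Finite F (AdjoinRoot (qs j)) := Module.Finite.of_basis (AdjoinRoot.powerBasis hqi.ne_zero).basis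
    haveI : Finite (AdjoinRoot (qs j)) := Module.finite_of_finite F
    obtain ⟨θ, hθ⟩ : ∃ θ, θ = AdjoinRoot.root (qs j) := ⟨_, rfl⟩
    have hθr : θ ^ r = 1 := by
      have := AdjoinRoot.mk_eq_zero.mpr hqd
      rwa [map_sub, map_pow, AdjoinRoot.mk_X, map_one, sub_eq_zero, ← hθ] at this
    have hq0 : θ ^ q₀ = θ ^ Fintype.card F := by
      rw [ZMod.natCast_eq_natCast_iff] at hcong
      exact pow_eq_pow_of_modEq hcong hθr
    have hroot : aeval (θ ^ q₀) (qs j) = 0 := by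
      have h1 : FiniteField.frobeniusAlgEquivOfAlgebraic F (AdjoinRoot (qs j)) θ = θ ^ Fintype.card F := rfl
      rw [hq0, ← h1, aeval_algEquiv, AlgEquiv.toAlgHom_eq_coe, AlgHom.comp_apply, hθ, AdjoinRoot.aeval_eq,
        AdjoinRoot.mk_self, map_zero]
    have hroot' : aeval (θ ^ q₀) ((qs j).map σ) = 0 := by
      obtain ⟨Φ, hΦ⟩ : ∃ Φ : AdjoinRoot (qs j) →+* AdjoinRoot (qs j), ∀ w, Φ w = w ^ q₀ :=
        ⟨iterateFrobenius (AdjoinRoot (qs j)) p b, fun w => by rw [iterateFrobenius_def, ← hb]⟩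
      have hcomp : (algebraMap F (AdjoinRoot (qs j))).comp σ = Φ.comp (algebraMap F (AdjoinRoot (qs j))) :=
        RingHom.ext fun c => by simp [hΦ, hσ]
      rw [← hΦ, aeval_def, eval₂_map, hcomp, ← Polynomial.hom_eval₂, ← aeval_def, hθ, AdjoinRoot.aeval_eq,
        AdjoinRoot.mk_self, map_zero]
    have e1 := minpoly.eq_of_irreducible_of_monic hqi hroot hqm
    exact ((eq_of_monic_of_dvd_of_natDegree_le hqm (hqm.map σ) ((dvd_of_eq e1).trans (minpoly.dvd F _ hroot'))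
      (le_of_eq (natDegree_map σ))).trans rfl)

/-- Elements fixing a point in the two small quadratic cases. -/
theorem fix_small {p : ℕ} [Fact p.Prime] [CharP F p] {σ : F →+* F} (hσ : ∀ a, σ a = a ^ q₀)
    (hfix : ∀ a, σ a = a ↔ a ∈ F₀) {r : ℕ} [Fact r.Prime] (hrp : r ≠ p) (hr : r = 3 ∨ r = 5) (hn : n = r)
    (hρ : (q₀ : ZMod r) = -1) (hv : padicValNat r (Fintype.card F - 1) = 1)
    (x : Matrix.SpecialLinearGroup (Fin n) F) {z : F} (hz : x.1 ^ r = z • 1) :
    ∃ P : Matrix.SpecialLinearGroup (Fin n) F, P⁻¹ * x * P ∈ (Cfsg.Geo.subfieldSubgroup F₀ 1).comap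
      (Matrix.SpecialLinearGroup.toGL : Matrix.SpecialLinearGroup (Fin n) F →* GL (Fin n) F) := by
  classical
  have hrpr := (Fact.out : r.Prime)
  haveI : NeZero r := ⟨hrpr.ne_zero⟩
  have hdvd : r ∣ Fintype.card F - 1 := by
    by_contra h
    rw [padicValNat.eq_zero_of_not_dvd h] at hv
    exact zero_ne_one hv
  have hcond : Cond n r (Fintype.card F) := ⟨by rw [hn, padicValNat_self, hv], fun h => by omega⟩
  obtain ⟨bs, d, hd, hdr, hprod⟩ :=
    OSimilar.eigen_basis (n := n) hrp (by omega) (orderOf_eq_one_iff'.mpr hdvd) hcond x hz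
  have hz1 : z = 1 := by
    have h1 : z ^ n = 1 := by
      have h2 := congrArg (· ^ r) hprod
      simp only [one_pow, ← Finset.prod_pow, hdr, Finset.prod_const, Finset.card_univ, Fintype.card_fin] at h2
      exact h2
    obtain ⟨i⟩ : Nonempty (Fin n) := ⟨⟨0, by omega⟩⟩
    have hd0 : d i ≠ 0 := fun h => by
      rw [Finset.prod_eq_zero (Finset.mem_univ i) h] at hprod
      exact zero_ne_one hprod
    have h2 : d i ^ (r ^ 2) = 1 := by rw [pow_two, pow_mul, hdr, ← hn, h1]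
    have h3 : d i ^ Nat.gcd (r ^ 2) (Fintype.card F - 1) = 1 :=
      pow_gcd_eq_one.mpr ⟨h2, FiniteField.pow_card_sub_one_eq_one _ hd0⟩
    obtain ⟨j, hj, hjg⟩ := (Nat.dvd_prime_pow hrpr).mp (Nat.gcd_dvd_left (r ^ 2) (Fintype.card F - 1))
    have hj1 : j ≤ 1 := by
      have h4 : r ^ j ∣ Fintype.card F - 1 := hjg ▸ Nat.gcd_dvd_right _ _
      have h5 := (padicValNat_dvd_iff_le (by
        have := Fintype.one_lt_card (α := F); omega)).mp h4
      omega
    rw [← hdr i]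
    rw [hjg] at h3
    interval_cases j
    · rw [pow_zero, pow_one] at h3; rw [h3, one_pow]
    · rwa [pow_one] at h3
  obtain ⟨ζ, hζ⟩ := USim.exists_zeta (F := F) (r := r) hdvd
  obtain ⟨χ, hχ⟩ : ∃ χ : AddChar (ZMod r) F, ∀ a, χ a = ζ ^ a.val :=
    ⟨AddChar.zmodChar r hζ.pow_eq_one, fun a => AddChar.zmodChar_apply _ _⟩
  have hsurj : ∀ i, ∃ k : ZMod r, d i = χ k := fun i => by
    obtain ⟨j, hj, hjd⟩ := hζ.eq_pow_of_pow_eq_one (show d i ^ r = 1 by rw [hdr, hz1])
    exact ⟨j, by rw [hχ, ZMod.val_cast_of_lt hj, hjd]⟩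
  choose e he using hsurj
  have hinj : ∀ a b, χ a = χ b → a = b := fun a b h => by
    rw [hχ, hχ] at h
    exact ZMod.val_injective r (hζ.pow_inj (ZMod.val_lt a) (ZMod.val_lt b) h)
  have hsum : ∑ i, e i = 0 := by
    refine hinj _ _ ?_
    rw [AddChar.map_zero_eq_one, ← hprod]
    have h : ∀ s : Finset (Fin n), χ (∑ i ∈ s, e i) = ∏ i ∈ s, d i := by
      intro s
      induction s using Finset.induction_on with
      | empty => simp
      | insert j s hj ih => rw [Finset.sum_insert hj, Finset.prod_insert hj, AddChar.map_add_eq_mul, ih, he]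
    exact h _
  obtain ⟨a, π, -, hπ⟩ := OSimilar.symm_of_small hr hn e hsum
  obtain ⟨h, hh⟩ : ∃ h : ZMod r, h + h = a := ⟨a / 2, by
    have : (2 : ZMod r) ≠ 0 := by exact_mod_cast USim.natCast_ne (r := r) 2 two_pos (by omega)
    field_simp
    ring⟩
  have hχ0 : χ (-h) ≠ 0 := by rw [hχ]; exact pow_ne_zero _ (hζ.ne_zero hrpr.ne_zero)
  have hch : (χ (-h) • x.1).charpoly = (Matrix.diagonal fun i => χ (e i - h)).charpoly := by
    rw [← Matrix.charpoly_toLin', ← LinearMap.charpoly_toMatrix (Matrix.toLin' _) bs, map_smul, map_smul, hd,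
      ← Matrix.diagonal_smul]
    congr 2
    funext i
    rw [Pi.smul_apply, smul_eq_mul, he, ← AddChar.map_add_eq_mul]
    congr 1
    ring
  refine fix_of_charpoly hfix hrp x hz hχ0 ?_
  rw [hch, charpoly_diagonal_eq, Polynomial.map_prod, ← Equiv.prod_comp π (fun i => X - C (χ (e i - h)))]
  refine Finset.prod_congr rfl fun i _ => ?_
  rw [Polynomial.map_sub, map_X, map_C, hσ, ← AddChar.map_nsmul_eq_pow, nsmul_eq_mul, hρ]
  congr 3
  rw [← hh] at hπ
  linear_combination -(hπ i)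

/-- The criterion. -/
theorem criterion {p : ℕ} [Fact p.Prime] [CharP F p] (hn : 2 ≤ n) (hk : k.Prime) (hF₀ : Nat.card ↥F₀ = q₀)
    (hqk : Fintype.card F = q₀ ^ k) {r : ℕ} [Fact r.Prime] (hr2 : r ≠ 2) (hrp : r ≠ p)
    (hgap : ¬ (n = 6 ∧ r = 3)) (hgapk : r = k → r ∣ q₀ - 1 → padicValNat r n ≤ padicValNat r (Fintype.card F - 1))
    (hΩ : r ∣ ((Cfsg.Geo.subfieldSubgroup F₀ 1).comap
      (Matrix.SpecialLinearGroup.toGL : Matrix.SpecialLinearGroup (Fin n) F →* GL (Fin n) F)).index) :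
    (∀ x : Matrix.SpecialLinearGroup (Fin n) F,
      (∃ z : F, ((x ^ r : Matrix.SpecialLinearGroup (Fin n) F) : Matrix (Fin n) (Fin n) F) = z • (1 : Matrix (Fin n) (Fin n) F)) →
      (∀ z : F, (x : Matrix (Fin n) (Fin n) F) ≠ z • (1 : Matrix (Fin n) (Fin n) F)) →
      ∃ P : Matrix.SpecialLinearGroup (Fin n) F, P⁻¹ * x * P ∈ ((Cfsg.Geo.subfieldSubgroup F₀ 1).comap
        (Matrix.SpecialLinearGroup.toGL : Matrix.SpecialLinearGroup (Fin n) F →* GL (Fin n) F))) ↔
    (r = k ∨ (k = 2 ∧ r = n ∧ (n = 3 ∨ n = 5) ∧ padicValNat r (q₀ + 1) = 1)) := by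
  classical
  obtain ⟨b, hb, σ, hσ, hfix⟩ := exists_frob (p := p) F₀ hF₀
  have hr := (Fact.out : r.Prime)
  have hr3 : 3 ≤ r := by have := hr.two_le; omega
  haveI : Fact (2 < r) := ⟨hr3⟩
  haveI : NeZero r := ⟨hr.ne_zero⟩
  have hrq : ¬ r ∣ q₀ := fun h => by
    rw [hb] at h
    exact hrp ((Nat.prime_dvd_prime_iff_eq hr Fact.out).mp (hr.dvd_of_dvd_pow h))
  have hq01 : 1 < q₀ := by
    rw [← hF₀, Nat.card_eq_fintype_card]
    exact Fintype.one_lt_card
  have hqc : (Fintype.card F : ZMod r) = (q₀ : ZMod r) ^ k := by rw [hqk, Nat.cast_pow]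
  have hval : k = 2 → (q₀ : ZMod r) = -1 → padicValNat r (Fintype.card F - 1) = padicValNat r (q₀ + 1) := by
    intro hk2 h
    rw [hqk, hk2, show q₀ ^ 2 - 1 = (q₀ + 1) * (q₀ - 1) by rw [← Nat.sq_sub_sq, one_pow],
      padicValNat.mul (by omega) (by omega), padicValNat.eq_zero_of_not_dvd (n := q₀ - 1) fun hd => ?_, add_zero]
    rw [← ZMod.natCast_eq_zero_iff, Nat.cast_sub (by omega), h, Nat.cast_one, sub_eq_zero] at hd
    exact ZMod.neg_one_ne_one hd
  constructor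
  · intro hall
    by_contra hne
    obtain ⟨hrk, hne⟩ := not_or.mp hne
    suffices hder : IsDer σ n r by
      obtain ⟨x, ⟨z, hz⟩, hns, hno⟩ := hder
      obtain ⟨P, hP⟩ := hall x ⟨z, by rw [Matrix.SpecialLinearGroup.coe_pow]; exact hz⟩ hns
      obtain ⟨μ, hμ, h⟩ := charpoly_fixed_of_mem hfix hP
      exact hno μ hμ h
    obtain ⟨i, hi2, hin, hi, hni⟩ := index_dvd (by omega) hk.ne_zero hF₀ hqk hr hrq
      (fun h => hrk ((Nat.prime_dvd_prime_iff_eq hr hk).mp h)) hΩ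
    rw [orderOf_dvd_iff'] at hi
    have hni' : ¬ orderOf (q₀ : ZMod r) ∣ i := by
      rw [orderOf_dvd_iff_pow_eq_one]
      intro h
      apply hni
      rw [← ZMod.natCast_eq_zero_iff, Nat.cast_sub (Nat.one_le_pow _ _ (by omega)), Nat.cast_pow, h, Nat.cast_one,
        sub_self]
    have hkd : k ∣ orderOf (q₀ : ZMod r) := by
      by_contra h
      refine hni' ?_
      rw [hqc, orderOf_pow' _ hk.ne_zero,
        Nat.Coprime.gcd_eq_one ((hk.coprime_iff_not_dvd.mpr h).symm), Nat.div_one] at hi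
      exact hi
    have he : orderOf (q₀ : ZMod r) = k * orderOf (Fintype.card F : ZMod r) := by
      rw [hqc, orderOf_pow' _ hk.ne_zero, Nat.gcd_eq_right hkd, Nat.mul_div_cancel' hkd]
    have hepos := orderOf_pos' (F := F) (p := p) (r := r) hrp
    rcases Nat.lt_or_ge (orderOf (Fintype.card F : ZMod r)) 2 with hlt | hge
    · have hone : orderOf (Fintype.card F : ZMod r) = 1 := by omega
      have hdvd := orderOf_eq_one_iff'.mp hone
      rw [hone, mul_one] at he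
      have hne1 : (q₀ : ZMod r) ≠ 1 := fun h => by
        rw [h, orderOf_one] at he
        exact hk.one_lt.ne he
      have h0 : (q₀ : ZMod r) ≠ 0 := fun h => hrq ((ZMod.natCast_eq_zero_iff _ _).mp h)
      rcases eq_or_ne k 2 with hk2 | hk2
      · subst hk2
        have hρ : (q₀ : ZMod r) = -1 := by
          have h1 := pow_orderOf_eq_one (q₀ : ZMod r)
          rw [he] at h1
          exact (sq_eq_one_iff.mp h1).resolve_left hne1
        have hn3 : 3 ≤ n := by
          rw [he] at hni'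
          omega
        refine der_split hσ hr2 hdvd hρ hn3 hgap fun ⟨h35, hnr, hv⟩ => hne ⟨rfl, hnr.symm, hnr ▸ h35, ?_⟩
        rw [← hval rfl hρ]; exact hv
      · have hk3 : 3 ≤ k := by have := hk.two_le; omega
        have hkr : k ∣ r - 1 := he ▸ ZMod.orderOf_dvd_card_sub_one h0
        have hr7 : 7 ≤ r := by
          by_contra h7
          interval_cases r
          · have := Nat.le_of_dvd (by norm_num) hkr; omega
          · norm_num at hr
          · have h4 : k ≤ 4 := Nat.le_of_dvd (by norm_num) hkr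
            interval_cases k <;> norm_num at hkr <;> norm_num at hk
          · norm_num at hr
        refine der_pair hσ hr7 hdvd hn hne1 (fun h => ?_) h0
        have h2 : orderOf (q₀ : ZMod r) ∣ 2 := orderOf_dvd_of_pow_eq_one (by rw [h, neg_one_sq])
        rw [he] at h2
        have := Nat.le_of_dvd two_pos h2
        omega
    · refine der_block hσ hb hrp hge ((Nat.le_of_dvd (by omega) hi).trans hin) (fun j hj => ?_) hrq
      rw [hqc, ← pow_mul] at hj
      have h0 : (q₀ : ZMod r) ≠ 0 := fun h => hrq ((ZMod.natCast_eq_zero_iff _ _).mp h)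
      obtain ⟨u, hu⟩ : ∃ u : (ZMod r)ˣ, (u : ZMod r) = (q₀ : ZMod r) := ⟨Units.mk0 _ h0, rfl⟩
      have h1 : u ^ (k * j) = u ^ 1 := Units.ext (by simp [hu, hj])
      have h2 := pow_eq_pow_iff_modEq.mp h1
      rw [← orderOf_units, hu, he] at h2
      have h3 := (h2.of_mul_right _)
      rw [Nat.ModEq, Nat.mul_mod_right, Nat.mod_eq_of_lt hk.one_lt] at h3
      exact zero_ne_one h3
  · intro h x hxr hns
    obtain ⟨z, hz⟩ := hxr
    rw [Matrix.SpecialLinearGroup.coe_pow] at hz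
    rcases h with rfl | ⟨rfl, hrn, hn35, hv⟩
    · refine fix_same hσ hfix hb hrp (by omega) ?_ (fun hd => ⟨hgapk rfl ?_, fun h => absurd h hr2⟩) x hz
      · rw [hqc, ZMod.pow_card]
      · rw [← ZMod.natCast_eq_zero_iff, Nat.cast_sub (by omega), Nat.cast_one, sub_eq_zero]
        rw [← ZMod.natCast_eq_zero_iff, Nat.cast_sub Fintype.card_pos, hqc, ZMod.pow_card, Nat.cast_one, sub_eq_zero] at hd
        exact hd
    · have hρ : (q₀ : ZMod r) = -1 := by
        have hd : r ∣ q₀ + 1 := by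
          by_contra h
          rw [padicValNat.eq_zero_of_not_dvd h] at hv
          exact zero_ne_one hv
        rw [← ZMod.natCast_eq_zero_iff] at hd
        push_cast at hd
        exact eq_neg_of_add_eq_zero_left hd
      refine fix_small hσ hfix hrp (by omega) hrn.symm hρ ?_ x hz
      rw [hval rfl hρ]; exact hv

end Cfsg.Agent.Classical.Elusive.SubGL
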