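import Cfsg.Agent.Lib.Classical.SymplecticType
import Cfsg.Agent.Lib.Classical.SymplecticClassTwo

/-!
# Normalizers of symplectic-type 2-groups in four dimensions: which elements can lie in them

Twirling over the group shows that an element of odd prime order normalizing the group has a product
`tr y * tr y⁻¹` equal to 1, 4 or 16, and no transvection normalizes the group.
-/

set_option autoImplicit false
set_option linter.unusedSectionVars false

namespace Cfsg.Agent.Classical.SymFour

open Matrix Cfsg.Geo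

variable {ι : Type} [Fintype ι] [DecidableEq ι] {F : Type*} [Field F]

local notation "MM" => Matrix ι ι F

/-- What is used of the group `R`. -/
structure Pauli4 (R : Subgroup (GL ι F)) : Prop where
  four : Fintype.card ι = 4
  two : (2 : F) ≠ 0
  scal : ∀ A : Matrix ι ι F, (∀ g ∈ R, A * (g : Matrix ι ι F) = (g : Matrix ι ι F) * A) → ∃ c : F, A = c • 1
  comm : ∀ g ∈ R, ∀ h ∈ R, (g : Matrix ι ι F) * h = (h : Matrix ι ι F) * g ∨
    (g : Matrix ι ι F) * h = -((h : Matrix ι ι F) * g)
  sq : ∀ g ∈ R, (g : Matrix ι ι F) * g = 1 ∨ (g : Matrix ι ι F) * g = -1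
  neg : (-1 : GL ι F) ∈ R
  card : Nat.card R = 16 * Nat.card (Subgroup.center R)

theorem pauli_of [Fintype F] [Nonempty ι] (h4 : Fintype.card ι = 4) (h2 : (2 : F) ≠ 0) {R : Subgroup (GL ι F)}
    (hR : IsSymplecticTypeGroup 2 R) (hirr : ActsAbsolutelyIrreducibly (matrixSet R)) : Pauli4 R := by
  have hc := symplecticTypeGroup_comm hR hirr
  have hcard := card_sq_of_scalar_commutators hirr hc
  have hp4 : ∀ g ∈ R, (g : MM) ^ 4 = 1 := fun g hg => by
    have e := Monoid.pow_exponent_eq_one (⟨g, hg⟩ : R)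
    rw [hR.exponent_eq] at e
    have e' : g ^ (2 * Nat.gcd 2 2) = 1 := congrArg Subtype.val e
    rw [← Units.val_pow_eq_pow_val, show (4 : ℕ) = 2 * Nat.gcd 2 2 from rfl, e', Units.val_one]
  have hscal : ∀ A : MM, (∀ g ∈ R, A * (g : MM) = (g : MM) * A) → ∃ c : F, A = c • 1 := fun A hA =>
    hirr.2 A (by rintro _ ⟨g, hg, rfl⟩; exact hA g hg)
  have hcomm : ∀ g ∈ R, ∀ h ∈ R, ((g : MM) * h = (h : MM) * g ∨ (g : MM) * h = -((h : MM) * g)) := by
    intro g hg h hh
    obtain ⟨c, hc⟩ := exists_twist (hc g hg h hh)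
    have e1 : (c : F) ^ 4 = 1 := by
      have e := congrArg Matrix.det hc.eq
      rw [Matrix.det_smul, Matrix.det_mul, Matrix.det_mul, h4, mul_comm ((h : MM).det)] at e
      refine mul_right_cancel₀ (mul_ne_zero ?_ ?_) (e.symm.trans (one_mul _).symm)
      · exact ((Matrix.isUnit_iff_isUnit_det _).mp g.isUnit).ne_zero
      · exact ((Matrix.isUnit_iff_isUnit_det _).mp h.isUnit).ne_zero
    have e2 : (c : F) ^ 6 = 1 := by
      have e := twisted_mul_pow (a := (h : MM)) (b := (g : MM)) hc.eq 4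
      rw [show (4 : ℕ).choose 2 = 6 from rfl, hp4 g hg, hp4 h hh, one_mul, ← Units.val_mul, hp4 _ (mul_mem hh hg)] at e
      obtain ⟨i⟩ := ‹Nonempty ι›
      have := congrFun (congrFun e i) i
      simpa using this.symm
    have e3 : (c : F) ^ 2 = 1 := by linear_combination e2 - (c : F) ^ 2 * e1
    rcases (sq_eq_one_iff.mp e3) with e | e
    · exact Or.inl (by rw [hc.eq, e, one_smul])
    · exact Or.inr (by rw [hc.eq, e, neg_one_smul])
  have hsq : ∀ g ∈ R, (g : MM) * g = 1 ∨ (g : MM) * g = -1 := by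
    intro g hg
    obtain ⟨c, hc⟩ := hscal ((g : MM) * g) (fun h hh => by
      rcases hcomm g hg h hh with e | e
      · rw [mul_assoc, e, ← mul_assoc, e, mul_assoc]
      · rw [mul_assoc, e, mul_neg, ← mul_assoc, e, neg_mul, neg_neg, mul_assoc])
    have e : c ^ 2 = 1 := by
      have := hp4 g hg
      rw [show (g : MM) ^ 4 = ((g : MM) * g) * ((g : MM) * g) by noncomm_ring, hc, smul_mul_smul_comm, mul_one,
        ← pow_two] at this
      obtain ⟨i⟩ := ‹Nonempty ι›
      simpa using congrFun (congrFun this i) i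
    rcases sq_eq_one_iff.mp e with e | e
    · exact Or.inl (by rw [hc, e, one_smul])
    · exact Or.inr (by rw [hc, e, neg_one_smul])
  have hc16 : Nat.card R = 16 * Nat.card (Subgroup.center R) := by rw [← hcard, h4]; norm_num
  refine ⟨h4, h2, hscal, hcomm, hsq, ?_, hc16⟩
  obtain ⟨g, hg, h, hh, hne⟩ : ∃ g ∈ R, ∃ h ∈ R, g * h ≠ h * g := by
    by_contra hcon
    push Not at hcon
    have htop : Subgroup.center R = ⊤ := Subgroup.eq_top_iff' _ |>.mpr fun g =>
      Subgroup.mem_center_iff.mpr fun h => Subtype.ext (hcon _ h.2 _ g.2)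
    rw [htop, Subgroup.card_top] at hc16
    have := (Nat.card_pos : 0 < Nat.card R)
    omega
  rcases hcomm g hg h hh with e | e
  · exact absurd (Units.ext (by simpa using e)) hne
  · have : (-1 : GL ι F) = g * h * (h * g)⁻¹ := by
      rw [eq_mul_inv_iff_mul_eq]
      exact Units.ext (by simp [e])
    rw [this]
    exact mul_mem (mul_mem hg hh) (inv_mem (mul_mem hh hg))

variable {R : Subgroup (GL ι F)} (h : Pauli4 R)

include h

theorem four_ne : (4 : F) ≠ 0 := by
  rw [show (4 : F) = 2 * 2 by norm_num]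
  exact mul_ne_zero h.two h.two

theorem nonempty : Nonempty ι := Fintype.card_pos_iff.mp (by rw [h.four]; norm_num)

theorem trace_one' : (1 : MM).trace = 4 := by rw [Matrix.trace_one, h.four]; norm_num

theorem center_iff {g : GL ι F} (hg : g ∈ R) :
    (⟨g, hg⟩ : R) ∈ Subgroup.center R ↔ ∃ c : F, (g : MM) = c • 1 := by
  refine ⟨fun hz => h.scal _ fun k hk => ?_, fun ⟨c, hc⟩ => Subgroup.mem_center_iff.mpr fun k =>
    Subtype.ext (Units.ext ?_)⟩
  · exact congrArg (fun t : R => ((t : GL ι F) : MM)) (Subgroup.mem_center_iff.mp hz ⟨k, hk⟩).symm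
  · simp [hc]

/-- Non-scalar members have trace zero. -/
theorem trace_zero {g : GL ι F} (hg : g ∈ R) (hns : ∀ c : F, (g : MM) ≠ c • 1) : (g : MM).trace = 0 := by
  obtain ⟨k, hk, hne⟩ : ∃ k ∈ R, (g : MM) * k ≠ (k : MM) * g := by
    by_contra hcon
    push Not at hcon
    obtain ⟨c, hc⟩ := h.scal _ hcon
    exact hns c hc
  have e := (h.comm g hg k hk).resolve_left hne
  have e' : (g : MM) = -((k : MM) * g * ((k⁻¹ : GL ι F) : MM)) := by
    rw [← neg_mul, ← e, mul_assoc, Units.mul_inv, mul_one]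
  have e'' := congrArg Matrix.trace e'
  rw [Matrix.trace_neg, Matrix.trace_units_conj] at e''
  have : (2 : F) * (g : MM).trace = 0 := by linear_combination e''
  exact (mul_eq_zero.mp this).resolve_left h.two

/-- The centre has order a power of two, so it is invertible in the field. -/
theorem center_ne [Finite R] : (Nat.card (Subgroup.center R) : F) ≠ 0 := by
  have hp : IsPGroup 2 R := fun g => ⟨2, Subtype.ext (Units.ext (by
    rw [Subgroup.coe_pow, Units.val_pow_eq_pow_val, show (2 ^ 2 : ℕ) = 2 * 2 from rfl, pow_mul, sq (g : GL ι F).1]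
    rcases h.sq g g.2 with e | e <;> simp [e]))⟩
  have : Fact (Nat.Prime 2) := ⟨Nat.prime_two⟩
  obtain ⟨k, hk⟩ := IsPGroup.iff_card.mp (hp.to_subgroup (Subgroup.center R))
  rw [hk, Nat.cast_pow, Nat.cast_ofNat]
  exact pow_ne_zero _ h.two

/-- The twirl over `R`. -/
theorem twirl [Fintype R] (m : MM) :
    ∑ g : R, ((g : GL ι F) : MM) * m * (((g : GL ι F)⁻¹ : GL ι F) : MM) =
      (4 * (Nat.card (Subgroup.center R) : F) * m.trace) • 1 := by
  obtain ⟨c, hc⟩ := h.scal (∑ g : R, ((g : GL ι F) : MM) * m * (((g : GL ι F)⁻¹ : GL ι F) : MM)) (by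
    intro k hk
    rw [Finset.sum_mul, Finset.mul_sum]
    refine Fintype.sum_equiv (Equiv.mulLeft (⟨k, hk⟩ : R)⁻¹) _ _ fun g => ?_
    simp only [Equiv.coe_mulLeft, Subgroup.coe_mul, Subgroup.coe_inv, _root_.mul_inv_rev, inv_inv, Units.val_mul,
      Matrix.mul_assoc, Units.mul_inv_cancel_left])
  rw [hc]
  congr 1
  have e := congrArg Matrix.trace hc
  rw [Matrix.trace_sum, Matrix.trace_smul, trace_one' h, Finset.sum_congr rfl (fun g _ => Matrix.trace_units_conj _ _),
    Finset.sum_const, Finset.card_univ, ← Nat.card_eq_fintype_card, h.card, nsmul_eq_mul, smul_eq_mul] at e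
  push_cast at e
  refine mul_right_cancel₀ (four_ne h) ?_
  linear_combination -e

/-- An element commuting with the group is scalar. -/
theorem scalar_of_central {y : GL ι F} (hy : R ≤ Subgroup.centralizer {y}) : ∃ c : F, (y : MM) = c • 1 :=
  h.scal _ fun g hg => by
    simpa using congrArg (fun t : GL ι F => (t : MM)) (Subgroup.mem_centralizer_singleton_iff.mp (hy hg)).symm

omit h in
/-- Fixed points of conjugation by an element of prime order, in an invariant subgroup. -/
theorem card_modEq [Finite F] {r : ℕ} [Fact r.Prime] {y : GL ι F} (hyr : y ^ r = 1) (D : Subgroup (GL ι F))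
    (hD : ∀ g ∈ D, y * g * y⁻¹ ∈ D) :
    Nat.card D ≡ Nat.card ↥(D ⊓ Subgroup.centralizer {y}) [MOD r] := by
  classical
  let := Fintype.ofFinite D
  let f : Function.End D := fun k => ⟨y * k * y⁻¹, hD k k.2⟩
  have hfk : ∀ n (k : D), ((f ^ n) k : GL ι F) = y ^ n * k * (y ^ n)⁻¹ := by
    intro n
    induction n with
    | zero => intro k; simp [show (1 : Function.End D) k = k from rfl]
    | succ n ih =>
      intro k
      rw [pow_succ']
      change y * _ * y⁻¹ = _
      rw [ih, pow_succ']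
      group
  have hf : f ^ r ^ 1 = 1 := by
    funext k
    refine Subtype.ext ?_
    rw [pow_one, hfk, hyr, show (1 : Function.End D) k = k from rfl]
    simp
  have hmod := Equiv.Perm.card_fixedPoints_modEq hf
  have hfix : Fintype.card f.fixedPoints = Nat.card ↥(D ⊓ Subgroup.centralizer {y}) := by
    rw [← Nat.card_eq_fintype_card]
    refine Nat.card_congr
      { toFun := fun k => ⟨k.1.1, k.1.2, Subgroup.mem_centralizer_singleton_iff.mpr (by
          have := congrArg Subtype.val k.2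
          change y * k.1.1 * y⁻¹ = k.1.1 at this
          exact (mul_inv_eq_iff_eq_mul.mp this).symm)⟩
        invFun := fun k => ⟨⟨k.1, k.2.1⟩, Subtype.ext (by
          change y * k.1 * y⁻¹ = k.1
          rw [← Subgroup.mem_centralizer_singleton_iff.mp k.2.2, mul_inv_cancel_right])⟩
        left_inv := fun k => rfl
        right_inv := fun k => rfl }
  rwa [hfix, ← Nat.card_eq_fintype_card] at hmod

theorem scalar_comm {g : GL ι F} {c : F} (hg : (g : MM) = c • 1) (y : GL ι F) : g * y = y * g :=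
  Units.ext (by simp [hg])

/-- The order of the fixed subgroup. -/
theorem fixed_card [Finite F] (y : GL ι F) :
    ∃ j ≤ 4, Nat.card ↥(R ⊓ Subgroup.centralizer {y}) = Nat.card (Subgroup.center R) * 2 ^ j := by
  obtain ⟨C, hC⟩ : ∃ C : Subgroup R, C = (Subgroup.centralizer {y}).subgroupOf R := ⟨_, rfl⟩
  have hZC : Subgroup.center R ≤ C := fun g hg => by
    obtain ⟨c, hc⟩ := (center_iff h g.2).mp hg
    rw [hC, Subgroup.mem_subgroupOf, Subgroup.mem_centralizer_singleton_iff]
    exact scalar_comm h hc y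
  have hcardC : Nat.card C = Nat.card ↥(R ⊓ Subgroup.centralizer {y}) := by
    rw [hC, ← Subgroup.inf_subgroupOf_left, Nat.card_congr (Subgroup.subgroupOfEquivOfLe inf_le_left).toEquiv]
  obtain ⟨n, hn⟩ := Subgroup.card_dvd_of_le hZC
  have hd : n ∣ 2 ^ 4 := by
    have := Subgroup.card_subgroup_dvd_card C
    rw [h.card, hn, mul_comm 16] at this
    exact Nat.dvd_of_mul_dvd_mul_left Nat.card_pos this
  obtain ⟨j, hj, rfl⟩ := (Nat.dvd_prime_pow Nat.prime_two).mp hd
  exact ⟨j, hj, hcardC.symm.trans hn⟩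

theorem central_of_fixed_card [Finite F] {y : GL ι F}
    (e : Nat.card ↥(R ⊓ Subgroup.centralizer {y}) = Nat.card (Subgroup.center R) * 2 ^ 4) :
    ∃ c : F, (y : MM) = c • 1 := by
  refine scalar_of_central h ?_
  have := Subgroup.eq_of_le_of_card_ge (inf_le_left (a := R) (b := Subgroup.centralizer {y}))
    (by rw [e, h.card, mul_comm]; norm_num)
  exact fun g hg => (this.ge hg).2

/-- An element of odd prime order in the normalizer. -/
theorem odd_cases [Finite F] {r : ℕ} [Fact r.Prime] (hr : r ≠ 2) {y : GL ι F}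
    (hy : y ∈ subgroupNormalizer R) (hyr : y ^ r = 1) :
    (∃ c : F, (y : MM) = c • 1) ∨
      (∃ j < 4, (y : MM).trace * ((y⁻¹ : GL ι F) : MM).trace = 2 ^ j ∧ r ∣ 2 ^ (4 - j) - 1 ∧
        Nat.card ↥(R ⊓ Subgroup.centralizer {y}) = Nat.card (Subgroup.center R) * 2 ^ j) := by
  classical
  let := Fintype.ofFinite R
  have hN := fun g => Subgroup.mem_normalizer_iff.mp hy g
  obtain ⟨j, hj, hjc⟩ := fixed_card h y
  rcases Nat.lt_or_ge j 4 with hlt | hge
  swap
  · exact Or.inl (central_of_fixed_card h (by rw [hjc, show j = 4 by omega]))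
  refine Or.inr ⟨j, hlt, ?_, ?_, hjc⟩
  · -- evaluate the twirl of `y⁻¹`
    have hterm : ∀ g : R, (((y * g * y⁻¹ * (g : GL ι F)⁻¹ : GL ι F)) : MM).trace =
        if (g : GL ι F) ∈ Subgroup.centralizer {y} then 4 else 0 := by
      intro g
      split_ifs with hg
      · rw [← Subgroup.mem_centralizer_singleton_iff.mp hg, mul_inv_cancel_right, mul_inv_cancel, Units.val_one,
          trace_one' h]
      · have hP : y * g * y⁻¹ * (g : GL ι F)⁻¹ ∈ R := mul_mem ((hN g).mp g.2) (inv_mem g.2)
        refine trace_zero h hP fun c hc => hg ?_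
        obtain ⟨P, hPd⟩ : ∃ P : GL ι F, P = y * g * y⁻¹ * (g : GL ι F)⁻¹ := ⟨_, rfl⟩
        rw [← hPd] at hP hc
        have hconj : ∀ n, y ^ n * g * (y ^ n)⁻¹ = P ^ n * g := by
          intro n
          induction n with
          | zero => simp
          | succ n ih =>
            have e1 : y * P ^ n = P ^ n * y :=
              ((Commute.pow_left (show Commute P y from scalar_comm h hc y) n).eq).symm
            calc y ^ (n + 1) * g * (y ^ (n + 1))⁻¹ = y * (y ^ n * g * (y ^ n)⁻¹) * y⁻¹ := by group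
              _ = y * P ^ n * g * y⁻¹ := by rw [ih]; group
              _ = P ^ n * (y * g * y⁻¹) := by rw [e1]; group
              _ = _ := by rw [pow_succ, hPd]; group
        have hPr : P ^ r = 1 := by
          have := hconj r
          rw [hyr] at this
          simpa using this.symm
        have hP4 : P ^ 4 = 1 := Units.ext (by
          rw [Units.val_pow_eq_pow_val, show (4 : ℕ) = 2 * 2 from rfl, pow_mul, sq (P : MM)]
          rcases h.sq P hP with e | e <;> simp [e])
        have hP1 : P = 1 := by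
          have := pow_gcd_eq_one.mpr ⟨hPr, hP4⟩
          rwa [show Nat.gcd r 4 = 1 from ?_, pow_one] at this
          exact (Nat.Coprime.pow_right 2 ((Nat.coprime_primes Fact.out Nat.prime_two).mpr hr) :)
        rw [hPd, mul_inv_eq_one, mul_inv_eq_iff_eq_mul] at hP1
        exact Subgroup.mem_centralizer_singleton_iff.mpr hP1.symm
    have e := congrArg (fun M : MM => ((y : MM) * M).trace)
      (twirl h ((y⁻¹ : GL ι F) : MM))
    simp only [Finset.mul_sum, Matrix.trace_sum, Matrix.mul_smul, mul_one, Matrix.trace_smul, smul_eq_mul] at e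
    rw [Finset.sum_congr rfl fun (g : R) _ => (show ((y : MM) * (((g : GL ι F) : MM) * ((y⁻¹ : GL ι F) : MM) *
        (((g : GL ι F)⁻¹ : GL ι F) : MM))).trace = (if (g : GL ι F) ∈ Subgroup.centralizer {y} then 4 else 0 : F) by
      rw [← hterm g]
      simp only [Units.val_mul, Matrix.mul_assoc]), Finset.sum_ite, Finset.sum_const_zero, add_zero,
      Finset.sum_const] at e
    have hcount : (Finset.univ.filter fun g : R => (g : GL ι F) ∈ Subgroup.centralizer {y}).card =
        Nat.card ↥(R ⊓ Subgroup.centralizer {y}) := by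
      rw [← Fintype.card_subtype, ← Nat.card_eq_fintype_card]
      exact Nat.card_congr ⟨fun g => ⟨g.1.1, g.1.2, g.2⟩, fun g => ⟨⟨g.1, g.2.1⟩, g.2.2⟩, fun g => rfl, fun g => rfl⟩
    rw [hcount, hjc, nsmul_eq_mul] at e
    push_cast at e
    refine mul_left_cancel₀ (mul_ne_zero (four_ne h) (center_ne h)) ?_
    simp only [Matrix.coe_units_inv] at e ⊢
    linear_combination -e
  · have hm := card_modEq hyr R fun g hg => (hN g).mp hg
    rw [h.card, hjc] at hm
    have hz : r.Coprime (Nat.card (Subgroup.center R)) := by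
      obtain ⟨n, hn⟩ : ∃ n, Nat.card (Subgroup.center R) ∣ 2 ^ n := by
        have hp : IsPGroup 2 R := fun g => ⟨2, Subtype.ext (Units.ext (by
          rw [Subgroup.coe_pow, Units.val_pow_eq_pow_val, show (2 ^ 2 : ℕ) = 2 * 2 from rfl, pow_mul,
            sq (g : GL ι F).1]
          rcases h.sq g g.2 with e | e <;> simp [e]))⟩
        have : Fact (Nat.Prime 2) := ⟨Nat.prime_two⟩
        obtain ⟨n, hn⟩ := IsPGroup.iff_card.mp hp
        exact ⟨n, hn ▸ Subgroup.card_subgroup_dvd_card _⟩
      exact (((Nat.coprime_primes Fact.out Nat.prime_two).mpr hr).pow_right n).coprime_dvd_right hn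
    rw [mul_comm 16, show (16 : ℕ) = 2 ^ j * 2 ^ (4 - j) by rw [← pow_add, show j + (4 - j) = 4 by omega]; norm_num] at hm
    have hd := (Nat.modEq_iff_dvd' (Nat.mul_le_mul_left _ (Nat.le_mul_of_pos_right _ (by positivity)))).mp hm.symm
    rw [← Nat.mul_sub, show 2 ^ j * 2 ^ (4 - j) - 2 ^ j = 2 ^ j * (2 ^ (4 - j) - 1) by rw [Nat.mul_sub, mul_one]] at hd
    refine Nat.Coprime.dvd_of_dvd_mul_left (Nat.Coprime.pow_right j ?_) (Nat.Coprime.dvd_of_dvd_mul_left hz hd)
    exact (Nat.coprime_primes Fact.out Nat.prime_two).mpr hr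

/-- Elements of prime order at least seven. -/
theorem large_central [Finite F] {r : ℕ} [Fact r.Prime] (hr : 7 ≤ r) {y : GL ι F}
    (hy : y ∈ subgroupNormalizer R) (hyr : y ^ r = 1) : ∃ c : F, (y : MM) = c • 1 := by
  rcases odd_cases h (r := r) (by omega) hy hyr with e | ⟨j, hj, -, hd, -⟩
  · exact e
  by_contra hns
  have hr' : r.Prime := Fact.out
  have hj1 : j = 1 ∧ r = 7 := by
    interval_cases j
    · exfalso
      rcases (Nat.Prime.dvd_mul hr').mp (show r ∣ 3 * 5 by simpa using hd) with e | e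
      · have := Nat.le_of_dvd (by norm_num) e; omega
      · have := Nat.le_of_dvd (by norm_num) e; omega
    · exact ⟨rfl, (Nat.prime_dvd_prime_iff_eq hr' (by norm_num)).mp (by simpa using hd)⟩
    · exfalso
      have := Nat.le_of_dvd (by norm_num) (show r ∣ 3 by simpa using hd); omega
    · exfalso
      have := Nat.le_of_dvd (by norm_num) (show r ∣ 1 by simpa using hd); omega
  obtain ⟨j', hj', hjc⟩ := fixed_card h y
  have hN := fun g => Subgroup.mem_normalizer_iff.mp hy g
  have hm := card_modEq hyr R fun g hg => (hN g).mp hg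
  rw [h.card, hjc] at hm
  obtain ⟨Z, hZ⟩ : ∃ Z, Z = Nat.card (Subgroup.center R) := ⟨_, rfl⟩
  rw [← hZ] at hm hjc
  have hZ0 : 0 < Z := hZ ▸ Nat.card_pos
  have hz7 : ¬ r ∣ Z := fun hdz => by
    have := center_ne h
    have hp : IsPGroup 2 R := fun g => ⟨2, Subtype.ext (Units.ext (by
      rw [Subgroup.coe_pow, Units.val_pow_eq_pow_val, show (2 ^ 2 : ℕ) = 2 * 2 from rfl, pow_mul, sq (g : GL ι F).1]
      rcases h.sq g g.2 with e | e <;> simp [e]))⟩
    have : Fact (Nat.Prime 2) := ⟨Nat.prime_two⟩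
    obtain ⟨n, hn⟩ := IsPGroup.iff_card.mp (hp.to_subgroup (Subgroup.center R))
    rw [hZ, hn] at hdz
    have := (Nat.prime_dvd_prime_iff_eq hr' Nat.prime_two).mp (hr'.dvd_of_dvd_pow hdz)
    omega
  have hj'1 : j' = 1 := by
    have hlt : j' < 4 := by
      by_contra hc
      exact hns (central_of_fixed_card h (by rw [hjc, hZ, show j' = 4 by omega]))
    obtain ⟨-, h7⟩ := hj1
    subst h7
    by_contra hne
    refine hz7 ?_
    have hd7 := (Nat.modEq_iff_dvd' (by interval_cases j' <;> omega)).mp hm.symm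
    interval_cases j'
    · exact ((Nat.Prime.dvd_mul hr').mp (show 7 ∣ Z * 15 from (show 16 * Z - Z * 2 ^ 0 = Z * 15 by omega) ▸ hd7)).resolve_right (by norm_num)
    · exact absurd rfl hne
    · exact ((Nat.Prime.dvd_mul hr').mp (show 7 ∣ Z * 12 from (show 16 * Z - Z * 2 ^ 2 = Z * 12 by omega) ▸ hd7)).resolve_right (by norm_num)
    · exact ((Nat.Prime.dvd_mul hr').mp (show 7 ∣ Z * 8 from (show 16 * Z - Z * 2 ^ 3 = Z * 8 by omega) ▸ hd7)).resolve_right (by norm_num)
  subst hj'1
  -- a fixed non-scalar member, and its centralizer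
  obtain ⟨g, hg, hgy, hgns⟩ : ∃ g : GL ι F, g ∈ R ∧ g * y = y * g ∧ ∀ c : F, (g : MM) ≠ c • 1 := by
    by_contra hcon
    push Not at hcon
    have : Nat.card ↥(R ⊓ Subgroup.centralizer {y}) ≤ Z := by
      rw [hZ]
      refine Nat.card_le_card_of_injective (fun g => ⟨⟨g.1, g.2.1⟩, (center_iff h g.2.1).mpr
        (hcon g.1 g.2.1 (Subgroup.mem_centralizer_singleton_iff.mp g.2.2))⟩) fun g g' e => ?_
      exact Subtype.ext (congrArg (fun z : Subgroup.center R => (z.1 : GL ι F)) e)
    omega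
  obtain ⟨k, hk, hgk⟩ : ∃ k ∈ R, (g : MM) * k ≠ (k : MM) * g := by
    by_contra hcon
    push Not at hcon
    obtain ⟨c, hc⟩ := h.scal _ hcon
    exact hgns c hc
  have hgk' := (h.comm g hg k hk).resolve_left hgk
  obtain ⟨D, hD⟩ : ∃ D : Subgroup (GL ι F), D = R ⊓ Subgroup.centralizer {g} := ⟨_, rfl⟩
  have hindex : (D.subgroupOf R).index = 2 := by
    refine Subgroup.index_eq_two_iff.mpr ⟨⟨k, hk⟩, fun b => ?_⟩
    have hmem : ∀ b : R, b ∈ D.subgroupOf R ↔ (g : MM) * ((b : GL ι F) : MM) = ((b : GL ι F) : MM) * g := fun b => by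
      rw [hD, Subgroup.mem_subgroupOf, Subgroup.mem_inf, and_iff_right b.2, Subgroup.mem_centralizer_singleton_iff]
      exact ⟨fun e => by simpa using (congrArg (fun t : GL ι F => (t : MM)) e).symm, fun e => (Units.ext (by simpa using e.symm))⟩
    rcases h.comm g hg b b.2 with e | e
    · refine Or.inr ⟨(hmem b).mpr e, fun hc => hgk ?_⟩
      have hc' := (hmem _).mp hc
      simp only [Subgroup.coe_mul, Units.val_mul] at hc'
      rw [← mul_assoc, e, mul_assoc, mul_assoc] at hc'
      exact (b : GL ι F).isUnit.mul_left_cancel hc'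
    · refine Or.inl ⟨(hmem _).mpr ?_, fun hc => hgk ?_⟩
      · simp only [Subgroup.coe_mul, Units.val_mul]
        rw [← mul_assoc, e, neg_mul, mul_assoc, hgk', mul_neg, neg_neg, mul_assoc]
      · exfalso
        have e' := ((hmem b).mp hc).symm.trans e
        have : (2 : F) • ((b : GL ι F) * g : GL ι F).1 = 0 := by
          rw [two_smul, Units.val_mul]
          nth_rewrite 1 [e']
          exact neg_add_cancel _
        have hne := nonempty h
        exact Units.ne_zero _ ((smul_eq_zero.mp this).resolve_left h.two)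
  have hDcard : Nat.card D = 8 * Z := by
    have hle : D ≤ R := hD ▸ inf_le_left
    have := Subgroup.card_mul_index (D.subgroupOf R)
    rw [hindex, Nat.card_congr (Subgroup.subgroupOfEquivOfLe hle).toEquiv, h.card, ← hZ] at this
    omega
  have hDinv : ∀ d ∈ D, y * d * y⁻¹ ∈ D := fun d hd => by
    rw [hD] at hd ⊢
    refine ⟨(hN d).mp hd.1, Subgroup.mem_centralizer_singleton_iff.mpr ?_⟩
    have hd2 := Subgroup.mem_centralizer_singleton_iff.mp hd.2
    have hcy : Commute g y := hgy
    calc y * d * y⁻¹ * g = y * (d * g) * y⁻¹ := by rw [mul_assoc, ← hcy.inv_right.eq]; group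
      _ = y * (g * d) * y⁻¹ := by rw [hd2]
      _ = g * (y * d * y⁻¹) := by rw [← mul_assoc y g d, ← hcy.eq]; group
  have hm2 := card_modEq hyr D hDinv
  have hle : D ⊓ Subgroup.centralizer {y} ≤ R ⊓ Subgroup.centralizer {y} :=
    inf_le_inf_right _ (hD ▸ inf_le_left)
  -- the fixed part of the centralizer has twice the order of the centre
  have hfix : Nat.card ↥(D ⊓ Subgroup.centralizer {y}) = 2 * Z := by
    obtain ⟨Z', hZ'⟩ : ∃ Z' : Subgroup (GL ι F), Z' = (Subgroup.center R).map R.subtype := ⟨_, rfl⟩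
    have hcZ : Nat.card Z' = Z := by rw [hZ', hZ, Subgroup.card_map_of_injective R.subtype_injective]
    have hZle : Z' ≤ D ⊓ Subgroup.centralizer {y} := by
      rw [hZ']
      rintro _ ⟨t, ht, rfl⟩
      obtain ⟨c, hc⟩ := (center_iff h t.2).mp ht
      exact hD ▸ ⟨⟨t.2, Subgroup.mem_centralizer_singleton_iff.mpr (scalar_comm h hc g)⟩,
        Subgroup.mem_centralizer_singleton_iff.mpr (scalar_comm h hc y)⟩
    have hgmem : g ∈ D ⊓ Subgroup.centralizer {y} :=
      hD ▸ ⟨⟨hg, Subgroup.mem_centralizer_singleton_iff.mpr rfl⟩, Subgroup.mem_centralizer_singleton_iff.mpr hgy⟩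
    have hlt : Nat.card Z' < Nat.card ↥(D ⊓ Subgroup.centralizer {y}) := by
      refine lt_of_le_of_ne (Subgroup.card_le_of_le hZle) fun e => ?_
      have hgZ := (Subgroup.eq_of_le_of_card_ge hZle e.ge).ge hgmem
      rw [hZ'] at hgZ
      obtain ⟨t, ht, rfl⟩ := hgZ
      obtain ⟨c, hc⟩ := (center_iff h t.2).mp ht
      exact hgns c hc
    obtain ⟨a, ha⟩ := Subgroup.card_dvd_of_le hZle
    obtain ⟨b, hb⟩ := Subgroup.card_dvd_of_le hle
    rw [hjc, ha, hcZ, pow_one] at hb
    rw [hcZ, ha, hcZ] at hlt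
    have hab : a * b = 2 := Nat.eq_of_mul_eq_mul_left hZ0 (by rw [← mul_assoc]; exact hb.symm)
    have ha2 : a = 2 := by
      have h1 : a ∣ 2 := ⟨b, hab.symm⟩
      rcases (Nat.dvd_prime Nat.prime_two).mp h1 with e | e
      · rw [e, mul_one] at hlt; omega
      · exact e
    rw [ha, hcZ, ha2, mul_comm]
  rw [hfix, hDcard] at hm2
  have hd6 := (Nat.modEq_iff_dvd' (by omega)).mp hm2.symm
  rw [show 8 * Z - 2 * Z = Z * 6 by omega] at hd6
  rcases (Nat.Prime.dvd_mul hr').mp hd6 with e | e
  · exact hz7 e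
  · have := Nat.le_of_dvd (by norm_num) e; omega

/-- No transvection normalizes the group. -/
theorem no_transvection {y : GL ι F} {u φ : ι → F} (hu : u ≠ 0) (hφ : φ ≠ 0) (hφu : φ ⬝ᵥ u = 0)
    (hy : (y : MM) = 1 + Matrix.vecMulVec u φ) : y ∉ subgroupNormalizer R := by
  intro hmem
  have := nonempty h
  have hN := fun g => Subgroup.mem_normalizer_iff.mp hmem g
  obtain ⟨N, hNd⟩ : ∃ N : MM, N = Matrix.vecMulVec u φ := ⟨_, rfl⟩
  have hNv : ∀ v, N *ᵥ v = (φ ⬝ᵥ v) • u := fun v => by
    rw [hNd, Matrix.vecMulVec_mulVec, op_smul_eq_smul]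
  have hyinv : ((y⁻¹ : GL ι F) : MM) = 1 - N := by
    have e : (y : MM) * (1 - N) = 1 := by
      refine Matrix.ext_of_mulVec_single fun i => ?_
      rw [hy, ← hNd, ← Matrix.mulVec_mulVec, Matrix.one_mulVec, Matrix.sub_mulVec, Matrix.one_mulVec, hNv,
        Matrix.add_mulVec, Matrix.one_mulVec, hNv, dotProduct_sub, dotProduct_smul, hφu, smul_zero, sub_zero,
        sub_add_cancel]
    exact (Units.inv_mul_eq_iff_eq_mul (a := y) |>.mpr e.symm).symm.trans (mul_one _) |>.symm
  have hcent : R ≤ Subgroup.centralizer {y} := by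
    intro g hg
    obtain ⟨P, hPd⟩ : ∃ P : GL ι F, P = y * g * y⁻¹ * g⁻¹ := ⟨_, rfl⟩
    have hP : P ∈ R := hPd ▸ mul_mem ((hN g).mp hg) (inv_mem hg)
    obtain ⟨g', hg'⟩ : ∃ g' : MM, g' = ((g⁻¹ : GL ι F) : MM) := ⟨_, rfl⟩
    have hgg : ∀ v, (g : MM) *ᵥ (g' *ᵥ v) = v := fun v => by
      rw [hg', Matrix.mulVec_mulVec, Units.mul_inv, Matrix.one_mulVec]
    have hgg' : ∀ v, g' *ᵥ ((g : MM) *ᵥ v) = v := fun v => by
      rw [hg', Matrix.mulVec_mulVec, Units.inv_mul, Matrix.one_mulVec]
    obtain ⟨a, ha⟩ : ∃ a, a = φ ⬝ᵥ ((g : MM) *ᵥ u) := ⟨_, rfl⟩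
    obtain ⟨b, hb⟩ : ∃ b, b = φ ⬝ᵥ (g' *ᵥ u) := ⟨_, rfl⟩
    have hPv : ∀ v, (P : MM) *ᵥ v = v + (φ ⬝ᵥ v) • u - (φ ⬝ᵥ (g' *ᵥ v)) • ((g : MM) *ᵥ u)
        - (φ ⬝ᵥ (g' *ᵥ v) * a) • u := by
      intro v
      rw [hPd, Units.val_mul, Units.val_mul, Units.val_mul, ← hg', hyinv, hy, ← hNd, ← Matrix.mulVec_mulVec,
        ← Matrix.mulVec_mulVec, ← Matrix.mulVec_mulVec, Matrix.sub_mulVec, Matrix.one_mulVec, hNv,
        Matrix.mulVec_sub, hgg, Matrix.mulVec_smul, Matrix.add_mulVec, Matrix.one_mulVec, hNv, dotProduct_sub,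
        dotProduct_smul, smul_eq_mul, ← ha, sub_smul]
      abel
    have hPu : (P : MM) *ᵥ u = (1 - b * a) • u - b • ((g : MM) *ᵥ u) := by
      rw [hPv, hφu, ← hb, zero_smul, add_zero, sub_smul, one_smul]
      abel
    have hPgu : (P : MM) *ᵥ ((g : MM) *ᵥ u) = (g : MM) *ᵥ u + a • u := by
      rw [hPv, hgg', hφu, ← ha, zero_smul, zero_mul, zero_smul, sub_zero, sub_zero]
    have htr : (P : MM).trace = 4 - a * b := by
      have e : (P : MM) = 1 + N - (g : MM) * N * g' - N * ((g : MM) * N * g') := by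
        rw [hPd, Units.val_mul, Units.val_mul, Units.val_mul, ← hg', hyinv, hy, ← hNd]
        have hh : (g : MM) * g' = 1 := by rw [hg', Units.mul_inv]
        calc (1 + N) * (g : MM) * (1 - N) * g'
            = (1 + N) * ((g : MM) * g') - (g : MM) * N * g' - N * ((g : MM) * N * g') := by noncomm_ring
          _ = _ := by rw [hh, mul_one]
      have e2 : ((g : MM) * N * g').trace = φ ⬝ᵥ u := by
        rw [Matrix.trace_mul_cycle, hg', Units.inv_mul, one_mul, hNd, Matrix.trace_vecMulVec, dotProduct_comm]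
      have e3 : (N * ((g : MM) * N * g')).trace = a * b := by
        rw [hNd, Matrix.trace_mul_comm, Matrix.mul_vecMulVec, Matrix.trace_vecMulVec, ← hNd,
          ← Matrix.mulVec_mulVec, ← Matrix.mulVec_mulVec, hNv, ← hb, Matrix.mulVec_smul, smul_dotProduct, dotProduct_comm,
          ← ha, smul_eq_mul, mul_comm]
      rw [e, Matrix.trace_sub, Matrix.trace_sub, Matrix.trace_add, trace_one' h, e2, e3, hNd, Matrix.trace_vecMulVec,
        dotProduct_comm u, hφu, add_zero, sub_zero]
    have hgu : a * b = 4 → (g : MM) *ᵥ u ∈ Submodule.span F {u} → False := by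
      intro hab hs
      obtain ⟨l, hl⟩ := Submodule.mem_span_singleton.mp hs
      rw [ha, ← hl, dotProduct_smul, hφu, smul_zero, zero_mul] at hab
      exact four_ne h hab.symm
    have hscal : ∃ c : F, (P : MM) = c • 1 := by
      by_contra hc
      push Not at hc
      have hab : a * b = 4 := by linear_combination htr - trace_zero h hP hc
      have hb0 : b ≠ 0 := fun e => four_ne h (by rw [← hab, e, mul_zero])
      obtain ⟨c, hc2⟩ : ∃ c : F, (P : MM) * P = c • 1 := by
        rcases h.sq P hP with e | e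
        · exact ⟨1, by rw [e, one_smul]⟩
        · exact ⟨-1, by rw [e, neg_one_smul]⟩
      have e := congrArg (fun M : MM => M *ᵥ u) hc2
      simp only [← Matrix.mulVec_mulVec, Matrix.smul_mulVec, Matrix.one_mulVec] at e
      rw [hPu, Matrix.mulVec_sub, Matrix.mulVec_smul, Matrix.mulVec_smul, hPu, hPgu] at e
      have e' : (2 * b) • ((g : MM) *ᵥ u) = (c - 5) • u := by
        linear_combination (norm := skip) e
        match_scalars
        · linear_combination -(b : F) * hab
        · linear_combination (-1 - a * b) * hab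
      refine hgu hab (Submodule.mem_span_singleton.mpr ⟨(2 * b)⁻¹ * (c - 5), ?_⟩)
      rw [mul_smul, ← e', smul_smul, inv_mul_cancel₀ (mul_ne_zero h.two hb0), one_smul]
    obtain ⟨c, hc⟩ := hscal
    have hc1 : c = 1 := by
      have e1 : c * 4 = 4 - a * b := by rw [← htr, hc, Matrix.trace_smul, trace_one' h, smul_eq_mul]
      have e2 := hPu
      rw [hc, Matrix.smul_mulVec, Matrix.one_mulVec] at e2
      by_cases hb0 : b = 0
      · rw [hb0, mul_zero, sub_zero] at e1
        exact (mul_eq_right₀ (four_ne h)).mp e1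
      · have hs : (g : MM) *ᵥ u ∈ Submodule.span F {u} := Submodule.mem_span_singleton.mpr
          ⟨b⁻¹ * (1 - b * a - c), by rw [mul_smul, sub_smul, e2, sub_sub_cancel, smul_smul, inv_mul_cancel₀ hb0, one_smul]⟩
        obtain ⟨l, hl⟩ := Submodule.mem_span_singleton.mp hs
        have ha0 : a = 0 := by rw [ha, ← hl, dotProduct_smul, hφu, smul_zero]
        rw [ha0, zero_mul, sub_zero] at e1
        exact (mul_eq_right₀ (four_ne h)).mp e1
    have hP1 : P = 1 := Units.ext (by rw [hc, hc1, one_smul, Units.val_one])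
    rw [hPd, mul_inv_eq_one, mul_inv_eq_iff_eq_mul] at hP1
    exact Subgroup.mem_centralizer_singleton_iff.mpr hP1.symm
  obtain ⟨c, hc⟩ := scalar_of_central h hcent
  have e : N = (c - 1) • (1 : MM) := by
    rw [sub_smul, one_smul, ← hc, hy, hNd, add_sub_cancel_left]
  have e2 := congrArg (fun M : MM => M *ᵥ u) e
  simp only [hNv, hφu, zero_smul, Matrix.smul_mulVec, Matrix.one_mulVec] at e2
  rcases smul_eq_zero.mp e2.symm with e3 | e3
  · obtain ⟨v, hv⟩ : ∃ v, φ ⬝ᵥ v ≠ 0 := by
      by_contra hcon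
      push Not at hcon
      exact hφ (funext fun i => by simpa using hcon (Pi.single i 1))
    have e4 := congrArg (fun M : MM => M *ᵥ v) e
    simp only [hNv, e3, zero_smul, Matrix.zero_mulVec] at e4
    exact (smul_eq_zero.mp e4).elim hv hu
  · exact hu e3

end Cfsg.Agent.Classical.SymFour
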