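import Cfsg.Agent.Lib.Classical.Elusive.SymTypeFrame
import Cfsg.Agent.Lib.Classical.Forms

/-!
# Elements of orders 2, 3 and 5 normalizing a symplectic-type 2-group in four dimensions
-/

set_option autoImplicit false
set_option linter.unusedSectionVars false

namespace Cfsg.Agent.Classical.SymFour

open Matrix Cfsg.Geo

variable {ι : Type} [Fintype ι] [DecidableEq ι] {F : Type*} [Field F]

local notation "MM" => Matrix ι ι F

section Adjoint

variable (f : (ι → F) → (ι → F) → F)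

/-- `A'` is an adjoint of `A`. -/
def Adj (A A' : Matrix ι ι F) : Prop := ∀ u v, f (A *ᵥ u) v = f u (A' *ᵥ v)

variable {f} {σ : F ≃+* F} (hf : IsSemiForm σ f)

include hf

theorem Adj.one : Adj f (1 : MM) 1 := fun u v => by simp

theorem Adj.add {A A' B B' : MM} (hA : Adj f A A') (hB : Adj f B B') : Adj f (A + B) (A' + B') := fun u v => by
  rw [Matrix.add_mulVec, Matrix.add_mulVec, hf.add_left, hf.add_right, hA, hB]

theorem Adj.smul {A A' : MM} (hA : Adj f A A') {c : F} (hc : σ c = c) : Adj f (c • A) (c • A') := fun u v => by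
  rw [Matrix.smul_mulVec, Matrix.smul_mulVec, hf.smul_left, hf.smul_right, hA, hc]

theorem Adj.neg {A A' : MM} (hA : Adj f A A') : Adj f (-A) (-A') := by
  rw [← neg_one_smul F A, ← neg_one_smul F A']
  exact hA.smul hf (by rw [map_neg, map_one])

theorem Adj.sub {A A' B B' : MM} (hA : Adj f A A') (hB : Adj f B B') : Adj f (A - B) (A' - B') := by
  rw [sub_eq_add_neg, sub_eq_add_neg]
  exact hA.add hf (hB.neg hf)

theorem Adj.mul {A A' B B' : MM} (hA : Adj f A A') (hB : Adj f B B') : Adj f (A * B) (B' * A') := fun u v => by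
  rw [← Matrix.mulVec_mulVec, hA, hB, Matrix.mulVec_mulVec]

end Adjoint

/-- The ambient isometry group. -/
structure Isom (σ : F ≃+* F) (f : (ι → F) → (ι → F) → F) (U : Subgroup (GL ι F)) : Prop where
  semi : IsSemiForm σ f
  mem : ∀ g : GL ι F, g ∈ U ↔ ∀ u v, f ((g : Matrix ι ι F) *ᵥ u) ((g : Matrix ι ι F) *ᵥ v) = f u v

variable {σ : F ≃+* F} {f : (ι → F) → (ι → F) → F} {U : Subgroup (GL ι F)}

theorem Isom.adj (hU : Isom σ f U) {g : GL ι F} (hg : g ∈ U) : Adj f (g : MM) ((g⁻¹ : GL ι F) : MM) := fun u v => by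
  conv_lhs => rw [show v = (g : MM) *ᵥ (((g⁻¹ : GL ι F) : MM) *ᵥ v) by
    rw [Matrix.mulVec_mulVec, Units.mul_inv, Matrix.one_mulVec]]
  exact (hU.mem g).mp hg _ _

theorem Isom.of_adj (hU : Isom σ f U) {g : GL ι F} {A' : MM} (hA : Adj f (g : MM) A') (he : A' * (g : MM) = 1) :
    g ∈ U := (hU.mem g).mpr fun u v => by rw [hA, Matrix.mulVec_mulVec, he, Matrix.one_mulVec]

theorem Isom.adj_self (hU : Isom σ f U) {g : GL ι F} (hg : g ∈ U) (hgg : (g : MM) * g = 1) :
    Adj f (g : MM) (g : MM) := by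
  have e : ((g⁻¹ : GL ι F) : MM) = g :=
    congrArg (fun t : GL ι F => (t : MM)) (inv_eq_of_mul_eq_one_left (Units.ext hgg : g * g = 1))
  simpa [e] using hU.adj hg

theorem Isom.adj_neg (hU : Isom σ f U) {g : GL ι F} (hg : g ∈ U) (hgg : (g : MM) * g = -1) :
    Adj f (g : MM) (-(g : MM)) := by
  have e : ((g⁻¹ : GL ι F) : MM) = -(g : MM) :=
    congrArg (fun t : GL ι F => (t : MM)) (inv_eq_of_mul_eq_one_left (Units.ext (by simp [hgg]) : (-g) * g = 1))
  simpa [e] using hU.adj hg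

section Formulas

variable (two : (2 : F) ≠ 0)

/-- The element of order three attached to a quaternion pair. -/
def hmat (A B : MM) : MM := (2 : F)⁻¹ • (-1 + A + B + A * B)

/-- Its inverse. -/
def hmat' (A B : MM) : MM := (2 : F)⁻¹ • (-1 - A - B - A * B)

/-- The reflection attached to two commuting involutions. -/
def kmat (P Q : MM) : MM := (2 : F)⁻¹ • (1 + P + Q - P * Q)

theorem quat_rules {A B : MM} (hA : A * A = -1) (hB : B * B = -1) (hBA : B * A = -(A * B)) :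
    (∀ z, A * (A * z) = -z) ∧ (∀ z, B * (B * z) = -z) ∧ ∀ z, B * (A * z) = -(A * (B * z)) :=
  ⟨fun z => by rw [← mul_assoc, hA, neg_one_mul], fun z => by rw [← mul_assoc, hB, neg_one_mul],
    fun z => by rw [← mul_assoc, hBA, neg_mul, mul_assoc]⟩

theorem hmat_conj_left {A B : MM} (hA : A * A = -1) (hB : B * B = -1) (hBA : B * A = -(A * B)) :
    hmat A B * A = A * B * hmat A B ∧ hmat A B * B = A * hmat A B := by
  obtain ⟨rA, rB, rBA⟩ := quat_rules hA hB hBA
  constructor <;>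
    simp only [hmat, smul_mul_assoc, mul_smul_comm] <;> congr 1 <;>
      simp only [mul_add, add_mul, mul_neg, neg_mul, mul_one, one_mul, mul_assoc, hA, hB, hBA, rA, rB, rBA,
        neg_neg] <;> abel

theorem hmat_sq {A B : MM} (two : (2 : F) ≠ 0) (hA : A * A = -1) (hB : B * B = -1) (hBA : B * A = -(A * B)) :
    hmat A B * hmat A B = hmat' A B := by
  obtain ⟨rA, rB, rBA⟩ := quat_rules hA hB hBA
  simp only [hmat, hmat', smul_mul_assoc, mul_smul_comm, smul_smul]
  simp only [mul_add, add_mul, mul_neg, neg_mul, mul_one, one_mul, mul_assoc, hA, hB, hBA, rA, rB, rBA, neg_neg]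
  match_scalars <;> field_simp <;> ring

theorem hmat_inv {A B : MM} (two : (2 : F) ≠ 0) (hA : A * A = -1) (hB : B * B = -1) (hBA : B * A = -(A * B)) :
    hmat A B * hmat' A B = 1 ∧ hmat' A B * hmat A B = 1 := by
  obtain ⟨rA, rB, rBA⟩ := quat_rules hA hB hBA
  constructor <;>
  · simp only [hmat, hmat', smul_mul_assoc, mul_smul_comm, smul_smul]
    simp only [mul_add, add_mul, mul_sub, sub_mul, mul_neg, neg_mul, mul_one, one_mul, mul_assoc, hA, hB, hBA, rA,
      rB, rBA, neg_neg]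
    match_scalars <;> field_simp <;> ring

theorem hmat_comm {A B C : MM} (hCA : C * A = A * C) (hCB : C * B = B * C) : C * hmat A B = hmat A B * C := by
  simp only [hmat, mul_smul_comm, smul_mul_assoc, mul_add, add_mul, mul_neg, neg_mul, mul_one, one_mul]
  rw [hCA, hCB, ← mul_assoc C A B, hCA, mul_assoc A C B, hCB, mul_assoc]

theorem kmat_sq {P Q : MM} (two : (2 : F) ≠ 0) (hP : P * P = 1) (hQ : Q * Q = 1) (hQP : Q * P = P * Q) :
    kmat P Q * kmat P Q = 1 := by
  have rP : ∀ z, P * (P * z) = z := fun z => by rw [← mul_assoc, hP, one_mul]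
  have rQ : ∀ z, Q * (Q * z) = z := fun z => by rw [← mul_assoc, hQ, one_mul]
  have rQP : ∀ z, Q * (P * z) = P * (Q * z) := fun z => by rw [← mul_assoc, hQP, mul_assoc]
  simp only [kmat, smul_mul_assoc, mul_smul_comm, smul_smul]
  simp only [mul_add, add_mul, mul_sub, sub_mul, mul_one, one_mul, mul_assoc, hP, hQ, hQP, rP, rQ, rQP]
  match_scalars <;> field_simp <;> ring

/-- Moving an element with prescribed signs across the reflection. -/
theorem kmat_conj {P Q g : MM} (hP : P * P = 1) (hQ : Q * Q = 1) (hQP : Q * P = P * Q)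
    (hgP : P * g = g * P ∨ P * g = -(g * P)) (hgQ : Q * g = g * Q ∨ Q * g = -(g * Q)) :
    kmat P Q * g = g * kmat P Q ∨ kmat P Q * g = g * Q * kmat P Q ∨ kmat P Q * g = g * P * kmat P Q ∨
      kmat P Q * g = -(g * (P * Q) * kmat P Q) := by
  have rP : ∀ z, P * (P * z) = z := fun z => by rw [← mul_assoc, hP, one_mul]
  have rQ : ∀ z, Q * (Q * z) = z := fun z => by rw [← mul_assoc, hQ, one_mul]
  have rQP : ∀ z, Q * (P * z) = P * (Q * z) := fun z => by rw [← mul_assoc, hQP, mul_assoc]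
  rcases hgP with e | e <;> rcases hgQ with e' | e' <;>
    [left; (right; right; left); (right; left); (right; right; right)] <;>
    simp only [kmat, smul_mul_assoc, mul_smul_comm, ← smul_neg] <;> congr 1 <;>
    simp only [mul_add, add_mul, mul_sub, sub_mul, mul_one, one_mul, mul_assoc, neg_mul, mul_neg, hP, hQ, hQP, rP,
      rQ, rQP, e, e'] <;>
    simp only [← mul_assoc, e, e', neg_mul, mul_neg, neg_neg] <;> simp only [mul_assoc, hP, hQ, hQP, rP, rQ, rQP, mul_one] <;>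
    abel

/-- Conjugation by a difference of anticommuting involutions. -/
theorem refl_conj {x y z : MM} (hx : x * x = 1) (hy : y * y = 1) (hyx : y * x = -(x * y)) :
    (x - y) * (x - y) = (2 : F) • 1 ∧ (x - y) * x * (x - y) = (-2 : F) • y ∧
      (x - y) * y * (x - y) = (-2 : F) • x ∧
      (z * x = -(x * z) → z * y = -(y * z) → (x - y) * z * (x - y) = (-2 : F) • z) := by
  have rx : ∀ z, x * (x * z) = z := fun z => by rw [← mul_assoc, hx, one_mul]
  have ry : ∀ z, y * (y * z) = z := fun z => by rw [← mul_assoc, hy, one_mul]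
  have ryx : ∀ z, y * (x * z) = -(x * (y * z)) := fun z => by rw [← mul_assoc, hyx, neg_mul, mul_assoc]
  refine ⟨?_, ?_, ?_, fun e e' => ?_⟩
  · simp only [mul_sub, sub_mul, hx, hy, hyx]
    module
  · rw [sub_mul x y x, hx, hyx, sub_neg_eq_add, add_mul, one_mul, mul_sub, mul_assoc x y x, hyx, mul_neg, rx,
      mul_assoc x y y, hy, mul_one]
    module
  · rw [sub_mul x y y, hy, sub_mul, one_mul, mul_sub, mul_assoc x y x, hyx, mul_neg, rx, mul_assoc x y y, hy, mul_one]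
    module
  · have e0 : (x - y) * z = -(z * (x - y)) := by
      rw [sub_mul, mul_sub, e, e']; abel
    have e1 : (x - y) * (x - y) = (2 : F) • 1 := by
      simp only [mul_sub, sub_mul, hx, hy, hyx]
      module
    rw [e0, neg_mul, mul_assoc, e1, mul_smul_comm, mul_one]
    module

end Formulas

variable {R : Subgroup (GL ι F)} {a b A B : GL ι F} (h : Pauli4 R) (hfr : Frame R a b A B)

include h hfr

/-- A criterion for normalizing. -/
theorem mem_normalizer [Finite F] {y : GL ι F}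
    (hy : ∀ z ∈ ({a, b, A, B} : Set (GL ι F)), ∃ z' ∈ R, y * z = z' * y) : y ∈ subgroupNormalizer R := by
  have hz : ∀ z ∈ ({a, b, A, B} : Set (GL ι F)), y * z * y⁻¹ ∈ R := fun z hz => by
    obtain ⟨z', hz', e⟩ := hy z hz
    rwa [e, mul_inv_cancel_right]
  have hmul : ∀ u v : GL ι F, y * u * y⁻¹ ∈ R → y * v * y⁻¹ ∈ R → y * (u * v) * y⁻¹ ∈ R := fun u v hu hv => by
    rw [show y * (u * v) * y⁻¹ = (y * u * y⁻¹) * (y * v * y⁻¹) by group]
    exact mul_mem hu hv
  have hall : R.map (MulAut.conj y).toMonoidHom ≤ R := by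
    rintro _ ⟨g, hg, rfl⟩
    obtain ⟨u, hu, v, hv, c, ⟨l, hl⟩, hc, rfl⟩ := hfr.gen g hg
    show y * (u * v * c) * y⁻¹ ∈ R
    refine hmul _ _ (hmul _ _ ?_ ?_) ?_
    · rcases hu with rfl | rfl | rfl | rfl
      · simp
      · exact hz _ (by simp)
      · exact hz _ (by simp)
      · exact hmul _ _ (hz _ (by simp)) (hz _ (by simp))
    · rcases hv with rfl | rfl | rfl | rfl
      · simp
      · exact hz _ (by simp)
      · exact hz _ (by simp)
      · exact hmul _ _ (hz _ (by simp)) (hz _ (by simp))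
    · rwa [← scalar_comm h hl y, mul_inv_cancel_right]
  have he := Subgroup.eq_of_le_of_card_ge hall
    (by rw [Subgroup.card_map_of_injective (MulAut.conj y).injective])
  refine Subgroup.mem_normalizer_iff.mpr fun k => ⟨fun hk => ?_, fun hk => ?_⟩
  · exact he.le ⟨k, hk, rfl⟩
  · obtain ⟨g, hg, e⟩ := he.ge hk
    have : g = k := (MulAut.conj y).injective (by simpa using e)
    exact this ▸ hg

/-- What commutes with the frame is scalar. -/
theorem scalar_of_frame {y : GL ι F} (hy : ∀ z ∈ ({a, b, A, B} : Set (GL ι F)), Commute y z) :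
    ∃ c : F, (y : MM) = c • 1 := by
  refine scalar_of_central h fun g hg => Subgroup.mem_centralizer_singleton_iff.mpr ?_
  obtain ⟨u, hu, v, hv, c, ⟨l, hl⟩, hc, rfl⟩ := hfr.gen g hg
  have e1 : Commute y u := by
    rcases hu with rfl | rfl | rfl | rfl
    exacts [Commute.one_right y, hy _ (by simp), hy _ (by simp), (hy _ (by simp)).mul_right (hy _ (by simp))]
  have e2 : Commute y v := by
    rcases hv with rfl | rfl | rfl | rfl
    exacts [Commute.one_right y, hy _ (by simp), hy _ (by simp), (hy _ (by simp)).mul_right (hy _ (by simp))]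
  exact ((e1.mul_right e2).mul_right (scalar_comm h hl y).symm).symm.eq

/-- An element of order three in the normalizer, attached to the pair `A`, `B`. -/
theorem exists_three [Finite F] (hU : Isom σ f U) (hRU : R ≤ U) :
    ∃ g : GL ι F, (g : MM) = hmat (A : MM) B ∧ g ∈ U ∧ g ∈ subgroupNormalizer R ∧ g ^ 3 = 1 := by
  obtain ⟨i1, i2⟩ := hmat_inv h.two hfr.AA hfr.BB hfr.BA
  let g : GL ι F := ⟨hmat (A : MM) B, hmat' (A : MM) B, i1, i2⟩
  obtain ⟨c1, c2⟩ := hmat_conj_left hfr.AA hfr.BB hfr.BA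
  refine ⟨g, rfl, ?_, ?_, ?_⟩
  · refine hU.of_adj (A' := hmat' (A : MM) B) ?_ i2
    have hs : σ (2 : F)⁻¹ = (2 : F)⁻¹ := by rw [map_inv₀, map_ofNat]
    have hA := hU.adj_neg (hRU hfr.A_mem) hfr.AA
    have hB := hU.adj_neg (hRU hfr.B_mem) hfr.BB
    have e : hmat' (A : MM) B = (2 : F)⁻¹ • (-1 + -(A : MM) + -(B : MM) + -(B : MM) * -(A : MM)) := by
      rw [hmat', neg_mul_neg, hfr.BA]
      congr 1
      abel
    rw [e]
    exact (((((Adj.one hU.semi).neg hU.semi).add hU.semi hA).add hU.semi hB).add hU.semi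
      (hA.mul hU.semi hB)).smul hU.semi hs
  · refine mem_normalizer h hfr ?_
    intro z hz
    rcases hz with e | e | e | e <;> subst z
    · exact ⟨_, hfr.a_mem, Units.ext (hmat_comm hfr.Aa.symm hfr.Ba.symm).symm⟩
    · exact ⟨_, hfr.b_mem, Units.ext (hmat_comm hfr.Ab.symm hfr.Bb.symm).symm⟩
    · exact ⟨A * B, mul_mem hfr.A_mem hfr.B_mem, Units.ext c1⟩
    · exact ⟨A, hfr.A_mem, Units.ext c2⟩
  · refine Units.ext ?_
    rw [pow_three, Units.val_mul, Units.val_mul, Units.val_one]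
    change hmat (A : MM) B * (hmat (A : MM) B * hmat (A : MM) B) = 1
    rw [hmat_sq h.two hfr.AA hfr.BB hfr.BA, i1]

/-- A reflection in the normalizer, when `R` contains a scalar of square `-1`. -/
theorem exists_refl [Finite F] (hU : Isom σ f U) (hRU : R ≤ U) {i : GL ι F} (hiR : i ∈ R) {l : F}
    (hil : (i : MM) = l • 1) (hll : l * l = -1) :
    ∃ g : GL ι F, (g : MM) = kmat (a : MM) ((i * A : GL ι F) : MM) ∧ g ∈ U ∧ g ∈ subgroupNormalizer R ∧
      (g : MM) * g = 1 := by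
  obtain ⟨Q, hQd⟩ : ∃ Q : GL ι F, Q = i * A := ⟨_, rfl⟩
  have hQv : (Q : MM) = l • (A : MM) := by rw [hQd, Units.val_mul, hil, smul_mul_assoc, one_mul]
  have hQR : Q ∈ R := hQd ▸ mul_mem hiR hfr.A_mem
  have hQQ : (Q : MM) * Q = 1 := by rw [hQv, smul_mul_smul_comm, hll, hfr.AA, neg_one_smul, neg_neg]
  have hQa : (Q : MM) * a = (a : MM) * Q := by rw [hQv, smul_mul_assoc, mul_smul_comm, hfr.Aa]
  have hkk := kmat_sq h.two hfr.aa hQQ hQa
  let g : GL ι F := ⟨kmat (a : MM) Q, kmat (a : MM) Q, hkk, hkk⟩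
  refine ⟨g, by rw [← hQd], ?_, ?_, hkk⟩
  · refine hU.of_adj (A' := kmat (a : MM) Q) ?_ hkk
    have hs : σ (2 : F)⁻¹ = (2 : F)⁻¹ := by rw [map_inv₀, map_ofNat]
    have hP := hU.adj_self (hRU hfr.a_mem) hfr.aa
    have hQ := hU.adj_self (hRU hQR) hQQ
    have hPQ := hP.mul hU.semi hQ
    rw [hQa] at hPQ
    exact ((((Adj.one hU.semi).add hU.semi hP).add hU.semi hQ).sub hU.semi hPQ).smul hU.semi hs
  · refine mem_normalizer h hfr fun z hz => ?_
    have hzR : z ∈ R := by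
      rcases hz with e | e | e | e <;> subst z
      exacts [hfr.a_mem, hfr.b_mem, hfr.A_mem, hfr.B_mem]
    rcases kmat_conj (g := (z : MM)) hfr.aa hQQ hQa (h.comm a hfr.a_mem z hzR) (h.comm Q hQR z hzR) with
      e | e | e | e
    · exact ⟨z, hzR, Units.ext e⟩
    · exact ⟨z * Q, mul_mem hzR hQR, Units.ext e⟩
    · exact ⟨z * a, mul_mem hzR hfr.a_mem, Units.ext e⟩
    · exact ⟨-1 * (z * (a * Q)), mul_mem h.neg (mul_mem hzR (mul_mem hfr.a_mem hQR)),
        Units.ext (by simp [e, g])⟩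

/-- The five mutually anticommuting involutions, and the element permuting them cyclically. -/
theorem exists_cycle [Finite F] (hU : Isom σ f U) (hRU : R ≤ U) :
    ∃ G : GL ι F, ∃ l : Fˣ, G ∈ U ∧ G ∈ subgroupNormalizer R ∧ (∀ c : F, (G : MM) ≠ c • 1) ∧
      ((G ^ 5 : GL ι F) : MM) = (l : F) • 1 := by
  have two := h.two
  have r1 : ∀ z, (a : MM) * (a * z) = z := fun z => by rw [← mul_assoc, hfr.aa, one_mul]
  have r2 : ∀ z, (b : MM) * (b * z) = z := fun z => by rw [← mul_assoc, hfr.bb, one_mul]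
  have r3 : ∀ z, (A : MM) * (A * z) = -z := fun z => by rw [← mul_assoc, hfr.AA, neg_one_mul]
  have r4 : ∀ z, (B : MM) * (B * z) = -z := fun z => by rw [← mul_assoc, hfr.BB, neg_one_mul]
  have s1 : ∀ z, (b : MM) * (a * z) = -((a : MM) * (b * z)) := fun z => by rw [← mul_assoc, hfr.ba, neg_mul, mul_assoc]
  have s2 : ∀ z, (B : MM) * (A * z) = -((A : MM) * (B * z)) := fun z => by rw [← mul_assoc, hfr.BA, neg_mul, mul_assoc]
  have s3 : ∀ z, (A : MM) * (a * z) = (a : MM) * (A * z) := fun z => by rw [← mul_assoc, hfr.Aa, mul_assoc]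
  have s4 : ∀ z, (A : MM) * (b * z) = (b : MM) * (A * z) := fun z => by rw [← mul_assoc, hfr.Ab, mul_assoc]
  have s5 : ∀ z, (B : MM) * (a * z) = (a : MM) * (B * z) := fun z => by rw [← mul_assoc, hfr.Ba, mul_assoc]
  have s6 : ∀ z, (B : MM) * (b * z) = (b : MM) * (B * z) := fun z => by rw [← mul_assoc, hfr.Bb, mul_assoc]
  obtain ⟨γ, hγ⟩ : ∃ γ : Fin 5 → GL ι F, γ = ![a, b, a * b * A, a * b * B, a * b * (A * B)] := ⟨_, rfl⟩
  have hγR : ∀ i, γ i ∈ R := fun i => by
    rw [hγ]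
    fin_cases i
    exacts [hfr.a_mem, hfr.b_mem, mul_mem (mul_mem hfr.a_mem hfr.b_mem) hfr.A_mem,
      mul_mem (mul_mem hfr.a_mem hfr.b_mem) hfr.B_mem,
      mul_mem (mul_mem hfr.a_mem hfr.b_mem) (mul_mem hfr.A_mem hfr.B_mem)]
  have hsq : ∀ i, (γ i : MM) * γ i = 1 := fun i => by
    rw [hγ]
    fin_cases i <;>
      simp [mul_assoc, hfr.aa, hfr.bb, hfr.AA, hfr.BB, hfr.ba, hfr.BA, hfr.Aa, hfr.Ab, hfr.Ba, hfr.Bb, r1, r2, r3,
        r4, s1, s2, s3, s4, s5, s6]
  have hanti : ∀ i j, i ≠ j → (γ j : MM) * γ i = -((γ i : MM) * γ j) := fun i j hij => by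
    rw [hγ]
    fin_cases i <;> fin_cases j <;>
      first
        | exact absurd rfl hij
        | simp [mul_assoc, hfr.aa, hfr.bb, hfr.AA, hfr.BB, hfr.ba, hfr.BA, hfr.Aa, hfr.Ab, hfr.Ba, hfr.Bb, r1, r2,
            r3, r4, s1, s2, s3, s4, s5, s6]
  obtain ⟨t, ht⟩ : ∃ t : Fin 4 → MM, ∀ i, t i = (γ i.castSucc : MM) - γ i.succ := ⟨_, fun _ => rfl⟩
  have ht2 : ∀ i, t i * t i = (2 : F) • 1 := fun i => by
    rw [ht]
    exact (refl_conj (z := (1 : MM)) (hsq _) (hsq _) (hanti _ _ Fin.castSucc_lt_succ.ne)).1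
  have hconj : ∀ i k, t i * (γ k : MM) * t i =
      (-2 : F) • (γ (Equiv.swap i.castSucc i.succ k) : MM) := by
    intro i k
    obtain ⟨-, e1, e2, e3⟩ := refl_conj (z := (γ k : MM)) (hsq i.castSucc) (hsq i.succ)
      (hanti _ _ Fin.castSucc_lt_succ.ne)
    rw [ht]
    by_cases h1 : k = i.castSucc
    · rw [h1, Equiv.swap_apply_left, e1]
    · by_cases h2 : k = i.succ
      · rw [h2, Equiv.swap_apply_right, e2]
      · rw [Equiv.swap_apply_of_ne_of_ne h1 h2]
        exact e3 (hanti _ _ (Ne.symm h1)) (hanti _ _ (Ne.symm h2))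
  obtain ⟨M, hM⟩ : ∃ M : MM, M = (4 : F)⁻¹ • (t 0 * t 1 * t 2 * t 3) := ⟨_, rfl⟩
  obtain ⟨M', hM'⟩ : ∃ M' : MM, M' = (4 : F)⁻¹ • (t 3 * t 2 * t 1 * t 0) := ⟨_, rfl⟩
  have h4 : (4 : F) ≠ 0 := four_ne h
  have hMM : ∀ X Y : MM, (4 : F)⁻¹ • (t 0 * t 1 * t 2 * t 3) * X * ((4 : F)⁻¹ • Y) =
      ((4 : F)⁻¹ * (4 : F)⁻¹) • (t 0 * (t 1 * (t 2 * (t 3 * X))) * Y) := fun X Y => by
    simp only [smul_mul_assoc, mul_smul_comm, smul_smul, mul_assoc]
  have i1 : M * M' = 1 := by
    rw [hM, hM', ← mul_one ((4 : F)⁻¹ • (t 0 * t 1 * t 2 * t 3)), hMM, mul_one]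
    have : t 0 * (t 1 * (t 2 * t 3)) * (t 3 * t 2 * t 1 * t 0) = (2 : F) ^ 4 • 1 := by
      calc t 0 * (t 1 * (t 2 * t 3)) * (t 3 * t 2 * t 1 * t 0)
          = t 0 * (t 1 * (t 2 * (t 3 * t 3) * t 2) * t 1) * t 0 := by simp only [mul_assoc]
        _ = _ := by
          simp only [ht2, mul_smul_comm, smul_mul_assoc, mul_one, smul_smul]
          ring_nf
    rw [this, smul_smul]
    convert one_smul F (1 : MM) using 2
    field_simp
    ring
  have i2 : M' * M = 1 := mul_eq_one_comm.mp i1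
  let G : GL ι F := ⟨M, M', i1, i2⟩
  obtain ⟨π, hπ⟩ : ∃ π : Fin 5 → Fin 5, ∀ k, π k =
      Equiv.swap (0 : Fin 5) 1 (Equiv.swap (1 : Fin 5) 2 (Equiv.swap (2 : Fin 5) 3 (Equiv.swap (3 : Fin 5) 4 k))) :=
    ⟨_, fun _ => rfl⟩
  have hπ1 : ∀ k, π k = k + 1 := fun k => by rw [hπ]; fin_cases k <;> decide
  have hG : ∀ k, G * γ k = γ (k + 1) * G := by
    intro k
    refine Units.ext ?_
    have e : M * (γ k : MM) * M' = (γ (k + 1) : MM) := by
      rw [hM, hM', hMM, ← hπ1, hπ]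
      calc ((4 : F)⁻¹ * (4 : F)⁻¹) • (t 0 * (t 1 * (t 2 * (t 3 * (γ k : MM)))) * (t 3 * t 2 * t 1 * t 0))
          = ((4 : F)⁻¹ * (4 : F)⁻¹) • (t 0 * (t 1 * (t 2 * (t 3 * (γ k : MM) * t 3) * t 2) * t 1) * t 0) := by
            simp only [mul_assoc]
        _ = _ := by
          simp only [hconj, mul_smul_comm, smul_mul_assoc, smul_smul]
          refine (congrArg (· • _) ?_).trans (one_smul F _)
          field_simp
          ring
    rw [Units.val_mul, Units.val_mul]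
    show M * (γ k : MM) = (γ (k + 1) : MM) * M
    rw [← e, mul_assoc (M * (γ k : MM)), i2, mul_one]
  have hγ0 : γ 0 = a := by rw [hγ]; rfl
  have hγ1 : γ 1 = b := by rw [hγ]; rfl
  have hA' : A = (γ 0 * γ 1)⁻¹ * γ 2 := by rw [hγ]; simp [mul_assoc]
  have hB' : B = (γ 0 * γ 1)⁻¹ * γ 3 := by rw [hγ]; simp [mul_assoc]
  obtain ⟨c, hc⟩ : ∃ c : F, ((G ^ 5 : GL ι F) : MM) = c • 1 := by
    refine scalar_of_frame h hfr fun z hz => ?_
    have hk : ∀ k, Commute (G ^ 5) (γ k) := fun k => by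
      have h5 : ∀ k : Fin 5, k + 1 + 1 + 1 + 1 + 1 = k := by decide
      show G ^ 5 * γ k = γ k * G ^ 5
      have step : ∀ (k : Fin 5) (X : GL ι F), G * (γ k * X) = γ (k + 1) * (G * X) := fun k X => by
        rw [← mul_assoc, hG, mul_assoc]
      rw [show G ^ 5 = G * G * G * G * G by simp only [pow_succ, pow_zero, one_mul]]
      simp only [mul_assoc, hG, step, h5]
    rcases hz with e | e | e | e <;> subst z
    · exact hγ0 ▸ hk 0
    · exact hγ1 ▸ hk 1
    · exact hA' ▸ ((hk 0).mul_right (hk 1)).inv_right.mul_right (hk 2)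
    · exact hB' ▸ ((hk 0).mul_right (hk 1)).inv_right.mul_right (hk 3)
  have hc0 : c ≠ 0 := fun e => by
    have := nonempty h
    rw [e, zero_smul] at hc
    exact Units.ne_zero _ hc
  refine ⟨G, Units.mk0 c hc0, ?_, ?_, fun d hd => ?_, hc⟩
  · have hs : σ (4 : F)⁻¹ = (4 : F)⁻¹ := by rw [map_inv₀, map_ofNat]
    have hti : ∀ i, Adj f (t i) (t i) := fun i => by
      rw [ht]
      exact (hU.adj_self (hRU (hγR _)) (hsq _)).sub hU.semi (hU.adj_self (hRU (hγR _)) (hsq _))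
    refine hU.of_adj (A' := M') ?_ i2
    have := ((((hti 0).mul hU.semi (hti 1)).mul hU.semi (hti 2)).mul hU.semi (hti 3)).smul hU.semi hs
    rw [hM']
    simpa only [G, hM, mul_assoc] using this
  · refine mem_normalizer h hfr fun z hz => ?_
    rcases hz with e | e | e | e <;> subst z
    · exact ⟨γ 1, hγR 1, by rw [← hγ0]; exact hG 0⟩
    · exact ⟨γ 2, hγR 2, by rw [← hγ1]; exact hG 1⟩
    · refine ⟨(γ 1 * γ 2)⁻¹ * γ 3, mul_mem (inv_mem (mul_mem (hγR 1) (hγR 2))) (hγR 3), ?_⟩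
      have e : G * (γ 0 * γ 1) = (γ 1 * γ 2) * G := by
        rw [← mul_assoc, hG 0, mul_assoc, hG 1, ← mul_assoc]; rfl
      rw [hA', ← mul_assoc, show G * (γ 0 * γ 1)⁻¹ = (γ 1 * γ 2)⁻¹ * G from by
        rw [eq_inv_mul_iff_mul_eq, ← mul_assoc, ← e, mul_inv_cancel_right], mul_assoc, hG 2, ← mul_assoc]
      rfl
    · refine ⟨(γ 1 * γ 2)⁻¹ * γ 4, mul_mem (inv_mem (mul_mem (hγR 1) (hγR 2))) (hγR 4), ?_⟩
      have e : G * (γ 0 * γ 1) = (γ 1 * γ 2) * G := by
        rw [← mul_assoc, hG 0, mul_assoc, hG 1, ← mul_assoc]; rfl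
      rw [hB', ← mul_assoc, show G * (γ 0 * γ 1)⁻¹ = (γ 1 * γ 2)⁻¹ * G from by
        rw [eq_inv_mul_iff_mul_eq, ← mul_assoc, ← e, mul_inv_cancel_right], mul_assoc, hG 3, ← mul_assoc]
      rfl
  · -- `G` moves the first member to the second
    have e : Commute G (γ 0) := scalar_comm h hd (γ 0)
    have e1 := (hG 0).symm.trans e.eq
    rw [zero_add] at e1
    have e2 := congrArg (fun z : GL ι F => (z : MM)) (mul_right_cancel e1)
    exact eq_of_comm_neg h (γ 1).isUnit (γ 0).isUnit (by rw [e2]) (hanti 0 1 (by decide))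

end Cfsg.Agent.Classical.SymFour
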