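import Cfsg.Agent.Lib.Classical.Elusive.SymTypeBasic

/-!
# A frame of a symplectic-type 2-group in four dimensions, and elements of its normalizer

`R` is generated modulo its centre by two anticommuting involutions `a`, `b` and two anticommuting
elements `A`, `B` of square `-1` centralising them. From a frame one writes down elements of order 3
and 5 and a reflection in the normalizer.
-/

set_option autoImplicit false
set_option linter.unusedSectionVars false

namespace Cfsg.Agent.Classical.SymFour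

open Matrix Cfsg.Geo

variable {ι : Type} [Fintype ι] [DecidableEq ι] {F : Type*} [Field F]

local notation "MM" => Matrix ι ι F

/-- A frame. -/
structure Frame (R : Subgroup (GL ι F)) (a b A B : GL ι F) : Prop where
  a_mem : a ∈ R
  b_mem : b ∈ R
  A_mem : A ∈ R
  B_mem : B ∈ R
  aa : (a : Matrix ι ι F) * a = 1
  bb : (b : Matrix ι ι F) * b = 1
  AA : (A : Matrix ι ι F) * A = -1
  BB : (B : Matrix ι ι F) * B = -1
  ba : (b : Matrix ι ι F) * a = -((a : Matrix ι ι F) * b)
  BA : (B : Matrix ι ι F) * A = -((A : Matrix ι ι F) * B)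
  Aa : (A : Matrix ι ι F) * a = (a : Matrix ι ι F) * A
  Ab : (A : Matrix ι ι F) * b = (b : Matrix ι ι F) * A
  Ba : (B : Matrix ι ι F) * a = (a : Matrix ι ι F) * B
  Bb : (B : Matrix ι ι F) * b = (b : Matrix ι ι F) * B
  gen : ∀ g ∈ R, ∃ u ∈ ({1, a, b, a * b} : Set (GL ι F)), ∃ v ∈ ({1, A, B, A * B} : Set (GL ι F)),
    ∃ c : GL ι F, (∃ l : F, (c : Matrix ι ι F) = l • 1) ∧ c ∈ R ∧ g = u * v * c

variable {R : Subgroup (GL ι F)} (h : Pauli4 R)

include h

theorem eq_of_comm_neg {x y : MM} (hx : IsUnit x) (hy : IsUnit y) (h1 : x * y = y * x) (h2 : x * y = -(y * x)) :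
    False := by
  have := nonempty h
  have : (2 : F) • (y * x) = 0 := by
    rw [two_smul]
    nth_rewrite 1 [← h1]
    rw [h2, neg_add_cancel]
  exact (hy.mul hx).ne_zero ((smul_eq_zero.mp this).resolve_left h.two)

/-- Splitting off an anticommuting pair. -/
theorem split {u v g : GL ι F} (hu : u ∈ R) (hv : v ∈ R) (hvu : (v : MM) * u = -((u : MM) * v)) (hg : g ∈ R) :
    ∃ w ∈ ({1, u, v, u * v} : Set (GL ι F)), w ∈ R ∧
      ((w⁻¹ * g : GL ι F) : MM) * u = (u : MM) * ((w⁻¹ * g : GL ι F) : MM) ∧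
      ((w⁻¹ * g : GL ι F) : MM) * v = (v : MM) * ((w⁻¹ * g : GL ι F) : MM) := by
  have huv : (u : MM) * v = -((v : MM) * u) := by rw [hvu, neg_neg]
  -- signs of commutation multiply
  have key : ∀ w x : GL ι F, ((w : MM) * x = (x : MM) * w → (g : MM) * x = (x : MM) * g →
        ((w⁻¹ * g : GL ι F) : MM) * x = (x : MM) * ((w⁻¹ * g : GL ι F) : MM)) ∧
      ((w : MM) * x = -((x : MM) * w) → (g : MM) * x = -((x : MM) * g) →
        ((w⁻¹ * g : GL ι F) : MM) * x = (x : MM) * ((w⁻¹ * g : GL ι F) : MM)) := by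
    intro w x
    constructor <;> intro hw hgx <;> refine w.isUnit.mul_left_cancel ?_ <;>
      rw [Units.val_mul, ← mul_assoc, ← mul_assoc, Units.mul_inv, one_mul, hgx, ← mul_assoc (w : MM) (x : MM), hw]
    · rw [mul_assoc, ← mul_assoc (w : MM) _ (g : MM), Units.mul_inv, one_mul]
    · rw [neg_mul, mul_assoc, ← mul_assoc (w : MM) _ (g : MM), Units.mul_inv, one_mul]
  have h1 : ∀ x : GL ι F, ((1 : GL ι F) : MM) * x = (x : MM) * (1 : GL ι F) := fun x => by simp
  have huvu : ((u * v : GL ι F) : MM) * u = -((u : MM) * (u * v : GL ι F)) := by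
    rw [Units.val_mul, mul_assoc, hvu, mul_neg]
  have huvv : ((u * v : GL ι F) : MM) * v = -((v : MM) * (u * v : GL ι F)) := by
    rw [Units.val_mul, huv, neg_mul, mul_assoc, huv]
  rcases h.comm g hg u hu with e | e <;> rcases h.comm g hg v hv with e' | e'
  · exact ⟨1, by simp, one_mem _, (key 1 u).1 (h1 u) e, (key 1 v).1 (h1 v) e'⟩
  · exact ⟨u, by simp, hu, (key u u).1 rfl e, (key u v).2 huv e'⟩
  · exact ⟨v, by simp, hv, (key v u).2 hvu e, (key v v).1 rfl e'⟩
  · exact ⟨u * v, by simp, mul_mem hu hv, (key (u * v) u).2 huvu e, (key (u * v) v).2 huvv e'⟩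

/-- An anticommuting pair can be replaced by one with equal squares. -/
theorem normalise_pair {u v : GL ι F} (hu : u ∈ R) (hv : v ∈ R) (hvu : (v : MM) * u = -((u : MM) * v)) :
    ∃ u' v' : GL ι F, u' ∈ R ∧ v' ∈ R ∧ (v' : MM) * u' = -((u' : MM) * v') ∧
      (((u' : MM) * u' = 1 ∧ (v' : MM) * v' = 1) ∨ ((u' : MM) * u' = -1 ∧ (v' : MM) * v' = -1)) ∧
      ∀ x : MM, x * (u : MM) = (u : MM) * x → x * (v : MM) = (v : MM) * x →
        x * (u' : MM) = (u' : MM) * x ∧ x * (v' : MM) = (v' : MM) * x := by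
  have huv : (u : MM) * v = -((v : MM) * u) := by rw [hvu, neg_neg]
  have hcm : ∀ x : MM, x * (u : MM) = (u : MM) * x → x * (v : MM) = (v : MM) * x →
      x * ((u * v : GL ι F) : MM) = ((u * v : GL ι F) : MM) * x := fun x e e' => by
    rw [Units.val_mul, ← mul_assoc, e, mul_assoc, e', mul_assoc]
  have hsq : ((u * v : GL ι F) : MM) * (u * v : GL ι F) = -(((u : MM) * u) * ((v : MM) * v)) := by
    rw [Units.val_mul, mul_assoc, ← mul_assoc (v : MM) (u : MM), hvu, neg_mul, mul_neg, mul_assoc, mul_assoc]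
  rcases h.sq u hu with e | e <;> rcases h.sq v hv with e' | e'
  · exact ⟨u, v, hu, hv, hvu, Or.inl ⟨e, e'⟩, fun x p q => ⟨p, q⟩⟩
  · refine ⟨u, u * v, hu, mul_mem hu hv, ?_, Or.inl ⟨e, by rw [hsq, e, e', one_mul, neg_neg]⟩,
      fun x p q => ⟨p, hcm x p q⟩⟩
    rw [Units.val_mul, mul_assoc, hvu, mul_neg]
  · refine ⟨v, u * v, hv, mul_mem hu hv, ?_, Or.inl ⟨e', by rw [hsq, e, e', mul_one, neg_neg]⟩,
      fun x p q => ⟨q, hcm x p q⟩⟩
    rw [Units.val_mul, huv, neg_mul, mul_assoc, huv]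
  · exact ⟨u, v, hu, hv, hvu, Or.inr ⟨e, e'⟩, fun x p q => ⟨p, q⟩⟩

/-- Commuting involutions independent modulo `±1` give an elementary abelian subgroup of order eight. -/
theorem not_minus [Finite F] {s t : GL ι F} (hs : s ∈ R) (ht : t ∈ R) (hss : (s : MM) * s = 1)
    (htt : (t : MM) * t = 1) (hst : (s : MM) * t = (t : MM) * s) (hsn : (s : MM) ≠ 1) (hsn' : (s : MM) ≠ -1)
    (htn : (t : MM) ≠ 1) (htn' : (t : MM) ≠ -1) (hne : (s : MM) ≠ t) (hne' : (s : MM) ≠ -(t : MM)) :
    ¬ IsOfMinusType 2 R := by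
  intro hm
  have := nonempty h
  let S : Set R := {⟨-1, h.neg⟩, ⟨s, hs⟩, ⟨t, ht⟩}
  have hcomm : ∀ x ∈ S, ∀ y ∈ S, x * y = y * x := by
    rintro x (rfl | rfl | rfl) y (rfl | rfl | rfl) <;>
      first | rfl | exact Subtype.ext (Units.ext hst) | exact Subtype.ext (Units.ext hst.symm) |
        exact Subtype.ext (Units.ext (by simp))
  obtain ⟨H, hH⟩ : ∃ H : Subgroup R, H = Subgroup.closure S := ⟨_, rfl⟩
  have hHc : ∀ x ∈ H, ∀ y ∈ H, x * y = y * x := by
    intro x hx y hy
    have hle : H ≤ Subgroup.centralizer (H : Set R) := by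
      rw [hH, Subgroup.centralizer_closure, Subgroup.closure_le]
      exact fun x hx => Subgroup.mem_centralizer_iff.mpr fun y hy => hcomm y hy x hx
    exact (Subgroup.mem_centralizer_iff.mp (hle hy) x hx)
  have hsq : ∀ x ∈ H, x * x = 1 := by
    intro x hx
    rw [hH] at hx
    induction hx using Subgroup.closure_induction with
    | mem x hx =>
      rcases hx with rfl | rfl | rfl
      · exact Subtype.ext (Units.ext (by simp))
      · exact Subtype.ext (Units.ext hss)
      · exact Subtype.ext (Units.ext htt)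
    | one => simp
    | mul x y hx hy e e' =>
      rw [← hH] at hx hy
      calc x * y * (x * y) = x * (y * x) * y := by group
        _ = x * x * (y * y) := by rw [hHc y hy x hx]; group
        _ = 1 := by rw [e, e', mul_one]
    | inv x _ e => rw [← _root_.mul_inv_rev, e, inv_one]
  have hlt : Nat.card H < 2 ^ (2 + 1) := hm H ⟨⟨fun x y => Subtype.ext (hHc x x.2 y y.2)⟩⟩ hsq
  have hmem : ∀ i j k : Bool, ((if i then (⟨-1, h.neg⟩ : R) else 1) * (if j then ⟨s, hs⟩ else 1) *
      (if k then ⟨t, ht⟩ else 1)) ∈ H := by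
    intro i j k
    have e : ∀ x ∈ S, ∀ b : Bool, (if b then x else 1) ∈ H := fun x hx b => by
      cases b
      · exact one_mem _
      · exact hH ▸ Subgroup.subset_closure hx
    exact mul_mem (mul_mem (e _ (Or.inl rfl) i) (e _ (Or.inr (Or.inl rfl)) j)) (e _ (Or.inr (Or.inr rfl)) k)
  have hinj : Function.Injective (fun q : Bool × Bool × Bool => (⟨_, hmem q.1 q.2.1 q.2.2⟩ : H)) := by
    have h2 : (1 : MM) ≠ -1 := fun e => h.two (by
      obtain ⟨i⟩ := ‹Nonempty ι›
      have := congrFun (congrFun e i) i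
      simp at this
      linear_combination this)
    have hne0 : (t : MM) * t = 1 := htt
    have hst1 : (s : MM) * t ≠ 1 := fun e => hne (by
      calc (s : MM) = (s : MM) * ((t : MM) * t) := by rw [htt, mul_one]
        _ = (t : MM) := by rw [← mul_assoc, e, one_mul])
    have hst2 : (s : MM) * t ≠ -1 := fun e => hne' (by
      calc (s : MM) = (s : MM) * ((t : MM) * t) := by rw [htt, mul_one]
        _ = -(t : MM) := by rw [← mul_assoc, e, neg_one_mul])
    have ht0 : (s : MM) * t ≠ s := fun e => htn (s.isUnit.mul_left_cancel (e.trans (mul_one _).symm))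
    have ht1 : (s : MM) * t ≠ t := fun e => hsn (t.isUnit.mul_right_cancel (e.trans (one_mul _).symm))
    have ht2 : (s : MM) * t ≠ -(s : MM) := fun e => htn' (s.isUnit.mul_left_cancel (e.trans (mul_neg_one _).symm))
    have ht3 : (s : MM) * t ≠ -(t : MM) := fun e => hsn' (t.isUnit.mul_right_cancel (e.trans (neg_one_mul _).symm))
    have hm1 : ∀ z : MM, IsUnit z → z ≠ -z := fun z hz e => by
      have : (2 : F) • z = 0 := by rw [two_smul]; nth_rewrite 1 [e]; exact neg_add_cancel z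
      exact hz.ne_zero ((smul_eq_zero.mp this).resolve_left h.two)
    have hsm := hm1 _ s.isUnit
    have htm := hm1 _ t.isUnit
    have hstm := hm1 _ (s.isUnit.mul t.isUnit)
    have gsn : s ≠ 1 := fun e => hsn (congrArg Units.val e)
    have gtn : t ≠ 1 := fun e => htn (congrArg Units.val e)
    have gne : s ≠ t := fun e => hne (congrArg Units.val e)
    have gsn' : s ≠ -1 := fun e => hsn' (congrArg Units.val e)
    have gtn' : t ≠ -1 := fun e => htn' (congrArg Units.val e)
    have gne' : s ≠ -t := fun e => hne' (congrArg Units.val e)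
    rintro ⟨i, j, k⟩ ⟨i', j', k'⟩ e
    have e' := congrArg (fun x : H => (((x : R) : GL ι F) : MM)) e
    cases i <;> cases j <;> cases k <;> cases i' <;> cases j' <;> cases k' <;> simp at e' ⊢ <;>
      first
        | exact absurd e' gsn | exact absurd e'.symm gsn | exact absurd e' gtn | exact absurd e'.symm gtn
        | exact absurd e' gne | exact absurd e'.symm gne
        | exact absurd e' gsn' | exact absurd e'.symm gsn' | exact absurd e' gtn' | exact absurd e'.symm gtn'
        | exact absurd e' gne' | exact absurd e'.symm gne'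
        | exact absurd (neg_eq_iff_eq_neg.mp e') gsn' | exact absurd (neg_eq_iff_eq_neg.mp e') gtn'
        | exact absurd (neg_eq_iff_eq_neg.mp e'.symm).symm gsn' | exact absurd (neg_eq_iff_eq_neg.mp e'.symm).symm gtn'
        | exact absurd (neg_eq_iff_eq_neg.mp e') (Ne.symm gsn') | exact absurd (neg_eq_iff_eq_neg.mp e') (Ne.symm gtn')
        | exact absurd e' h2 | exact absurd e'.symm h2 | exact absurd e' hsn | exact absurd e'.symm hsn
        | exact absurd e' hsn' | exact absurd e'.symm hsn' | exact absurd e' htn | exact absurd e'.symm htn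
        | exact absurd e' htn' | exact absurd e'.symm htn' | exact absurd e' hne | exact absurd e'.symm hne
        | exact absurd e' hne' | exact absurd e'.symm hne' | exact absurd e' hst1 | exact absurd e'.symm hst1
        | exact absurd e' hst2 | exact absurd e'.symm hst2 | exact absurd e' ht0 | exact absurd e'.symm ht0
        | exact absurd e' ht1 | exact absurd e'.symm ht1 | exact absurd e' ht2 | exact absurd e'.symm ht2
        | exact absurd e' ht3 | exact absurd e'.symm ht3 | exact absurd e' hsm | exact absurd e'.symm hsm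
        | exact absurd e' htm | exact absurd e'.symm htm | exact absurd e' hstm | exact absurd e'.symm hstm
        | exact absurd (neg_eq_iff_eq_neg.mp e') hsn' | exact absurd (neg_eq_iff_eq_neg.mp e'.symm) hsn'
        | exact absurd (neg_eq_iff_eq_neg.mp e') htn' | exact absurd (neg_eq_iff_eq_neg.mp e'.symm) htn'
        | exact absurd (neg_inj.mp e') hne | exact absurd (neg_inj.mp e').symm hne
        | exact absurd (neg_inj.mp e') hst1 | exact absurd (neg_inj.mp e').symm hst1
        | exact absurd (neg_inj.mp e') ht0 | exact absurd (neg_inj.mp e').symm ht0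
        | exact absurd (neg_inj.mp e') ht1 | exact absurd (neg_inj.mp e').symm ht1
        | exact absurd (neg_eq_iff_eq_neg.mp e') ht2 | exact absurd (neg_eq_iff_eq_neg.mp e'.symm) ht2
        | exact absurd (neg_eq_iff_eq_neg.mp e') ht3 | exact absurd (neg_eq_iff_eq_neg.mp e'.symm) ht3
        | exact absurd (neg_eq_iff_eq_neg.mp e') hne' | exact absurd (neg_eq_iff_eq_neg.mp e'.symm) hne'
        | exact absurd (neg_eq_iff_eq_neg.mp e') hst2 | exact absurd (neg_eq_iff_eq_neg.mp e'.symm) hst2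
  have := Nat.card_le_card_of_injective _ hinj
  simp at this
  omega

omit h in
/-- Signs. -/
def sgn (i : Bool) : F := if i then -1 else 1

/-- The centralizer of two commuting anticommuting pairs is scalar, by counting. -/
theorem scalar_of_quad [Finite F] {x y x' y' c : GL ι F} (hx : x ∈ R) (hy : y ∈ R) (hx' : x' ∈ R) (hy' : y' ∈ R)
    (hyx : (y : MM) * x = -((x : MM) * y)) (hyx' : (y' : MM) * x' = -((x' : MM) * y'))
    (e1 : (x' : MM) * x = (x : MM) * x') (e2 : (x' : MM) * y = (y : MM) * x')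
    (e3 : (y' : MM) * x = (x : MM) * y') (e4 : (y' : MM) * y = (y : MM) * y') (hc : c ∈ R)
    (hX : (c : MM) * x = (x : MM) * c) (hY : (c : MM) * y = (y : MM) * c)
    (hX' : (c : MM) * x' = (x' : MM) * c) (hY' : (c : MM) * y' = (y' : MM) * c) :
    ∃ l : F, (c : MM) = l • 1 := by
  classical
  have := nonempty h
  obtain ⟨E, hE⟩ : ∃ E : Subgroup (GL ι F), E = R ⊓ Subgroup.centralizer {x, y, x', y'} := ⟨_, rfl⟩
  have hcomm : ∀ e ∈ E, ∀ z ∈ ({x, y, x', y'} : Set (GL ι F)), (e : MM) * z = (z : MM) * e := fun e he z hz => by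
    rw [hE, Subgroup.mem_inf, Subgroup.mem_centralizer_iff] at he
    simpa using (congrArg (fun t : GL ι F => (t : MM)) (he.2 z hz)).symm
  obtain ⟨W, hWd⟩ : ∃ W : Bool × Bool × Bool × Bool → GL ι F, ∀ q, W q =
      (if q.1 then x else 1) * (if q.2.1 then y else 1) * (if q.2.2.1 then x' else 1) * (if q.2.2.2 then y' else 1) :=
    ⟨_, fun _ => rfl⟩
  have hWR : ∀ q, W q ∈ R := fun q => by
    rw [hWd]
    refine mul_mem (mul_mem (mul_mem ?_ ?_) ?_) ?_ <;> split_ifs <;> first | assumption | exact one_mem _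
  have hxy : (x : MM) * y = -((y : MM) * x) := by rw [hyx, neg_neg]
  have hxy' : (x' : MM) * y' = -((y' : MM) * x') := by rw [hyx', neg_neg]
  -- moving one generator across a product
  have mv : ∀ (p q z : GL ι F) (a b : F), (p : MM) * z = a • ((z : MM) * p) → (q : MM) * z = b • ((z : MM) * q) →
      ((p * q : GL ι F) : MM) * z = (a * b) • ((z : MM) * (p * q : GL ι F)) := fun p q z a b hp hq => by
    rw [Units.val_mul, mul_assoc, hq, Matrix.mul_smul, ← mul_assoc, hp, Matrix.smul_mul, smul_smul, mul_assoc,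
      mul_comm b a]
  have sg : ∀ (w z : GL ι F) (i : Bool), (w : MM) * z = -((z : MM) * w) →
      ((if i then w else 1 : GL ι F) : MM) * z = sgn (F := F) i • ((z : MM) * (if i then w else 1 : GL ι F)) := by
    intro w z i hwz
    cases i <;> simp [sgn, hwz]
  have st : ∀ (w z : GL ι F) (i : Bool), (w : MM) * z = (z : MM) * w →
      ((if i then w else 1 : GL ι F) : MM) * z = (1 : F) • ((z : MM) * (if i then w else 1 : GL ι F)) := by
    intro w z i hwz
    cases i <;> simp [hwz]
  have hW : ∀ q, ((W q : MM) * x = sgn (F := F) q.2.1 • ((x : MM) * W q)) ∧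
      ((W q : MM) * y = sgn (F := F) q.1 • ((y : MM) * W q)) ∧
      ((W q : MM) * x' = sgn (F := F) q.2.2.2 • ((x' : MM) * W q)) ∧
      ((W q : MM) * y' = sgn (F := F) q.2.2.1 • ((y' : MM) * W q)) := by
    intro q
    rw [hWd]
    refine ⟨?_, ?_, ?_, ?_⟩
    · simpa using mv _ _ x _ _ (mv _ _ x _ _ (mv _ _ x _ _ (st x x q.1 rfl) (sg y x q.2.1 hyx))
        (st x' x q.2.2.1 e1)) (st y' x q.2.2.2 e3)
    · simpa using mv _ _ y _ _ (mv _ _ y _ _ (mv _ _ y _ _ (sg x y q.1 hxy) (st y y q.2.1 rfl))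
        (st x' y q.2.2.1 e2)) (st y' y q.2.2.2 e4)
    · simpa using mv _ _ x' _ _ (mv _ _ x' _ _ (mv _ _ x' _ _ (st x x' q.1 e1.symm) (st y x' q.2.1 e2.symm))
        (st x' x' q.2.2.1 rfl)) (sg y' x' q.2.2.2 hyx')
    · simpa using mv _ _ y' _ _ (mv _ _ y' _ _ (mv _ _ y' _ _ (st x y' q.1 e3.symm) (st y y' q.2.1 e4.symm))
        (sg x' y' q.2.2.1 hxy')) (st y' y' q.2.2.2 rfl)
  have hsgn : ∀ (z : GL ι F), z ∈ ({x, y, x', y'} : Set (GL ι F)) → ∀ (q q' : Bool × Bool × Bool × Bool) (e e' : E)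
      (i i' : Bool), (W q : MM) * z = sgn (F := F) i • ((z : MM) * W q) →
      (W q' : MM) * z = sgn (F := F) i' • ((z : MM) * W q') → W q * e = W q' * e' → i = i' := by
    intro z hz q q' e e' i i' h1 h1' heq
    have hmove : ∀ (w : GL ι F) (e : E) (a : F), (w : MM) * z = a • ((z : MM) * w) →
        ((w * e : GL ι F) : MM) * z = a • ((z : MM) * (w * e : GL ι F)) := fun w e a hw => by
      simpa using mv w e z a 1 hw (by rw [one_smul]; exact hcomm e e.2 z hz)
    have a1 := hmove _ e _ h1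
    have a2 := hmove _ e' _ h1'
    rw [heq, a2] at a1
    have := smul_left_injective F (show (z : MM) * (W q' * e' : GL ι F) ≠ 0 by
      rw [← Units.val_mul]; exact Units.ne_zero _) a1
    have hne : (-1 : F) ≠ 1 := fun hh => h.two (by linear_combination -hh)
    cases i <;> cases i' <;> simp [sgn, hne, hne.symm] at this ⊢
  have hinj : Function.Injective (fun t : (Bool × Bool × Bool × Bool) × E =>
      (⟨W t.1 * t.2, mul_mem (hWR _) (hE.le t.2.2).1⟩ : R)) := by
    rintro ⟨q, e⟩ ⟨q', e'⟩ heq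
    have heq' : W q * e = W q' * e' := congrArg Subtype.val heq
    have hq : q = q' := by
      obtain ⟨i, j, k, l⟩ := q
      obtain ⟨i', j', k', l'⟩ := q'
      have b1 := hsgn x (by simp) _ _ e e' _ _ (hW _).1 (hW _).1 heq'
      have b2 := hsgn y (by simp) _ _ e e' _ _ (hW _).2.1 (hW _).2.1 heq'
      have b3 := hsgn x' (by simp) _ _ e e' _ _ (hW _).2.2.1 (hW _).2.2.1 heq'
      have b4 := hsgn y' (by simp) _ _ e e' _ _ (hW _).2.2.2 (hW _).2.2.2 heq'
      dsimp at b1 b2 b3 b4
      rw [b1, b2, b3, b4]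
    subst hq
    rw [Subtype.ext (mul_left_cancel heq')]
  have hcard := Nat.card_le_card_of_injective _ hinj
  rw [Nat.card_prod, h.card] at hcard
  simp only [Nat.card_eq_fintype_card (α := Bool × Bool × Bool × Bool), Fintype.card_prod, Fintype.card_bool] at hcard
  obtain ⟨Z', hZ'⟩ : ∃ Z' : Subgroup (GL ι F), Z' = (Subgroup.center R).map R.subtype := ⟨_, rfl⟩
  have hle : Z' ≤ E := by
    rw [hZ', hE]
    rintro _ ⟨t, ht, rfl⟩
    obtain ⟨l, hl⟩ := (center_iff h t.2).mp ht
    exact ⟨t.2, Subgroup.mem_centralizer_iff.mpr fun z _ => (scalar_comm h hl z).symm⟩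
  have hcE : c ∈ E := by
    rw [hE]
    refine ⟨hc, Subgroup.mem_centralizer_iff.mpr ?_⟩
    rintro z (rfl | rfl | rfl | rfl)
    exacts [Units.ext hX.symm, Units.ext hY.symm, Units.ext hX'.symm, Units.ext hY'.symm]
  have he := (Subgroup.eq_of_le_of_card_ge hle (by
    rw [hZ', Subgroup.card_map_of_injective R.subtype_injective]
    omega)).ge hcE
  rw [hZ'] at he
  obtain ⟨t, ht, rfl⟩ := he
  exact (center_iff h t.2).mp ht

/-- A frame exists when there is a scalar of square `-1` in `R`, or `R` is of minus type. -/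
theorem exists_frame [Finite F] (hmix : (∃ i ∈ R, ∃ l : F, (i : MM) = l • 1 ∧ l * l = -1) ∨ IsOfMinusType 2 R) :
    ∃ a b A B : GL ι F, Frame R a b A B := by
  have := nonempty h
  have hpairEx : ∀ C : Subgroup (GL ι F), C ≤ R → (∃ g ∈ C, ∃ k ∈ C, (g : MM) * k ≠ (k : MM) * g) →
      ∃ u v : GL ι F, u ∈ C ∧ v ∈ C ∧ (v : MM) * u = -((u : MM) * v) := by
    rintro C hC ⟨g, hg, k, hk, hne⟩
    exact ⟨g, k, hg, hk, (h.comm k (hC hk) g (hC hg)).resolve_left fun e => hne e.symm⟩
  obtain ⟨u, v, hu, hv, hvu⟩ := hpairEx R le_rfl (by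
    by_contra hcon
    push Not at hcon
    have htop : Subgroup.center R = ⊤ := (Subgroup.eq_top_iff' _).mpr fun g =>
      Subgroup.mem_center_iff.mpr fun k => Subtype.ext (Units.ext (hcon _ k.2 _ g.2))
    have hc := h.card
    rw [htop, Subgroup.card_top] at hc
    have := (Nat.card_pos : 0 < Nat.card R)
    omega)
  obtain ⟨C, hC⟩ : ∃ C : Subgroup (GL ι F), C = R ⊓ Subgroup.centralizer {u, v} := ⟨_, rfl⟩
  have hCmem : ∀ x : GL ι F, x ∈ C ↔ x ∈ R ∧ (x : MM) * u = (u : MM) * x ∧ (x : MM) * v = (v : MM) * x := by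
    intro x
    rw [hC, Subgroup.mem_inf, Subgroup.mem_centralizer_iff]
    refine and_congr_right fun _ => ⟨fun hx => ⟨?_, ?_⟩, fun ⟨e, e'⟩ y hy => ?_⟩
    · simpa using (congrArg (fun t : GL ι F => (t : MM)) (hx u (Or.inl rfl))).symm
    · simpa using (congrArg (fun t : GL ι F => (t : MM)) (hx v (Or.inr rfl))).symm
    · rcases hy with rfl | rfl
      · exact Units.ext e.symm
      · exact Units.ext e'.symm
  obtain ⟨u', v', hu'C, hv'C, hvu'⟩ := hpairEx C (fun x hx => ((hCmem x).mp hx).1) (by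
    by_contra hcon
    push Not at hcon
    have hle : ∀ g : R, ∃ w : Bool × Bool, ∃ z : Subgroup.center R,
        g = (if w.1 then ⟨u, hu⟩ else 1) * (if w.2 then ⟨v, hv⟩ else 1) * z := by
      intro g
      obtain ⟨w, hw, hwR, hcu, hcv⟩ := split h hu hv hvu g.2
      have hxC : w⁻¹ * g ∈ C := (hCmem _).mpr ⟨mul_mem (inv_mem hwR) g.2, hcu, hcv⟩
      have hz : (⟨w⁻¹ * g, mul_mem (inv_mem hwR) g.2⟩ : R) ∈ Subgroup.center R := by
        refine Subgroup.mem_center_iff.mpr fun k => Subtype.ext (Units.ext ?_)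
        obtain ⟨w', hw', hw'R, hcu', hcv'⟩ := split h hu hv hvu k.2
        have e : (k : GL ι F) = w' * (w'⁻¹ * k) := by rw [mul_inv_cancel_left]
        have e1 := hcon _ hxC _ ((hCmem _).mpr ⟨mul_mem (inv_mem hw'R) k.2, hcu', hcv'⟩)
        have e2 : ((w⁻¹ * g : GL ι F) : MM) * (w' : MM) = (w' : MM) * ((w⁻¹ * g : GL ι F) : MM) := by
          rcases hw' with rfl | rfl | rfl | rfl
          · simp
          · exact hcu
          · exact hcv
          · rw [Units.val_mul u v, ← mul_assoc, hcu, mul_assoc, hcv, mul_assoc]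
        show ((k : GL ι F) : MM) * ((w⁻¹ * g : GL ι F) : MM) = ((w⁻¹ * g : GL ι F) : MM) * ((k : GL ι F) : MM)
        rw [e, Units.val_mul w', mul_assoc, ← e1, ← mul_assoc, ← e2, mul_assoc]
      rcases hw with rfl | rfl | rfl | rfl
      · exact ⟨(false, false), ⟨_, hz⟩, Subtype.ext (by simp)⟩
      · exact ⟨(true, false), ⟨_, hz⟩, Subtype.ext (by simp)⟩
      · exact ⟨(false, true), ⟨_, hz⟩, Subtype.ext (by simp)⟩
      · exact ⟨(true, true), ⟨_, hz⟩, Subtype.ext (by simp [mul_assoc])⟩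
    choose w z hwz using hle
    have := Nat.card_le_card_of_injective (fun g => (w g, z g)) (fun g g' e => by
      simp only [Prod.mk.injEq] at e
      rw [hwz g, hwz g', e.1, e.2])
    rw [Nat.card_prod, h.card] at this
    simp only [Nat.card_eq_fintype_card (α := Bool × Bool), Fintype.card_prod, Fintype.card_bool] at this
    have := (Nat.card_pos : 0 < Nat.card (Subgroup.center R))
    omega)
  obtain ⟨hu', hu'u, hu'v⟩ := (hCmem u').mp hu'C
  obtain ⟨hv', hv'u, hv'v⟩ := (hCmem v').mp hv'C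
  obtain ⟨p, q, hp, hq, hqp, hpq2, hpc⟩ := normalise_pair h hu hv hvu
  obtain ⟨p', q', hp', hq', hqp', hpq2', hpc'⟩ := normalise_pair h hu' hv' hvu'
  obtain ⟨c1, c2⟩ := hpc _ hu'u hu'v
  obtain ⟨c3, c4⟩ := hpc _ hv'u hv'v
  obtain ⟨o1, o2⟩ := hpc' _ c1.symm c3.symm
  obtain ⟨o3, o4⟩ := hpc' _ c2.symm c4.symm
  have d1 := o1.symm
  have d2 := o2.symm
  have d3 := o3.symm
  have d4 := o4.symm
  -- generation, from the count
  have hgen : ∀ x y x' y' : GL ι F, x ∈ R → y ∈ R → x' ∈ R → y' ∈ R → (y : MM) * x = -((x : MM) * y) →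
      (y' : MM) * x' = -((x' : MM) * y') → (x' : MM) * x = (x : MM) * x' → (x' : MM) * y = (y : MM) * x' →
      (y' : MM) * x = (x : MM) * y' → (y' : MM) * y = (y : MM) * y' →
      ∀ g ∈ R, ∃ s ∈ ({1, x, y, x * y} : Set (GL ι F)), ∃ t ∈ ({1, x', y', x' * y'} : Set (GL ι F)),
        ∃ c : GL ι F, (∃ l : F, (c : MM) = l • 1) ∧ c ∈ R ∧ g = s * t * c := by
    intro x y x' y' hx hy hx' hy' hyx hyx' e1 e2 e3 e4 g hg
    obtain ⟨s, hs, hsR, hsx, hsy⟩ := split h hx hy hyx hg
    obtain ⟨t, ht, htR, htx, hty⟩ := split h hx' hy' hyx' (mul_mem (inv_mem hsR) hg)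
    have htxy : (t : MM) * x = (x : MM) * t ∧ (t : MM) * y = (y : MM) * t := by
      rcases ht with rfl | rfl | rfl | rfl
      · simp
      · exact ⟨e1, e2⟩
      · exact ⟨e3, e4⟩
      · exact ⟨by rw [Units.val_mul x' y', mul_assoc, e3, ← mul_assoc, e1, mul_assoc],
          by rw [Units.val_mul x' y', mul_assoc, e4, ← mul_assoc, e2, mul_assoc]⟩
    obtain ⟨c, hc⟩ : ∃ c, c = t⁻¹ * (s⁻¹ * g) := ⟨_, rfl⟩
    have hcR : c ∈ R := hc ▸ mul_mem (inv_mem htR) (mul_mem (inv_mem hsR) hg)
    have hcx : ∀ z : GL ι F, (t : MM) * z = (z : MM) * t →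
        ((s⁻¹ * g : GL ι F) : MM) * z = (z : MM) * ((s⁻¹ * g : GL ι F) : MM) → (c : MM) * z = (z : MM) * c := by
      intro z hz hz'
      rw [hc]
      exact congrArg (fun w : GL ι F => (w : MM))
        ((Commute.inv_left (Units.ext hz : Commute t z)).mul_left (Units.ext hz' : Commute (s⁻¹ * g) z)).eq
    refine ⟨s, hs, t, ht, c, ?_, hcR, by rw [hc]; group⟩
    have hX := hcx x htxy.1 hsx
    have hY := hcx y htxy.2 hsy
    have hX' : (c : MM) * x' = (x' : MM) * c := hc ▸ htx
    have hY' : (c : MM) * y' = (y' : MM) * c := hc ▸ hty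
    exact scalar_of_quad h hx hy hx' hy' hyx hyx' e1 e2 e3 e4 hcR hX hY hX' hY'
  rcases hmix with ⟨i, hiR, l, hil, hll⟩ | hm
  · have hi : ∀ z : GL ι F, (((i * z : GL ι F)) : MM) = l • (z : MM) := fun z => by
      rw [Units.val_mul, hil, smul_mul_assoc, one_mul]
    have hfix : ∀ x y : GL ι F, x ∈ R → y ∈ R → (y : MM) * x = -((x : MM) * y) →
        (((x : MM) * x = 1 ∧ (y : MM) * y = 1) ∨ ((x : MM) * x = -1 ∧ (y : MM) * y = -1)) → ∀ ε : F, (ε = 1 ∨ ε = -1) →
        ∃ k : F, k ≠ 0 ∧ ∃ X Y : GL ι F, X ∈ R ∧ Y ∈ R ∧ (X : MM) = k • (x : MM) ∧ (Y : MM) = k • (y : MM) ∧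
          (X : MM) * X = ε • 1 ∧ (Y : MM) * Y = ε • 1 := by
      intro x y hx hy hyx hxy ε hε
      have hl0 : l ≠ 0 := fun e => by rw [e, mul_zero] at hll; exact one_ne_zero (neg_eq_zero.mp hll.symm)
      rcases hxy with ⟨e, e'⟩ | ⟨e, e'⟩ <;> rcases hε with rfl | rfl
      · exact ⟨1, one_ne_zero, x, y, hx, hy, (one_smul _ _).symm, (one_smul _ _).symm, by rw [e, one_smul],
          by rw [e', one_smul]⟩
      · exact ⟨l, hl0, i * x, i * y, mul_mem hiR hx, mul_mem hiR hy, hi x, hi y,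
          by rw [hi, smul_mul_smul_comm, hll, e], by rw [hi, smul_mul_smul_comm, hll, e']⟩
      · exact ⟨l, hl0, i * x, i * y, mul_mem hiR hx, mul_mem hiR hy, hi x, hi y,
          by rw [hi, smul_mul_smul_comm, hll, e, neg_one_smul, neg_neg, one_smul],
          by rw [hi, smul_mul_smul_comm, hll, e', neg_one_smul, neg_neg, one_smul]⟩
      · exact ⟨1, one_ne_zero, x, y, hx, hy, (one_smul _ _).symm, (one_smul _ _).symm, by rw [e, neg_one_smul],
          by rw [e', neg_one_smul]⟩
    obtain ⟨k, hk, a, b, ha, hb, hav, hbv, haa, hbb⟩ := hfix p q hp hq hqp hpq2 1 (Or.inl rfl)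
    obtain ⟨k', hk', A, B, hA, hB, hAv, hBv, hAA, hBB⟩ := hfix p' q' hp' hq' hqp' hpq2' (-1) (Or.inr rfl)
    have hba : (b : MM) * a = -((a : MM) * b) := by
      rw [hav, hbv, smul_mul_smul_comm, smul_mul_smul_comm, hqp, smul_neg]
    have hBA : (B : MM) * A = -((A : MM) * B) := by
      rw [hAv, hBv, smul_mul_smul_comm, smul_mul_smul_comm, hqp', smul_neg]
    have hAa : (A : MM) * a = (a : MM) * A := by
      rw [hAv, hav, smul_mul_smul_comm, smul_mul_smul_comm, d1, mul_comm k' k]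
    have hBa : (B : MM) * a = (a : MM) * B := by
      rw [hBv, hav, smul_mul_smul_comm, smul_mul_smul_comm, d2, mul_comm k' k]
    have hAb : (A : MM) * b = (b : MM) * A := by
      rw [hAv, hbv, smul_mul_smul_comm, smul_mul_smul_comm, d3, mul_comm k' k]
    have hBb : (B : MM) * b = (b : MM) * B := by
      rw [hBv, hbv, smul_mul_smul_comm, smul_mul_smul_comm, d4, mul_comm k' k]
    exact ⟨a, b, A, B, ha, hb, hA, hB, by rw [haa, one_smul], by rw [hbb, one_smul], by rw [hAA, neg_one_smul],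
      by rw [hBB, neg_one_smul], hba, hBA, hAa, hAb, hBa, hBb, hgen a b A B ha hb hA hB hba hBA hAa hAb hBa hBb⟩
  · rcases hpq2 with ⟨e, e'⟩ | ⟨e, e'⟩ <;> rcases hpq2' with ⟨f, f'⟩ | ⟨f, f'⟩
    · exfalso
      have hn : ∀ x y : GL ι F, (y : MM) * x = -((x : MM) * y) → (x : MM) ≠ 1 ∧ (x : MM) ≠ -1 :=
        fun x y hyx => ⟨fun e0 => eq_of_comm_neg h y.isUnit x.isUnit (by rw [e0, one_mul, mul_one]) hyx,
          fun e0 => eq_of_comm_neg h y.isUnit x.isUnit (by rw [e0, neg_one_mul, mul_neg_one]) hyx⟩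
      refine not_minus h hp hp' e f d1.symm (hn p q hqp).1 (hn p q hqp).2 (hn p' q' hqp').1 (hn p' q' hqp').2
        (fun e0 => ?_) (fun e0 => ?_) hm
      · exact eq_of_comm_neg h q.isUnit p.isUnit (by rw [e0, d3]) hqp
      · exact eq_of_comm_neg h q.isUnit p.isUnit (by rw [e0, mul_neg, neg_mul, d3]) hqp
    · exact ⟨p, q, p', q', hp, hq, hp', hq', e, e', f, f', hqp, hqp', d1, d3, d2, d4,
        hgen p q p' q' hp hq hp' hq' hqp hqp' d1 d3 d2 d4⟩
    · exact ⟨p', q', p, q, hp', hq', hp, hq, f, f', e, e', hqp', hqp, d1.symm, d2.symm, d3.symm, d4.symm,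
        hgen p' q' p q hp' hq' hp hq hqp' hqp d1.symm d2.symm d3.symm d4.symm⟩
    · exfalso
      have hsq : ∀ x y : GL ι F, (x : MM) * x = -1 → (y : MM) * y = -1 → (y : MM) * x = (x : MM) * y →
          ((x * y : GL ι F) : MM) * (x * y : GL ι F) = 1 := fun x y ex ey exy => by
        rw [Units.val_mul, mul_assoc, ← mul_assoc (y : MM) (x : MM), exy, mul_assoc (x : MM) (y : MM) (y : MM), ey,
          mul_neg_one, mul_neg, ex, neg_neg]
      have hc : ((p * p' : GL ι F) : MM) * (q * q' : GL ι F) = ((q * q' : GL ι F) : MM) * (p * p' : GL ι F) := by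
        simp only [Units.val_mul]
        calc (p : MM) * p' * ((q : MM) * q') = (p : MM) * ((p' : MM) * q) * q' := by simp only [mul_assoc]
          _ = (p : MM) * q * ((p' : MM) * q') := by rw [d3]; simp only [mul_assoc]
          _ = -((q : MM) * p) * -((q' : MM) * p') := by rw [hqp, hqp', neg_neg, neg_neg]
          _ = (q : MM) * ((p : MM) * q') * p' := by rw [neg_mul_neg]; simp only [mul_assoc]
          _ = _ := by rw [← d2]; simp only [mul_assoc]
      -- `x` anticommutes with some `w`, hence is not `±1`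
      have hn : ∀ x w : GL ι F, (w : MM) * x = -((x : MM) * w) → (x : MM) ≠ 1 ∧ (x : MM) ≠ -1 :=
        fun x w hwx => ⟨fun e0 => eq_of_comm_neg h w.isUnit x.isUnit (by rw [e0, one_mul, mul_one]) hwx,
          fun e0 => eq_of_comm_neg h w.isUnit x.isUnit (by rw [e0, neg_one_mul, mul_neg_one]) hwx⟩
      have w1 : (q : MM) * (p * p' : GL ι F) = -(((p * p' : GL ι F) : MM) * q) := by
        rw [Units.val_mul, ← mul_assoc, hqp, neg_mul, mul_assoc, ← d3, mul_assoc]
      have w2 : (p : MM) * (q * q' : GL ι F) = -(((q * q' : GL ι F) : MM) * p) := by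
        rw [Units.val_mul, mul_assoc (q : MM), d2, ← mul_assoc, ← mul_assoc, hqp, neg_mul, neg_neg]
      have w3 : (p : MM) * (p * p' : GL ι F) = ((p * p' : GL ι F) : MM) * p := by
        rw [Units.val_mul, mul_assoc (p : MM) (p' : MM), d1]
      refine not_minus h (mul_mem hp hp') (mul_mem hq hq') (hsq p p' e f d1) (hsq q q' e' f' d4) hc
        (hn _ q w1).1 (hn _ q w1).2 (hn _ p w2).1 (hn _ p w2).2
        (fun e0 => ?_) (fun e0 => ?_) hm
      · exact eq_of_comm_neg h p.isUnit (q * q').isUnit (e0 ▸ w3) w2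
      · refine eq_of_comm_neg h p.isUnit (q * q').isUnit ?_ w2
        rw [e0, mul_neg, neg_mul, neg_inj] at w3
        exact w3

end Cfsg.Agent.Classical.SymFour
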