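import Cfsg.Agent.Lib.Classical.Elusive.SymTypeElements
import Cfsg.Agent.Lib.Classical.UnitaryOrders

/-!
# Involutions of the linear and unitary groups in dimension four, up to conjugacy
-/

set_option autoImplicit false
set_option linter.unusedSectionVars false

namespace Cfsg.Agent.Classical.SymFour

open Matrix

variable {F : Type*} [Field F]

local notation "M4" => Matrix (Fin 4) (Fin 4) F
local notation "G4" => GL (Fin 4) F

theorem mem_GU_of_gram {n : ℕ} [Fintype F] {q : ℕ} {σ : F ≃+* F} (hσ : IsUSigma q σ) {g : GL (Fin n) F}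
    (h : (g : Matrix (Fin n) (Fin n) F)ᵀ * (g : Matrix (Fin n) (Fin n) F).map σ = 1) : g ∈ Cfsg.GU n F q := by
  refine mem_GU_iff.mpr fun u v => ?_
  have e : ∀ x y : Fin n → F, Cfsg.hermForm n F q x y = x ⬝ᵥ (σ ∘ y) := fun x y => by
    simp [Cfsg.hermForm, dotProduct, hσ.apply_eq]
  have h1 : σ ∘ (g.1 *ᵥ v) = g.1.map σ *ᵥ (σ ∘ v) := funext fun i => RingHom.map_mulVec σ.toRingHom g.1 v i
  rw [e, e, h1, ← Matrix.vecMul_transpose, ← Matrix.dotProduct_mulVec, Matrix.mulVec_mulVec, h, Matrix.one_mulVec]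

/-- A unitary matrix with enough eigenvectors of norm-one eigenvalues has an orthonormal eigenbasis. -/
theorem exists_orth_eigen {n : ℕ} [Fintype F] {q : ℕ} {σ : F ≃+* F} (hσ : IsUSigma q σ) (h2 : (2 : F) ≠ 0)
    {x : GL (Fin n) F} (hx : x ∈ Cfsg.GU n F q) (S : Fˣ → Prop)
    (hS : ∀ a, S a → a ∈ (powMonoidHom (q + 1) : Fˣ →* Fˣ).ker)
    (hspan : Submodule.span F {v | ∃ a, S a ∧ (x : Matrix (Fin n) (Fin n) F) *ᵥ v = (a : F) • v} = ⊤) :
    ∃ g ∈ Cfsg.GU n F q, ∃ d : Fin n → Fˣ, (∀ i, S (d i)) ∧ ∀ j,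
      (x : Matrix (Fin n) (Fin n) F) *ᵥ (fun i => (g : Matrix (Fin n) (Fin n) F) i j) =
        (d j : F) • fun i => (g : Matrix (Fin n) (Fin n) F) i j := by
  have hf := hσ.isUnitaryForm (n := n)
  have hsf := semiForm_of_unitary hf
  let f := Cfsg.hermForm n F q
  have hzl : ∀ v, f 0 v = 0 := fun v => by simp [f, hσ.hermForm_eq]
  have hzr : ∀ v, f v 0 = 0 := fun v => by simp [f, hσ.hermForm_eq]
  have hnorm : ∀ a, S a → (a : F) * σ a = 1 := fun a ha =>
    UCount.norm_of_pow_eq_one hσ (MonoidHom.mem_ker.mp (hS a ha))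
  -- eigenvectors with different values are orthogonal
  have horth : ∀ (a a' : Fˣ) (v w : Fin n → F), S a' → a ≠ a' → (x : (Matrix (Fin n) (Fin n) F)) *ᵥ v = (a : F) • v →
      (x : (Matrix (Fin n) (Fin n) F)) *ᵥ w = (a' : F) • w → f v w = 0 := by
    intro a a' v w ha' hne hv hw
    have e := mem_GU_iff.mp hx v w
    rw [hv, hw, hsf.smul_left, hsf.smul_right] at e
    have hn := hnorm a' ha'
    have : ((a : F) - a') * f v w = 0 := by
      linear_combination (a' : F) * e - (a : F) * f v w * hn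
    exact (mul_eq_zero.mp this).resolve_left (sub_ne_zero.mpr fun e => hne (Units.ext e))
  suffices H : ∀ k ≤ n, ∃ b : Fin k → Fin n → F, ∃ d : Fin k → Fˣ,
      (∀ i j, f (b i) (b j) = if i = j then 1 else 0) ∧ (∀ i, S (d i) ∧ (x : (Matrix (Fin n) (Fin n) F)) *ᵥ b i = (d i : F) • b i) by
    obtain ⟨b, d, hb, hd⟩ := H n le_rfl
    have hu : IsUnit (Matrix.of fun i j => b j i : (Matrix (Fin n) (Fin n) F)) := by
      rw [← Matrix.linearIndependent_cols_iff_isUnit, Fintype.linearIndependent_iff]
      intro c hc i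
      have h := congrArg (fun v => f v (b i)) hc
      change f (∑ j, c j • b j) (b i) = f 0 (b i) at h
      rw [hzl] at h
      let L : (Fin n → F) →ₗ[F] F :=
        { toFun := fun v => f v (b i)
          map_add' := fun u v => hsf.add_left u v _
          map_smul' := fun c v => hsf.smul_left c v _ }
      change L (∑ j, c j • b j) = 0 at h
      rw [map_sum] at h
      simp only [map_smul, smul_eq_mul] at h
      change ∑ j, c j * f (b j) (b i) = 0 at h
      simpa [hb] using h
    refine ⟨hu.unit, mem_GU_of_gram hσ ?_, d, fun i => (hd i).1, fun j => (hd j).2⟩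
    ext i j
    have := hb i j
    simp only [f, hσ.hermForm_eq] at this
    rw [Matrix.mul_apply, Matrix.one_apply, ← this]
    rfl
  intro k hk
  induction k with
  | zero => exact ⟨Fin.elim0, Fin.elim0, fun i => i.elim0, fun i => i.elim0⟩
  | succ k ih =>
    obtain ⟨b, d, hb, hd⟩ := ih (by omega)
    by_cases hex : ∃ (a : Fˣ) (u : Fin n → F), S a ∧ (x : (Matrix (Fin n) (Fin n) F)) *ᵥ u = (a : F) • u ∧ (∀ i, f u (b i) = 0) ∧ f u u ≠ 0
    · obtain ⟨a, u, ha, hu, hub, huu⟩ := hex
      obtain ⟨l, -, hl⟩ := hσ.norm_surjective (t := (f u u)⁻¹) (inv_ne_zero huu)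
        (by rw [map_inv₀]; exact congrArg _ (hf.herm u u).symm)
      have hlu : f (l • u) (l • u) = 1 := by
        simp only [f, hsf.smul_left, hsf.smul_right]
        rw [← mul_assoc, hl]
        exact inv_mul_cancel₀ huu
      refine ⟨Fin.cons (l • u) b, Fin.cons a d, fun i j => ?_, fun i => ?_⟩
      · refine Fin.cases (Fin.cases ?_ (fun j => ?_) j) (fun i => Fin.cases ?_ (fun j => ?_) j) i
        · simpa using hlu
        · simpa [(Fin.succ_ne_zero j).symm, f, hsf.smul_left] using Or.inr (hub j)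
        · simp only [Fin.cons_succ, Fin.cons_zero, Fin.succ_ne_zero i, if_false]
          simp only [f, hsf.smul_right]
          rw [hf.herm, show Cfsg.hermForm n F q u (b i) = 0 from hub i, map_zero, mul_zero]
        · simpa using hb i j
      · refine Fin.cases ?_ (fun i => ?_) i
        · exact ⟨by simpa using ha, by simp [Matrix.mulVec_smul, hu, smul_comm l]⟩
        · simpa using hd i
    exfalso
    push Not at hex
    -- projections of eigenvectors vanish, so the family spans
    have hiso : ∀ (a : Fˣ) (u : Fin n → F), S a → (x : (Matrix (Fin n) (Fin n) F)) *ᵥ u = (a : F) • u → (∀ i, f u (b i) = 0) →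
        ∀ (a' : Fˣ) (u' : Fin n → F), S a' → (x : (Matrix (Fin n) (Fin n) F)) *ᵥ u' = (a' : F) • u' → (∀ i, f u' (b i) = 0) →
        f u u' = 0 := by
      intro a u ha hu hub a' u' ha' hu' hub'
      by_cases haa : a = a'
      · subst haa
        by_contra hne
        have h := hex a ((f u u')⁻¹ • u + u') ha
          (by rw [Matrix.mulVec_add, Matrix.mulVec_smul, hu, hu', smul_add, smul_comm])
          (fun i => by simp only [f, hsf.add_left, hsf.smul_left] at *; rw [hub, hub', mul_zero, add_zero])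
        simp only [f, hsf.add_left, hsf.add_right, hsf.smul_left, hsf.smul_right] at h hne
        rw [show Cfsg.hermForm n F q u u = 0 from hex a u ha hu hub,
          show Cfsg.hermForm n F q u' u' = 0 from hex a u' ha hu' hub', hf.herm u' u] at h
        have hne' : σ (Cfsg.hermForm n F q u u') ≠ 0 := (map_ne_zero σ).mpr hne
        refine h2 ?_
        rw [inv_mul_cancel₀ hne, map_inv₀, inv_mul_cancel₀ hne'] at h
        linear_combination h
      · exact horth a a' u u' ha' haa hu hu'
    have hspanb : ∀ w, (∃ a, S a ∧ (x : (Matrix (Fin n) (Fin n) F)) *ᵥ w = (a : F) • w) → w ∈ Submodule.span F (Set.range b) := by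
      rintro w ⟨a, ha, hw⟩
      obtain ⟨p, hp⟩ : ∃ p : (Fin n → F) → (Fin n → F), ∀ w, p w = w - ∑ i, f w (b i) • b i := ⟨_, fun _ => rfl⟩
      have hproj : ∀ (a : Fˣ) w, S a → (x : (Matrix (Fin n) (Fin n) F)) *ᵥ w = (a : F) • w →
          (x : (Matrix (Fin n) (Fin n) F)) *ᵥ p w = (a : F) • p w ∧ ∀ i, f (p w) (b i) = 0 := by
        intro a w ha hw
        refine ⟨?_, fun j => ?_⟩
        · rw [hp, Matrix.mulVec_sub, hw, smul_sub, Finset.smul_sum, Matrix.mulVec_sum]
          congr 1
          refine Finset.sum_congr rfl fun i _ => ?_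
          rw [Matrix.mulVec_smul, (hd i).2, smul_comm]
          by_cases hai : a = d i
          · rw [hai]
          · rw [horth a (d i) w (b i) (hd i).1 hai hw (hd i).2, zero_smul, smul_zero, smul_zero]
        · let L : (Fin n → F) →ₗ[F] F :=
            { toFun := fun v => f v (b j)
              map_add' := fun u v => hsf.add_left u v _
              map_smul' := fun c v => hsf.smul_left c v _ }
          change L (p w) = 0
          rw [hp, map_sub, map_sum]
          simp only [map_smul, smul_eq_mul]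
          change f w (b j) - ∑ i, f w (b i) * f (b i) (b j) = 0
          simp [hb]
      suffices h0 : p w = 0 by
        rw [hp, sub_eq_zero] at h0
        rw [h0]
        exact Submodule.sum_mem _ fun i _ => Submodule.smul_mem _ _ (Submodule.subset_span ⟨i, rfl⟩)
      by_contra hne
      obtain ⟨⟨y, hy⟩, -⟩ := hf.nondegenerate _ hne
      refine hy ?_
      have hy' : y ∈ Submodule.span F {v : Fin n → F | ∃ a, S a ∧ (x : (Matrix (Fin n) (Fin n) F)) *ᵥ v = (a : F) • v} :=
        hspan ▸ Submodule.mem_top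
      clear hy
      obtain ⟨h1, h2'⟩ := hproj a w ha hw
      induction hy' using Submodule.span_induction with
      | mem v hv =>
        obtain ⟨a', ha', hv⟩ := hv
        obtain ⟨h3', h4⟩ := hproj a' v ha' hv
        let L : (Fin n → F) →ₗ[F] F :=
          { toFun := fun u => f u (p w)
            map_add' := fun u v => hsf.add_left u v _
            map_smul' := fun c v => hsf.smul_left c v _ }
        change L v = 0
        rw [show v = p v + ∑ i, f v (b i) • b i by rw [hp, sub_add_cancel], map_add, map_sum]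
        simp only [map_smul, smul_eq_mul]
        change f (p v) (p w) + ∑ i, f v (b i) * f (b i) (p w) = 0
        have hbw : ∀ i, f (b i) (p w) = 0 := fun i => (hf.herm (b i) (p w)).trans (by
          rw [show Cfsg.hermForm n F q (p w) (b i) = 0 from h2' i, map_zero])
        simp [hbw, hiso a' _ ha' h3' h4 a _ ha h1 h2']
      | zero => exact hzl _
      | add u v _ _ hu hv => rw [hsf.add_left, hu, hv, add_zero]
      | smul c u _ hu => rw [hsf.smul_left, hu, mul_zero]
    have htop : Submodule.span F (Set.range b) = ⊤ :=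
      top_le_iff.mp (hspan.ge.trans (Submodule.span_le.mpr fun w hw => hspanb w hw))
    have h := finrank_range_le_card (R := F) b
    rw [Set.finrank, htop, finrank_top, Module.finrank_fintype_fun_eq_card, Fintype.card_fin,
      Fintype.card_fin] at h
    omega

/-- Diagonal matrices. -/
def dg4 : (Fin 4 → Fˣ) →* G4 :=
  (Units.map (Matrix.diagonalRingHom (Fin 4) F).toMonoidHom).comp MulEquiv.piUnits.symm.toMonoidHom

theorem dg4_val (d : Fin 4 → Fˣ) : (dg4 d : M4) = Matrix.diagonal fun i => (d i : F) := rfl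

/-- Permutation matrices. -/
def pm (π : Equiv.Perm (Fin 4)) : G4 :=
  ⟨Matrix.of fun i j => if i = π j then 1 else 0, Matrix.of fun i j => if π i = j then 1 else 0,
    by ext i j; rw [Matrix.mul_apply, ← Equiv.sum_comp π.symm]; simp [Matrix.one_apply],
    by ext i j; rw [Matrix.mul_apply]; simp [Matrix.one_apply, π.injective.eq_iff]⟩

theorem pm_val (π : Equiv.Perm (Fin 4)) :
    ((pm π : G4) : M4) = Matrix.of fun i j => if i = π j then (1 : F) else 0 := rfl

theorem conj_of_cols4 {x g : G4} {d : Fin 4 → Fˣ}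
    (h : ∀ j, (x : M4) *ᵥ (fun i => (g : M4) i j) = (d j : F) • fun i => (g : M4) i j) :
    g⁻¹ * x * g = dg4 d := by
  have e : x * g = g * dg4 d := by
    apply Units.ext
    rw [Units.val_mul, Units.val_mul, dg4_val]
    ext i j
    rw [Matrix.mul_diagonal, show ((x : M4) * (g : M4)) i j = ((x : M4) *ᵥ fun i => (g : M4) i j) i from rfl, h j,
      Pi.smul_apply, smul_eq_mul, mul_comm]
  rw [mul_assoc, e, inv_mul_cancel_left]

theorem pm_conj (π : Equiv.Perm (Fin 4)) (d : Fin 4 → Fˣ) : (pm π)⁻¹ * dg4 d * pm π = dg4 fun i => d (π i) := by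
  refine conj_of_cols4 fun j => ?_
  funext i
  rw [dg4_val, Matrix.mulVec_diagonal, pm_val]
  simp only [Matrix.of_apply, Pi.smul_apply, smul_eq_mul]
  split_ifs with e
  · rw [e]
  · simp

/-- The signs `±1`. -/
def sgu (d : Fin 4 → Bool) : Fin 4 → Fˣ := fun i => if d i then -1 else 1

/-- What is used of the ambient group for involutions. -/
structure InvAmb (U : Subgroup (GL (Fin 4) F)) (N : Subgroup Fˣ) : Prop where
  det_mem : ∀ g ∈ U, Matrix.GeneralLinearGroup.det g ∈ N
  dg_mem : ∀ d : Fin 4 → Fˣ, (∀ i, d i ∈ N) → dg4 d ∈ U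
  perm_mem : ∀ π, pm π ∈ U
  diag : ∀ y ∈ U, (y : Matrix (Fin 4) (Fin 4) F) * y = 1 → ∃ g ∈ U, ∃ d : Fin 4 → Bool, g⁻¹ * y * g = dg4 (sgu d)

theorem trace_sgu (d : Fin 4 → Bool) :
    (dg4 (sgu (F := F) d) : M4).trace = 4 - 2 * ((Finset.univ.filter fun i => d i = true).card : F) := by
  rw [dg4_val, Matrix.trace_diagonal]
  have e : ∀ i, ((sgu (F := F) d i : Fˣ) : F) = 1 - 2 * (if d i = true then 1 else 0) := fun i => by
    cases hd : d i <;> simp [sgu, hd]
    ring
  rw [Finset.sum_congr rfl fun i _ => e i, Finset.sum_sub_distrib, ← Finset.mul_sum, Finset.sum_boole]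
  simp

/-- Non-scalar involutions of the same trace are conjugate by an element of determinant one. -/
theorem invol_conj {U : Subgroup G4} {N : Subgroup Fˣ} (hA : InvAmb U N) (h2 : (2 : F) ≠ 0) {y y' : G4}
    (hy : y ∈ U) (hy' : y' ∈ U) (hyy : (y : M4) * y = 1) (hyy' : (y' : M4) * y' = 1)
    (hns : ∀ c : F, (y : M4) ≠ c • 1) (hns' : ∀ c : F, (y' : M4) ≠ c • 1)
    (htr : (y : M4).trace = (y' : M4).trace) :
    ∃ g ∈ U, (g : M4).det = 1 ∧ g⁻¹ * y * g = y' := by
  obtain ⟨g, hg, d, hd⟩ := hA.diag y hy hyy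
  obtain ⟨k, hk, d', hd'⟩ := hA.diag y' hy' hyy'
  have hcnt : ∀ (y g : G4) (d : Fin 4 → Bool), (∀ c : F, (y : M4) ≠ c • 1) → g⁻¹ * y * g = dg4 (sgu d) →
      (y : M4).trace = 4 - 2 * ((Finset.univ.filter fun i => d i = true).card : F) ∧
      (Finset.univ.filter fun i => d i = true).card ∈ Finset.Icc 1 3 := by
    intro y g d hns hd
    refine ⟨?_, ?_⟩
    · rw [← trace_sgu, ← hd, Units.val_mul, Units.val_mul, Matrix.trace_units_conj']
    · have hconst : ∀ b : Bool, ¬ ∀ i, d i = b := fun b hb => by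
        have hy0 : y = g * dg4 (sgu d) * g⁻¹ := by rw [← hd]; group
        refine hns ((if b then (-1 : Fˣ) else 1 : Fˣ) : F) ?_
        have e : (dg4 (sgu (F := F) d) : M4) = ((if b then (-1 : Fˣ) else 1 : Fˣ) : F) • 1 := by
          rw [dg4_val, Matrix.smul_one_eq_diagonal]
          simp [sgu, hb]
        rw [hy0, Units.val_mul, Units.val_mul, e, mul_smul_comm, mul_one, smul_mul_assoc, Units.mul_inv]
      have key : ∀ d : Fin 4 → Bool, (¬ ∀ i, d i = true) → (¬ ∀ i, d i = false) →
          (Finset.univ.filter fun i => d i = true).card ∈ Finset.Icc 1 3 := by decide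
      exact key d (hconst true) (hconst false)
  obtain ⟨t1, c1⟩ := hcnt y g d hns hd
  obtain ⟨t2, c2⟩ := hcnt y' k d' hns' hd'
  have hc : (Finset.univ.filter fun i => d i = true).card = (Finset.univ.filter fun i => d' i = true).card := by
    have e : (2 : F) * ((Finset.univ.filter fun i => d i = true).card : F) =
        2 * ((Finset.univ.filter fun i => d' i = true).card : F) := by linear_combination t1 - t2 - htr
    have e' := mul_left_cancel₀ h2 e
    simp only [Finset.mem_Icc] at c1 c2
    generalize (Finset.univ.filter fun i => d i = true).card = m at c1 e' ⊢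
    generalize (Finset.univ.filter fun i => d' i = true).card = m' at c2 e' ⊢
    obtain ⟨hm1, hm2⟩ := c1
    obtain ⟨hm1', hm2'⟩ := c2
    interval_cases m <;> interval_cases m' <;> norm_num at e' ⊢ <;>
      first
        | exact h2 (by linear_combination e')
        | exact h2 (by linear_combination -e')
        | exact one_ne_zero (by linear_combination e')
        | exact one_ne_zero (by linear_combination -e')
  obtain ⟨π, hπ⟩ : ∃ π : Equiv.Perm (Fin 4), ∀ i, d (π i) = d' i := by
    have hcard : ∀ b : Bool, Fintype.card {i // d' i = b} = Fintype.card {i // d i = b} := by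
      intro b
      rw [Fintype.card_subtype, Fintype.card_subtype]
      cases b
      · have h1 := Finset.card_filter_add_card_filter_not (s := (Finset.univ : Finset (Fin 4))) (fun i => d i = true)
        have h2 := Finset.card_filter_add_card_filter_not (s := (Finset.univ : Finset (Fin 4))) (fun i => d' i = true)
        simp only [Bool.not_eq_true] at h1 h2
        omega
      · exact hc.symm
    exact ⟨Equiv.ofFiberEquiv (f := d') (g := d) fun b => Fintype.equivOfCardEq (hcard b),
      fun i => Equiv.ofFiberEquiv_map _ i⟩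
  obtain ⟨g1, hg1⟩ : ∃ g1 : G4, g1 = g * pm π * k⁻¹ := ⟨_, rfl⟩
  have hg1U : g1 ∈ U := hg1 ▸ mul_mem (mul_mem hg (hA.perm_mem π)) (inv_mem hk)
  have hpd : (pm π)⁻¹ * dg4 (sgu (F := F) d) * pm π = dg4 (sgu d') := by
    rw [pm_conj]
    congr 1
    funext i
    simp only [sgu, hπ]
  have hg1y : g1⁻¹ * y * g1 = y' := by
    calc g1⁻¹ * y * g1 = k * ((pm π)⁻¹ * (g⁻¹ * y * g) * pm π) * k⁻¹ := by rw [hg1]; group
      _ = y' := by rw [hd, hpd, ← hd']; group
  obtain ⟨e, he⟩ : ∃ e : Fin 4 → Fˣ, e = Function.update (1 : Fin 4 → Fˣ) 0 (Matrix.GeneralLinearGroup.det g1)⁻¹ :=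
    ⟨_, rfl⟩
  have heN : ∀ i, e i ∈ N := fun i => by
    rw [he]
    fin_cases i
    · simpa using hA.det_mem g1 hg1U
    all_goals simp
  have hek : Commute (k * dg4 e * k⁻¹) y' := by
    have hde : Commute (dg4 (F := F) e) (dg4 (sgu d')) := (Commute.all e (sgu d')).map dg4
    have e1 : y' = k * dg4 (sgu d') * k⁻¹ := by rw [← hd']; group
    show k * dg4 e * k⁻¹ * y' = y' * (k * dg4 e * k⁻¹)
    rw [e1]
    calc k * dg4 e * k⁻¹ * (k * dg4 (sgu d') * k⁻¹) = k * (dg4 e * dg4 (sgu d')) * k⁻¹ := by group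
      _ = k * (dg4 (sgu d') * dg4 e) * k⁻¹ := by rw [hde.eq]
      _ = _ := by group
  refine ⟨g1 * (k * dg4 e * k⁻¹), mul_mem hg1U (mul_mem (mul_mem hk (hA.dg_mem _ heN)) (inv_mem hk)), ?_, ?_⟩
  · rw [Units.val_mul, Matrix.det_mul, Units.val_mul, Units.val_mul, Matrix.det_units_conj, dg4_val,
      Matrix.det_diagonal, he, Fin.prod_univ_four]
    simp [← Matrix.GeneralLinearGroup.val_det_apply]
  · calc (g1 * (k * dg4 e * k⁻¹))⁻¹ * y * (g1 * (k * dg4 e * k⁻¹))
        = (k * dg4 e * k⁻¹)⁻¹ * (g1⁻¹ * y * g1) * (k * dg4 e * k⁻¹) := by group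
      _ = y' := by rw [hg1y, mul_assoc, ← hek.eq, inv_mul_cancel_left]

/-- The general linear group. -/
theorem invAmb_top [Finite F] (h2 : (2 : F) ≠ 0) : InvAmb (⊤ : Subgroup (GL (Fin 4) F)) (⊤ : Subgroup Fˣ) where
  det_mem _ _ := Subgroup.mem_top _
  dg_mem _ _ := Subgroup.mem_top _
  perm_mem _ := Subgroup.mem_top _
  diag y _ hyy := by
    have hspan : Submodule.span F {v : Fin 4 → F | (y : M4) *ᵥ v = v ∨ (y : M4) *ᵥ v = -v} = ⊤ := by
      refine Submodule.eq_top_iff'.mpr fun v => ?_
      have e : v = (2 : F)⁻¹ • ((v + (y : M4) *ᵥ v) + (v - (y : M4) *ᵥ v)) := by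
        rw [show (v + (y : M4) *ᵥ v) + (v - (y : M4) *ᵥ v) = (2 : F) • v by rw [two_smul]; abel, smul_smul,
          inv_mul_cancel₀ h2, one_smul]
      have hv : (y : M4) *ᵥ ((y : M4) *ᵥ v) = v := by rw [Matrix.mulVec_mulVec, hyy, Matrix.one_mulVec]
      rw [e]
      refine Submodule.smul_mem _ _ (Submodule.add_mem _ (Submodule.subset_span (Or.inl ?_))
        (Submodule.subset_span (Or.inr ?_)))
      · rw [Matrix.mulVec_add, hv, add_comm]
      · rw [Matrix.mulVec_sub, hv, neg_sub]
    obtain ⟨b, hbE, hbspan, hli⟩ := exists_linearIndependent F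
      {v : Fin 4 → F | (y : M4) *ᵥ v = v ∨ (y : M4) *ᵥ v = -v}
    rw [hspan] at hbspan
    let Bs := Module.Basis.mk hli (by rw [Subtype.range_coe, hbspan])
    have : Fintype b := hli.setFinite.fintype
    have hc : Fintype.card b = 4 := by
      rw [← Module.finrank_eq_card_basis Bs, Module.finrank_fintype_fun_eq_card, Fintype.card_fin]
    let e := (Fintype.equivFinOfCardEq hc).symm
    have hu : IsUnit (Matrix.of fun i j => ((e j : b) : Fin 4 → F) i : M4) :=
      Matrix.linearIndependent_cols_iff_isUnit.mp (hli.comp e e.injective)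
    classical
    refine ⟨hu.unit, Subgroup.mem_top _, fun j => decide (¬ (y : M4) *ᵥ ((e j : b) : Fin 4 → F) = (e j : b)),
      conj_of_cols4 fun j => ?_⟩
    show (y : M4) *ᵥ ((e j : b) : Fin 4 → F) = _
    by_cases hp : (y : M4) *ᵥ ((e j : b) : Fin 4 → F) = (e j : b)
    · simpa [sgu, hp] using rfl
    · have := (hbE (e j).2).resolve_left hp
      rw [this]
      have hs : sgu (F := F) (fun j => decide (¬ (y : M4) *ᵥ ((e j : b) : Fin 4 → F) = (e j : b))) j = -1 := by
        simp [sgu, hp]
      rw [hs, Units.val_neg, Units.val_one, neg_one_smul]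
      rfl

/-- The general unitary group. -/
theorem invAmb_GU [Fintype F] {q : ℕ} {σ : F ≃+* F} (hσ : IsUSigma q σ) (h2 : (2 : F) ≠ 0) :
    InvAmb (Cfsg.GU 4 F q) (powMonoidHom (q + 1) : Fˣ →* Fˣ).ker where
  det_mem g hg := MonoidHom.mem_ker.mpr (UCount.pow_eq_one_of_norm hσ (by
    rw [Matrix.GeneralLinearGroup.val_det_apply]; exact UCount.det_norm hσ hg))
  dg_mem d hd := by
    refine mem_GU_of_gram hσ ?_
    have hn := fun i => UCount.norm_of_pow_eq_one hσ (MonoidHom.mem_ker.mp (hd i))
    rw [dg4_val, Matrix.diagonal_transpose, Matrix.diagonal_map (map_zero σ), Matrix.diagonal_mul_diagonal]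
    simp [hn]
  perm_mem π := by
    refine mem_GU_of_gram hσ ?_
    ext i j
    simp [pm_val, Matrix.mul_apply, Matrix.one_apply, apply_ite σ, eq_comm]
  diag y hy hyy := by
    obtain ⟨g, hg, d, hd, hgd⟩ := exists_orth_eigen hσ h2 hy (fun a => a = 1 ∨ a = -1) (fun a ha => by
      refine MonoidHom.mem_ker.mpr (UCount.pow_eq_one_of_norm hσ ?_)
      rcases ha with rfl | rfl <;> simp) (by
      refine Submodule.eq_top_iff'.mpr fun v => ?_
      have e : v = (2 : F)⁻¹ • ((v + (y : M4) *ᵥ v) + (v - (y : M4) *ᵥ v)) := by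
        rw [show (v + (y : M4) *ᵥ v) + (v - (y : M4) *ᵥ v) = (2 : F) • v by rw [two_smul]; abel, smul_smul,
          inv_mul_cancel₀ h2, one_smul]
      have hv : (y : M4) *ᵥ ((y : M4) *ᵥ v) = v := by rw [Matrix.mulVec_mulVec, hyy, Matrix.one_mulVec]
      rw [e]
      refine Submodule.smul_mem _ _ (Submodule.add_mem _ (Submodule.subset_span ⟨1, Or.inl rfl, ?_⟩)
        (Submodule.subset_span ⟨-1, Or.inr rfl, ?_⟩))
      · rw [Matrix.mulVec_add, hv, add_comm, Units.val_one, one_smul]
      · rw [Matrix.mulVec_sub, hv, Units.val_neg, Units.val_one, neg_one_smul, neg_sub])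
    have h11 : (1 : Fˣ) ≠ -1 := fun e => h2 (by
      have := congrArg (fun z : Fˣ => (z : F)) e
      simp only [Units.val_neg, Units.val_one] at this
      linear_combination this)
    classical
    refine ⟨g, hg, fun j => decide (d j = -1), conj_of_cols4 fun j => ?_⟩
    rw [hgd j]
    rcases hd j with e | e <;> simp [sgu, e, h11]

end Cfsg.Agent.Classical.SymFour
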