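import Cfsg.Agent.Lib.Classical.Elusive.SymTypeMeet

/-!
# The elementary group of order nine in the normalizer
-/

set_option autoImplicit false
set_option linter.unusedSectionVars false

namespace Cfsg.Agent.Classical.SymFour

open Matrix Cfsg.Geo

variable {ι : Type} [Fintype ι] [DecidableEq ι] {F : Type*} [Field F] [Finite F]

local notation "MM" => Matrix ι ι F

variable {R G : Subgroup (GL ι F)} {a b A B : GL ι F} (h : Pauli4 R)

include h

/-- Exchanging the two pairs of a frame with the help of a scalar of square `-1`. -/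
theorem Frame.swapPairs (hfr : Frame R a b A B) {i : GL ι F} (hiR : i ∈ R) {l : F} (hil : (i : MM) = l • 1)
    (hll : l * l = -1) : Frame R (i * A) (i * B) (i * a) (i * b) := by
  have hv : ∀ z : GL ι F, ((i * z : GL ι F) : MM) = l • (z : MM) := fun z => by
    rw [Units.val_mul, hil, smul_mul_assoc, one_mul]
  have hcomm : ∀ z : GL ι F, Commute i z := fun z => scalar_comm h hil z
  refine ⟨mul_mem hiR hfr.A_mem, mul_mem hiR hfr.B_mem, mul_mem hiR hfr.a_mem, mul_mem hiR hfr.b_mem, ?_, ?_, ?_, ?_,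
    ?_, ?_, ?_, ?_, ?_, ?_, ?_⟩
  · rw [hv, smul_mul_smul_comm, hll, hfr.AA, neg_one_smul, neg_neg]
  · rw [hv, smul_mul_smul_comm, hll, hfr.BB, neg_one_smul, neg_neg]
  · rw [hv, smul_mul_smul_comm, hll, hfr.aa, neg_one_smul]
  · rw [hv, smul_mul_smul_comm, hll, hfr.bb, neg_one_smul]
  · rw [hv, hv, smul_mul_smul_comm, smul_mul_smul_comm, hfr.BA, smul_neg]
  · rw [hv, hv, smul_mul_smul_comm, smul_mul_smul_comm, hfr.ba, smul_neg]
  · rw [hv, hv, smul_mul_smul_comm, smul_mul_smul_comm, hfr.Aa]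
  · rw [hv, hv, smul_mul_smul_comm, smul_mul_smul_comm, hfr.Ba]
  · rw [hv, hv, smul_mul_smul_comm, smul_mul_smul_comm, hfr.Ab]
  · rw [hv, hv, smul_mul_smul_comm, smul_mul_smul_comm, hfr.Bb]
  intro g hg
  obtain ⟨u, hu, v, hv', c, ⟨k, hk⟩, hc, rfl⟩ := hfr.gen g hg
  obtain ⟨u', hu', s, ⟨ls, hls⟩, hsR, rfl⟩ : ∃ u' ∈ ({1, i * a, i * b, i * a * (i * b)} : Set (GL ι F)), ∃ s : GL ι F,
      (∃ t : F, (s : MM) = t • 1) ∧ s ∈ R ∧ u = u' * s := by
    have hinv : ∃ t : F, ((i⁻¹ : GL ι F) : MM) = t • 1 := by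
      refine ⟨-l, ?_⟩
      have e : (((-1) * i : GL ι F) : MM) = (-l) • 1 := by simp [hil]
      rw [← e, inv_eq_of_mul_eq_one_left (a := (-1) * i) (b := i) (Units.ext (by
        simp [hil, smul_smul, hll]))]
    obtain ⟨t, ht⟩ := hinv
    rcases hu with rfl | rfl | rfl | rfl
    · exact ⟨1, Or.inl rfl, 1, ⟨1, by simp⟩, one_mem _, (mul_one _).symm⟩
    · exact ⟨i * u, Or.inr (Or.inl rfl), i⁻¹, ⟨t, ht⟩, inv_mem hiR, by rw [(hcomm u).eq, mul_inv_cancel_right]⟩
    · exact ⟨i * u, Or.inr (Or.inr (Or.inl rfl)), i⁻¹, ⟨t, ht⟩, inv_mem hiR, by rw [(hcomm u).eq, mul_inv_cancel_right]⟩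
    · refine ⟨i * a * (i * b), Or.inr (Or.inr (Or.inr rfl)), i⁻¹ * i⁻¹, ⟨t * t, ?_⟩, mul_mem (inv_mem hiR) (inv_mem hiR), ?_⟩
      · rw [Units.val_mul, ht, smul_mul_smul_comm, one_mul]
      · rw [(hcomm a).eq, mul_assoc a i, ← mul_assoc i i b, ((hcomm b).mul_left (hcomm b)).eq]
        group
  obtain ⟨v', hv'', s', ⟨ls', hls'⟩, hs'R, rfl⟩ : ∃ v' ∈ ({1, i * A, i * B, i * A * (i * B)} : Set (GL ι F)),
      ∃ s : GL ι F, (∃ t : F, (s : MM) = t • 1) ∧ s ∈ R ∧ v = v' * s := by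
    have hinv : ∃ t : F, ((i⁻¹ : GL ι F) : MM) = t • 1 := by
      refine ⟨-l, ?_⟩
      have e : (((-1) * i : GL ι F) : MM) = (-l) • 1 := by simp [hil]
      rw [← e, inv_eq_of_mul_eq_one_left (a := (-1) * i) (b := i) (Units.ext (by
        simp [hil, smul_smul, hll]))]
    obtain ⟨t, ht⟩ := hinv
    rcases hv' with rfl | rfl | rfl | rfl
    · exact ⟨1, Or.inl rfl, 1, ⟨1, by simp⟩, one_mem _, (mul_one _).symm⟩
    · exact ⟨i * v, Or.inr (Or.inl rfl), i⁻¹, ⟨t, ht⟩, inv_mem hiR, by rw [(hcomm v).eq, mul_inv_cancel_right]⟩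
    · exact ⟨i * v, Or.inr (Or.inr (Or.inl rfl)), i⁻¹, ⟨t, ht⟩, inv_mem hiR, by rw [(hcomm v).eq, mul_inv_cancel_right]⟩
    · refine ⟨i * A * (i * B), Or.inr (Or.inr (Or.inr rfl)), i⁻¹ * i⁻¹, ⟨t * t, ?_⟩, mul_mem (inv_mem hiR) (inv_mem hiR), ?_⟩
      · rw [Units.val_mul, ht, smul_mul_smul_comm, one_mul]
      · rw [(hcomm A).eq, mul_assoc A i, ← mul_assoc i i B, ((hcomm B).mul_left (hcomm B)).eq]
        group
  have hswap : Commute u' v' := by
    have ha : Commute (i * a) (i * A) ∧ Commute (i * a) (i * B) ∧ Commute (i * b) (i * A) ∧ Commute (i * b) (i * B) :=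
      ⟨((hcomm _).mul_left ((hcomm a).symm.mul_right (Units.ext hfr.Aa.symm : Commute a A))),
        ((hcomm _).mul_left ((hcomm a).symm.mul_right (Units.ext hfr.Ba.symm : Commute a B))),
        ((hcomm _).mul_left ((hcomm b).symm.mul_right (Units.ext hfr.Ab.symm : Commute b A))),
        ((hcomm _).mul_left ((hcomm b).symm.mul_right (Units.ext hfr.Bb.symm : Commute b B)))⟩
    obtain ⟨aA, aB, bA, bB⟩ := ha
    have col : ∀ z, Commute z (i * A) → Commute z (i * B) → Commute z v' := fun z e e' => by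
      rcases hv'' with rfl | rfl | rfl | rfl
      exacts [Commute.one_right z, e, e', e.mul_right e']
    rcases hu' with rfl | rfl | rfl | rfl
    exacts [Commute.one_left _, col _ aA aB, col _ bA bB, (col _ aA aB).mul_left (col _ bA bB)]
  refine ⟨v', hv'', u', hu', s * s' * c, ⟨ls * ls' * k, ?_⟩, mul_mem (mul_mem hsR hs'R) hc, ?_⟩
  · rw [Units.val_mul, Units.val_mul, hls, hls', hk, smul_mul_smul_comm, smul_mul_smul_comm, one_mul, one_mul]
  · have hs : s * v' = v' * s := scalar_comm h hls v'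
    calc u' * s * (v' * s') * c = u' * (s * v') * s' * c := by group
      _ = u' * v' * (s * s' * c) := by rw [hs]; group
      _ = _ := by rw [hswap.eq]

omit [Finite F] in
/-- Anticommuting elements have trace zero. -/
theorem trace_anti {X : MM} {z : GL ι F} (hz : X * (z : MM) = -((z : MM) * X)) : X.trace = 0 := by
  have e : X = -((z : MM) * X * ((z⁻¹ : GL ι F) : MM)) := by
    rw [← neg_mul, ← hz, mul_assoc, Units.mul_inv, mul_one]
  have e' := congrArg Matrix.trace e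
  rw [Matrix.trace_neg, Matrix.trace_units_conj] at e'
  exact (mul_eq_zero.mp (by linear_combination e' : (2 : F) * X.trace = 0)).resolve_left h.two

omit [Finite F] in
theorem hmat_trace {A B : GL ι F} (hBA : (B : MM) * A = -((A : MM) * B)) :
    (hmat (A : MM) B).trace = -2 ∧ (hmat' (A : MM) B).trace = -2 := by
  have hAB : (A : MM) * B = -((B : MM) * A) := by rw [hBA, neg_neg]
  have t1 : (A : MM).trace = 0 := trace_anti h hAB
  have t2 : (B : MM).trace = 0 := trace_anti h hBA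
  have t3 : ((A : MM) * B).trace = 0 := trace_anti h (z := A) (by rw [mul_assoc, hBA, mul_neg])
  constructor <;>
  · simp only [hmat, hmat', Matrix.trace_smul, Matrix.trace_add, Matrix.trace_sub, Matrix.trace_neg, t1, t2, t3,
      trace_one' h, smul_eq_mul, add_zero, sub_zero]
    field_simp [h.two]
    ring

omit [Finite F] in
theorem hmat_mul_trace {A B A' B' : GL ι F} (hBA : (B : MM) * A = -((A : MM) * B))
    (hBA' : (B' : MM) * A' = -((A' : MM) * B')) (h1 : (A' : MM) * A = (A : MM) * A') (h2 : (A' : MM) * B = (B : MM) * A')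
    (h3 : (B' : MM) * A = (A : MM) * B') (h4 : (B' : MM) * B = (B : MM) * B') :
    (hmat (A : MM) B * hmat (A' : MM) B').trace = 1 ∧ (hmat (A : MM) B * hmat' (A' : MM) B').trace = 1 ∧
      (hmat' (A : MM) B * hmat (A' : MM) B').trace = 1 ∧ (hmat' (A : MM) B * hmat' (A' : MM) B').trace = 1 := by
  have hAB : (A : MM) * B = -((B : MM) * A) := by rw [hBA, neg_neg]
  have hAB' : (A' : MM) * B' = -((B' : MM) * A') := by rw [hBA', neg_neg]
  obtain ⟨S, hS⟩ : ∃ S : MM, S = (A : MM) + B + (A : MM) * B := ⟨_, rfl⟩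
  obtain ⟨S', hS'⟩ : ∃ S' : MM, S' = (A' : MM) + B' + (A' : MM) * B' := ⟨_, rfl⟩
  have key : ∀ X : GL ι F, (X : MM) * A' = (A' : MM) * X → (X : MM) * B' = (B' : MM) * X → ∀ z : GL ι F,
      (X : MM) * z = -((z : MM) * X) → (A' : MM) * z = (z : MM) * A' → (B' : MM) * z = (z : MM) * B' →
      ((X : MM) * S').trace = 0 := by
    intro X e1 e2 z hz f1 f2
    refine trace_anti h (z := z) ?_
    have : S' * (z : MM) = (z : MM) * S' := by
      rw [hS', add_mul, add_mul, mul_add, mul_add, f1, f2, mul_assoc, f2, ← mul_assoc, f1, mul_assoc]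
    rw [mul_assoc, this, ← mul_assoc, hz, neg_mul, mul_assoc]
  have tS : S.trace = 0 := by
    rw [hS, Matrix.trace_add, Matrix.trace_add, trace_anti h hAB, trace_anti h hBA,
      trace_anti h (z := A) (show (A : MM) * B * A = -((A : MM) * (A * B)) by rw [mul_assoc, hBA, mul_neg])]
    simp
  have tS' : S'.trace = 0 := by
    rw [hS', Matrix.trace_add, Matrix.trace_add, trace_anti h hAB', trace_anti h hBA',
      trace_anti h (z := A') (show (A' : MM) * B' * A' = -((A' : MM) * (A' * B')) by rw [mul_assoc, hBA', mul_neg])]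
    simp
  have tSS : (S * S').trace = 0 := by
    rw [hS, add_mul, add_mul, Matrix.trace_add, Matrix.trace_add,
      key A h1.symm h3.symm B hAB h2 h4, key B h2.symm h4.symm A hBA h1 h3]
    have := key (A * B) (by rw [Units.val_mul, mul_assoc, ← h2, ← mul_assoc, ← h1, mul_assoc])
      (by rw [Units.val_mul, mul_assoc, ← h4, ← mul_assoc, ← h3, mul_assoc]) A
      (by rw [Units.val_mul, mul_assoc, hBA, mul_neg]) h1 h3
    rw [Units.val_mul] at this
    rw [this]
    simp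
  have d1 : hmat (A : MM) B = (2 : F)⁻¹ • (-1 + S) := by rw [hmat, hS]; congr 1; abel
  have d1' : hmat' (A : MM) B = (2 : F)⁻¹ • (-1 - S) := by rw [hmat', hS]; congr 1; abel
  have d2 : hmat (A' : MM) B' = (2 : F)⁻¹ • (-1 + S') := by rw [hmat, hS']; congr 1; abel
  have d2' : hmat' (A' : MM) B' = (2 : F)⁻¹ • (-1 - S') := by rw [hmat', hS']; congr 1; abel
  refine ⟨?_, ?_, ?_, ?_⟩ <;>
  · simp only [d1, d1', d2, d2', smul_mul_smul_comm, Matrix.trace_smul, add_mul, mul_add, sub_mul, mul_sub, neg_mul,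
      mul_neg, one_mul, mul_one, neg_neg, Matrix.trace_add, Matrix.trace_sub, Matrix.trace_neg, tS, tS', tSS,
      trace_one' h, smul_eq_mul]
    field_simp [h.two]
    ring

/-- The order-three part: two commuting elements of order three of the normalizer. -/
theorem meets_three (hfr : Frame R a b A B) {i : GL ι F} (hiR : i ∈ R) {l : F} (hil : (i : MM) = l • 1)
    (hll : l * l = -1) (h3 : (3 : F) ≠ 0) {σ : F ≃+* F} {f : (ι → F) → (ι → F) → F} {U : Subgroup (GL ι F)}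
    (hU : Isom σ f U) (hRU : R ≤ U) (hGU : ∀ g ∈ U, g ^ 3 = 1 → g ∈ G) (hGsub : G ≤ U)
    (hC : ∀ w ∈ U, ∀ w' ∈ U, (w : MM) * w + w + 1 = 0 → (w' : MM) * w' + w' + 1 = 0 → w * w' = w' * w → w' ≠ w →
      w' ≠ w * w → ∀ u ∈ U, u ^ 3 = 1 → u * w = w * u → u * w' = w' * u → ∃ i j : ℕ, u = w ^ i * w' ^ j)
    {x : GL ι F} (hx : x ∈ G) (hxz : ∃ z : F, ((x ^ 3 : GL ι F) : MM) = z • 1)
    (hco : Nat.Coprime 3 (orderOf (x ^ 3))) : Meets R G x := by
  have : Fact (Nat.Prime 3) := ⟨Nat.prime_three⟩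
  have hfr' := Frame.swapPairs h hfr hiR hil hll
  obtain ⟨g, hgv, hgU, hgN, hg3⟩ := exists_three h hfr hU hRU
  obtain ⟨g', hgv', hgU', hgN', hg3'⟩ := exists_three h hfr' hU hRU
  obtain ⟨A', hA'⟩ : ∃ A', A' = i * a := ⟨_, rfl⟩
  obtain ⟨B', hB'⟩ : ∃ B', B' = i * b := ⟨_, rfl⟩
  rw [← hA', ← hB'] at hgv'
  have hAA' := hfr'.AA
  have hBB' := hfr'.BB
  have hBA' := hfr'.BA
  rw [← hA'] at hAA' hBA'
  rw [← hB'] at hBB' hBA'
  have hcl : ∀ X Y : GL ι F, (X : MM) * Y = (Y : MM) * X → ((i * Y : GL ι F) : MM) * X = (X : MM) * (i * Y : GL ι F) :=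
    fun X Y e => by rw [Units.val_mul, hil, smul_mul_assoc, one_mul, smul_mul_assoc, mul_smul_comm, e]
  have c1 : (A' : MM) * A = (A : MM) * A' := hA' ▸ hcl A a hfr.Aa
  have c2 : (A' : MM) * B = (B : MM) * A' := hA' ▸ hcl B a hfr.Ba
  have c3 : (B' : MM) * A = (A : MM) * B' := hB' ▸ hcl A b hfr.Ab
  have c4 : (B' : MM) * B = (B : MM) * B' := hB' ▸ hcl B b hfr.Bb
  have hcomm : g * g' = g' * g := Units.ext (by
    rw [Units.val_mul, Units.val_mul, hgv, hgv']
    exact (hmat_comm (hmat_comm c1 c2).symm (hmat_comm c3 c4).symm))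
  -- traces
  have hsq2 : ((g ^ 2 : GL ι F) : MM) = hmat' (A : MM) B := by
    rw [Units.val_pow_eq_pow_val, sq (g : MM), hgv, hmat_sq h.two hfr.AA hfr.BB hfr.BA]
  have hsq2' : ((g' ^ 2 : GL ι F) : MM) = hmat' (A' : MM) B' := by
    rw [Units.val_pow_eq_pow_val, sq (g' : MM), hgv', hmat_sq h.two hAA' hBB' hBA']
  obtain ⟨t1, t1'⟩ := hmat_trace h hfr.BA
  obtain ⟨t2, t2'⟩ := hmat_trace h hBA'
  obtain ⟨m1, m2, m3, m4⟩ := hmat_mul_trace h hfr.BA hBA' c1 c2 c3 c4
  rw [← hgv, ← hgv'] at m1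
  rw [← hgv, ← hsq2'] at m2
  rw [← hsq2, ← hgv'] at m3
  rw [← hsq2, ← hsq2'] at m4
  rw [← hgv] at t1
  rw [← hgv'] at t2
  rw [← hsq2] at t1'
  rw [← hsq2'] at t2'
  have hne3 : (-2 : F) ≠ 1 ∧ (4 : F) ≠ -2 ∧ (4 : F) ≠ 1 := by
    refine ⟨fun e => h3 (by linear_combination -e), fun e => h3 ?_, fun e => h3 (by linear_combination e)⟩
    have : (2 : F) * 3 = 0 := by linear_combination e
    exact (mul_eq_zero.mp this).resolve_left h.two
  have hg1 : g ≠ 1 := fun e => hne3.2.1 (by rw [← t1, e, Units.val_one, trace_one' h])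
  have hg1' : g' ≠ 1 := fun e => hne3.2.1 (by rw [← t2, e, Units.val_one, trace_one' h])
  have hd1 : g' ≠ g := fun e => hne3.1 (by
    rw [← m1, e, ← Units.val_mul, ← sq g, t1'])
  have hd2 : g' ≠ g ^ 2 := fun e => hne3.2.2 (by
    rw [← m1, e, ← Units.val_mul, ← pow_succ', hg3, Units.val_one, trace_one' h])
  -- the quadratic relation
  have hquad : ∀ {P Q : GL ι F} {w : GL ι F}, (w : MM) = hmat (P : MM) Q → ((w ^ 2 : GL ι F) : MM) = hmat' (P : MM) Q →
      (w : MM) * w + w + 1 = 0 := fun {P Q w} e e' => by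
    rw [← Units.val_mul, ← sq w, e', e]
    simp only [hmat, hmat']
    match_scalars <;> field_simp [h.two] <;> ring
  have q1 := hquad hgv hsq2
  have q2 := hquad hgv' hsq2'
  let E : Subgroup (GL ι F) :=
    { carrier := {e | ∃ i j : ℕ, e = g ^ i * g' ^ j}
      one_mem' := ⟨0, 0, by simp⟩
      mul_mem' := by
        rintro _ _ ⟨i, j, rfl⟩ ⟨i', j', rfl⟩
        refine ⟨i + i', j + j', ?_⟩
        rw [pow_add, pow_add, mul_assoc, ← mul_assoc (g' ^ j), ← ((show Commute g g' from hcomm).pow_pow i' j).eq]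
        group
      inv_mem' := by
        rintro _ ⟨i, j, rfl⟩
        refine ⟨2 * i, 2 * j, inv_eq_of_mul_eq_one_left ?_⟩
        rw [mul_assoc, ← mul_assoc (g' ^ (2 * j)), ← ((show Commute g g' from hcomm).pow_pow i (2 * j)).eq, mul_assoc,
          ← pow_add, ← mul_assoc, ← pow_add, show 2 * i + i = 3 * i by omega, show 2 * j + j = 3 * j by omega,
          pow_mul, pow_mul, hg3, hg3', one_pow, one_pow, one_mul] }
  have hgE : g ∈ E := ⟨1, 0, by simp⟩
  have hgE' : g' ∈ E := ⟨0, 1, by simp⟩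
  have hEgen : ∀ {S : Subgroup (GL ι F)}, g ∈ S → g' ∈ S → E ≤ S := fun hS hS' => by
    rintro _ ⟨i, j, rfl⟩
    exact mul_mem (pow_mem hS i) (pow_mem hS' j)
  refine meets_of_subgroup (r := 3) E (hEgen (hGU g hgU hg3) (hGU g' hgU' hg3')) (hEgen hgN hgN') ?_ ?_ ?_ hx hxz hco
  · rintro _ ⟨i, j, rfl⟩
    rw [((show Commute g g' from hcomm).pow_pow i j).mul_pow, ← pow_mul, mul_comm i, pow_mul, hg3, ← pow_mul,
      mul_comm j, pow_mul, hg3', one_pow, one_pow, one_mul]
  · intro w hw hw3 hcw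
    exact hC g hgU g' hgU' q1 q2 hcomm hd1 (by rw [← sq]; exact hd2) w (hGsub hw) hw3 (hcw g hgE) (hcw g' hgE')
  intro w hw hw3 hn
  -- conjugation preserves traces
  have htr : ∀ e : GL ι F, ((w * e * w⁻¹ : GL ι F) : MM).trace = (e : MM).trace := fun e => by
    rw [Units.val_mul, Units.val_mul, Matrix.trace_units_conj]
  have hfour : ∀ e ∈ E, (e : MM).trace = -2 → e = g ∨ e = g ^ 2 ∨ e = g' ∨ e = g' ^ 2 := by
    rintro _ ⟨i, j, rfl⟩ ht
    rw [pow_eq_pow_mod i hg3, pow_eq_pow_mod j hg3'] at ht ⊢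
    have hi := Nat.mod_lt i (show 3 > 0 by norm_num)
    have hj := Nat.mod_lt j (show 3 > 0 by norm_num)
    generalize i % 3 = i at hi ht ⊢
    generalize j % 3 = j at hj ht ⊢
    interval_cases i <;> interval_cases j <;> (try simp only [pow_zero, pow_one, one_mul, mul_one] at ht ⊢)
    · rw [Units.val_one, trace_one' h] at ht
      exact absurd ht hne3.2.1
    · simp
    · simp
    · simp
    · rw [Units.val_mul, m1] at ht; exact absurd ht.symm hne3.1
    · rw [Units.val_mul, m2] at ht; exact absurd ht.symm hne3.1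
    · simp
    · rw [Units.val_mul, m3] at ht; exact absurd ht.symm hne3.1
    · rw [Units.val_mul, m4] at ht; exact absurd ht.symm hne3.1
  obtain ⟨φ, hφ⟩ : ∃ φ : GL ι F →* GL ι F, ∀ e, φ e = w * e * w⁻¹ := ⟨(MulAut.conj w).toMonoidHom, fun e => rfl⟩
  have hφinj : ∀ e e', φ e = φ e' → e = e' := fun e e' he => by
    rw [hφ, hφ] at he
    exact mul_left_cancel (mul_right_cancel he)
  have hφ3 : ∀ e, φ (φ (φ e)) = e := fun e => by
    rw [hφ, hφ, hφ, show w * (w * (w * e * w⁻¹) * w⁻¹) * w⁻¹ = w ^ 3 * e * (w ^ 3)⁻¹ by rw [pow_three]; group, hw3, one_mul, inv_one,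
      mul_one]
  have hsqne : ∀ v : GL ι F, v ^ 3 = 1 → v ≠ 1 → v ^ 2 ≠ v := fun v _ hv1 e => hv1 (by
    have : v * v = v * 1 := by rw [mul_one, ← sq, e]
    exact mul_left_cancel this)
  -- each generator is fixed
  have hfix : ∀ u u' : GL ι F, u ∈ E → u ^ 3 = 1 → u ≠ 1 → (u : MM).trace = -2 → u' ^ 3 = 1 → u' ≠ 1 →
      (u' : MM).trace = -2 → ((u' ^ 2 : GL ι F) : MM).trace = -2 → u' ∈ E → u' ≠ u → u' ≠ u ^ 2 →
      (∀ e ∈ E, (e : MM).trace = -2 → e = u ∨ e = u ^ 2 ∨ e = u' ∨ e = u' ^ 2) → φ u = u := by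
    intro u u' hu hu3 hu1 hut hu3' hu1' hut' hut2 hu'E hd hd' hset
    have hmem : ∀ e ∈ E, φ e ∈ E := fun e he => (hφ e).symm ▸ hn e he
    have htrφ : ∀ e, (φ e : MM).trace = (e : MM).trace := fun e => by rw [hφ, htr]
    rcases hset _ (hmem u hu) (by rw [htrφ, hut]) with e | e | e | e
    · exact e
    · exfalso
      have := hφ3 u
      rw [e, map_pow, e, map_pow, map_pow, e, ← pow_mul, ← pow_mul, pow_eq_pow_mod _ hu3] at this
      exact hsqne u hu3 hu1 this
    all_goals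
      exfalso
      obtain ⟨v, hv, hv3, hv1, hvt, hvu, hvu2, hvset⟩ : ∃ v : GL ι F, φ u = v ∧ v ^ 3 = 1 ∧ v ≠ 1 ∧
          (v : MM).trace = -2 ∧ v ≠ u ∧ v ≠ u ^ 2 ∧
          (∀ e ∈ E, (e : MM).trace = -2 → e = u ∨ e = u ^ 2 ∨ e = v ∨ e = v ^ 2) := by
        first
          | exact ⟨u', e, hu3', hu1', hut', hd, hd', hset⟩
          | refine ⟨u' ^ 2, e, by rw [← pow_mul, mul_comm, pow_mul, hu3', one_pow],
              fun e0 => hu1' (by rw [← hu3', pow_succ, e0, one_mul]), hut2, fun e0 => hd' ?_, fun e0 => hd ?_,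
              fun x hx hxt => (hset x hx hxt).imp_right (Or.imp_right fun hh => hh.symm.imp_right fun hh' => ?_)⟩
            · rw [← e0, ← pow_mul, pow_eq_pow_mod _ hu3', pow_one]
            · have := congrArg (fun t => t ^ 2) e0
              simp only [← pow_mul] at this
              rwa [pow_eq_pow_mod _ hu3', pow_eq_pow_mod _ hu3, pow_one, pow_one] at this
            · rw [hh', ← pow_mul, pow_eq_pow_mod _ hu3', pow_one]
      have hvE : v ∈ E := hv ▸ hmem u hu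
      rcases hvset _ (hmem v hvE) (by rw [htrφ, hvt]) with e' | e' | e' | e'
      · have := hφ3 u
        rw [hv, e', hv] at this
        exact hvu this
      · have := hφ3 u
        rw [hv, e', map_pow, hv] at this
        exact hvu2 (by rw [← this, ← pow_mul, pow_eq_pow_mod _ hv3, pow_one])
      · exact hvu (hφinj _ _ (e'.trans hv.symm))
      · have := hφ3 u
        rw [hv, e', map_pow, e', ← pow_mul, pow_eq_pow_mod _ hv3, pow_one] at this
        exact hvu this
  have f1 := hfix g g' hgE hg3 hg1 t1 hg3' hg1' t2 t2' hgE' hd1 hd2 hfour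
  have f2 := hfix g' g hgE' hg3' hg1' t2 hg3 hg1 t1 t1' hgE hd1.symm (fun e => hd2 (by
    rw [e, ← pow_mul, pow_eq_pow_mod _ hg3', pow_one])) (fun e he ht => by
    rcases hfour e he ht with q | q | q | q
    exacts [Or.inr (Or.inr (Or.inl q)), Or.inr (Or.inr (Or.inr q)), Or.inl q, Or.inr (Or.inl q)])
  rintro _ ⟨i, j, rfl⟩
  have k1 : Commute w g := mul_inv_eq_iff_eq_mul.mp ((hφ g).symm.trans f1)
  have k2 : Commute w g' := mul_inv_eq_iff_eq_mul.mp ((hφ g').symm.trans f2)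
  exact ((k1.pow_right i).mul_right (k2.pow_right j)).eq

end Cfsg.Agent.Classical.SymFour
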