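import Cfsg.Agent.Lib.Classical.Elusive.SymTypeInvol
import Cfsg.Agent.Lib.Classical.Elusive.SymTypeThree

/-!
# Centralizers of elements of orders three and five in linear groups of dimension four, and the involutions
-/

set_option autoImplicit false
set_option linter.unusedSectionVars false

namespace Cfsg.Agent.Classical.SymFour

open Matrix Cfsg.Geo

variable {ι : Type} [Fintype ι] [DecidableEq ι] {F : Type*} [Field F] [Finite F]

local notation "MM" => Matrix ι ι F
local notation "VV" => ι → F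

omit [Finite F] in
theorem mulVec_end_pow (w : GL ι F) (n : ℕ) :
    (Matrix.toLin' (w : MM)) ^ n = Matrix.toLin' ((w ^ n : GL ι F) : MM) := by
  rw [Units.val_pow_eq_pow_val, Matrix.toLin'_pow]

omit [Finite F] in
/-- A fixed vector in the image of `T - 1` is zero. -/
theorem fix_image {V : Type*} [AddCommGroup V] [Module F V] {T : Module.End F V} {r : ℕ} (hT : T ^ r = 1)
    (hr : (r : F) ≠ 0) {u v : V} (hu : T u - u = v) (hv : T v = v) : v = 0 := by
  have hk : ∀ k : ℕ, (T ^ k) u = u + (k : F) • v := by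
    intro k
    induction k with
    | zero => simp
    | succ k ih =>
      rw [pow_succ', Module.End.mul_apply, ih, map_add, map_smul, hv, eq_add_of_sub_eq hu]
      push_cast
      module
  have := hk r
  rw [hT, Module.End.one_apply] at this
  exact (smul_eq_zero.mp (left_eq_add.mp this)).resolve_left hr

/-- Without roots of unity of small degree, an element of order five fixes no vector and no proper subspace. -/
theorem five_irreducible (h4 : Fintype.card ι = 4) (h5 : (5 : F) ≠ 0)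
    (hq : ∀ d, d < 4 → 5 ∣ Nat.card F ^ d - 1 → d = 0) {w : GL ι F} (hw : w ^ 5 = 1) (hw1 : w ≠ 1) :
    ∀ W : Submodule F VV, (∀ v ∈ W, (Matrix.toLin' (w : MM)) v ∈ W) → W = ⊥ ∨ W = ⊤ := by
  have : Fact (Nat.Prime 5) := ⟨by norm_num⟩
  obtain ⟨T, hTd⟩ : ∃ T : Module.End F VV, T = Matrix.toLin' (w : MM) := ⟨_, rfl⟩
  have hT : T ^ 5 = 1 := by rw [hTd, mulVec_end_pow, hw, Units.val_one, Matrix.toLin'_one]; rfl
  have hT1 : T ≠ 1 := fun e => hw1 (Units.ext (Matrix.toLin'.injective (by rw [← hTd, e, Units.val_one, Matrix.toLin'_one]; rfl)))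
  have hdim : ∀ W : Submodule F VV, (∀ v ∈ W, T v ∈ W) → (∀ v ∈ W, T v = v → v = 0) → W = ⊥ ∨ W = ⊤ := by
    intro W hW hfix
    have hle := W.finrank_le
    rw [Module.finrank_fintype_fun_eq_card, h4] at hle
    rcases eq_or_lt_of_le hle with e | e
    · exact Or.inr (Submodule.eq_top_of_finrank_eq (by rw [e, Module.finrank_fintype_fun_eq_card, h4]))
    · refine Or.inl (Submodule.finrank_eq_zero.mp (hq _ e (dvd_card_sub_one (r := 5) (T.restrict hW) ?_ ?_)))
      · refine LinearMap.ext fun v => Subtype.ext ?_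
        rw [Module.End.pow_restrict]
        show (T ^ 5) (v : VV) = (v : VV)
        rw [hT]
        rfl
      · intro v hv
        exact Subtype.ext (hfix v v.2 (congrArg Subtype.val hv))
  obtain ⟨W2, hW2⟩ : ∃ W2 : Submodule F VV, W2 = LinearMap.range (T - 1) := ⟨_, rfl⟩
  have h2inv : ∀ v ∈ W2, T v ∈ W2 := by
    rw [hW2]
    rintro _ ⟨u, rfl⟩
    exact ⟨T u, by simp⟩
  have h2fix : ∀ v ∈ W2, T v = v → v = 0 := by
    rw [hW2]
    rintro _ ⟨u, rfl⟩ hv
    exact fix_image hT (by exact_mod_cast h5) (u := u) (by simp) hv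
  have h2top : W2 = ⊤ := (hdim W2 h2inv h2fix).resolve_left fun e => hT1 (by
    rw [hW2, LinearMap.range_eq_bot, sub_eq_zero] at e
    exact e)
  rw [← hTd]
  exact fun W hW => hdim W hW fun v _ hv => h2fix v (h2top ▸ Submodule.mem_top) hv

/-- The centralizer of an element of order five. -/
theorem five_commutant (h4 : Fintype.card ι = 4) (h5 : (5 : F) ≠ 0)
    (hq : ∀ d, d < 4 → 5 ∣ Nat.card F ^ d - 1 → d = 0) {w u : GL ι F} (hw : w ^ 5 = 1) (hw1 : w ≠ 1) (hu : u ^ 5 = 1)
    (hc : u * w = w * u) : ∃ i : ℕ, u = w ^ i := by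
  have : Nonempty ι := Fintype.card_pos_iff.mp (by omega)
  obtain ⟨i₀⟩ := ‹Nonempty ι›
  obtain ⟨i, -, hi⟩ := commutant_root (r := 5) (by norm_num) (Matrix.toLin' (w : MM))
    (by rw [mulVec_end_pow, hw, Units.val_one, Matrix.toLin'_one]; rfl)
    (fun e => hw1 (Units.ext (Matrix.toLin'.injective (by rw [e, Units.val_one, Matrix.toLin'_one]; rfl))))
    (v := (Pi.single i₀ 1 : VV)) (by simp) (five_irreducible h4 h5 hq hw hw1)
    (u := Matrix.toLin' (u : MM)) (by rw [mulVec_end_pow, hu, Units.val_one, Matrix.toLin'_one]; rfl)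
    (by rw [Module.End.mul_eq_comp, Module.End.mul_eq_comp, ← Matrix.toLin'_mul, ← Matrix.toLin'_mul, ← Units.val_mul,
      ← Units.val_mul, hc])
  exact ⟨i, Units.ext (Matrix.toLin'.injective (hi.trans (mulVec_end_pow w i)))⟩

/-- The centralizer of two commuting elements of order three without eigenvalues. -/
theorem three_commutant (h4 : Fintype.card ι = 4) (hroot : ∀ t : F, t * t + t + 1 ≠ 0) {w w' u : GL ι F}
    (hq : (w : MM) * w + w + 1 = 0) (hq' : (w' : MM) * w' + w' + 1 = 0) (hww : w * w' = w' * w) (hne : w' ≠ w)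
    (hne2 : w' ≠ w * w) (hu : u ^ 3 = 1) (huw : u * w = w * u) (huw' : u * w' = w' * u) :
    ∃ i j : ℕ, u = w ^ i * w' ^ j := by
  have hw3 : (w : MM) * ((w : MM) * (w : MM)) = 1 := by
    have e1 : (w : MM) * w = -(w : MM) - 1 := by linear_combination (norm := noncomm_ring) hq
    rw [e1, mul_sub, mul_neg, mul_one, e1]
    abel
  have hwv : ∀ v : VV, (w : MM) *ᵥ ((w : MM) *ᵥ v) = -((w : MM) *ᵥ v) - v := fun v => by
    have := congrArg (fun M : MM => M *ᵥ v) hq
    simp only [Matrix.add_mulVec, ← Matrix.mulVec_mulVec, Matrix.one_mulVec, Matrix.zero_mulVec] at this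
    linear_combination (norm := abel) this
  have heig : ∀ (t : F) (v : VV), (w : MM) *ᵥ v = t • v → v = 0 := fun t v hv => by
    have := congrArg (fun M : MM => M *ᵥ v) hq
    simp only [Matrix.add_mulVec, ← Matrix.mulVec_mulVec, Matrix.one_mulVec, Matrix.zero_mulVec, hv,
      Matrix.mulVec_smul, smul_smul] at this
    rw [← add_smul] at this
    have e : (t * t + t + 1) • v = 0 := by rw [add_smul (t * t + t), one_smul, this]
    exact (smul_eq_zero.mp e).resolve_left (hroot t)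
  have hcw : (w : MM) * w' = (w' : MM) * w := congrArg (fun t : GL ι F => (t : MM)) hww
  let K : Submodule F VV := LinearMap.ker (Matrix.toLin' ((w' : MM) - (w : MM)))
  let K' : Submodule F VV := LinearMap.ker (Matrix.toLin' ((w' : MM) - (w : MM) * (w : MM)))
  have hKmem : ∀ v, v ∈ K ↔ (w' : MM) *ᵥ v = (w : MM) *ᵥ v := fun v => by
    simp [K, Matrix.sub_mulVec, sub_eq_zero]
  have hKmem' : ∀ v, v ∈ K' ↔ (w' : MM) *ᵥ v = (w : MM) *ᵥ ((w : MM) *ᵥ v) := fun v => by
    simp [K', Matrix.sub_mulVec, sub_eq_zero]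
  have hmove : ∀ g : GL ι F, g * w = w * g → g * w' = w' * g →
      (∀ v ∈ K, (g : MM) *ᵥ v ∈ K) ∧ ∀ v ∈ K', (g : MM) *ᵥ v ∈ K' := by
    intro g e e'
    have c1 : (g : MM) * w = (w : MM) * g := congrArg (fun t : GL ι F => (t : MM)) e
    have c2 : (g : MM) * w' = (w' : MM) * g := congrArg (fun t : GL ι F => (t : MM)) e'
    constructor
    · intro v hv
      rw [hKmem] at hv ⊢
      rw [Matrix.mulVec_mulVec, ← c2, ← Matrix.mulVec_mulVec, hv, Matrix.mulVec_mulVec, c1, ← Matrix.mulVec_mulVec]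
    · intro v hv
      rw [hKmem'] at hv ⊢
      rw [Matrix.mulVec_mulVec, ← c2, ← Matrix.mulVec_mulVec, hv, Matrix.mulVec_mulVec, c1, ← Matrix.mulVec_mulVec,
        Matrix.mulVec_mulVec v (g : MM) (w : MM), c1, ← Matrix.mulVec_mulVec]
  -- both pieces are non-zero
  have hprod : ((w' : MM) - (w : MM)) * ((w' : MM) - (w : MM) * (w : MM)) = 0 ∧ ((w' : MM) - (w : MM) * (w : MM)) * ((w' : MM) - (w : MM)) = 0 := by
    have e : ((w' : MM) - (w : MM)) * ((w' : MM) - (w : MM) * (w : MM)) =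
        (w' : MM) * w' + w' + 1 - (w' : MM) * ((w : MM) * w + w + 1) + ((w' : MM) * w - (w : MM) * w') +
          ((w : MM) * ((w : MM) * (w : MM)) - 1) := by noncomm_ring
    have e' : ((w' : MM) - (w : MM) * (w : MM)) * ((w' : MM) - (w : MM)) =
        ((w' : MM) - (w : MM)) * ((w' : MM) - (w : MM) * (w : MM)) + ((w' : MM) * ((w : MM) * (w : MM)) - ((w : MM) * (w : MM)) * w') -
          ((w' : MM) * w - (w : MM) * w') := by noncomm_ring
    have z : ((w' : MM) - (w : MM)) * ((w' : MM) - (w : MM) * (w : MM)) = 0 := by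
      rw [e, hq, hq', mul_zero, sub_zero, zero_add, hcw, sub_self, zero_add, hw3, sub_self]
    refine ⟨z, ?_⟩
    rw [e', z, hcw, sub_self, sub_zero, zero_add, mul_assoc (w : MM) (w : MM), hcw, ← mul_assoc, ← mul_assoc, hcw,
      sub_self]
  have hne0 : ∀ X Y : MM, X * Y = 0 → Y ≠ 0 → LinearMap.ker (Matrix.toLin' X) ≠ ⊥ := by
    intro X Y hXY hY hker
    refine hY (Matrix.ext_of_mulVec_single fun i => ?_)
    have : Y *ᵥ Pi.single i 1 ∈ LinearMap.ker (Matrix.toLin' X) := by
      rw [LinearMap.mem_ker, Matrix.toLin'_apply, Matrix.mulVec_mulVec, hXY, Matrix.zero_mulVec]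
    rw [hker, Submodule.mem_bot] at this
    rw [this, Matrix.zero_mulVec]
  have hK0 : K ≠ ⊥ := hne0 _ _ hprod.1 fun e => hne2 (Units.ext (by rw [Units.val_mul]; exact sub_eq_zero.mp e))
  have hK0' : K' ≠ ⊥ := hne0 _ _ hprod.2 fun e => hne (Units.ext (sub_eq_zero.mp e))
  -- invariant subspaces have dimension at least two
  have htwo : ∀ W : Submodule F VV, W ≠ ⊥ → (∀ v ∈ W, (w : MM) *ᵥ v ∈ W) → 2 ≤ Module.finrank F W := by
    intro W hW hinv
    obtain ⟨v, hv, hv0⟩ := Submodule.exists_mem_ne_zero_of_ne_bot hW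
    by_contra hlt
    have h1 : Module.finrank F W = 1 := by
      have := Submodule.one_le_finrank_iff.mpr hW
      omega
    obtain ⟨t, ht⟩ := exists_smul_eq_of_finrank_eq_one h1 (show (⟨v, hv⟩ : W) ≠ 0 from fun e => hv0 (congrArg Subtype.val e))
      (⟨_, hinv v hv⟩ : W)
    exact hv0 (heig t v (congrArg Subtype.val ht).symm)
  obtain ⟨hwK, hwK'⟩ := hmove w rfl hww
  have hd := htwo K hK0 hwK
  have hd' := htwo K' hK0' hwK'
  have hdisj : Disjoint K K' := by
    rw [Submodule.disjoint_def]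
    intro v hv hv'
    have e := ((hKmem v).mp hv).symm.trans ((hKmem' v).mp hv')
    exact heig 1 v (by
      rw [one_smul]
      exact (Matrix.mulVec_injective_iff_isUnit.mpr w.isUnit e).symm)
  have hsum := Submodule.finrank_sup_add_finrank_inf_eq K K'
  rw [hdisj.eq_bot, finrank_bot] at hsum
  have hle := Submodule.finrank_le (K ⊔ K')
  rw [Module.finrank_fintype_fun_eq_card, h4] at hle
  have htop : K ⊔ K' = ⊤ := Submodule.eq_top_of_finrank_eq (by
    rw [Module.finrank_fintype_fun_eq_card, h4]; omega)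
  obtain ⟨huK, huK'⟩ := hmove u huw huw'
  -- on each piece `u` is a power of `w`
  have hpiece : ∀ W : Submodule F VV, Module.finrank F W = 2 → ∀ hWw : (∀ v ∈ W, (w : MM) *ᵥ v ∈ W),
      (∀ v ∈ W, (u : MM) *ᵥ v ∈ W) → ∃ i : ℕ, ∀ v ∈ W, (u : MM) *ᵥ v = ((w ^ i : GL ι F) : MM) *ᵥ v := by
    intro W hW2 hWw hWu
    obtain ⟨v0, hv0, hv00⟩ := Submodule.exists_mem_ne_zero_of_ne_bot
      (fun e => by rw [e, finrank_bot] at hW2; omega : W ≠ ⊥)
    let T : Module.End F W := (Matrix.toLin' (w : MM)).restrict hWw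
    let u' : Module.End F W := (Matrix.toLin' (u : MM)).restrict hWu
    have hpow : ∀ (g : GL ι F) (hg : ∀ v ∈ W, (Matrix.toLin' (g : MM)) v ∈ W) (n : ℕ) (v : W),
        ((((Matrix.toLin' (g : MM)).restrict hg : Module.End F W) ^ n) v : VV) = ((g ^ n : GL ι F) : MM) *ᵥ v := by
      intro g hg n v
      rw [Module.End.pow_restrict]
      show ((Matrix.toLin' (g : MM)) ^ n) (v : VV) = _
      rw [mulVec_end_pow, Matrix.toLin'_apply]
    have hw3' : w ^ 3 = 1 := Units.ext (by rw [pow_three, Units.val_mul, Units.val_mul, Units.val_one, hw3])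
    obtain ⟨i, -, hi⟩ := commutant_root (r := 3) Nat.prime_three T
      (LinearMap.ext fun v => Subtype.ext (by rw [hpow w hWw, hw3', Units.val_one, Matrix.one_mulVec]; rfl))
      (fun e => hv00 (heig 1 v0 (by
        rw [one_smul]
        exact congrArg Subtype.val (LinearMap.congr_fun e ⟨v0, hv0⟩))))
      (v := (⟨v0, hv0⟩ : W)) (fun e => hv00 (congrArg Subtype.val e))
      (fun X hX => by
        by_cases hb : X = ⊥
        · exact Or.inl hb
        refine Or.inr ?_
        have h2 := htwo (X.map W.subtype) (fun e => hb (by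
            rwa [← Submodule.map_bot W.subtype, (Submodule.map_injective_of_injective W.subtype_injective).eq_iff] at e))
          (by rintro _ ⟨y, hy, rfl⟩; exact ⟨T y, hX y hy, rfl⟩)
        rw [(Submodule.equivMapOfInjective W.subtype W.subtype_injective X).finrank_eq.symm] at h2
        refine Submodule.eq_top_of_finrank_eq ?_
        have := X.finrank_le
        omega)
      (u := u') (LinearMap.ext fun v => Subtype.ext (by rw [hpow u hWu, hu, Units.val_one, Matrix.one_mulVec]; rfl))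
      (LinearMap.ext fun v => Subtype.ext (by
        show (u : MM) *ᵥ ((w : MM) *ᵥ (v : VV)) = (w : MM) *ᵥ ((u : MM) *ᵥ (v : VV))
        rw [Matrix.mulVec_mulVec, Matrix.mulVec_mulVec, ← Units.val_mul, huw, Units.val_mul]))
    refine ⟨i, fun v hv => ?_⟩
    have := congrArg Subtype.val (LinearMap.congr_fun hi ⟨v, hv⟩)
    rw [hpow w hWw] at this
    exact this
  obtain ⟨i, hi⟩ := hpiece K (by omega) hwK huK
  obtain ⟨j, hj⟩ := hpiece K' (by omega) hwK' huK'
  have hw3g : w ^ 3 = 1 := Units.ext (by rw [pow_three, Units.val_mul, Units.val_mul, Units.val_one, hw3])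
  have hredK : ∀ (n : ℕ), ∀ v ∈ K, ((w' ^ n : GL ι F) : MM) *ᵥ v = ((w ^ n : GL ι F) : MM) *ᵥ v := by
    intro n
    induction n with
    | zero => intro v _; simp
    | succ n ih =>
      intro v hv
      rw [pow_succ, pow_succ, Units.val_mul, Units.val_mul, ← Matrix.mulVec_mulVec, (hKmem v).mp hv,
        ← Matrix.mulVec_mulVec, ih _ (hwK v hv)]
  have hredK' : ∀ (n : ℕ), ∀ v ∈ K', ((w' ^ n : GL ι F) : MM) *ᵥ v = ((w ^ (2 * n) : GL ι F) : MM) *ᵥ v := by
    intro n
    induction n with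
    | zero => intro v _; simp
    | succ n ih =>
      intro v hv
      rw [pow_succ, Units.val_mul, ← Matrix.mulVec_mulVec, (hKmem' v).mp hv, ih _ (hwK' _ (hwK' v hv)),
        Matrix.mulVec_mulVec, Matrix.mulVec_mulVec, ← Units.val_mul, ← Units.val_mul, mul_assoc, ← sq, ← pow_add,
        show 2 * n + 2 = 2 * (n + 1) by omega]
  have hmod : ∀ {a b : ℕ}, a % 3 = b % 3 → w ^ a = w ^ b := fun {a b} e => by
    rw [pow_eq_pow_mod a hw3g, pow_eq_pow_mod b hw3g, e]
  refine ⟨i + 2 * (j + 2 * i), j + 2 * i, Units.ext (Matrix.ext_of_mulVec_single fun k => ?_)⟩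
  obtain ⟨x, hx, y, hy, e⟩ := Submodule.mem_sup.mp (htop ▸ Submodule.mem_top : (Pi.single k 1 : VV) ∈ K ⊔ K')
  rw [← e, Matrix.mulVec_add, Matrix.mulVec_add, hi x hx, hj y hy, Units.val_mul (w ^ (i + 2 * (j + 2 * i))),
    ← Matrix.mulVec_mulVec, ← Matrix.mulVec_mulVec, hredK _ x hx, hredK' _ y hy, Matrix.mulVec_mulVec x,
    Matrix.mulVec_mulVec y, ← Units.val_mul, ← Units.val_mul, ← pow_add, ← pow_add,
    hmod (show (i + 2 * (j + 2 * i) + (j + 2 * i)) % 3 = i % 3 by omega),
    hmod (show (i + 2 * (j + 2 * i) + 2 * (j + 2 * i)) % 3 = j % 3 by omega)]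

section Fin4

local notation "M4" => Matrix (Fin 4) (Fin 4) F
local notation "G4" => GL (Fin 4) F

variable {R : Subgroup (GL (Fin 4) F)} {U : Subgroup (GL (Fin 4) F)} {N : Subgroup Fˣ}

/-- Involutions modulo scalars, once a square root of the scalar is at hand. -/
theorem meets_two (h : Pauli4 R) {a b A B : G4} (hfr : Frame R a b A B) {i : G4} (hiR : i ∈ R) {l : F}
    (hil : (i : M4) = l • 1) (hll : l * l = -1) {σ : F ≃+* F} {f : (Fin 4 → F) → (Fin 4 → F) → F}
    (hU : Isom σ f U) (hRU : R ≤ U) (hA : InvAmb U N) (hneg : (-1 : Fˣ) ∈ N)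
    {x : G4} (hx : x ∈ U ⊓ Cfsg.Geo.specialLinear (Fin 4) F) {z : F} (hz : ((x ^ 2 : G4) : M4) = z • 1)
    (hns : ∀ c : F, (x : M4) ≠ c • 1) {s : Fˣ} (hs : s ∈ N) (hsz : (s : F) * s = z) :
    Meets R (U ⊓ Cfsg.Geo.specialLinear (Fin 4) F) x := by
  obtain ⟨S, hS⟩ : ∃ S : G4, S = dg4 fun _ => s := ⟨_, rfl⟩
  have hSv : (S : M4) = (s : F) • 1 := by rw [hS, dg4_val, Matrix.smul_one_eq_diagonal]
  have hSU : S ∈ U := hS ▸ hA.dg_mem _ fun _ => hs
  have hnegU : (-1 : G4) ∈ U := by
    have e : (-1 : G4) = dg4 fun _ => (-1 : Fˣ) := by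
      apply Units.ext
      rw [dg4_val]
      ext i j
      simp [Matrix.diagonal_apply, Matrix.one_apply]
      split_ifs <;> simp
    exact e ▸ hA.dg_mem _ fun _ => hneg
  obtain ⟨y, hy⟩ : ∃ y : G4, y = S⁻¹ * x := ⟨_, rfl⟩
  have hyU : y ∈ U := hy ▸ mul_mem (inv_mem hSU) hx.1
  have hSi : ((S⁻¹ : G4) : M4) = (s : F)⁻¹ • 1 := by
    rw [hS, ← map_inv, dg4_val, Matrix.smul_one_eq_diagonal]
    simp
  have hyv : (y : M4) = (s : F)⁻¹ • (x : M4) := by rw [hy, Units.val_mul, hSi, smul_mul_assoc, one_mul]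
  have hxy : x = S * y := by rw [hy, mul_inv_cancel_left]
  have hyy : (y : M4) * y = 1 := by
    rw [hyv, smul_mul_smul_comm, ← Units.val_mul, ← sq x, hz, smul_smul, ← hsz]
    rw [show (s : F)⁻¹ * (s : F)⁻¹ * ((s : F) * s) = 1 by field_simp [s.ne_zero], one_smul]
  have hyns : ∀ c : F, (y : M4) ≠ c • 1 := fun c e => hns ((s : F) * c) (by
    rw [hxy, Units.val_mul, hSv, e, smul_mul_smul_comm, one_mul])
  -- the reflection and its properties
  obtain ⟨K, hKv, hKU, hKN, hKK⟩ := exists_refl h hfr hU hRU hiR hil hll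
  obtain ⟨Q, hQ⟩ : ∃ Q : G4, Q = i * A := ⟨_, rfl⟩
  rw [← hQ] at hKv
  have hQv : (Q : M4) = l • (A : M4) := by rw [hQ, Units.val_mul, hil, smul_mul_assoc, one_mul]
  have cQb : (Q : M4) * b = (b : M4) * Q := by rw [hQv, smul_mul_assoc, mul_smul_comm, hfr.Ab]
  have cQB : (Q : M4) * B = -((B : M4) * Q) := by
    rw [hQv, smul_mul_assoc, mul_smul_comm, hfr.BA, smul_neg, neg_neg]
  have hab : (a : M4) * b = -((b : M4) * a) := by rw [hfr.ba, neg_neg]
  have taQ : ((a : M4) * Q).trace = 0 := trace_anti h (z := b) (by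
    rw [mul_assoc, cQb, ← mul_assoc, hab, neg_mul, mul_assoc])
  have tK : (K : M4).trace = 2 := by
    rw [hKv, kmat, Matrix.trace_smul, Matrix.trace_sub, Matrix.trace_add, Matrix.trace_add, trace_one' h,
      trace_anti h hab, trace_anti h cQB, taQ, smul_eq_mul]
    field_simp [h.two]
    ring
  have nsa : ∀ c : F, (a : M4) ≠ c • 1 := fun c e => eq_of_comm_neg h b.isUnit a.isUnit (by simp [e]) hfr.ba
  have nsK : ∀ c : F, (K : M4) ≠ c • 1 := fun c e => by
    have e1 : (K : M4) * b = (b : M4) * K := by simp [e]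
    rw [hKv, kmat, smul_mul_assoc, mul_smul_comm] at e1
    have e2 := (smul_right_injective (M := M4) (inv_ne_zero h.two)) e1
    simp only [add_mul, sub_mul, mul_add, mul_sub, one_mul, mul_one, mul_assoc, cQb] at e2
    rw [← mul_assoc (a : M4) (b : M4) (Q : M4), ← mul_assoc (b : M4) (a : M4) (Q : M4), hab, neg_mul, mul_assoc] at e2
    have e3 : (2 : F) • ((b : M4) * a * ((Q : M4) - 1)) = 0 := by
      rw [mul_sub, mul_one, mul_assoc, smul_sub]
      linear_combination (norm := module) e2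
    have e4 := (smul_eq_zero.mp e3).resolve_left h.two
    have e5 : (Q : M4) = 1 := sub_eq_zero.mp (((b.isUnit).mul a.isUnit).mul_right_eq_zero.mp e4)
    exact eq_of_comm_neg h Q.isUnit B.isUnit (by simp [e5]) cQB
  -- settle by the trace
  have hfinish : ∀ (y' Y : G4), y' ∈ U → (y' : M4) * y' = 1 → (∀ c : F, (y' : M4) ≠ c • 1) → Y ∈ U →
      Y ∈ subgroupNormalizer R → (Y : M4) * Y = 1 → (∀ c : F, (Y : M4) ≠ c • 1) → (y' : M4).trace = (Y : M4).trace →
      ∀ (T : G4) (c : F), (T : M4) = c • 1 → x = T * y' → Meets R (U ⊓ Cfsg.Geo.specialLinear (Fin 4) F) x := by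
    intro y' Y hy'U hy'2 hy'ns hYU hYN hY2 hYns htr T c hT hxT
    obtain ⟨g, hg, hgd, hgy⟩ := invol_conj hA h.two hy'U hYU hy'2 hY2 hy'ns hYns htr
    refine ⟨g, ⟨hg, ?_⟩, ?_⟩
    · refine MonoidHom.mem_ker.mpr (Units.ext ?_)
      rw [Matrix.GeneralLinearGroup.val_det_apply, Units.val_one]
      exact hgd
    · have e : g⁻¹ * x * g = T * Y := by
        have hTg : g⁻¹ * T = T * g⁻¹ := (scalar_comm h hT g⁻¹).symm
        rw [hxT, ← hgy]
        calc g⁻¹ * (T * y') * g = (g⁻¹ * T) * y' * g := by group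
          _ = _ := by rw [hTg]; group
      rw [e]
      exact mul_mem (scalar_mem_normalizer hT) hYN
  obtain ⟨g, hg, d, hd⟩ := hA.diag y hyU hyy
  have htrd : (y : M4).trace = 4 - 2 * ((Finset.univ.filter fun i => d i = true).card : F) := by
    rw [← trace_sgu, ← hd, Units.val_mul, Units.val_mul, Matrix.trace_units_conj']
  have hcard : (Finset.univ.filter fun i => d i = true).card ∈ Finset.Icc 1 3 := by
    have hconst : ∀ b : Bool, ¬ ∀ i, d i = b := fun b hb => by
      refine hyns ((if b then (-1 : Fˣ) else 1 : Fˣ) : F) (scalar_conj (g := g) ?_)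
      rw [hd, dg4_val, Matrix.smul_one_eq_diagonal]
      simp [sgu, hb]
    have key : ∀ d : Fin 4 → Bool, (¬ ∀ i, d i = true) → (¬ ∀ i, d i = false) →
        (Finset.univ.filter fun i => d i = true).card ∈ Finset.Icc 1 3 := by decide
    exact key d (hconst true) (hconst false)
  generalize (Finset.univ.filter fun i => d i = true).card = m at htrd hcard
  simp only [Finset.mem_Icc] at hcard
  obtain ⟨hm1, hm2⟩ := hcard
  interval_cases m
  · exact hfinish y K hyU hyy hyns hKU hKN hKK nsK (by rw [htrd, tK]; norm_num) S _ hSv hxy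
  · exact hfinish y a hyU hyy hyns (hRU hfr.a_mem) (Subgroup.le_normalizer hfr.a_mem) hfr.aa nsa
      (by rw [htrd, trace_anti h hab]; norm_num) S _ hSv hxy
  · refine hfinish (-1 * y) K (mul_mem hnegU hyU) (by simp [hyy]) (fun c e => hyns (-c) ?_) hKU hKN hKK nsK ?_
      (-1 * S) (-(s : F)) (by simp [hSv]) (by rw [hxy]; simp)
    · rw [Units.val_mul, Units.val_neg, Units.val_one, neg_one_mul] at e
      rw [neg_smul, ← e, neg_neg]
    · rw [Units.val_mul, Units.val_neg, Units.val_one, neg_one_mul, Matrix.trace_neg, htrd, tK]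
      norm_num

end Fin4

end Cfsg.Agent.Classical.SymFour
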