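import Mathlib

/-!
# Elements of prime order: conjugacy into a self-centralising elementary subgroup, and commutants
-/

set_option autoImplicit false

namespace Cfsg.Agent.Classical.SymFour

/-- If the order-`r` elements centralising `E` lie in `E`, and those normalising `E` centralise it, every
element of order `r` is conjugate into `E`. -/
theorem conj_into {X : Type*} [Group X] [Finite X] {r : ℕ} [Fact r.Prime] (E : Subgroup X) (hE : IsPGroup r E)
    (hEr : ∀ e ∈ E, e ^ r = 1)
    (hC : ∀ w : X, w ^ r = 1 → (∀ e ∈ E, w * e = e * w) → w ∈ E)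
    (hN : ∀ w : X, w ^ r = 1 → (∀ e ∈ E, w * e * w⁻¹ ∈ E) → ∀ e ∈ E, w * e = e * w)
    {x : X} (hx : x ^ r = 1) : ∃ g : X, g⁻¹ * x * g ∈ E := by
  classical
  obtain ⟨P, hEP⟩ := hE.exists_le_sylow
  have hin : ∀ w ∈ (P : Subgroup X), w ^ r = 1 → w ∈ E := by
    obtain ⟨N, hN'⟩ : ∃ N : Subgroup P, N = Subgroup.normalizer ((E.subgroupOf (P : Subgroup X)) : Set P) := ⟨_, rfl⟩
    have hnorm : ∀ w : P, w ∈ N → ∀ e ∈ E, (w : X) * e * (w : X)⁻¹ ∈ E := fun w hw e he => by
      rw [hN'] at hw
      exact (Subgroup.mem_normalizer_iff.mp hw ⟨e, hEP he⟩).mp he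
    have hNE : ∀ w : P, w ∈ N → (w : X) ^ r = 1 → (w : X) ∈ E := fun w hw hwr =>
      hC _ hwr (hN _ hwr (hnorm w hw))
    have htop : N = ⊤ := by
      by_contra hne
      have : Group.IsNilpotent P := P.2.isNilpotent
      have hlt := (normalizerCondition_of_isNilpotent (G := P)) N (lt_top_iff_ne_top.mpr hne)
      obtain ⟨n, hn, hnN⟩ := SetLike.exists_of_lt hlt
      refine hnN ?_
      rw [hN']
      have hfwd : ∀ e : P, (e : X) ∈ E → ((n * e * n⁻¹ : P) : X) ∈ E := fun e he => by
        have heN : e ∈ N := hN' ▸ Subgroup.le_normalizer he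
        have hc := (Subgroup.mem_normalizer_iff.mp hn e).mp heN
        refine hNE _ hc ?_
        have he1 : e ^ r = 1 := Subtype.ext (hEr _ he)
        rw [show n * e * n⁻¹ = MulAut.conj n e from rfl, ← SubmonoidClass.coe_pow, ← map_pow, he1, map_one]
        rfl
      have hsub : (E.subgroupOf (P : Subgroup X)).map (MulAut.conj n).toMonoidHom ≤ E.subgroupOf (P : Subgroup X) := by
        rintro _ ⟨e, he, rfl⟩
        exact hfwd e he
      have he := Subgroup.eq_of_le_of_card_ge hsub
        (by rw [Subgroup.card_map_of_injective (MulAut.conj n).injective])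
      refine Subgroup.mem_normalizer_iff.mpr fun k => ⟨fun hk => hfwd k hk, fun hk => ?_⟩
      obtain ⟨g, hg, e⟩ := he.ge hk
      have : g = k := (MulAut.conj n).injective (by simpa using e)
      exact this ▸ hg
    intro w hw hwr
    exact hNE ⟨w, hw⟩ (htop ▸ Subgroup.mem_top _) hwr
  have hxp : IsPGroup r (Subgroup.zpowers x) := fun ⟨y, hy⟩ => by
    obtain ⟨k, rfl⟩ := Subgroup.mem_zpowers_iff.mp hy
    refine ⟨1, Subtype.ext ?_⟩
    rw [pow_one, SubmonoidClass.coe_pow, OneMemClass.coe_one, ← zpow_natCast, ← zpow_mul, mul_comm, zpow_mul,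
      zpow_natCast, hx, one_zpow]
  obtain ⟨Q, hQ⟩ := hxp.exists_le_sylow
  obtain ⟨g, hg⟩ := MulAction.exists_smul_eq X P Q
  refine ⟨g, hin _ ?_ ?_⟩
  · have hxQ : x ∈ (Q : Subgroup X) := hQ (Subgroup.mem_zpowers x)
    rw [← hg, Sylow.coe_subgroup_smul] at hxQ
    obtain ⟨y, hy, hyx⟩ := hxQ
    have : g⁻¹ * x * g = y := by
      rw [← hyx]
      show g⁻¹ * (g * y * g⁻¹) * g = y
      group
    rw [this]
    exact hy
  · rw [show g⁻¹ * x * g = MulAut.conj g⁻¹ x by simp, ← map_pow, hx, map_one]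

/-- A linear map without invariant subspaces has only its powers as roots of unity in its commutant. -/
theorem commutant_root {F V : Type*} [Field F] [AddCommGroup V] [Module F V] {r : ℕ} (hr : r.Prime)
    (T : Module.End F V) (hT : T ^ r = 1) (hT1 : T ≠ 1) {v : V} (hv : v ≠ 0)
    (hirr : ∀ W : Submodule F V, (∀ w ∈ W, T w ∈ W) → W = ⊥ ∨ W = ⊤)
    {u : Module.End F V} (hu : u ^ r = 1) (hc : u * T = T * u) : ∃ i < r, u = T ^ i := by
  classical
  let K := Algebra.adjoin F ({T} : Set (Module.End F V))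
  have hKT : ∀ k ∈ K, k * T = T * k := fun k hk =>
    Algebra.commute_of_mem_adjoin_singleton_of_commute (R := F) hk (Commute.refl T) |>.symm.eq
  have hKK : ∀ k ∈ K, ∀ k' : Module.End F V, k' * T = T * k' → k * k' = k' * k := fun k hk k' hk' =>
    (Algebra.commute_of_mem_adjoin_singleton_of_commute (R := F) hk (show Commute k' T from hk')).symm.eq
  have hker : ∀ k ∈ K, k ≠ 0 → Function.Injective k := by
    intro k hk hk0
    rcases hirr (LinearMap.ker k) (fun w hw => by
      rw [LinearMap.mem_ker] at hw ⊢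
      rw [← Module.End.mul_apply, hKT k hk, Module.End.mul_apply, hw, map_zero]) with e | e
    · exact LinearMap.ker_eq_bot.mp e
    · exact absurd (LinearMap.ker_eq_top.mp e) hk0
  obtain ⟨W, hW⟩ : ∃ W : Submodule F V, W = (Subalgebra.toSubmodule K).map (LinearMap.applyₗ v) := ⟨_, rfl⟩
  have hWv : ∀ w, w ∈ W ↔ ∃ k ∈ K, k v = w := fun w => by rw [hW, Submodule.mem_map]; rfl
  have hWtop : W = ⊤ := by
    refine (hirr W fun w hw => ?_).resolve_left fun e => hv ?_
    · obtain ⟨k, hk, rfl⟩ := (hWv w).mp hw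
      exact (hWv _).mpr ⟨T * k, mul_mem (Algebra.self_mem_adjoin_singleton F T) hk, rfl⟩
    · have : v ∈ W := (hWv v).mpr ⟨1, one_mem K, rfl⟩
      rwa [e, Submodule.mem_bot] at this
  obtain ⟨k, hk, hkv⟩ := (hWv (u v)).mp (hWtop ▸ Submodule.mem_top)
  have huk : u = k := LinearMap.ext fun w => by
    obtain ⟨k', hk', rfl⟩ := (hWv w).mp (hWtop ▸ Submodule.mem_top)
    rw [← Module.End.mul_apply, ← hKK k' hk' u hc, Module.End.mul_apply, ← hkv, ← Module.End.mul_apply,
      hKK k' hk' k (hKT k hk), Module.End.mul_apply]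
  subst huk
  have hKcomm : ∀ a b : K, a * b = b * a := fun a b =>
    Subtype.ext (hKK _ a.2 _ (hKT _ b.2))
  let : CommRing K := { (inferInstance : Ring K) with mul_comm := hKcomm }
  have : Nontrivial K := ⟨⟨⟨T, Algebra.self_mem_adjoin_singleton F T⟩, 1, fun e => hT1 (congrArg Subtype.val e)⟩⟩
  have : NoZeroDivisors K := ⟨fun {a b} hab => by
    by_contra hne
    push Not at hne
    obtain ⟨ha, hb⟩ := hne
    refine hb (Subtype.ext (LinearMap.ext fun w => hker a a.2 (fun e => ha (Subtype.ext e)) ?_))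
    show a.1 (b.1 w) = a.1 ((0 : Module.End F V) w)
    rw [← Module.End.mul_apply, show (a.1 * b.1 : Module.End F V) = 0 from congrArg Subtype.val hab]
    simp⟩
  have : IsDomain K := NoZeroDivisors.to_isDomain K
  let t : K := ⟨T, Algebra.self_mem_adjoin_singleton F T⟩
  have ht : IsPrimitiveRoot t r := by
    have : Fact r.Prime := ⟨hr⟩
    have ho : orderOf t = r := orderOf_eq_prime (Subtype.ext hT) fun e => hT1 (congrArg Subtype.val e)
    exact ho ▸ IsPrimitiveRoot.orderOf t
  have : NeZero r := ⟨hr.ne_zero⟩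
  obtain ⟨i, hi, e⟩ := ht.eq_pow_of_pow_eq_one (ξ := (⟨u, hk⟩ : K)) (Subtype.ext hu)
  exact ⟨i, hi, (congrArg Subtype.val e).symm⟩

/-- Dimensions of invariant subspaces without fixed vectors. -/
theorem dvd_card_sub_one {F V : Type*} [Field F] [AddCommGroup V] [Module F V] [Finite F] [Module.Finite F V]
    {r : ℕ} [Fact r.Prime]
    (T : Module.End F V) (hT : T ^ r = 1) (hfix : ∀ v, T v = v → v = 0) :
    r ∣ Nat.card F ^ Module.finrank F V - 1 := by
  classical
  have : Finite V := Module.finite_of_finite F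
  let := Fintype.ofFinite V
  let f : Function.End V := fun v => T v
  have hfk : ∀ n (v : V), (f ^ n) v = (T ^ n) v := by
    intro n
    induction n with
    | zero => intro v; rfl
    | succ n ih =>
      intro v
      rw [pow_succ', pow_succ', Module.End.mul_apply, ← ih]
      rfl
  have hmod := Equiv.Perm.card_fixedPoints_modEq (f := f) (p := r) (n := 1)
    (funext fun v => by rw [pow_one, hfk, hT]; rfl)
  have h1 : Fintype.card f.fixedPoints = 1 :=
    Fintype.card_eq_one_iff.mpr ⟨⟨0, map_zero T⟩, fun ⟨v, hv⟩ => Subtype.ext (hfix v hv)⟩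
  rw [h1, ← Nat.card_eq_fintype_card, Module.natCard_eq_pow_finrank (K := F)] at hmod
  exact (Nat.modEq_iff_dvd' (Nat.one_le_pow _ _ Nat.card_pos)).mp hmod.symm

end Cfsg.Agent.Classical.SymFour
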