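import Cfsg.Agent.Lib.Classical.Elusive.SymTypeElements
import Cfsg.Agent.Lib.Classical.Elusive.SymTypeSylow

/-!
# Meeting the normalizer of a symplectic-type 2-group: criteria independent of the ambient group
-/

set_option autoImplicit false
set_option linter.unusedSectionVars false

namespace Cfsg.Agent.Classical.SymFour

open Matrix Cfsg.Geo

variable {ι : Type} [Fintype ι] [DecidableEq ι] {F : Type*} [Field F] [Finite F]

local notation "MM" => Matrix ι ι F

/-- `x` has a `G`-conjugate normalizing `R`. -/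
def Meets (R G : Subgroup (GL ι F)) (x : GL ι F) : Prop := ∃ g ∈ G, g⁻¹ * x * g ∈ subgroupNormalizer R

theorem scalar_conj {g x : GL ι F} {z : F} (h : ((g⁻¹ * x * g : GL ι F) : MM) = z • 1) : (x : MM) = z • 1 := by
  have e : x = g * (g⁻¹ * x * g) * g⁻¹ := by group
  rw [e, Units.val_mul, Units.val_mul, h, mul_smul_comm, mul_one, smul_mul_assoc, Units.mul_inv]

theorem conj_pow_eq {g x : GL ι F} (n : ℕ) : (g⁻¹ * x * g) ^ n = g⁻¹ * x ^ n * g := by
  have := conj_pow (a := g⁻¹) (b := x) (i := n)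
  simpa using this

variable {R G : Subgroup (GL ι F)}

theorem scalar_mem_normalizer {s : GL ι F} {c : F} (hs : (s : MM) = c • 1) : s ∈ subgroupNormalizer R := by
  refine Subgroup.mem_normalizer_iff.mpr fun k => ?_
  have e : s * k = k * s := Units.ext (by simp [hs])
  rw [e, mul_inv_cancel_right]

variable (h : Pauli4 R)

include h

theorem not_meets_large {r : ℕ} [Fact r.Prime] (hr : 7 ≤ r) {x : GL ι F} (hxr : x ^ r = 1)
    (hns : ∀ z : F, (x : MM) ≠ z • 1) : ¬ Meets R G x := by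
  rintro ⟨g, -, hg⟩
  obtain ⟨c, hc⟩ := large_central h hr hg (by rw [conj_pow_eq, hxr, mul_one, inv_mul_cancel])
  exact hns c (scalar_conj hc)

theorem not_meets_trace {r : ℕ} [Fact r.Prime] (hr : r = 3 ∨ r = 5) {x : GL ι F} (hxr : x ^ r = 1)
    (hns : ∀ z : F, (x : MM) ≠ z • 1) (h1 : (x : MM).trace * ((x⁻¹ : GL ι F) : MM).trace ≠ 1)
    (h4 : r = 3 → (x : MM).trace * ((x⁻¹ : GL ι F) : MM).trace ≠ 4) : ¬ Meets R G x := by
  rintro ⟨g, -, hg⟩
  rcases odd_cases h (r := r) (by omega) hg (by rw [conj_pow_eq, hxr, mul_one, inv_mul_cancel]) with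
    ⟨c, hc⟩ | ⟨j, hj, e, hd, -⟩
  · exact hns c (scalar_conj hc)
  have t1 : ((g⁻¹ * x * g : GL ι F) : MM).trace = (x : MM).trace := by
    rw [Units.val_mul, Units.val_mul, Matrix.trace_units_conj']
  have t2 : (((g⁻¹ * x * g)⁻¹ : GL ι F) : MM).trace = ((x⁻¹ : GL ι F) : MM).trace := by
    rw [show (g⁻¹ * x * g)⁻¹ = g⁻¹ * x⁻¹ * g by group, Units.val_mul, Units.val_mul, Matrix.trace_units_conj']
  rw [t1, t2] at e
  rcases hr with rfl | rfl
  · have : j = 0 ∨ j = 2 := by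
      interval_cases j
      · exact Or.inl rfl
      · exact absurd hd (by decide)
      · exact Or.inr rfl
      · exact absurd hd (by decide)
    rcases this with rfl | rfl
    · exact h1 (by simpa using e)
    · exact h4 rfl (by rw [e]; norm_num)
  · have : j = 0 := by
      interval_cases j
      · rfl
      all_goals exact absurd hd (by decide)
    subst this
    exact h1 (by simpa using e)

theorem not_meets_transvection {x : GL ι F} {u φ : ι → F} (hu : u ≠ 0) (hφ : φ ≠ 0) (hφu : φ ⬝ᵥ u = 0)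
    (hx : (x : MM) = 1 + Matrix.vecMulVec u φ) : ¬ Meets R G x := by
  rintro ⟨g, -, hg⟩
  refine no_transvection h (y := g⁻¹ * x * g) (u := ((g⁻¹ : GL ι F) : MM) *ᵥ u) (φ := φ ᵥ* (g : MM)) ?_ ?_ ?_ ?_ hg
  · intro e
    refine hu ?_
    have e' := congrArg (fun v => (g : MM) *ᵥ v) e
    simpa only [Matrix.mulVec_mulVec, Units.mul_inv, Matrix.one_mulVec, Matrix.mulVec_zero] using e'
  · intro e
    refine hφ ?_
    have e' := congrArg (fun v => v ᵥ* ((g⁻¹ : GL ι F) : MM)) e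
    simpa only [Matrix.vecMul_vecMul, Units.mul_inv, Matrix.vecMul_one, Matrix.zero_vecMul] using e'
  · rw [← Matrix.dotProduct_mulVec, Matrix.mulVec_mulVec, Units.mul_inv, Matrix.one_mulVec, hφu]
  · rw [Units.val_mul, Units.val_mul, hx, mul_add, mul_one, add_mul, Units.inv_mul, Matrix.mul_vecMulVec,
      Matrix.vecMulVec_mul]

omit h in
/-- An element whose `r`-th power is scalar is a scalar times an element of order dividing `r`. -/
theorem split_scalar {r : ℕ} [Fact r.Prime] {x : GL ι F} (hx : x ∈ G) {z : F} (hz : ((x ^ r : GL ι F) : MM) = z • 1)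
    (hco : r.Coprime (orderOf (x ^ r))) :
    ∃ y ∈ G, ∃ s : GL ι F, (∃ c : F, (s : MM) = c • 1) ∧ x = y * s ∧ y ^ r = 1 := by
  obtain ⟨m, hm⟩ := exists_pow_eq_self_of_coprime hco
  obtain ⟨s, hs⟩ : ∃ s, s = (x ^ r) ^ m := ⟨_, rfl⟩
  have hsc : ∃ c : F, (s : MM) = c • 1 := by
    refine ⟨z ^ m, ?_⟩
    rw [hs, Units.val_pow_eq_pow_val, hz, smul_pow, one_pow]
  have hsr : s ^ r = x ^ r := by
    rw [hs, ← pow_mul, mul_comm, pow_mul]
    exact hm
  obtain ⟨c, hc⟩ := hsc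
  have hcomm : Commute x s⁻¹ := (show Commute x s from Units.ext (by simp [hc])).inv_right
  refine ⟨x * s⁻¹, mul_mem hx (inv_mem (hs ▸ pow_mem (pow_mem hx r) m)), s, ⟨c, hc⟩, (inv_mul_cancel_right x s).symm, ?_⟩
  rw [hcomm.mul_pow, inv_pow, hsr, mul_inv_cancel]

omit h in
/-- Conjugacy into a good subgroup of the normalizer settles the elements of order `r`. -/
theorem meets_of_subgroup {r : ℕ} [Fact r.Prime] (E : Subgroup (GL ι F)) (hEG : E ≤ G)
    (hEN : E ≤ subgroupNormalizer R) (hEr : ∀ e ∈ E, e ^ r = 1)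
    (hC : ∀ w ∈ G, w ^ r = 1 → (∀ e ∈ E, w * e = e * w) → w ∈ E)
    (hN : ∀ w ∈ G, w ^ r = 1 → (∀ e ∈ E, w * e * w⁻¹ ∈ E) → ∀ e ∈ E, w * e = e * w)
    {x : GL ι F} (hx : x ∈ G) (hxz : ∃ z : F, ((x ^ r : GL ι F) : MM) = z • 1)
    (hco : r.Coprime (orderOf (x ^ r))) : Meets R G x := by
  obtain ⟨z, hz⟩ := hxz
  obtain ⟨y, hy, s, ⟨c, hc⟩, rfl, hyr⟩ := split_scalar hx hz hco
  obtain ⟨g, hg⟩ := conj_into (X := G) (E.subgroupOf G) (r := r)
    (fun e => ⟨1, Subtype.ext (Subtype.ext (by rw [pow_one]; exact hEr _ e.2))⟩)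
    (fun e he => Subtype.ext (hEr _ he))
    (fun w hw hwc => hC w w.2 (congrArg Subtype.val hw) fun e he =>
      congrArg Subtype.val (hwc ⟨e, hEG he⟩ he))
    (fun w hw hwn e he => Subtype.ext (hN w w.2 (congrArg Subtype.val hw) (fun e he => hwn ⟨e, hEG he⟩ he) _ he))
    (x := ⟨y, hy⟩) (Subtype.ext hyr)
  refine ⟨g, g.2, ?_⟩
  have e : ((g : GL ι F))⁻¹ * (y * s) * g = (((g : GL ι F))⁻¹ * y * g) * s := by
    have hsg : s * (g : GL ι F) = g * s := Units.ext (by simp [hc])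
    calc ((g : GL ι F))⁻¹ * (y * s) * g = ((g : GL ι F))⁻¹ * y * (s * g) := by group
      _ = _ := by rw [hsg]; group
  rw [e]
  exact mul_mem (hEN hg) (scalar_mem_normalizer hc)

/-- The order-five part: an element `w` of order five in the normalizer with small centralizer. -/
theorem meets_five {a b A B : GL ι F} (hfr : Frame R a b A B) {σ : F ≃+* F} {f : (ι → F) → (ι → F) → F}
    {U : Subgroup (GL ι F)} (hU : Isom σ f U) (hRU : R ≤ U)
    (hGU : ∀ g ∈ U, g ^ 5 = 1 → g ∈ G) (hGsub : G ≤ U)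
    (hF : ¬ 5 ∣ Nat.card F - 1)
    (hC : ∀ w ∈ U, w ^ 5 = 1 → w ≠ 1 → ∀ u ∈ U, u ^ 5 = 1 → u * w = w * u → ∃ i : ℕ, u = w ^ i)
    {x : GL ι F} (hx : x ∈ G) (hxz : ∃ z : F, ((x ^ 5 : GL ι F) : MM) = z • 1) : Meets R G x := by
  have : Fact (Nat.Prime 5) := ⟨by norm_num⟩
  have := nonempty h
  obtain ⟨W, l, hWU, hWN, hWns, hW5⟩ := exists_cycle h hfr hU hRU
  have hunit : ∀ c : Fˣ, Nat.Coprime 5 (orderOf c) := fun c => by
    refine (Nat.prime_five).coprime_iff_not_dvd.mpr fun hd => hF ?_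
    have := hd.trans (orderOf_dvd_natCard c)
    rwa [Nat.card_units] at this
  have hsc : ∀ (g : GL ι F) (c : F), (g : MM) = c • 1 → Nat.Coprime 5 (orderOf g) := fun g c hg => by
    have hc0 : c ≠ 0 := fun e => by rw [e, zero_smul] at hg; exact g.ne_zero hg
    have e : g = scalarGL ι F (Units.mk0 c hc0) := Units.ext (by rw [hg, scalarGL_coe]; rfl)
    rw [e, orderOf_injective _ scalarGL_injective]
    exact hunit _
  obtain ⟨y, hy, s, ⟨c, hc⟩, hWs, hy5⟩ := split_scalar (G := U ⊓ subgroupNormalizer R) ⟨hWU, hWN⟩ hW5 (hsc _ _ hW5)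
  have hy1 : y ≠ 1 := fun e => hWns c (by rw [hWs, e, one_mul, hc])
  have hyE : ∀ e ∈ Subgroup.zpowers y, ∃ i : ℕ, e = y ^ i := fun e he => by
    obtain ⟨i, hi⟩ := Submonoid.mem_powers_iff _ _ |>.mp (mem_powers_iff_mem_zpowers.mpr he)
    exact ⟨i, hi.symm⟩
  obtain ⟨z, hz⟩ := hxz
  refine meets_of_subgroup (r := 5) (Subgroup.zpowers y) ?_ ?_ ?_ ?_ ?_ hx ⟨z, hz⟩ (hsc _ _ hz)
  · exact Subgroup.zpowers_le.mpr (hGU y hy.1 hy5)
  · exact Subgroup.zpowers_le.mpr hy.2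
  · intro e he
    obtain ⟨i, rfl⟩ := hyE e he
    rw [← pow_mul, mul_comm, pow_mul, hy5, one_pow]
  · intro w hw hw5 hcw
    obtain ⟨i, hi⟩ := hC y hy.1 hy5 hy1 w (hGsub hw) hw5 (hcw y (Subgroup.mem_zpowers y))
    exact hi ▸ pow_mem (Subgroup.mem_zpowers y) i
  · intro w hw hw5 hn e he
    obtain ⟨k, hk⟩ := hyE _ (hn y (Subgroup.mem_zpowers y))
    have hiter : ∀ n, w ^ n * y * (w ^ n)⁻¹ = y ^ (k ^ n) := by
      intro n
      induction n with
      | zero => simp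
      | succ n ih =>
        calc w ^ (n + 1) * y * (w ^ (n + 1))⁻¹ = w * (w ^ n * y * (w ^ n)⁻¹) * w⁻¹ := by group
          _ = (w * y * w⁻¹) ^ (k ^ n) := by rw [ih, conj_pow]
          _ = _ := by rw [hk, ← pow_mul, ← pow_succ']
    have h5 := hiter 5
    rw [hw5, one_mul, inv_one, mul_one] at h5
    have ho : orderOf y = 5 := orderOf_eq_prime hy5 hy1
    have hk5 : ((k : ZMod 5)) ^ 5 = 1 := by
      have h' : k ^ 5 ≡ 1 [MOD 5] := by
        rw [← ho, ← pow_eq_pow_iff_modEq, pow_one, ho]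
        exact h5.symm
      have := (ZMod.natCast_eq_natCast_iff _ _ _).mpr h'
      simpa using this
    rw [ZMod.pow_card] at hk5
    have hkm : k ≡ 1 [MOD 5] := (ZMod.natCast_eq_natCast_iff _ _ _).mp (by simpa using hk5)
    have hyk : y ^ k = y := by
      conv_rhs => rw [← pow_one y]
      rw [pow_eq_pow_iff_modEq, ho]
      exact hkm
    rw [hyk, mul_inv_eq_iff_eq_mul] at hk
    obtain ⟨i, rfl⟩ := hyE e he
    exact (Commute.pow_right (show Commute w y from hk) i).eq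

end Cfsg.Agent.Classical.SymFour
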