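import Cfsg.Agent.Lib.Classical.Elusive.SymTypeWitness

/-!
# Elements of order three normalizing an extraspecial group of minus type
-/

set_option autoImplicit false
set_option linter.unusedSectionVars false

namespace Cfsg.Agent.Classical.SymFour

open Matrix Cfsg.Geo

variable {ι : Type} [Fintype ι] [DecidableEq ι] {F : Type*} [Field F] [Finite F]

local notation "MM" => Matrix ι ι F
local notation "GG" => GL ι F

variable {R : Subgroup (GL ι F)} (h : Pauli4 R)

include h

/-- With a centre of order two, the central members are the two signs. -/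
theorem central_signs (hZ : Nat.card (Subgroup.center R) = 2) {c : GG} (hc : c ∈ R) {l : F} (hl : (c : MM) = l • 1) :
    c = 1 ∨ c = -1 := by
  have := nonempty h
  classical
  let := Fintype.ofFinite R
  have hcz : (⟨c, hc⟩ : R) ∈ Subgroup.center R := (center_iff h hc).mpr ⟨l, hl⟩
  have hmz : (⟨-1, h.neg⟩ : R) ∈ Subgroup.center R := (center_iff h h.neg).mpr ⟨-1, by simp⟩
  have hm1 : (-1 : GG) ≠ 1 := fun e => h.two (by
    obtain ⟨i⟩ := ‹Nonempty ι›
    have := congrFun (congrFun (congrArg (fun g : GG => (g : MM)) e) i) i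
    simp at this
    linear_combination -this)
  by_contra hne
  push Not at hne
  have hinj : Function.Injective (![1, ⟨⟨-1, h.neg⟩, hmz⟩, ⟨⟨c, hc⟩, hcz⟩] : Fin 3 → Subgroup.center R) := by
    intro i j e
    have e' := congrArg (fun z : Subgroup.center R => (z.1 : GG)) e
    fin_cases i <;> fin_cases j <;> simp at e' ⊢ <;>
      first
      | exact absurd e' hm1
      | exact absurd e'.symm hm1
      | exact absurd e' hne.1
      | exact absurd e'.symm hne.1
      | exact absurd e' hne.2
      | exact absurd e'.symm hne.2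
  have := Nat.card_le_card_of_injective _ hinj
  rw [Nat.card_fin, hZ] at this
  omega

omit h in
/-- Signs of the squares in a frame. -/
def frameSquare (i j : Fin 4) : Bool := (i == 3) == (j != 0)

variable {a b A B : GL ι F}

/-- No element of order three fixes only the centre of the group. -/
theorem minus_three (hfr : Frame R a b A B) (hZ : Nat.card (Subgroup.center R) = 2) {y : GG}
    (hy : y ∈ subgroupNormalizer R) (hy3 : y ^ 3 = 1) : Nat.card ↥(R ⊓ Subgroup.centralizer {y}) ≠ 2 := by
  intro hfix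
  have := nonempty h
  classical
  let := Fintype.ofFinite R
  have hN := fun g => Subgroup.mem_normalizer_iff.mp hy g
  obtain ⟨U, hU⟩ : ∃ U : Fin 4 → GG, U = ![1, a, b, a * b] := ⟨_, rfl⟩
  obtain ⟨V, hV⟩ : ∃ V : Fin 4 → GG, V = ![1, A, B, A * B] := ⟨_, rfl⟩
  have hUR : ∀ i, U i ∈ R := fun i => by
    fin_cases i <;> simp [hU, hfr.a_mem, hfr.b_mem, mul_mem hfr.a_mem hfr.b_mem, one_mem]
  have hVR : ∀ i, V i ∈ R := fun i => by
    fin_cases i <;> simp [hV, hfr.A_mem, hfr.B_mem, mul_mem hfr.A_mem hfr.B_mem, one_mem]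
  obtain ⟨f, hf⟩ : ∃ f : Bool × Fin 4 × Fin 4 → R, ∀ q,
      (f q : GG) = (if q.1 then -1 else 1) * (U q.2.1 * V q.2.2) :=
    ⟨fun q => ⟨(if q.1 then -1 else 1) * (U q.2.1 * V q.2.2),
      mul_mem (by split_ifs; exacts [h.neg, one_mem _]) (mul_mem (hUR _) (hVR _))⟩, fun _ => rfl⟩
  have hsurj : Function.Surjective f := by
    rintro ⟨g, hg⟩
    obtain ⟨u, hu, v, hv, c, ⟨l, hl⟩, hcR, rfl⟩ := hfr.gen g hg
    obtain ⟨i, rfl⟩ : ∃ i, U i = u := by
      rcases hu with e | e | e | e
      exacts [⟨0, by simp [hU, e]⟩, ⟨1, by simp [hU, e]⟩, ⟨2, by simp [hU, e]⟩, ⟨3, by simp [hU, Set.mem_singleton_iff.mp e]⟩]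
    obtain ⟨j, rfl⟩ : ∃ j, V j = v := by
      rcases hv with e | e | e | e
      exacts [⟨0, by simp [hV, e]⟩, ⟨1, by simp [hV, e]⟩, ⟨2, by simp [hV, e]⟩, ⟨3, by simp [hV, Set.mem_singleton_iff.mp e]⟩]
    rcases central_signs h hZ hcR hl with rfl | rfl
    · exact ⟨(false, i, j), Subtype.ext (by rw [hf]; simp)⟩
    · exact ⟨(true, i, j), Subtype.ext (by rw [hf]; simp)⟩
  have hbij : Function.Bijective f := (Fintype.bijective_iff_surjective_and_card f).mpr ⟨hsurj, by
    rw [← Nat.card_eq_fintype_card (α := R), h.card, hZ]; simp⟩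
  -- the squares
  have hab : ∀ z, (b : MM) * ((a : MM) * z) = -((a : MM) * ((b : MM) * z)) := fun z => by
    rw [← mul_assoc, hfr.ba, neg_mul, mul_assoc]
  have hBA : ∀ z, (B : MM) * ((A : MM) * z) = -((A : MM) * ((B : MM) * z)) := fun z => by
    rw [← mul_assoc, hfr.BA, neg_mul, mul_assoc]
  have hUU : ∀ i, (U i : MM) * U i = if i = 3 then -1 else 1 := fun i => by
    fin_cases i <;> simp [hU, hfr.aa, hfr.bb, mul_assoc, hab]
  have hVV : ∀ j, (V j : MM) * V j = if j = 0 then 1 else -1 := fun j => by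
    fin_cases j <;> simp [hV, hfr.AA, hfr.BB, mul_assoc, hBA]
  have hVU : ∀ i j, (V j : MM) * U i = (U i : MM) * V j := by
    have c1 : Commute (A : MM) a := hfr.Aa
    have c2 : Commute (A : MM) b := hfr.Ab
    have c3 : Commute (B : MM) a := hfr.Ba
    have c4 : Commute (B : MM) b := hfr.Bb
    intro i j
    fin_cases i <;> fin_cases j <;> simp [hU, hV] <;>
      first
      | exact c1.eq
      | exact c2.eq
      | exact c3.eq
      | exact c4.eq
      | exact (c1.mul_right c2).eq
      | exact (c3.mul_right c4).eq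
      | exact (c1.mul_left c3).eq
      | exact (c2.mul_left c4).eq
      | exact ((c1.mul_left c3).mul_right (c2.mul_left c4)).eq
  have h11 : (-1 : MM) ≠ 1 := fun e => h.two (by
    obtain ⟨i⟩ := ‹Nonempty ι›
    have := congrFun (congrFun e i) i
    simp at this
    linear_combination -this)
  have hsq : ∀ q, ((f q : GG) : MM) * (f q : GG) = 1 ↔ frameSquare q.2.1 q.2.2 = true := by
    rintro ⟨s, i, j⟩
    have e : ((f (s, i, j) : GG) : MM) * (f (s, i, j) : GG) = ((U i : MM) * U i) * ((V j : MM) * V j) := by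
      rw [hf]
      cases s <;> simp [mul_assoc] <;> rw [← mul_assoc (V j : MM) (U i : MM), hVU, mul_assoc]
    rw [e, hUU, hVV]
    simp only [frameSquare]
    fin_cases i <;> fin_cases j <;> simp [h11]
  let D := {g : R // ((g : GG) : MM) * (g : GG) = 1}
  have hD : Nat.card D = 12 := by
    rw [Nat.card_congr (Equiv.subtypeEquiv (Equiv.ofBijective f hbij) (p := fun q => frameSquare q.2.1 q.2.2 = true)
      (fun q => (hsq q).symm)).symm, Nat.card_eq_fintype_card]
    decide
  let φ : Function.End D := fun g => ⟨⟨y * g.1 * y⁻¹, (hN _).mp g.1.2⟩, by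
    show ((y * g.1 * y⁻¹ : GG) : MM) * (y * g.1 * y⁻¹ : GG) = 1
    have e : (g.1 : GG) * g.1 = 1 := Units.ext g.2
    rw [← Units.val_mul, show (y * g.1 * y⁻¹ : GG) * (y * g.1 * y⁻¹) = y * (g.1 * g.1) * y⁻¹ by group, e, mul_one,
      mul_inv_cancel, Units.val_one]⟩
  have hφk : ∀ n (g : D), (((φ ^ n) g).1 : GG) = y ^ n * g.1 * (y ^ n)⁻¹ := by
    intro n
    induction n with
    | zero => intro g; simp [show (1 : Function.End D) g = g from rfl]
    | succ n ih =>
      intro g
      rw [pow_succ']
      change y * _ * y⁻¹ = _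
      rw [ih, pow_succ']
      group
  have hφ : φ ^ 3 ^ 1 = 1 := by
    funext g
    refine Subtype.ext (Subtype.ext ?_)
    rw [pow_one, hφk, hy3, show (1 : Function.End D) g = g from rfl]
    simp
  have : Fact (Nat.Prime 3) := ⟨Nat.prime_three⟩
  let := Fintype.ofFinite D
  have hmod := Equiv.Perm.card_fixedPoints_modEq hφ
  have hfixed : Nat.card φ.fixedPoints = 2 := by
    rw [← hfix]
    have hmem : ∀ k : ↥(R ⊓ Subgroup.centralizer {y}), ((k : GG) : MM) * (k : GG) = 1 := by
      intro k
      have hle : ∀ z ∈ ({1, -1} : Set GG), z ∈ R ⊓ Subgroup.centralizer {y} := by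
        rintro z (rfl | rfl)
        · exact one_mem _
        · exact ⟨h.neg, Subgroup.mem_centralizer_singleton_iff.mpr (scalar_comm h (c := -1) (by simp) y)⟩
      by_contra hk
      have hinj : Function.Injective (![⟨1, hle 1 (Or.inl rfl)⟩, ⟨-1, hle _ (Or.inr rfl)⟩, k] :
          Fin 3 → ↥(R ⊓ Subgroup.centralizer {y})) := by
        intro i j e
        have e' := congrArg (fun z : ↥(R ⊓ Subgroup.centralizer {y}) => ((z : GG) : MM)) e
        fin_cases i <;> fin_cases j <;> simp at e' ⊢ <;>
          first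
          | exact absurd e' h11
          | exact absurd e'.symm h11
          | exact hk (by rw [e']; simp)
          | exact hk (by rw [← e']; simp)
          | exact absurd (show ((k : GG) : MM) * (k : GG) = 1 by rw [e']; simp) hk
          | exact absurd (show ((k : GG) : MM) * (k : GG) = 1 by rw [← e']; simp) hk
      have := Nat.card_le_card_of_injective _ hinj
      rw [Nat.card_fin, hfix] at this
      omega
    refine Nat.card_congr
      { toFun := fun g => ⟨g.1.1.1, g.1.1.2, Subgroup.mem_centralizer_singleton_iff.mpr (by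
          have := congrArg (fun z : D => (z.1 : GG)) g.2
          change y * g.1.1.1 * y⁻¹ = g.1.1.1 at this
          exact (mul_inv_eq_iff_eq_mul.mp this).symm)⟩
        invFun := fun k => ⟨⟨⟨k.1, k.2.1⟩, hmem k⟩, Subtype.ext (Subtype.ext (by
          change y * k.1 * y⁻¹ = k.1
          rw [← Subgroup.mem_centralizer_singleton_iff.mp k.2.2, mul_inv_cancel_right]))⟩
        left_inv := fun g => rfl
        right_inv := fun k => rfl }
  rw [← Nat.card_eq_fintype_card, ← Nat.card_eq_fintype_card, hD, hfixed] at hmod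
  exact absurd hmod (by decide)

/-- The trace test for elements of order three, for a group of minus type. -/
theorem not_meets_three_minus (hfr : Frame R a b A B) (hZ : Nat.card (Subgroup.center R) = 2) {G : Subgroup GG}
    (h3 : (3 : F) ≠ 0) {x : GG} (hx3 : x ^ 3 = 1) (hns : ∀ z : F, (x : MM) ≠ z • 1)
    (ht : (x : MM).trace * ((x⁻¹ : GG) : MM).trace = 1) : ¬ Meets R G x := by
  have : Fact (Nat.Prime 3) := ⟨Nat.prime_three⟩
  rintro ⟨g, -, hg⟩
  have hg3 : (g⁻¹ * x * g) ^ 3 = 1 := by rw [conj_pow_eq, hx3, mul_one, inv_mul_cancel]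
  rcases odd_cases h (r := 3) (by norm_num) hg hg3 with ⟨c, hc⟩ | ⟨j, hj, e, hd, hcard⟩
  · exact hns c (scalar_conj hc)
  have t1 : ((g⁻¹ * x * g : GG) : MM).trace = (x : MM).trace := by
    rw [Units.val_mul, Units.val_mul, Matrix.trace_units_conj']
  have t2 : (((g⁻¹ * x * g)⁻¹ : GG) : MM).trace = ((x⁻¹ : GG) : MM).trace := by
    rw [show (g⁻¹ * x * g)⁻¹ = g⁻¹ * x⁻¹ * g by group, Units.val_mul, Units.val_mul, Matrix.trace_units_conj']
  rw [t1, t2, ht] at e
  interval_cases j
  · rw [hZ, pow_zero, mul_one] at hcard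
    exact minus_three h hfr hZ hg hg3 hcard
  · exact absurd hd (by decide)
  · exact h3 (by linear_combination -e)
  · exact absurd hd (by decide)

end Cfsg.Agent.Classical.SymFour
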