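import Cfsg.Agent.Lib.Classical.Elusive.SymTypeLinear

/-!
# Witnesses, and the linear case
-/

set_option autoImplicit false
set_option linter.unusedSectionVars false

namespace Cfsg.Agent.Classical.SymFour

open Matrix Cfsg.Geo

section General

variable {ι : Type} [Fintype ι] [DecidableEq ι] {F : Type*} [Field F] [Finite F]

local notation "MM" => Matrix ι ι F

/-- A centre of order four contains a scalar of square `-1`. -/
theorem exists_i {R : Subgroup (GL ι F)} (h : Pauli4 R) (hZ : Nat.card (Subgroup.center R) = 4) :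
    ∃ i ∈ R, ∃ l : F, (i : MM) = l • 1 ∧ l * l = -1 := by
  classical
  have := nonempty h
  obtain ⟨i0⟩ := nonempty h
  by_contra hcon
  push Not at hcon
  have hval : ∀ t : Subgroup.center R, (((t : R) : GL ι F) : MM) = 1 ∨ (((t : R) : GL ι F) : MM) = -1 := by
    intro t
    obtain ⟨c, hc⟩ := (center_iff h (t : R).2).mp t.2
    have hne := hcon _ (t : R).2 c hc
    have h11 : ∀ {e : F}, (((t : R) : GL ι F) : MM) * ((t : R) : GL ι F) = e • 1 → c * c = e := fun {e} h1 => by
      rw [hc, smul_mul_smul_comm, one_mul] at h1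
      simpa using congrFun (congrFun h1 i0) i0
    rcases h.sq _ (t : R).2 with e | e
    · rcases mul_self_eq_one_iff.mp (h11 (e.trans (one_smul F _).symm)) with e' | e'
      · exact Or.inl (by rw [hc, e', one_smul])
      · exact Or.inr (by rw [hc, e', neg_one_smul])
    · exact absurd (h11 (e.trans (neg_one_smul F _).symm)) hne
  have hinj : Function.Injective
      (fun t : Subgroup.center R => decide ((((t : R) : GL ι F) : MM) = 1)) := by
    intro t t' e
    simp only [decide_eq_decide] at e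
    refine Subtype.ext (Subtype.ext (Units.ext ?_))
    rcases hval t with a | a <;> rcases hval t' with b | b
    · rw [a, b]
    · rw [a, e.mp a]
    · rw [b, e.mpr b]
    · rw [a, b]
  have := Nat.card_le_card_of_injective _ hinj
  simp [hZ] at this

/-- An element of prime order at least five is not scalar once the determinant is one. -/
theorem not_scalar_of_order (h4 : Fintype.card ι = 4) {r : ℕ} [Fact r.Prime] (hr : r ≠ 2) {x : GL ι F}
    (hdet : (x : MM).det = 1) (ho : orderOf x = r) : ∀ z : F, (x : MM) ≠ z • 1 := by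
  intro z e
  have : Nonempty ι := Fintype.card_pos_iff.mp (by omega)
  obtain ⟨i0⟩ := ‹Nonempty ι›
  rw [e, Matrix.det_smul, Matrix.det_one, mul_one, h4] at hdet
  have hxr := congrArg (fun g : GL ι F => (g : MM) i0 i0) (show x ^ r = 1 from ho ▸ pow_orderOf_eq_one x)
  simp [e, smul_pow] at hxr
  have hz1 : z = 1 := by
    have := pow_gcd_eq_one.mpr ⟨hxr, hdet⟩
    rwa [show Nat.gcd r 4 = 1 from (Nat.Coprime.pow_right 2 ((Nat.coprime_primes Fact.out Nat.prime_two).mpr hr) :),
      pow_one] at this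
  have hx1 : x = 1 := Units.ext (by rw [e, hz1, one_smul, Units.val_one])
  rw [hx1, orderOf_one] at ho
  exact (Fact.out : r.Prime).ne_one ho.symm

/-- Large primes dividing the order give elements without a conjugate in the normalizer. -/
theorem not_all_large {R G : Subgroup (GL ι F)} (h : Pauli4 R) (hG : ∀ g ∈ G, (g : MM).det = 1)
    {r : ℕ} [Fact r.Prime] (hr : 7 ≤ r) (hdvd : r ∣ Nat.card G)
    (hall : ∀ x ∈ G, (∃ z : F, ((x ^ r : GL ι F) : MM) = z • 1) → (∀ z : F, (x : MM) ≠ z • 1) → Meets R G x) :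
    False := by
  obtain ⟨x, hx⟩ := exists_prime_orderOf_dvd_card' (G := G) r hdvd
  rw [← Subgroup.orderOf_coe] at hx
  have hxr : (x : GL ι F) ^ r = 1 := hx ▸ pow_orderOf_eq_one _
  have hns := not_scalar_of_order h.four (r := r) (by omega) (hG x x.2) hx
  exact not_meets_large h hr hxr hns (hall x x.2 ⟨1, by rw [hxr, Units.val_one, one_smul]⟩ hns)

end General

theorem zmod_five_facts : orderOf ((1 : ℕ) : ZMod 5) = 1 ∧ orderOf ((4 : ℕ) : ZMod 5) = 2 ∧
    orderOf ((2 : ℕ) : ZMod 5) = 4 ∧ orderOf ((3 : ℕ) : ZMod 5) = 4 ∧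
    IsSquare ((1 : ℕ) : ZMod 5) ∧ IsSquare ((4 : ℕ) : ZMod 5) := by
  refine ⟨by simp, orderOf_eq_prime (by decide) (by decide), ?_, ?_, ⟨1, by decide⟩, ⟨2, by decide⟩⟩ <;>
    exact orderOf_eq_prime_pow (p := 2) (n := 1) (by decide) (by decide)

section Fin4

variable {F : Type*} [Field F]

local notation "M4" => Matrix (Fin 4) (Fin 4) F
local notation "G4" => GL (Fin 4) F

/-- A block rotation with trace `s` on a plane. -/
def blk (s : F) : G4 :=
  ⟨!![s, -1, 0, 0; 1, 0, 0, 0; 0, 0, 1, 0; 0, 0, 0, 1], !![0, 1, 0, 0; -1, s, 0, 0; 0, 0, 1, 0; 0, 0, 0, 1],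
    by ext i j; fin_cases i <;> fin_cases j <;> simp [Matrix.mul_apply, Fin.sum_univ_four],
    by ext i j; fin_cases i <;> fin_cases j <;> simp [Matrix.mul_apply, Fin.sum_univ_four]⟩

theorem blk_five {s : F} (hs : s * s + s - 1 = 0) : blk s ^ 5 = 1 := by
  apply Units.ext
  rw [Units.val_pow_eq_pow_val]
  simp only [pow_succ, pow_zero, one_mul]
  ext i j
  fin_cases i <;> fin_cases j <;> simp [blk, Matrix.mul_apply, Fin.sum_univ_four] <;>
    first
      | linear_combination (s ^ 3 - s ^ 2 - 2 * s + 1) * hs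
      | linear_combination (-(s ^ 2 - s - 1)) * hs
      | linear_combination (s ^ 2 - s - 1) * hs
      | linear_combination (-(s - 1)) * hs

theorem blk_det (s : F) : (blk s : M4).det = 1 := by
  simp [blk, Matrix.det_succ_row_zero, Fin.sum_univ_succ, Fin.succAbove]

theorem blk_trace (s : F) : (blk s : M4).trace = s + 2 ∧ (((blk s)⁻¹ : G4) : M4).trace = s + 2 := by
  refine ⟨?_, ?_⟩
  · simp [blk, Matrix.trace, Fin.sum_univ_four]; ring
  · show (!![0, 1, 0, 0; -1, s, 0, 0; 0, 0, 1, 0; 0, 0, 0, 1] : M4).trace = s + 2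
    simp [Matrix.trace, Fin.sum_univ_four]; ring

theorem blk_not_scalar (s z : F) : (blk s : M4) ≠ z • 1 := fun e => by
  have := congrFun (congrFun e 1) 0
  simp [blk] at this

/-- A transvection. -/
def tv : G4 :=
  ⟨!![1, 1, 0, 0; 0, 1, 0, 0; 0, 0, 1, 0; 0, 0, 0, 1], !![1, -1, 0, 0; 0, 1, 0, 0; 0, 0, 1, 0; 0, 0, 0, 1],
    by ext i j; fin_cases i <;> fin_cases j <;> simp [Matrix.mul_apply, Fin.sum_univ_four],
    by ext i j; fin_cases i <;> fin_cases j <;> simp [Matrix.mul_apply, Fin.sum_univ_four]⟩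

theorem tv_eq : ((tv : G4) : M4) = 1 + Matrix.vecMulVec ![1, 0, 0, 0] ![0, 1, 0, 0] := by
  ext i j
  fin_cases i <;> fin_cases j <;> simp [tv, Matrix.vecMulVec_apply]

theorem tv_pow (n : ℕ) : ((tv ^ n : G4) : M4) = !![1, (n : F), 0, 0; 0, 1, 0, 0; 0, 0, 1, 0; 0, 0, 0, 1] := by
  induction n with
  | zero => ext i j; fin_cases i <;> fin_cases j <;> simp
  | succ n ih =>
    rw [pow_succ, Units.val_mul, ih]
    ext i j
    fin_cases i <;> fin_cases j <;> simp [tv, Matrix.mul_apply, Fin.sum_univ_four, add_comm]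

/-- The determinant of a square root of a non-square scalar. -/
theorem det_sqrt {x : G4} {z : F} (hz : (x : M4) * x = z • 1) (hns : ¬ IsSquare z) : (x : M4).det = z * z := by
  have h2 : ∀ v, (x : M4) *ᵥ ((x : M4) *ᵥ v) = z • v := fun v => by
    rw [Matrix.mulVec_mulVec, hz, Matrix.smul_mulVec, Matrix.one_mulVec]
  have hzero : ∀ (a b : F) (v : Fin 4 → F), a • v + b • ((x : M4) *ᵥ v) = 0 → v ≠ 0 → a = 0 ∧ b = 0 := by
    intro a b v e hv
    have e' := congrArg (fun u => (x : M4) *ᵥ u) e
    simp only [Matrix.mulVec_add, Matrix.mulVec_smul, h2, Matrix.mulVec_zero] at e'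
    have e3 : (a * a - b * b * z) • v = 0 := by
      linear_combination (norm := module) a • e - b • e'
    have e4 := sub_eq_zero.mp ((smul_eq_zero.mp e3).resolve_right hv)
    by_cases hb : b = 0
    · exact ⟨mul_self_eq_zero.mp (by rw [e4, hb]; ring), hb⟩
    · exact absurd ⟨a / b, by field_simp; linear_combination -e4⟩ hns
  obtain ⟨v1, hv1⟩ : ∃ v : Fin 4 → F, v ≠ 0 := ⟨Pi.single 0 1, by simp⟩
  obtain ⟨P, hP⟩ : ∃ P : Submodule F (Fin 4 → F), P = Submodule.span F {v1, (x : M4) *ᵥ v1} := ⟨_, rfl⟩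
  obtain ⟨v2, hv2⟩ : ∃ v : Fin 4 → F, v ∉ P := by
    by_contra hcon
    push Not at hcon
    have hle : Module.finrank F P ≤ 2 := by
      rw [hP]
      classical
      refine (finrank_span_le_card _).trans ?_
      simp only [Set.toFinset_insert, Set.toFinset_singleton]
      exact (Finset.card_insert_le _ _).trans (by simp)
    rw [Submodule.eq_top_iff'.mpr hcon, finrank_top, Module.finrank_fintype_fun_eq_card, Fintype.card_fin] at hle
    omega
  have hPinv : ∀ v ∈ P, (x : M4) *ᵥ v ∈ P := by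
    intro v hv
    rw [hP] at hv ⊢
    obtain ⟨a, b, rfl⟩ := Submodule.mem_span_pair.mp hv
    refine Submodule.mem_span_pair.mpr ⟨b * z, a, ?_⟩
    rw [Matrix.mulVec_add, Matrix.mulVec_smul, Matrix.mulVec_smul, h2, smul_smul, add_comm]
  obtain ⟨w, hw⟩ : ∃ w : Fin 4 → Fin 4 → F, w = ![v1, (x : M4) *ᵥ v1, v2, (x : M4) *ᵥ v2] := ⟨_, rfl⟩
  have hli : LinearIndependent F w := by
    rw [Fintype.linearIndependent_iff]
    intro c hc
    simp only [hw, Fin.sum_univ_four, Matrix.cons_val_zero, Matrix.cons_val_one, Matrix.cons_val_two,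
      Matrix.cons_val_three, Matrix.tail_cons, Matrix.head_cons] at hc
    have hmem : c 2 • v2 + c 3 • ((x : M4) *ᵥ v2) ∈ P := by
      have e : c 2 • v2 + c 3 • ((x : M4) *ᵥ v2) = -(c 0 • v1 + c 1 • ((x : M4) *ᵥ v1)) := by
        linear_combination (norm := module) hc
      rw [e, hP]
      exact neg_mem (Submodule.mem_span_pair.mpr ⟨_, _, rfl⟩)
    have h23 : c 2 = 0 ∧ c 3 = 0 := by
      by_cases hd : c 2 * c 2 - c 3 * c 3 * z = 0
      · by_cases hb : c 3 = 0
        · exact ⟨mul_self_eq_zero.mp (by linear_combination hd + (c 3 * z) * hb), hb⟩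
        · exact absurd ⟨c 2 / c 3, by field_simp; linear_combination -hd⟩ hns
      · exfalso
        refine hv2 ?_
        have hm2 := sub_mem (Submodule.smul_mem P (c 2) hmem) (Submodule.smul_mem P (c 3) (hPinv _ hmem))
        have e : c 2 • (c 2 • v2 + c 3 • ((x : M4) *ᵥ v2)) - c 3 • ((x : M4) *ᵥ (c 2 • v2 + c 3 • ((x : M4) *ᵥ v2))) =
            (c 2 * c 2 - c 3 * c 3 * z) • v2 := by
          rw [Matrix.mulVec_add, Matrix.mulVec_smul, Matrix.mulVec_smul, h2]
          module
        rw [e] at hm2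
        exact (Submodule.smul_mem_iff P hd).mp hm2
    rw [h23.1, h23.2, zero_smul, zero_smul, add_zero, add_zero] at hc
    obtain ⟨e0, e1⟩ := hzero _ _ _ hc hv1
    intro i
    fin_cases i
    exacts [e0, e1, h23.1, h23.2]
  have hu : IsUnit (Matrix.of fun i j => w j i : M4) := Matrix.linearIndependent_cols_iff_isUnit.mp hli
  obtain ⟨T, hT⟩ : ∃ T : G4, ∀ i j, (T : M4) i j = w j i := ⟨hu.unit, fun i j => rfl⟩
  have hcols : ∀ j, (x : M4) *ᵥ w j = fun i => ((T : M4) * !![0, z, 0, 0; 1, 0, 0, 0; 0, 0, 0, z; 0, 0, 1, 0]) i j := by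
    intro j
    funext i
    rw [Matrix.mul_apply, Fin.sum_univ_four, hT, hT, hT, hT, hw]
    fin_cases j <;> simp [h2, mul_comm]
  have e : (x : M4) * T = (T : M4) * !![0, z, 0, 0; 1, 0, 0, 0; 0, 0, 0, z; 0, 0, 1, 0] := by
    ext i j
    rw [← congrFun (hcols j) i]
    simp [Matrix.mul_apply, Matrix.mulVec, dotProduct, hT]
  have hdet := congrArg Matrix.det e
  rw [Matrix.det_mul, Matrix.det_mul, mul_comm] at hdet
  have hC : (!![0, z, 0, 0; 1, 0, 0, 0; 0, 0, 0, z; 0, 0, 1, 0] : M4).det = z * z := by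
    simp [Matrix.det_succ_row_zero, Fin.sum_univ_succ, Fin.succAbove]
  rw [hC] at hdet
  exact mul_left_cancel₀ ((Matrix.isUnit_iff_isUnit_det _).mp T.isUnit).ne_zero hdet

/-- The linear case. -/
theorem linear_criterion [Fintype F] {p : ℕ} [Fact p.Prime] [CharP F p] (hF : Fintype.card F = p) (hp4 : p % 4 = 1)
    (R : Subgroup (GL (Fin 4) F)) (h : Pauli4 R) (hZ : Nat.card (Subgroup.center R) = 4) (r : ℕ) [Fact r.Prime]
    (hΩ : r ∣ (subgroupNormalizer R).relIndex (Cfsg.Geo.specialLinear (Fin 4) F)) :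
    (∀ x ∈ Cfsg.Geo.specialLinear (Fin 4) F, (∃ z : F, ((x ^ r : GL (Fin 4) F) : M4) = z • 1) →
      (∀ z : F, (x : M4) ≠ z • 1) →
      Meets R (Cfsg.Geo.specialLinear (Fin 4) F) x) ↔
    (r = 2 ∨ (r = 3 ∧ p % 3 = 2) ∨ (r = 5 ∧ orderOf (p : ZMod 5) = 4)) := by
  classical
  have hp : p.Prime := Fact.out
  have hr : r.Prime := Fact.out
  have hSL : ∀ g : G4, g ∈ Cfsg.Geo.specialLinear (Fin 4) F ↔ (g : M4).det = 1 := fun g => by
    rw [Cfsg.Geo.specialLinear, MonoidHom.mem_ker, Units.ext_iff, Matrix.GeneralLinearGroup.val_det_apply, Units.val_one]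
  have hcast : ∀ n : ℕ, ¬ p ∣ n → (n : F) ≠ 0 := fun n hn e => hn ((CharP.cast_eq_zero_iff F p n).mp e)
  have hFc : Nat.card F = p := by rw [Nat.card_eq_fintype_card, hF]
  have hp5 : 5 ≤ p := by
    rcases eq_or_ne p 2 with e | e
    · omega
    rcases eq_or_ne p 3 with e' | e'
    · omega
    have := hp.two_le
    by_contra hlt
    interval_cases p <;> simp_all
  have h3 : (3 : F) ≠ 0 := by
    exact_mod_cast hcast 3 fun e => by have := Nat.le_of_dvd (by norm_num) e; omega
  obtain ⟨i, hiR, l, hil, hll⟩ := exists_i h hZ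
  obtain ⟨a, b, A, B, hfr⟩ := exists_frame h (Or.inl ⟨i, hiR, l, hil, hll⟩)
  have hU : Isom (RingEquiv.refl F) (fun _ _ : Fin 4 → F => (0 : F)) (⊤ : Subgroup G4) :=
    ⟨⟨by simp, by simp, by simp, by simp⟩, by simp⟩
  have hroot : ∀ {n : ℕ}, n.Prime → ¬ n ∣ p - 1 → ∀ c : F, c ^ n = 1 → c = 1 := by
    intro n hn hnd c hc
    have hc0 : c ≠ 0 := fun e => by rw [e, zero_pow hn.ne_zero] at hc; exact zero_ne_one hc
    have hq : c ^ (p - 1) = 1 := by rw [← hF]; exact FiniteField.pow_card_sub_one_eq_one c hc0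
    have := pow_gcd_eq_one.mpr ⟨hc, hq⟩
    rwa [(hn.coprime_iff_not_dvd.mpr hnd).gcd_eq_one, pow_one] at this
  constructor
  · intro hall
    by_contra hcon
    push Not at hcon
    obtain ⟨hr2, hr3, hr5⟩ := hcon
    have hmeet : ∀ x : G4, (x : M4).det = 1 → x ^ r = 1 → (∀ z : F, (x : M4) ≠ z • 1) →
        Meets R (Cfsg.Geo.specialLinear (Fin 4) F) x := fun x hd hxr hns =>
      hall x ((hSL x).mpr hd) ⟨1, by rw [hxr, Units.val_one, one_smul]⟩ hns
    rcases eq_or_ne r 3 with rfl | hne3
    · have hp3 : p % 3 = 1 := by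
        have h0 : p % 3 ≠ 0 := fun e => by
          have := (Nat.prime_dvd_prime_iff_eq Nat.prime_three hp).mp (Nat.dvd_of_mod_eq_zero e)
          omega
        have := hr3 rfl
        omega
      obtain ⟨w, hw⟩ := exists_prime_orderOf_dvd_card' (G := Fˣ) 3
        (by rw [Nat.card_units, hFc]; omega)
      have hw3 : w ^ 3 = 1 := hw ▸ pow_orderOf_eq_one w
      have hw1 : w ≠ 1 := fun e => by rw [e, orderOf_one] at hw; omega
      have hw' : (w : F) ^ 3 = 1 := by rw [← Units.val_pow_eq_pow_val, hw3, Units.val_one]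
      have hs : (w : F) ^ 2 + (w : F) + 1 = 0 := by
        have : ((w : F) - 1) * ((w : F) ^ 2 + (w : F) + 1) = 0 := by linear_combination hw'
        exact (mul_eq_zero.mp this).resolve_left (sub_ne_zero.mpr fun e => hw1 (Units.ext e))
      obtain ⟨d, hd⟩ : ∃ d : Fin 4 → Fˣ, d = ![w, w, w, 1] := ⟨_, rfl⟩
      have hd3 : dg4 d ^ 3 = 1 := by
        rw [← map_pow]
        convert map_one dg4
        funext i
        fin_cases i <;> simp [hd, hw3]
      have hns : ∀ z : F, (dg4 d : M4) ≠ z • 1 := fun z e => hw1 (Units.ext (by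
        have e0 := congrFun (congrFun e 0) 0
        have e3 := congrFun (congrFun e 3) 3
        simp [dg4_val, hd] at e0 e3
        rw [e0, ← e3]
        simp))
      have ht : (dg4 d : M4).trace * (((dg4 d)⁻¹ : G4) : M4).trace = 7 := by
        rw [← map_inv, dg4_val, dg4_val, Matrix.trace_diagonal, Matrix.trace_diagonal, Fin.sum_univ_four,
          Fin.sum_univ_four]
        have hwi : (w : F)⁻¹ = (w : F) ^ 2 := inv_eq_of_mul_eq_one_right (by rw [← pow_succ']; exact hw')
        simp [hd, hwi]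
        linear_combination 9 * hw' + 3 * hs
      refine not_meets_trace h (Or.inl rfl) hd3 hns (fun e => ?_) (fun _ e => ?_)
        (hmeet _ (by rw [dg4_val, Matrix.det_diagonal, Fin.prod_univ_four, hd]; simp [← pow_three', hw']) hd3 hns)
      · rw [ht] at e
        have : ((2 : F) * 3) = 0 := by linear_combination e
        exact (mul_eq_zero.mp this).elim h.two h3
      · rw [ht] at e
        exact h3 (by linear_combination e)
    rcases eq_or_ne r 5 with rfl | hne5
    · rcases eq_or_ne p 5 with rfl | hp55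
      · refine not_meets_transvection h (u := ![1, 0, 0, 0]) (φ := ![0, 1, 0, 0]) ?_ ?_ ?_ tv_eq
          (hmeet tv ?_ ?_ fun z e => ?_)
        · exact fun e => one_ne_zero (congrFun e 0)
        · exact fun e => one_ne_zero (congrFun e 1)
        · simp [dotProduct, Fin.sum_univ_four]
        · simp [tv, Matrix.det_succ_row_zero, Fin.sum_univ_succ, Fin.succAbove]
        · apply Units.ext
          rw [tv_pow, CharP.cast_eq_zero F 5, Units.val_one]
          ext i j
          fin_cases i <;> fin_cases j <;> simp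
        · have := congrFun (congrFun e 0) 1
          simp [tv] at this
      have hpm : p % 5 = 1 ∨ p % 5 = 4 := by
        have hne := hr5 rfl
        have h0 : p % 5 ≠ 0 := fun e =>
          hp55 ((Nat.prime_dvd_prime_iff_eq (by norm_num) hp).mp (Nat.dvd_of_mod_eq_zero e)).symm
        rw [← ZMod.natCast_mod] at hne
        obtain ⟨-, -, h2, h3, -, -⟩ := zmod_five_facts
        rcases (show p % 5 = 1 ∨ p % 5 = 2 ∨ p % 5 = 3 ∨ p % 5 = 4 by omega) with e | e | e | e
        · exact Or.inl e
        · exact absurd (e ▸ h2) hne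
        · exact absurd (e ▸ h3) hne
        · exact Or.inr e
      obtain ⟨t, ht⟩ : IsSquare (5 : F) := by
        haveI : Fact (Nat.Prime 5) := ⟨by norm_num⟩
        have h5 : IsSquare ((5 : ℕ) : ZMod p) := by
          refine (ZMod.exists_sq_eq_prime_iff_of_mod_four_eq_one (p := 5) (q := p) (by norm_num) (by omega)).mp ?_
          rw [← ZMod.natCast_mod]
          obtain ⟨-, -, -, -, q1, q4⟩ := zmod_five_facts
          rcases hpm with e | e <;> rw [e] <;> assumption
        have := h5.map (ZMod.castHom dvd_rfl F)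
        rw [map_natCast] at this
        exact_mod_cast this
      obtain ⟨s, hs⟩ : ∃ s : F, s * s + s - 1 = 0 := ⟨(-1 + t) / 2, by field_simp [h.two]; linear_combination -ht⟩
      have h5F : (5 : F) ≠ 0 := by
        exact_mod_cast hcast 5 fun e => hp55 ((Nat.prime_dvd_prime_iff_eq hp (by norm_num)).mp e)
      refine not_meets_trace h (Or.inr rfl) (blk_five hs) (blk_not_scalar s) ?_ (by norm_num)
        (hmeet _ (blk_det s) (blk_five hs) (blk_not_scalar s))
      rw [(blk_trace s).1, (blk_trace s).2]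
      intro e
      have e' : (s + 1) * (s + 3) = 0 := by linear_combination e
      rcases mul_eq_zero.mp e' with e1 | e1
      · exact one_ne_zero (α := F) (by linear_combination -hs + s * e1)
      · exact h5F (by linear_combination hs - (s - 2) * e1)
    have hr7 : 7 ≤ r := by
      have := hr.two_le
      by_contra hlt
      interval_cases r <;> simp_all (config := { decide := true })
    refine not_all_large h (fun g hg => (hSL g).mp hg) hr7 (hΩ.trans ?_) hall
    exact Subgroup.relIndex_dvd_card _ _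
  · have hfive5 : r = 5 → orderOf (p : ZMod 5) = 4 → p % 5 = 2 ∨ p % 5 = 3 := fun _ ho => by
      rw [← ZMod.natCast_mod] at ho
      obtain ⟨h1, h4, -, -, -, -⟩ := zmod_five_facts
      have h0 : orderOf ((0 : ℕ) : ZMod 5) = 0 := orderOf_eq_zero_iff'.mpr fun n hn => by rw [Nat.cast_zero, zero_pow (Nat.pos_iff_ne_zero.mp hn)]; decide
      rcases (show p % 5 = 0 ∨ p % 5 = 1 ∨ p % 5 = 2 ∨ p % 5 = 3 ∨ p % 5 = 4 by omega) with e | e | e | e | e
      · rw [e, h0] at ho; omega
      · rw [e, h1] at ho; omega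
      · exact Or.inl e
      · exact Or.inr e
      · rw [e, h4] at ho; omega
    rintro hcase x hx ⟨z, hz⟩ hns
    have hz4 : z ^ 4 = 1 := by
      have e := congrArg Matrix.det hz
      rw [Units.val_pow_eq_pow_val, Matrix.det_pow, (hSL x).mp hx, one_pow, Matrix.det_smul, Matrix.det_one,
        mul_one, Fintype.card_fin] at e
      exact e.symm
    have hx4 : (x ^ r) ^ 4 = 1 := Units.ext (by
      rw [Units.val_pow_eq_pow_val, hz, smul_pow, hz4, one_smul, one_pow, Units.val_one])
    rcases hcase with rfl | ⟨rfl, hp3⟩ | ⟨rfl, ho⟩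
    · obtain ⟨s, hs⟩ : IsSquare z := by
        have hm1 : IsSquare (-1 : F) := ⟨l, hll.symm⟩
        by_contra hnsq
        have hzz : z * z = -1 := by
          have : (z * z - 1) * (z * z + 1) = 0 := by linear_combination hz4
          rcases mul_eq_zero.mp this with e | e
          · rcases mul_self_eq_one_iff.mp (sub_eq_zero.mp e) with e' | e'
            · exact absurd (e' ▸ IsSquare.one : IsSquare z) hnsq
            · exact absurd (e' ▸ hm1 : IsSquare z) hnsq
          · exact eq_neg_of_add_eq_zero_left e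
        have hd := det_sqrt (x := x) (by rw [← Units.val_mul, ← sq x, hz]) hnsq
        rw [(hSL x).mp hx, hzz] at hd
        exact h.two (by linear_combination hd)
      have hs0 : s ≠ 0 := fun e => by rw [hs, e, mul_zero, zero_pow (by norm_num)] at hz4; exact zero_ne_one hz4
      have := meets_two h hfr hiR hil hll hU le_top (invAmb_top h.two) (Subgroup.mem_top _) (x := x)
        ⟨Subgroup.mem_top x, hx⟩ hz hns (s := Units.mk0 s hs0) (Subgroup.mem_top _) hs.symm
      simpa only [top_inf_eq] using this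
    · have h3d : ¬ 3 ∣ p - 1 := by omega
      refine meets_three h hfr hiR hil hll h3 hU le_top (fun g _ hg => (hSL g).mpr ?_) le_top ?_ hx ⟨z, hz⟩ ?_
      · refine hroot Nat.prime_three h3d _ ?_
        rw [← Matrix.det_pow, ← Units.val_pow_eq_pow_val, hg, Units.val_one, Matrix.det_one]
      · intro w _ w' _ q1 q2 hww hd hd2 u _ hu huw huw'
        refine three_commutant (Fintype.card_fin 4) (fun t e => ?_) q1 q2 hww hd hd2 hu huw huw'
        have ht1 : t = 1 := hroot Nat.prime_three h3d t (by linear_combination (t - 1) * e)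
        rw [ht1] at e
        exact h3 (by linear_combination e)
      · exact Nat.Coprime.coprime_dvd_right (orderOf_dvd_of_pow_eq_one hx4) (by norm_num)
    · have hp5m := hfive5 rfl ho
      have h5d : ¬ 5 ∣ p - 1 := by omega
      have h5F : (5 : F) ≠ 0 := by
        exact_mod_cast hcast 5 fun e => by
          have := (Nat.prime_dvd_prime_iff_eq hp (by norm_num)).mp e; omega
      refine meets_five h hfr hU le_top (fun g _ hg => (hSL g).mpr ?_) le_top (by rwa [hFc]) ?_ hx ⟨z, hz⟩
      · refine hroot (by norm_num) h5d _ ?_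
        rw [← Matrix.det_pow, ← Units.val_pow_eq_pow_val, hg, Units.val_one, Matrix.det_one]
      · intro w _ hw hw1 u _ hu huw
        refine five_commutant (Fintype.card_fin 4) h5F (fun d hd hdd => ?_) hw hw1 hu huw
        rw [hFc] at hdd
        have h1 : 1 ≤ p ^ d := Nat.one_le_pow _ _ hp.pos
        have hmod : p ^ d % 5 = 1 := by omega
        rw [Nat.pow_mod] at hmod
        interval_cases d <;> rcases hp5m with e | e <;> simp_all

end Fin4

end Cfsg.Agent.Classical.SymFour
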