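import Cfsg.Agent.Lib.Classical.Elusive.SymTypeUnitaryCommutant
import Cfsg.Agent.Lib.Classical.Elusive.SymTypeWitness

/-!
# Fixed points on the cosets of a normalizer of symplectic type: unitary groups of dimension four
-/

set_option autoImplicit false
set_option linter.unusedSectionVars false

namespace Cfsg.Agent.Classical.SymFour

open Matrix Cfsg.Geo

/-- An element whose minimal polynomial divides `(X - 1)(X² - sX + 1)` with `s² + s = 1` has fifth power one. -/
theorem five_of_quad {ι F : Type*} [Fintype ι] [DecidableEq ι] [Field F] {M : Matrix ι ι F} {s : F}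
    (hs : s * s + s - 1 = 0) (h3 : M * M * M = (s + 1) • (M * M) - (s + 1) • M + 1) : M ^ 5 = 1 := by
  have h4 : M * M * M * M = M * M - (s + 1) • M + (s + 1) • (1 : Matrix ι ι F) := by
    calc M * M * M * M = (s + 1) • (M * M * M) - (s + 1) • (M * M) + M := by
          conv_lhs => rw [h3]
          rw [add_mul, sub_mul, smul_mul_assoc, smul_mul_assoc, one_mul]
      _ = _ := by
          rw [h3]
          match_scalars <;> first | ring1 | linear_combination hs | linear_combination -hs
  calc M ^ 5 = M * M * M * M * M := by simp only [pow_succ, pow_zero, one_mul]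
    _ = M * M * M - (s + 1) • (M * M) + (s + 1) • M := by
        rw [h4, add_mul, sub_mul, smul_mul_assoc, smul_mul_assoc, one_mul]
    _ = 1 := by rw [h3]; abel

/-- Five is a square modulo `p` exactly for `p ≡ ±1 (mod 5)`. -/
theorem five_square {p : ℕ} [Fact p.Prime] (hp2 : p ≠ 2) :
    IsSquare ((5 : ℕ) : ZMod p) ↔ IsSquare (p : ZMod 5) := by
  haveI : Fact (Nat.Prime 5) := ⟨by norm_num⟩
  exact (ZMod.exists_sq_eq_prime_iff_of_mod_four_eq_one (p := 5) (q := p) (by norm_num) hp2).symm

/-- A matrix squaring to one with trace zero has determinant one. -/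
theorem det_of_trace_zero {F : Type*} [Field F] [Finite F] (h2 : (2 : F) ≠ 0) {y : GL (Fin 4) F}
    (hyy : (y : Matrix (Fin 4) (Fin 4) F) * y = 1) (ht : (y : Matrix (Fin 4) (Fin 4) F).trace = 0) :
    (y : Matrix (Fin 4) (Fin 4) F).det = 1 := by
  obtain ⟨g, -, d, hd⟩ := (invAmb_top h2).diag y (Subgroup.mem_top _) hyy
  have hv := congrArg (fun z : GL (Fin 4) F => (z : Matrix (Fin 4) (Fin 4) F)) hd
  simp only [Units.val_mul] at hv
  have e1 := congrArg Matrix.trace hv
  rw [Matrix.trace_units_conj', ht, dg4_val, Matrix.trace_diagonal, Fin.sum_univ_four] at e1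
  have e2 := congrArg Matrix.det hv
  rw [Matrix.det_units_conj', dg4_val, Matrix.det_diagonal, Fin.prod_univ_four] at e2
  rw [e2]
  rcases h0 : d 0 <;> rcases h1 : d 1 <;> rcases h2' : d 2 <;> rcases h3 : d 3 <;> simp [sgu, h0, h1, h2', h3] at e1 ⊢ <;>
    exact absurd (show (2 : F) = 0 by first | linear_combination e1 | linear_combination -e1) h2

variable {F : Type*} [Field F] [Fintype F] {q : ℕ} {σ : F ≃+* F} (hσ : IsUSigma q σ)

local notation "M4" => Matrix (Fin 4) (Fin 4) F
local notation "G4" => GL (Fin 4) F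
local notation "SU4" => Cfsg.GU 4 F q ⊓ Cfsg.Geo.specialLinear (Fin 4) F

include hσ

theorem scalar_norm {g : G4} (hg : g ∈ Cfsg.GU 4 F q) {c : F} (hc : (g : M4) = c • 1) : c * σ c = 1 := by
  have e := mem_GU_iff.mp hg (Pi.single 0 1) (Pi.single 0 1)
  rw [hc, Matrix.smul_mulVec, Matrix.one_mulVec, ← Pi.single_smul, smul_eq_mul, mul_one, hσ.hermForm_single,
    hσ.hermForm_single] at e
  simpa using e

/-- The norm of a square root of the scalar of an element of order two modulo scalars. -/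
theorem sqrt_norm (h2 : (2 : F) ≠ 0) (h4 : 4 ∣ q + 1) {x : G4} (hx : x ∈ SU4) {z : F}
    (hz : (x : M4) * x = z • 1) {s : F} (hs : s * s = z) : s * σ s = 1 := by
  have hz' : ((x * x : G4) : M4) = z • 1 := by rw [Units.val_mul, hz]
  have hn := scalar_norm hσ (mul_mem hx.1 hx.1) hz'
  rw [← hs, map_mul] at hn
  have hcc : (s * σ s - 1) * (s * σ s + 1) = 0 := by linear_combination hn
  refine (mul_eq_zero.mp hcc).elim (fun e => sub_eq_zero.mp e) fun e => ?_
  exfalso
  have hs0 : s ≠ 0 := fun e' => one_ne_zero (α := F) (by rw [e'] at e; linear_combination e)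
  have hσs0 : σ s ≠ 0 := (map_ne_zero σ).mpr hs0
  obtain ⟨y, hy⟩ : ∃ y : G4, (y : M4) = s⁻¹ • (x : M4) :=
    ⟨scalarGL (Fin 4) F (Units.mk0 s hs0)⁻¹ * x, by
      rw [Units.val_mul, scalarGL_coe, smul_mul_assoc, one_mul, Units.val_inv_eq_inv_val, Units.val_mk0]⟩
  have hyy : (y : M4) * y = 1 := by
    rw [hy, smul_mul_smul_comm, hz, smul_smul, ← hs, show s⁻¹ * s⁻¹ * (s * s) = 1 by field_simp, one_smul]
  have hgram := UCount.gram_mul hσ hx.1
  have hxs : (x : M4) = s • (y : M4) := by rw [hy, smul_smul, mul_inv_cancel₀ hs0, one_smul]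
  have hmap : (y : M4).map σ = -((y : M4)ᵀ) := by
    have e1 : (s * σ s) • ((y : M4)ᵀ * (y : M4).map σ) = 1 := by
      have e' : (x : M4).map σ = σ s • (y : M4).map σ := by
        rw [hxs]
        ext i j
        simp
      rw [← smul_mul_smul_comm, ← Matrix.transpose_smul, ← hxs, ← e']
      exact hgram
    rw [show s * σ s = -1 by linear_combination e, neg_one_smul, neg_eq_iff_eq_neg] at e1
    have e2 : (y : M4)ᵀ * (y : M4)ᵀ = 1 := by rw [← Matrix.transpose_mul, hyy, Matrix.transpose_one]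
    calc (y : M4).map σ = ((y : M4)ᵀ * (y : M4)ᵀ) * (y : M4).map σ := by rw [e2, one_mul]
      _ = _ := by rw [mul_assoc, e1, mul_neg, mul_one]
  have hσt : σ (y : M4).trace = -(y : M4).trace := by
    have e1 := congrArg Matrix.trace hmap
    rw [Matrix.trace_neg, Matrix.trace_transpose] at e1
    rw [← e1, Matrix.trace, Matrix.trace, map_sum]
    rfl
  have ht : (y : M4).trace = 0 := by
    obtain ⟨g, -, d, hd⟩ := (invAmb_top h2).diag y (Subgroup.mem_top _) hyy
    have hfix : σ (y : M4).trace = (y : M4).trace := by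
      have : (y : M4).trace = 4 - 2 * ((Finset.univ.filter fun i => d i = true).card : F) := by
        rw [← trace_sgu, ← hd, Units.val_mul, Units.val_mul, Matrix.trace_units_conj']
      rw [this, map_sub, map_mul, map_natCast, map_ofNat, map_ofNat]
    rw [hσt] at hfix
    exact (mul_eq_zero.mp (show (2 : F) * (y : M4).trace = 0 by linear_combination -hfix)).resolve_left h2
  have hdet : (x : M4).det = 1 := by
    have := MonoidHom.mem_ker.mp hx.2
    rw [Units.ext_iff, Matrix.GeneralLinearGroup.val_det_apply, Units.val_one] at this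
    exact this
  rw [hxs, Matrix.det_smul, det_of_trace_zero h2 hyy ht, mul_one, Fintype.card_fin] at hdet
  obtain ⟨k, hk⟩ := h4
  have : s * σ s = 1 := by rw [hσ.apply_eq, ← pow_succ', hk, pow_mul, hdet, one_pow]
  exact h2 (by linear_combination e - this)

/-- A unitary transvection. -/
theorem exists_unitary_transvection : ∃ (y : G4) (u φ : Fin 4 → F), y ∈ Cfsg.GU 4 F q ∧ u ≠ 0 ∧ φ ≠ 0 ∧
    φ ⬝ᵥ u = 0 ∧ (y : M4) = 1 + Matrix.vecMulVec u φ ∧ ∀ n : ℕ, ((y ^ n : G4) : M4) = 1 + (n : F) • Matrix.vecMulVec u φ := by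
  obtain ⟨b, hb0, hb⟩ := hσ.norm_surjective (t := (-1 : F)) (by simp) (by simp)
  obtain ⟨c, hc0, hc⟩ := hσ.exists_skew
  obtain ⟨v, hv⟩ : ∃ v : Fin 4 → F, v = ![1, b, 0, 0] := ⟨_, rfl⟩
  obtain ⟨φ, hφ⟩ : ∃ φ : Fin 4 → F, φ = σ ∘ v := ⟨_, rfl⟩
  have hdot : ∀ w, φ ⬝ᵥ w = Cfsg.hermForm 4 F q w v := fun w => by
    rw [hσ.hermForm_eq, hφ, dotProduct]
    exact Finset.sum_congr rfl fun i _ => mul_comm _ _
  have hvv : Cfsg.hermForm 4 F q v v = 0 := by
    rw [hσ.hermForm_eq, hv, Fin.sum_univ_four]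
    simp
    linear_combination hb
  have hφu : φ ⬝ᵥ (c • v) = 0 := by rw [dotProduct_smul, hdot, hvv, smul_zero]
  obtain ⟨T, hT⟩ : ∃ T : M4, T = Matrix.vecMulVec (c • v) φ := ⟨_, rfl⟩
  have hTT : T * T = 0 := by
    rw [hT, Matrix.vecMulVec_mul_vecMulVec, hφu, zero_smul, Matrix.vecMulVec_zero]
  obtain ⟨y, hy⟩ : ∃ y : G4, (y : M4) = 1 + T :=
    ⟨⟨1 + T, 1 - T, by linear_combination (norm := noncomm_ring) -hTT,
      by linear_combination (norm := noncomm_ring) -hTT⟩, rfl⟩
  have hsf := semiForm_of_unitary (hσ.isUnitaryForm (n := 4))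
  refine ⟨y, c • v, φ, mem_GU_iff.mpr fun u w => ?_, ?_, ?_, hφu, by rw [hy, hT], fun n => ?_⟩
  · have e : ∀ u, (y : M4) *ᵥ u = u + (Cfsg.hermForm 4 F q u v * c) • v := fun u => by
      rw [hy, hT, Matrix.add_mulVec, Matrix.one_mulVec, Matrix.vecMulVec_mulVec, hdot]
      simp [smul_smul]
    have hh : σ (Cfsg.hermForm 4 F q w v) = Cfsg.hermForm 4 F q v w := ((hσ.isUnitaryForm (n := 4)).herm v w).symm
    rw [e, e, hsf.add_left, hsf.add_right, hsf.add_right, hsf.smul_left, hsf.smul_left, hsf.smul_right, hsf.smul_right,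
      hvv, map_mul, hh]
    linear_combination (Cfsg.hermForm 4 F q u v * Cfsg.hermForm 4 F q v w) * hc
  · intro e
    exact hc0 (by simpa [hv] using congrFun e 0)
  · intro e
    have := congrFun e 0
    simp [hφ, hv] at this
  · rw [Units.val_pow_eq_pow_val, hy]
    induction n with
    | zero => simp
    | succ n ih =>
      rw [pow_succ, ih, ← hT, add_mul, one_mul, smul_mul_assoc, mul_add, mul_one, hTT, add_zero, Nat.cast_succ,
        add_smul, one_smul]
      abel

/-- A unitary element of order five whose trace is `s + 2`. -/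
theorem exists_unitary_five (h2 : (2 : F) ≠ 0) {s : F} (hs : s * s + s - 1 = 0) (hσs : σ s = s)
    (hne : (s / 2) * (s / 2) ≠ 1) :
    ∃ x : G4, x ∈ SU4 ∧ x ^ 5 = 1 ∧ (∀ z : F, (x : M4) ≠ z • 1) ∧ (x : M4).trace = s + 2 ∧
      ((x⁻¹ : G4) : M4).trace = s + 2 := by
  obtain ⟨a, ha⟩ : ∃ a : F, a = s / 2 := ⟨_, rfl⟩
  rw [← ha] at hne
  have hsa : s = 2 * a := by rw [ha]; field_simp
  have hσa : σ a = a := by rw [ha, map_div₀, hσs, map_ofNat]
  obtain ⟨b, hb0, hb⟩ := hσ.norm_surjective (t := 1 - a * a) (sub_ne_zero.mpr (Ne.symm hne))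
    (by rw [map_sub, map_one, map_mul, hσa])
  obtain ⟨B, hB⟩ : ∃ B : M4, B = !![a, -(σ b), 0, 0; b, a, 0, 0; 0, 0, 1, 0; 0, 0, 0, 1] := ⟨_, rfl⟩
  obtain ⟨B', hB'⟩ : ∃ B' : M4, B' = !![a, σ b, 0, 0; -b, a, 0, 0; 0, 0, 1, 0; 0, 0, 0, 1] := ⟨_, rfl⟩
  obtain ⟨x, hx, hx'⟩ : ∃ x : G4, (x : M4) = B ∧ ((x⁻¹ : G4) : M4) = B' := by
    refine ⟨⟨B, B', ?_, ?_⟩, rfl, rfl⟩ <;> rw [hB, hB'] <;> ext i j <;> fin_cases i <;> fin_cases j <;>
      simp [Matrix.mul_apply, Fin.sum_univ_four] <;> first | ring1 | linear_combination hb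
  have hdet : (x : M4).det = 1 := by
    rw [hx, hB]
    simp [Matrix.det_succ_row_zero, Fin.sum_univ_succ, Fin.succAbove]
    linear_combination hb
  refine ⟨x, ⟨mem_GU_of_gram hσ ?_, MonoidHom.mem_ker.mpr (Units.ext (by
    rw [Matrix.GeneralLinearGroup.val_det_apply, hdet, Units.val_one]))⟩, ?_, ?_, ?_, ?_⟩
  · rw [hx, hB]
    ext i j
    fin_cases i <;> fin_cases j <;> simp [Matrix.mul_apply, Fin.sum_univ_four, hσa, hσ.involutive b] <;>
      first | ring1 | linear_combination hb
  · apply Units.ext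
    rw [Units.val_pow_eq_pow_val, hx, Units.val_one]
    refine five_of_quad hs ?_
    rw [hB]
    ext i j
    fin_cases i <;> fin_cases j <;> simp [Matrix.mul_apply, Fin.sum_univ_four] <;> rw [hsa] <;>
      first | ring1 | linear_combination (2 * a - 1 - 3 * a + 2 * a) * hb | linear_combination (b) * hb |
        linear_combination -(b) * hb | linear_combination (σ b) * hb | linear_combination -(σ b) * hb |
        linear_combination (1 - a) * hb | linear_combination (a - 1) * hb
  · intro z e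
    rw [hx, hB] at e
    have := congrFun (congrFun e 1) 0
    simp at this
    exact hb0 this
  · rw [hx, hB, hsa]
    simp [Matrix.trace, Fin.sum_univ_four]
    ring
  · rw [hx', hB', hsa]
    simp [Matrix.trace, Fin.sum_univ_four]
    ring

omit hσ

/-- The unitary case. -/
theorem unitary_criterion {p : ℕ} [Fact p.Prime] [CharP F p] (hF : Fintype.card F = p ^ 2) (hp4 : p % 4 = 3)
    (R : Subgroup G4) (h : Pauli4 R) (hZ : Nat.card (Subgroup.center R) = 4) (hRU : R ≤ Cfsg.GU 4 F p)
    (r : ℕ) [Fact r.Prime]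
    (hΩ : r ∣ (subgroupNormalizer R).relIndex (Cfsg.GU 4 F p ⊓ Cfsg.Geo.specialLinear (Fin 4) F)) :
    (∀ x ∈ Cfsg.GU 4 F p ⊓ Cfsg.Geo.specialLinear (Fin 4) F, (∃ z : F, ((x ^ r : G4) : M4) = z • 1) →
      (∀ z : F, (x : M4) ≠ z • 1) →
      Meets R (Cfsg.GU 4 F p ⊓ Cfsg.Geo.specialLinear (Fin 4) F) x) ↔
    (r = 2 ∨ (r = 3 ∧ p % 3 = 1) ∨ (r = 5 ∧ orderOf (p : ZMod 5) = 4)) := by
  classical
  have hp : p.Prime := Fact.out
  have hr : r.Prime := Fact.out
  have hSL : ∀ g : G4, g ∈ Cfsg.Geo.specialLinear (Fin 4) F ↔ (g : M4).det = 1 := fun g => by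
    rw [Cfsg.Geo.specialLinear, MonoidHom.mem_ker, Units.ext_iff, Matrix.GeneralLinearGroup.val_det_apply, Units.val_one]
  have hcast : ∀ n : ℕ, ¬ p ∣ n → (n : F) ≠ 0 := fun n hn e => hn ((CharP.cast_eq_zero_iff F p n).mp e)
  have hFc : Nat.card F = p ^ 2 := by rw [Nat.card_eq_fintype_card, hF]
  obtain ⟨-, -, σ, -, -, -, -, hσ⟩ := exists_usigma hF
  obtain ⟨i, hiR, l, hil, hll⟩ := exists_i h hZ
  obtain ⟨a, b, A, B, hfr⟩ := exists_frame h (Or.inl ⟨i, hiR, l, hil, hll⟩)
  have hU : Isom σ (Cfsg.hermForm 4 F p) (Cfsg.GU 4 F p) :=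
    ⟨semiForm_of_unitary (hσ.isUnitaryForm (n := 4)), fun g => mem_GU_iff⟩
  have hroot : ∀ {n m : ℕ}, n.Prime → ¬ n ∣ m → ∀ c : F, c ^ n = 1 → c ^ m = 1 → c = 1 := by
    intro n m hn hnd c hc hq
    have := pow_gcd_eq_one.mpr ⟨hc, hq⟩
    rwa [(hn.coprime_iff_not_dvd.mpr hnd).gcd_eq_one, pow_one] at this
  have hnorm : ∀ g ∈ Cfsg.GU 4 F p, (g : M4).det ^ (p + 1) = 1 := fun g hg => by
    rw [pow_succ', ← hσ.apply_eq]; exact UCount.det_norm hσ hg
  have hσcast : ∀ x : ZMod p, σ (ZMod.castHom dvd_rfl F x) = ZMod.castHom dvd_rfl F x := fun x => by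
    have : (σ : F →+* F).comp (ZMod.castHom dvd_rfl F) = ZMod.castHom dvd_rfl F := RingHom.ext_zmod _ _
    exact RingHom.congr_fun this x
  constructor
  · intro hall
    by_contra hcon
    push Not at hcon
    obtain ⟨hr2, hr3, hr5⟩ := hcon
    have hmeet : ∀ x : G4, x ∈ Cfsg.GU 4 F p → (x : M4).det = 1 → x ^ r = 1 → (∀ z : F, (x : M4) ≠ z • 1) →
        Meets R (Cfsg.GU 4 F p ⊓ Cfsg.Geo.specialLinear (Fin 4) F) x := fun x hxU hd hxr hns =>
      hall x ⟨hxU, (hSL x).mpr hd⟩ ⟨1, by rw [hxr, Units.val_one, one_smul]⟩ hns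
    rcases eq_or_ne r 3 with rfl | hne3
    · rcases eq_or_ne p 3 with rfl | hp33
      · obtain ⟨y, u, φ, hyU, hu, hφ, hφu, hy, hpow⟩ := exists_unitary_transvection hσ
        have hy3 : y ^ 3 = 1 := Units.ext (by
          rw [hpow, CharP.cast_eq_zero F 3, zero_smul, add_zero, Units.val_one])
        refine not_meets_transvection h hu hφ hφu hy (hmeet y hyU ?_ hy3 fun z e => ?_)
        · have e := congrArg (fun g : G4 => (g : M4).det) hy3
          simp only [Units.val_pow_eq_pow_val, Matrix.det_pow, Units.val_one, Matrix.det_one] at e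
          have h30 : (3 : F) = 0 := by exact_mod_cast CharP.cast_eq_zero F 3
          have : ((y : M4).det - 1) ^ 3 = 0 := by linear_combination e + ((y : M4).det - (y : M4).det ^ 2) * h30
          exact sub_eq_zero.mp (pow_eq_zero_iff (n := 3) (by norm_num) |>.mp this)
        · obtain ⟨i', hi'⟩ := Function.ne_iff.mp hu
          have key : (Matrix.vecMulVec u φ) *ᵥ u = 0 := by rw [Matrix.vecMulVec_mulVec, hφu]; simp
          have e' := congrArg (fun M : M4 => M *ᵥ u) (hy.symm.trans e)
          simp only [Matrix.add_mulVec, key, Matrix.one_mulVec, add_zero, Matrix.smul_mulVec] at e'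
          have hz1 : z = 1 := by
            have := congrFun e' i'
            simp only [Pi.smul_apply, smul_eq_mul] at this
            exact (mul_eq_right₀ (show u i' ≠ 0 from hi')).mp this.symm
          rw [hz1, one_smul] at e
          obtain ⟨j, hj⟩ := Function.ne_iff.mp hφ
          have := congrFun (congrFun (hy.symm.trans e) i') j
          simp only [Matrix.add_apply, Matrix.vecMulVec_apply, add_eq_left, mul_eq_zero] at this
          exact this.elim hi' hj
      have hp3 : p % 3 = 2 := by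
        have h0 : p % 3 ≠ 0 := fun e =>
          hp33 ((Nat.prime_dvd_prime_iff_eq Nat.prime_three hp).mp (Nat.dvd_of_mod_eq_zero e)).symm
        have := hr3 rfl
        omega
      have h3 : (3 : F) ≠ 0 := by exact_mod_cast hcast 3 fun e => hp33 ((Nat.prime_dvd_prime_iff_eq hp Nat.prime_three).mp e)
      obtain ⟨w, hw⟩ := exists_prime_orderOf_dvd_card' (G := Fˣ) 3
        (by
          rw [Nat.card_units, hFc]
          have h1 : 1 ≤ p ^ 2 := Nat.one_le_pow _ _ hp.pos
          have : p ^ 2 % 3 = 1 := by rw [Nat.pow_mod, hp3]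
          omega)
      have hw3 : w ^ 3 = 1 := hw ▸ pow_orderOf_eq_one w
      have hw1 : w ≠ 1 := fun e => by rw [e, orderOf_one] at hw; omega
      have hw' : (w : F) ^ 3 = 1 := by rw [← Units.val_pow_eq_pow_val, hw3, Units.val_one]
      have hs : (w : F) ^ 2 + (w : F) + 1 = 0 := by
        have : ((w : F) - 1) * ((w : F) ^ 2 + (w : F) + 1) = 0 := by linear_combination hw'
        exact (mul_eq_zero.mp this).resolve_left (sub_ne_zero.mpr fun e => hw1 (Units.ext e))
      have hwq : w ^ (p + 1) = 1 := by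
        obtain ⟨k, hk⟩ : 3 ∣ p + 1 := by omega
        rw [hk, pow_mul, hw3, one_pow]
      obtain ⟨d, hd⟩ : ∃ d : Fin 4 → Fˣ, d = ![w, w, w, 1] := ⟨_, rfl⟩
      have hd3 : dg4 d ^ 3 = 1 := by
        rw [← map_pow]
        convert map_one dg4
        funext i
        fin_cases i <;> simp [hd, hw3]
      have hns : ∀ z : F, (dg4 d : M4) ≠ z • 1 := fun z e => hw1 (Units.ext (by
        have e0 := congrFun (congrFun e 0) 0
        have e3 := congrFun (congrFun e 3) 3
        simp [dg4_val, hd] at e0 e3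
        rw [e0, ← e3]
        simp))
      have ht : (dg4 d : M4).trace * (((dg4 d)⁻¹ : G4) : M4).trace = 7 := by
        rw [← map_inv, dg4_val, dg4_val, Matrix.trace_diagonal, Matrix.trace_diagonal, Fin.sum_univ_four,
          Fin.sum_univ_four]
        have hwi : (w : F)⁻¹ = (w : F) ^ 2 := inv_eq_of_mul_eq_one_right (by rw [← pow_succ']; exact hw')
        simp [hd, hwi]
        linear_combination 9 * hw' + 3 * hs
      have hdU : dg4 d ∈ Cfsg.GU 4 F p := (invAmb_GU hσ h.two).dg_mem d fun i => by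
        rw [MonoidHom.mem_ker]
        fin_cases i <;> simp [hd, hwq]
      refine not_meets_trace h (Or.inl rfl) hd3 hns (fun e => ?_) (fun _ e => ?_)
        (hmeet _ hdU (by rw [dg4_val, Matrix.det_diagonal, Fin.prod_univ_four, hd]; simp [← pow_three', hw']) hd3 hns)
      · rw [ht] at e
        have : ((2 : F) * 3) = 0 := by linear_combination e
        exact (mul_eq_zero.mp this).elim h.two h3
      · rw [ht] at e
        exact h3 (by linear_combination e)
    rcases eq_or_ne r 5 with rfl | hne5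
    · haveI : Fact (Nat.Prime 5) := ⟨by norm_num⟩
      have hp55 : p ≠ 5 := fun e => by omega
      have hpm : IsSquare (p : ZMod 5) := by
        have hne := hr5 rfl
        have h0 : p % 5 ≠ 0 := fun e =>
          hp55 ((Nat.prime_dvd_prime_iff_eq (by norm_num) hp).mp (Nat.dvd_of_mod_eq_zero e)).symm
        rw [← ZMod.natCast_mod] at hne ⊢
        obtain ⟨-, -, h2, h3, q1, q4⟩ := zmod_five_facts
        rcases (show p % 5 = 1 ∨ p % 5 = 2 ∨ p % 5 = 3 ∨ p % 5 = 4 by omega) with e | e | e | e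
        · exact e ▸ q1
        · exact absurd (e ▸ h2) hne
        · exact absurd (e ▸ h3) hne
        · exact e ▸ q4
      obtain ⟨t, ht⟩ := (five_square (p := p) (by omega)).mpr hpm
      have h2 := h.two
      obtain ⟨t', ht'⟩ : ∃ t' : F, t' = ZMod.castHom dvd_rfl F t := ⟨_, rfl⟩
      have ht5 : (5 : F) = t' * t' := by
        rw [ht', ← map_mul, ← ht, map_natCast]
        norm_num
      have hσt : σ t' = t' := ht' ▸ hσcast t
      obtain ⟨s, hs, hσs⟩ : ∃ s : F, s * s + s - 1 = 0 ∧ σ s = s :=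
        ⟨(-1 + t') / 2, by field_simp; linear_combination -ht5, by
          rw [map_div₀, map_add, map_neg, map_one, hσt, map_ofNat]⟩
      have h5F : (5 : F) ≠ 0 := by
        exact_mod_cast hcast 5 fun e => hp55 ((Nat.prime_dvd_prime_iff_eq hp (by norm_num)).mp e)
      obtain ⟨x, hx, hx5, hns, t1, t2⟩ := exists_unitary_five hσ h2 hs hσs (fun e => by
        have e4 : (s - 2) * (s + 2) = 0 := by field_simp at e; linear_combination e
        rcases mul_eq_zero.mp e4 with e1 | e1
        · exact h5F (by linear_combination hs - (s + 3) * e1)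
        · exact one_ne_zero (α := F) (by linear_combination hs - (s - 1) * e1))
      refine not_meets_trace h (Or.inr rfl) hx5 hns ?_ (by norm_num) (hall x hx ⟨1, by rw [hx5, Units.val_one, one_smul]⟩ hns)
      rw [t1, t2]
      intro e
      have e' : (s + 1) * (s + 3) = 0 := by linear_combination e
      rcases mul_eq_zero.mp e' with e1 | e1
      · exact one_ne_zero (α := F) (by linear_combination -hs + s * e1)
      · exact h5F (by linear_combination hs - (s - 2) * e1)
    have hr7 : 7 ≤ r := by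
      have := hr.two_le
      by_contra hlt
      interval_cases r <;> simp_all (config := { decide := true })
    refine not_all_large h (fun g (hg : g ∈ Cfsg.GU 4 F p ⊓ Cfsg.Geo.specialLinear (Fin 4) F) => (hSL g).mp hg.2) hr7 (hΩ.trans ?_) hall
    exact Subgroup.relIndex_dvd_card _ _
  · rintro hcase x hx ⟨z, hz⟩ hns
    have hdet : (x : M4).det = 1 := (hSL x).mp hx.2
    have hz4 : z ^ 4 = 1 := by
      have e := congrArg Matrix.det hz
      rw [Units.val_pow_eq_pow_val, Matrix.det_pow, hdet, one_pow, Matrix.det_smul, Matrix.det_one,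
        mul_one, Fintype.card_fin] at e
      exact e.symm
    have hx4 : (x ^ r) ^ 4 = 1 := Units.ext (by
      rw [Units.val_pow_eq_pow_val, hz, smul_pow, hz4, one_smul, one_pow, Units.val_one])
    rcases hcase with rfl | ⟨rfl, hp3⟩ | ⟨rfl, ho⟩
    · obtain ⟨s, hs⟩ : IsSquare z := by
        have hz0 : z ≠ 0 := fun e => by rw [e, zero_pow (by norm_num)] at hz4; exact zero_ne_one hz4
        refine (FiniteField.isSquare_iff ?_ hz0).mpr ?_
        · rw [ringChar.eq F p]; omega
        · have hsq : (p ^ 2) % 8 = 1 := by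
            rw [Nat.pow_mod]
            rcases (show p % 8 = 3 ∨ p % 8 = 7 by omega) with e | e <;> rw [e]
          obtain ⟨k, hk⟩ : 4 ∣ Fintype.card F / 2 := by rw [hF]; omega
          rw [hk, pow_mul, hz4, one_pow]
      have hs0 : s ≠ 0 := fun e => by rw [hs, e, mul_zero, zero_pow (by norm_num)] at hz4; exact zero_ne_one hz4
      have hxx : (x : M4) * x = z • 1 := by rw [← Units.val_mul, ← sq x, hz]
      have hn := sqrt_norm hσ h.two (by omega) hx hxx hs.symm
      exact meets_two h hfr hiR hil hll hU hRU (invAmb_GU hσ h.two)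
        (MonoidHom.mem_ker.mpr (Even.neg_one_pow (show Even (p + 1) by rw [Nat.even_iff]; omega)))
        hx hz hns (s := Units.mk0 s hs0) (MonoidHom.mem_ker.mpr (UCount.pow_eq_one_of_norm hσ hn)) hs.symm
    · have h3d : ¬ 3 ∣ p + 1 := by omega
      have h3 : (3 : F) ≠ 0 := by
        exact_mod_cast hcast 3 fun e => by
          have := (Nat.prime_dvd_prime_iff_eq hp Nat.prime_three).mp e; omega
      obtain ⟨w, hw⟩ := exists_prime_orderOf_dvd_card' (G := Fˣ) 3
        (by
          rw [Nat.card_units, hFc]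
          have h1 : 1 ≤ p ^ 2 := Nat.one_le_pow _ _ hp.pos
          have : p ^ 2 % 3 = 1 := by rw [Nat.pow_mod, hp3]
          omega)
      have hw3 : w ^ 3 = 1 := hw ▸ pow_orderOf_eq_one w
      have hw1 : w ≠ 1 := fun e => by rw [e, orderOf_one] at hw; omega
      have hω : (w : F) * w + w + 1 = 0 := by
        have hw' : (w : F) ^ 3 = 1 := by rw [← Units.val_pow_eq_pow_val, hw3, Units.val_one]
        have : ((w : F) - 1) * ((w : F) * w + (w : F) + 1) = 0 := by linear_combination hw'
        exact (mul_eq_zero.mp this).resolve_left (sub_ne_zero.mpr fun e => hw1 (Units.ext e))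
      have hσω : σ (w : F) = w := by
        rw [hσ.apply_eq, ← Units.val_pow_eq_pow_val, ← Nat.mod_add_div p 3, hp3, pow_add, pow_one, pow_mul, hw3,
          one_pow, mul_one]
      refine meets_three (G := Cfsg.GU 4 F p ⊓ Cfsg.Geo.specialLinear (Fin 4) F) h hfr hiR hil hll h3 hU hRU (fun g hgU hg => ⟨hgU, (hSL g).mpr ?_⟩) inf_le_left ?_ hx ⟨z, hz⟩ ?_
      · refine hroot Nat.prime_three h3d _ ?_ (hnorm g hgU)
        rw [← Matrix.det_pow, ← Units.val_pow_eq_pow_val, hg, Units.val_one, Matrix.det_one]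
      · intro u hu u' hu' q1 q2 hww hd hd2 v hv hv3 hvw hvw'
        exact three_commutant_U hσ hω hσω h3 hu hu' hv q1 q2 hww hd hd2 hv3 hvw hvw'
      · exact Nat.Coprime.coprime_dvd_right (orderOf_dvd_of_pow_eq_one hx4) (by norm_num)
    · haveI : Fact (Nat.Prime 5) := ⟨by norm_num⟩
      have hp5m : p % 5 = 2 ∨ p % 5 = 3 := by
        rw [← ZMod.natCast_mod] at ho
        obtain ⟨h1, h4, -, -, -, -⟩ := zmod_five_facts
        have h0 : orderOf ((0 : ℕ) : ZMod 5) = 0 := orderOf_eq_zero_iff'.mpr fun n hn => by rw [Nat.cast_zero, zero_pow (Nat.pos_iff_ne_zero.mp hn)]; exact zero_ne_one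
        rcases (show p % 5 = 0 ∨ p % 5 = 1 ∨ p % 5 = 2 ∨ p % 5 = 3 ∨ p % 5 = 4 by omega) with e | e | e | e | e
        · rw [e, h0] at ho; omega
        · rw [e, h1] at ho; omega
        · exact Or.inl e
        · exact Or.inr e
        · rw [e, h4] at ho; omega
      have h5d : ¬ 5 ∣ p ^ 2 - 1 := by
        have h1 : 1 ≤ p ^ 2 := Nat.one_le_pow _ _ hp.pos
        have : p ^ 2 % 5 = 4 := by rw [Nat.pow_mod]; rcases hp5m with e | e <;> rw [e]
        omega
      have h5F : (5 : F) ≠ 0 := by
        exact_mod_cast hcast 5 fun e => by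
          have := (Nat.prime_dvd_prime_iff_eq hp (by norm_num)).mp e; omega
      have hnsq : ¬ IsSquare ((5 : ℕ) : ZMod p) := by
        rw [five_square (by omega), ← ZMod.natCast_mod]
        rcases hp5m with e | e <;> rw [e] <;> decide
      obtain ⟨t, ht⟩ : IsSquare (5 : F) := by
        refine (FiniteField.isSquare_iff (by rw [ringChar.eq F p]; omega) h5F).mpr ?_
        have e : Fintype.card F / 2 = (p - 1) * ((p + 1) / 2) := by
          rw [hF]
          obtain ⟨m, rfl⟩ : ∃ m, p = 2 * m + 1 := ⟨p / 2, by omega⟩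
          have e1 : (2 * m + 1) ^ 2 = 2 * ((2 * m) * (m + 1)) + 1 := by ring
          rw [e1, Nat.add_sub_cancel, show (2 * m + 1 + 1) / 2 = m + 1 by omega]
          omega
        rw [e, pow_mul]
        have e5 : (5 : F) ^ (p - 1) = 1 := by
          have := congrArg (ZMod.castHom dvd_rfl F) (ZMod.pow_card_sub_one_eq_one (p := p) (a := (5 : ZMod p)) (fun e => h5F (by
            have := congrArg (ZMod.castHom dvd_rfl F) e
            rwa [map_ofNat, map_zero] at this)))
          rwa [map_pow, map_ofNat, map_one] at this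
        rw [e5, one_pow]
      obtain ⟨s, hs, hts⟩ : ∃ s : F, s * s + s - 1 = 0 ∧ 2 * s + 1 = t :=
        ⟨(-1 + t) / 2, by field_simp [h.two]; linear_combination -ht, by field_simp [h.two]; ring⟩
      have hσs : σ s = -1 - s := by
        have e1 : σ s * σ s + σ s - 1 = 0 := by
          have := congrArg σ hs
          simpa using this
        have e2 : (σ s - s) * (σ s + s + 1) = 0 := by linear_combination e1 - hs
        refine (mul_eq_zero.mp e2).elim (fun e => ?_) fun e => by linear_combination e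
        exfalso
        refine hnsq ((ZMod.euler_criterion p (fun e' => h5F (by
          have := congrArg (ZMod.castHom dvd_rfl F) e'
          rw [map_natCast, map_zero] at this
          exact_mod_cast this))).mpr ?_)
        have ht0 : t ≠ 0 := fun e' => h5F (by rw [ht, e', mul_zero])
        have et : t ^ (p - 1) = 1 := by
          have ht' : σ t = t := by rw [← hts, map_add, map_mul, map_ofNat, map_one, sub_eq_zero.mp e]
          rw [hσ.apply_eq] at ht'
          refine mul_right_cancel₀ ht0 ?_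
          rw [one_mul, ← pow_succ, Nat.sub_add_cancel hp.one_le, ht']
        refine (ZMod.castHom dvd_rfl F).injective ?_
        rw [map_pow, map_natCast, map_one, show ((5 : ℕ) : F) = t * t by push_cast; exact ht, ← sq, ← pow_mul,
          show 2 * (p / 2) = p - 1 by omega, et]
      refine meets_five (G := Cfsg.GU 4 F p ⊓ Cfsg.Geo.specialLinear (Fin 4) F) h hfr hU hRU (fun g hgU hg => ⟨hgU, (hSL g).mpr ?_⟩) inf_le_left (by rwa [hFc]) ?_ hx ⟨z, hz⟩
      · refine hroot (by norm_num) h5d _ ?_ ?_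
        · rw [← Matrix.det_pow, ← Units.val_pow_eq_pow_val, hg, Units.val_one, Matrix.det_one]
        · rw [← hF]
          exact FiniteField.pow_card_sub_one_eq_one _ ((Matrix.isUnit_iff_isUnit_det _).mp g.isUnit).ne_zero
      · intro w hw hw5 hw1 u hu hu5 huw
        exact five_commutant_U hσ h.two h5F (by rwa [hFc]) hs hσs hw hu hw5 hw1 hu5 huw

end Cfsg.Agent.Classical.SymFour
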