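import Cfsg.Agent.Lib.Classical.Elusive.SymTypeMinus
import Cfsg.Agent.Lib.Classical.Elusive.SymTypeUnitary
import Cfsg.Agent.Lib.Classical.Elusive.SkewBlocks
import Cfsg.Agent.Lib.Classical.FormSpMember

/-!
# Fixed points on the cosets of a normalizer of symplectic type: symplectic groups of dimension four
-/

set_option autoImplicit false
set_option linter.unusedSectionVars false

namespace Cfsg.Agent.Classical.SymFour

open Matrix Cfsg.Geo

variable {F : Type*} [Field F]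

local notation "I4" => Fin 2 ⊕ Fin 2
local notation "MS" => Matrix (Fin 2 ⊕ Fin 2) (Fin 2 ⊕ Fin 2) F
local notation "GS" => GL (Fin 2 ⊕ Fin 2) F
local notation "VS" => Fin 2 ⊕ Fin 2 → F
local notation "JJ" => Matrix.J (Fin 2) F
local notation "sf" => Cfsg.sympForm 2 F

theorem mem_spGL_iff {g : GS} : g ∈ Cfsg.spGL 2 F ↔ ∀ u v, sf ((g : MS) *ᵥ u) ((g : MS) *ᵥ v) = sf u v := Iff.rfl

theorem sf_mulVec (T : MS) (u v : VS) : sf (T *ᵥ u) (T *ᵥ v) = u ⬝ᵥ ((Tᵀ * JJ * T) *ᵥ v) := by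
  rw [sympForm, ← Matrix.vecMul_transpose, ← Matrix.dotProduct_mulVec, Matrix.mulVec_mulVec, Matrix.mulVec_mulVec]

theorem mem_spGL_of_gram {g : GS} (h : (g : MS)ᵀ * JJ * (g : MS) = JJ) : g ∈ Cfsg.spGL 2 F :=
  mem_spGL_iff.mpr fun u v => by rw [sf_mulVec, h]; rfl

theorem sp_semi : IsSemiForm (RingEquiv.refl F) sf := semiForm_of_bilinear sympForm_isSymplectic.bilinear

theorem sp_nondeg {v : VS} (hv : ∀ u, sf v u = 0) : v = 0 := by
  by_contra hne
  obtain ⟨⟨u, hu⟩, -⟩ := (sympForm_isSymplectic (m := 2) (F := F)).nondegenerate v hne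
  exact hu (by rw [(sympForm_isSymplectic (m := 2) (F := F)).skew, hv u, neg_zero])

/-- A symplectic basis gives a symplectic matrix. -/
theorem exists_sp_of_cols (c : I4 → VS) (hc : ∀ i j, sf (c i) (c j) = JJ i j) :
    ∃ g : GS, g ∈ Cfsg.spGL 2 F ∧ ∀ j, (g : MS) *ᵥ Pi.single j 1 = c j := by
  obtain ⟨T, hT⟩ : ∃ T : MS, ∀ i j, T i j = c j i := ⟨Matrix.of fun i j => c j i, fun _ _ => rfl⟩
  have hcol : ∀ j, T *ᵥ Pi.single j 1 = c j := fun j => by
    funext i
    rw [Matrix.mulVec_single_one]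
    exact hT i j
  have hgram : Tᵀ * JJ * T = JJ := by
    ext i j
    rw [← hc, ← hcol, ← hcol, sf_mulVec, single_dotProduct, one_mul, Matrix.mulVec_single_one]
    rfl
  have hinv : -(JJ * Tᵀ * JJ) * T = 1 := by
    rw [neg_mul, Matrix.mul_assoc, Matrix.mul_assoc, ← Matrix.mul_assoc Tᵀ, hgram, Matrix.J_squared, neg_neg]
  exact ⟨⟨T, _, mul_eq_one_comm.mp hinv, hinv⟩, mem_spGL_of_gram hgram, hcol⟩

/-- Two matrices with the same symplectic normal form are conjugate. -/
theorem conj_of_normal {x x' : GS} {D : MS}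
    (h : ∃ T : GS, T ∈ Cfsg.spGL 2 F ∧ (x : MS) * (T : MS) = (T : MS) * D)
    (h' : ∃ T : GS, T ∈ Cfsg.spGL 2 F ∧ (x' : MS) * (T : MS) = (T : MS) * D) :
    ∃ g ∈ Cfsg.spGL 2 F, g⁻¹ * x * g = x' := by
  obtain ⟨T, hT, e⟩ := h
  obtain ⟨T', hT', e'⟩ := h'
  refine ⟨T * T'⁻¹, mul_mem hT (inv_mem hT'), ?_⟩
  have key : x * (T * T'⁻¹) = (T * T'⁻¹) * x' := Units.ext (by
    have e2 : ((T'⁻¹ : GS) : MS) * x' = D * ((T'⁻¹ : GS) : MS) := by
      have := congrArg (fun M : MS => ((T'⁻¹ : GS) : MS) * M * ((T'⁻¹ : GS) : MS)) e'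
      simp only [Matrix.mul_assoc, Units.mul_inv, Matrix.mul_one] at this
      rw [← Matrix.mul_assoc ((T'⁻¹ : GS) : MS) (T' : MS), Units.inv_mul, Matrix.one_mul] at this
      exact this
    simp only [Units.val_mul]
    rw [← Matrix.mul_assoc, e, Matrix.mul_assoc, Matrix.mul_assoc, e2])
  rw [mul_assoc, key, inv_mul_cancel_left]

/-- The scalar square of an element of the symplectic group. -/
theorem sp_scalar_sq {g : GS} (hg : g ∈ Cfsg.spGL 2 F) {z : F} (hz : (g : MS) = z • 1) : z * z = 1 := by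
  have e := mem_spGL_iff.mp hg (Pi.single (Sum.inl 0) 1) (Pi.single (Sum.inr 0) 1)
  rw [hz, Matrix.smul_mulVec, Matrix.smul_mulVec, Matrix.one_mulVec, Matrix.one_mulVec, sp_semi.smul_left,
    sp_semi.smul_right] at e
  have h1 : sf (Pi.single (Sum.inl 0) 1) (Pi.single (Sum.inr 0) 1) = -1 := by
    rw [sympForm, single_dotProduct, one_mul, Matrix.mulVec_single_one]
    simp [Matrix.J]
  rw [h1, RingEquiv.refl_apply] at e
  linear_combination -e

/-- Non-scalar involutions of the symplectic group have a common normal form. -/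
theorem invol_normal (h2 : (2 : F) ≠ 0) {x : GS} (hx : x ∈ Cfsg.spGL 2 F) (hxx : (x : MS) * x = 1)
    (hns : ∀ c : F, (x : MS) ≠ c • 1) :
    ∃ T : GS, T ∈ Cfsg.spGL 2 F ∧ (x : MS) * (T : MS) = (T : MS) * Matrix.diagonal (Sum.elim ![1, -1] ![1, -1]) := by
  have hs := sp_semi (F := F)
  have hxv : ∀ v : VS, (x : MS) *ᵥ ((x : MS) *ᵥ v) = v := fun v => by rw [Matrix.mulVec_mulVec, hxx, Matrix.one_mulVec]
  have hpair : ∀ ε : F, ε * ε = 1 → ∃ v v' : VS, (x : MS) *ᵥ v = ε • v ∧ (x : MS) *ᵥ v' = ε • v' ∧ sf v v' = -1 := by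
    intro ε hε
    obtain ⟨u0, hu0⟩ : ∃ u0 : VS, (x : MS) *ᵥ u0 + ε • u0 ≠ 0 := by
      by_contra hcon
      push Not at hcon
      refine hns (-ε) (Matrix.ext_of_mulVec_single fun i => ?_)
      rw [Matrix.smul_mulVec, Matrix.one_mulVec, neg_smul]
      exact eq_neg_of_add_eq_zero_left (hcon _)
    obtain ⟨v, hv⟩ : ∃ v, v = (x : MS) *ᵥ u0 + ε • u0 := ⟨_, rfl⟩
    rw [← hv] at hu0
    have hev : ∀ u, (x : MS) *ᵥ ((x : MS) *ᵥ u + ε • u) = ε • ((x : MS) *ᵥ u + ε • u) := fun u => by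
      rw [Matrix.mulVec_add, hxv, Matrix.mulVec_smul, smul_add, smul_smul, hε, one_smul, add_comm]
    have hxe : (x : MS) *ᵥ v = ε • v := hv ▸ hev u0
    obtain ⟨u, hu⟩ : ∃ u, sf v u ≠ 0 := by
      by_contra hcon
      push Not at hcon
      exact hu0 (sp_nondeg hcon)
    obtain ⟨w, hw⟩ : ∃ w, w = (x : MS) *ᵥ u + ε • u := ⟨_, rfl⟩
    have e1 : sf v w = 2 * ε * sf v u := by
      have e := mem_spGL_iff.mp hx v u
      rw [hxe, hs.smul_left] at e
      rw [hw, hs.add_right, hs.smul_right, RingEquiv.refl_apply]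
      linear_combination ε * e - sf v ((x : MS) *ᵥ u) * hε
    have hne : sf v w ≠ 0 := by
      rw [e1]
      exact mul_ne_zero (mul_ne_zero h2 fun e => zero_ne_one (α := F) (by rw [← hε, e, zero_mul])) hu
    refine ⟨v, (-(sf v w)⁻¹) • w, hxe, ?_, ?_⟩
    · rw [Matrix.mulVec_smul, hw, hev, smul_comm]
    · rw [hs.smul_right, RingEquiv.refl_apply, neg_mul, inv_mul_cancel₀ hne]
  obtain ⟨v, v', hv, hv', hvv⟩ := hpair 1 (one_mul 1)
  obtain ⟨w, w', hw, hw', hww⟩ := hpair (-1) (by ring)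
  have horth : ∀ s t : VS, (x : MS) *ᵥ s = (1 : F) • s → (x : MS) *ᵥ t = (-1 : F) • t → sf s t = 0 ∧ sf t s = 0 := by
    intro s t h1 h1'
    have e := mem_spGL_iff.mp hx s t
    rw [h1, h1', one_smul, hs.smul_right, RingEquiv.refl_apply] at e
    have e0 : sf s t = 0 := (mul_eq_zero.mp (show (2 : F) * sf s t = 0 by linear_combination -e)).resolve_left h2
    exact ⟨e0, by rw [(sympForm_isSymplectic (m := 2) (F := F)).skew, e0, neg_zero]⟩
  obtain ⟨T, hT, hcol⟩ := exists_sp_of_cols (Sum.elim ![v, w] ![v', w']) (fun i j => by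
    have hsk := fun s t => (sympForm_isSymplectic (m := 2) (F := F)).skew s t
    have halt := fun s => (sympForm_isSymplectic (m := 2) (F := F)).alternating s
    have o1 := horth v w hv hw
    have o2 := horth v w' hv hw'
    have o3 := horth v' w hv' hw
    have o4 := horth v' w' hv' hw'
    rcases i with i | i <;> rcases j with j | j <;> fin_cases i <;> fin_cases j <;>
      simp [Matrix.J, halt, hvv, hww, o1.1, o1.2, o2.1, o2.2, o3.1, o3.2, o4.1, o4.2, hsk v' v, hsk w' w])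
  refine ⟨T, hT, Matrix.ext_of_mulVec_single fun j => ?_⟩
  rw [← Matrix.mulVec_mulVec, hcol, ← Matrix.mulVec_mulVec, Matrix.diagonal_mulVec_single, mul_one,
    show (Pi.single j (Sum.elim ![(1 : F), -1] ![1, -1] j) : VS) = (Sum.elim ![(1 : F), -1] ![1, -1] j) • Pi.single j 1 by
      rw [← Pi.single_smul, smul_eq_mul, mul_one], Matrix.mulVec_smul, hcol]
  rcases j with j | j <;> fin_cases j
  exacts [hv, hw, hv', hw']

variable [Fintype F]

/-- Square roots of minus one in the symplectic group have a common normal form. -/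
theorem quarter_normal (h2 : (2 : F) ≠ 0) {x : GS} (hx : x ∈ Cfsg.spGL 2 F) (hxx : (x : MS) * x = -1) :
    ∃ T : GS, T ∈ Cfsg.spGL 2 F ∧ (x : MS) * (T : MS) = (T : MS) * JJ := by
  have hs := sp_semi (F := F)
  have hsk := fun s t => (sympForm_isSymplectic (m := 2) (F := F)).skew s t
  have halt := fun s => (sympForm_isSymplectic (m := 2) (F := F)).alternating s
  have hX : ∀ v : VS, (x : MS) *ᵥ ((x : MS) *ᵥ v) = -v := fun v => by
    rw [Matrix.mulVec_mulVec, hxx, Matrix.neg_mulVec, Matrix.one_mulVec]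
  have hmv : ∀ s t : VS, sf s ((x : MS) *ᵥ t) = -sf ((x : MS) *ᵥ s) t := fun s t => by
    rw [← mem_spGL_iff.mp hx s, hX, ← neg_one_smul F t, hs.smul_right, RingEquiv.refl_apply]
    ring
  have hsymm : ∀ s t : VS, sf s ((x : MS) *ᵥ t) = sf t ((x : MS) *ᵥ s) := fun s t => by
    rw [hmv, hsk, neg_neg]
  -- scale to the value `-1`
  have hscale : ∀ v : VS, sf v ((x : MS) *ᵥ v) ≠ 0 →
      ∃ p q : F, sf (p • v + q • ((x : MS) *ᵥ v)) ((x : MS) *ᵥ (p • v + q • ((x : MS) *ᵥ v))) = -1 := by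
    intro v hv
    obtain ⟨p, q, hpq⟩ := SkewBlocks.exists_norm (ν := (-1 : F)) (neg_ne_zero.mpr one_ne_zero) h2 (-(sf v ((x : MS) *ᵥ v))⁻¹)
    refine ⟨p, q, ?_⟩
    simp only [Matrix.mulVec_add, Matrix.mulVec_smul, hX, hs.add_left, hs.add_right, hs.smul_left, hs.smul_right,
      RingEquiv.refl_apply, halt, ← neg_one_smul F v, hsk ((x : MS) *ᵥ v) v]
    linear_combination (sf v ((x : MS) *ᵥ v)) * hpq - (mul_inv_cancel₀ hv)
  -- the symmetric form cannot vanish on the diagonal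
  have hQ : ∀ (s t : VS), sf s ((x : MS) *ᵥ t) ≠ 0 →
      sf s ((x : MS) *ᵥ s) ≠ 0 ∨ sf t ((x : MS) *ᵥ t) ≠ 0 ∨ sf (s + t) ((x : MS) *ᵥ (s + t)) ≠ 0 := by
    intro s t hst
    by_contra hcon
    push Not at hcon
    obtain ⟨e1, e2, e3⟩ := hcon
    rw [Matrix.mulVec_add, hs.add_left, hs.add_right, hs.add_right, e1, e2, ← hsymm s t] at e3
    exact hst ((mul_eq_zero.mp (show (2 : F) * sf s ((x : MS) *ᵥ t) = 0 by linear_combination e3)).resolve_left h2)
  obtain ⟨v0, hv0⟩ : ∃ v0 : VS, sf v0 ((x : MS) *ᵥ v0) ≠ 0 := by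
    obtain ⟨u, hu⟩ : ∃ u, sf (Pi.single (Sum.inl 0) 1 : VS) u ≠ 0 := by
      by_contra hcon
      push Not at hcon
      have := congrFun (sp_nondeg hcon) (Sum.inl 0)
      simp at this
    rcases hQ (Pi.single (Sum.inl 0) 1) (-((x : MS) *ᵥ u)) (by rwa [Matrix.mulVec_neg, hX, neg_neg]) with e | e | e <;>
      exact ⟨_, e⟩
  obtain ⟨p, q, hpq⟩ := hscale v0 hv0
  obtain ⟨v, hv⟩ : ∃ v, v = p • v0 + q • ((x : MS) *ᵥ v0) := ⟨_, rfl⟩
  rw [← hv] at hpq
  have hpq' : sf ((x : MS) *ᵥ v) v = 1 := by rw [hsk, hpq, neg_neg]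
  -- the orthogonal complement of the plane
  obtain ⟨π, hπ⟩ : ∃ π : VS → VS, ∀ u, π u = u + sf v u • ((x : MS) *ᵥ v) - sf ((x : MS) *ᵥ v) u • v := ⟨_, fun _ => rfl⟩
  have hπo : ∀ u, sf v (π u) = 0 ∧ sf ((x : MS) *ᵥ v) (π u) = 0 := fun u => by
    constructor <;> rw [hπ, sub_eq_add_neg, ← neg_smul, hs.add_right, hs.add_right, hs.smul_right, hs.smul_right,
      RingEquiv.refl_apply, RingEquiv.refl_apply] <;> simp only [halt, hpq, hpq'] <;> ring
  obtain ⟨u1, hu1⟩ : ∃ u, π u ≠ 0 := by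
    by_contra hcon
    push Not at hcon
    have hinj : Function.Injective (fun u : VS => (sf v u, sf ((x : MS) *ᵥ v) u)) := by
      intro a b e
      have ha := hcon a
      have hb := hcon b
      rw [hπ] at ha hb
      simp only [Prod.mk.injEq] at e
      rw [e.1, e.2, ← hb] at ha
      simpa using ha
    have := Fintype.card_le_of_injective _ hinj
    rw [Fintype.card_prod, Fintype.card_fun, Fintype.card_sum, Fintype.card_fin] at this
    have h1 : 1 < Fintype.card F := Fintype.one_lt_card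
    simp only [show (2 + 2 : ℕ) = 4 from rfl, pow_succ, pow_zero, one_mul] at this
    nlinarith [Nat.mul_le_mul (show 2 ≤ Fintype.card F from h1) (show 2 ≤ Fintype.card F from h1), pow_two (Fintype.card F)]
  have hinv : ∀ s : VS, sf v s = 0 → sf ((x : MS) *ᵥ v) s = 0 →
      sf v ((x : MS) *ᵥ s) = 0 ∧ sf ((x : MS) *ᵥ v) ((x : MS) *ᵥ s) = 0 := fun s h1 h1' =>
    ⟨by rw [hmv, h1', neg_zero], by rw [mem_spGL_iff.mp hx, h1]⟩
  obtain ⟨w0, ⟨hw0v, hw0x⟩, hw0⟩ : ∃ w0 : VS, (sf v w0 = 0 ∧ sf ((x : MS) *ᵥ v) w0 = 0) ∧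
      sf w0 ((x : MS) *ᵥ w0) ≠ 0 := by
    obtain ⟨u', hu'⟩ : ∃ u', sf (π u1) u' ≠ 0 := by
      by_contra hcon
      push Not at hcon
      exact hu1 (sp_nondeg hcon)
    obtain ⟨u, hu⟩ : ∃ u, u = -((x : MS) *ᵥ u') := ⟨_, rfl⟩
    have hxu : sf (π u1) ((x : MS) *ᵥ π u) ≠ 0 := by
      have o1 : sf (π u1) v = 0 := by rw [hsk, (hπo u1).1, neg_zero]
      have o2 : sf (π u1) ((x : MS) *ᵥ v) = 0 := by rw [hsk, (hπo u1).2, neg_zero]
      have o3 : sf (π u1) ((x : MS) *ᵥ ((x : MS) *ᵥ v)) = 0 := by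
        rw [hX, ← neg_one_smul F v, hs.smul_right, o1, mul_zero]
      rw [hπ u, sub_eq_add_neg, ← neg_smul, Matrix.mulVec_add, Matrix.mulVec_add, Matrix.mulVec_smul, Matrix.mulVec_smul,
        hs.add_right, hs.add_right, hs.smul_right, hs.smul_right, o2, o3, mul_zero, mul_zero, add_zero, add_zero, hu,
        Matrix.mulVec_neg, hX, neg_neg]
      exact hu'
    have hadd : sf v (π u1 + π u) = 0 ∧ sf ((x : MS) *ᵥ v) (π u1 + π u) = 0 := by
      rw [hs.add_right, hs.add_right, (hπo u1).1, (hπo u1).2, (hπo u).1, (hπo u).2, add_zero]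
      exact ⟨rfl, rfl⟩
    rcases hQ _ _ hxu with e | e | e
    exacts [⟨_, hπo u1, e⟩, ⟨_, hπo u, e⟩, ⟨_, hadd, e⟩]
  obtain ⟨p', q', hpq2⟩ := hscale w0 hw0
  obtain ⟨w, hw⟩ : ∃ w, w = p' • w0 + q' • ((x : MS) *ᵥ w0) := ⟨_, rfl⟩
  rw [← hw] at hpq2
  have o : sf v w = 0 ∧ sf ((x : MS) *ᵥ v) w = 0 := by
    obtain ⟨i1, i2⟩ := hinv w0 hw0v hw0x
    constructor <;> rw [hw, hs.add_right, hs.smul_right, hs.smul_right] <;> simp [hw0v, hw0x, i1, i2]
  obtain ⟨o3, o4⟩ := hinv w o.1 o.2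
  obtain ⟨T, hT, hcol⟩ := exists_sp_of_cols (Sum.elim ![v, w] ![(x : MS) *ᵥ v, (x : MS) *ᵥ w]) (fun i j => by
    rcases i with i | i <;> rcases j with j | j <;> fin_cases i <;> fin_cases j <;>
      simp [Matrix.J, halt, hpq, hpq', hpq2, o.1, o.2, o3, o4, hsk w v, hsk w ((x : MS) *ᵥ v),
        hsk ((x : MS) *ᵥ w) v, hsk ((x : MS) *ᵥ w) ((x : MS) *ᵥ v), hsk ((x : MS) *ᵥ w) w])
  refine ⟨T, hT, Matrix.ext_of_mulVec_single fun j => ?_⟩
  rw [← Matrix.mulVec_mulVec, hcol, ← Matrix.mulVec_mulVec]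
  rcases j with j | j <;> fin_cases j <;> simp only [Fin.zero_eta, Fin.mk_one]
  · rw [show JJ *ᵥ (Pi.single (Sum.inl 0) 1) = Pi.single (Sum.inr 0) 1 by
      funext i; rcases i with i | i <;> fin_cases i <;> simp [Matrix.J], hcol]
    rfl
  · rw [show JJ *ᵥ (Pi.single (Sum.inl 1) 1) = Pi.single (Sum.inr 1) 1 by
      funext i; rcases i with i | i <;> fin_cases i <;> simp [Matrix.J], hcol]
    rfl
  · rw [show JJ *ᵥ (Pi.single (Sum.inr 0) 1) = -Pi.single (Sum.inl 0) 1 by
      funext i; rcases i with i | i <;> fin_cases i <;> simp [Matrix.J], Matrix.mulVec_neg, hcol]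
    exact hX v
  · rw [show JJ *ᵥ (Pi.single (Sum.inr 1) 1) = -Pi.single (Sum.inl 1) 1 by
      funext i; rcases i with i | i <;> fin_cases i <;> simp [Matrix.J], Matrix.mulVec_neg, hcol]
    exact hX w

/-! ### The witnesses -/

/-- The matrix acting as a given two by two matrix on a hyperbolic plane, and trivially on the other. -/
def plm (a b c d : F) : MS :=
  Matrix.fromBlocks (Matrix.diagonal ![a, 1]) (Matrix.diagonal ![b, 0]) (Matrix.diagonal ![c, 0])
    (Matrix.diagonal ![d, 1])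

theorem plm_mul (a b c d a' b' c' d' : F) :
    plm a b c d * plm a' b' c' d' = plm (a * a' + b * c') (a * b' + b * d') (c * a' + d * c') (c * b' + d * d') := by
  simp only [plm, Matrix.fromBlocks_multiply, Matrix.diagonal_mul_diagonal, Matrix.diagonal_add]
  congr 1 <;> congr 1 <;> funext i <;> fin_cases i <;> simp

theorem plm_one : plm (1 : F) 0 0 1 = 1 := by
  ext i j
  rcases i with i | i <;> rcases j with j | j <;> fin_cases i <;> fin_cases j <;> simp [plm]

theorem exists_plane {a b c d : F} (hd : a * d - b * c = 1) :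
    ∃ g : GS, g ∈ Cfsg.spGL 2 F ∧ (g : MS) = plm a b c d ∧ ((g⁻¹ : GS) : MS) = plm d (-b) (-c) a := by
  refine ⟨⟨plm a b c d, plm d (-b) (-c) a, ?_, ?_⟩, mem_spGL_of_gram ?_, rfl, rfl⟩
  · rw [plm_mul, ← plm_one]; congr 1 <;> first | ring1 | linear_combination hd
  · rw [plm_mul, ← plm_one]; congr 1 <;> first | ring1 | linear_combination hd
  · show (plm a b c d)ᵀ * JJ * plm a b c d = JJ
    ext i j
    rcases i with i | i <;> rcases j with j | j <;> fin_cases i <;> fin_cases j <;>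
      simp [plm, Matrix.J, Matrix.mul_apply, Fintype.sum_sum_type, Fin.sum_univ_two] <;>
      first | ring1 | linear_combination hd | linear_combination -hd

theorem plm_trace (a b c d : F) : (plm a b c d).trace = a + d + 2 := by
  simp [plm, Matrix.trace, Fintype.sum_sum_type, Fin.sum_univ_two]
  ring

theorem plm_not_scalar {a b c d : F} (hne : b ≠ 0 ∨ c ≠ 0) (z : F) : plm a b c d ≠ z • 1 := fun e => by
  have e1 := congrFun (congrFun e (Sum.inl 0)) (Sum.inr 0)
  have e2 := congrFun (congrFun e (Sum.inr 0)) (Sum.inl 0)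
  simp [plm] at e1 e2
  exact hne.elim (fun h => h e1) fun h => h e2

variable {R : Subgroup (GL (Fin 2 ⊕ Fin 2) F)}

theorem plane_transvection (h : Pauli4 R) {p : ℕ} (hp : (p : F) = 0)
    (hall : ∀ x ∈ Cfsg.spGL 2 F, (∃ z : F, ((x ^ p : GS) : MS) = z • 1) → (∀ z : F, (x : MS) ≠ z • 1) →
      Meets R (Cfsg.spGL 2 F) x) : False := by
  obtain ⟨y, hyU, hy, -⟩ := exists_plane (a := (1 : F)) (b := 1) (c := 0) (d := 1) (by ring)
  have hpow : ∀ n : ℕ, ((y ^ n : GS) : MS) = plm 1 (n : F) 0 1 := by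
    intro n
    induction n with
    | zero => rw [pow_zero, Units.val_one, Nat.cast_zero, plm_one]
    | succ n ih =>
      rw [pow_succ, Units.val_mul, ih, hy, plm_mul]
      push_cast
      congr 1 <;> ring
  refine not_meets_transvection h (u := Pi.single (Sum.inl 0) 1) (φ := Pi.single (Sum.inr 0) 1) (by simp) (by simp)
    (by simp) ?_ (hall y hyU ⟨1, by rw [hpow, hp, plm_one, one_smul]⟩ fun z e =>
      plm_not_scalar (Or.inl one_ne_zero) z (hy.symm.trans e))
  rw [hy]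
  ext i j
  rcases i with i | i <;> rcases j with j | j <;> fin_cases i <;> fin_cases j <;> simp [plm, Matrix.vecMulVec_apply]

/-- The symplectic case. -/
theorem symplectic_criterion {p : ℕ} [Fact p.Prime] [CharP F p] (hF : Fintype.card F = p) (hodd : Odd p)
    (h : Pauli4 R) (hRU : R ≤ Cfsg.spGL 2 F) (hZ : Nat.card (Subgroup.center R) = 2) (hm : IsOfMinusType 2 R)
    (r : ℕ) [Fact r.Prime] (hΩ : r ∣ (subgroupNormalizer R).relIndex (Cfsg.spGL 2 F)) :
    (∀ x ∈ Cfsg.spGL 2 F, (∃ z : F, ((x ^ r : GS) : MS) = z • 1) → (∀ z : F, (x : MS) ≠ z • 1) →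
      Meets R (Cfsg.spGL 2 F) x) ↔ (r = 2 ∨ (r = 5 ∧ orderOf (p : ZMod 5) = 4)) := by
  classical
  have hp : p.Prime := Fact.out
  have hr : r.Prime := Fact.out
  have hp2 : p ≠ 2 := fun e => by rw [e, Nat.odd_iff] at hodd; omega
  have hcast : ∀ n : ℕ, ¬ p ∣ n → (n : F) ≠ 0 := fun n hn e => hn ((CharP.cast_eq_zero_iff F p n).mp e)
  have hFc : Nat.card F = p := by rw [Nat.card_eq_fintype_card, hF]
  obtain ⟨a, b, A, B, hfr⟩ := exists_frame h (Or.inr hm)
  have hU : Isom (RingEquiv.refl F) sf (Cfsg.spGL 2 F) := ⟨sp_semi, fun g => mem_spGL_iff⟩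
  constructor
  · intro hall
    by_contra hcon
    push Not at hcon
    obtain ⟨hr2, hr5⟩ := hcon
    rcases eq_or_ne r 3 with rfl | hne3
    · rcases eq_or_ne p 3 with rfl | hp33
      · exact plane_transvection h (p := 3) (CharP.cast_eq_zero F 3) hall
      have h3 : (3 : F) ≠ 0 := by
        exact_mod_cast hcast 3 fun e => hp33 ((Nat.prime_dvd_prime_iff_eq hp Nat.prime_three).mp e)
      obtain ⟨x, hxU, hx, hxi⟩ := exists_plane (a := (0 : F)) (b := -1) (c := 1) (d := -1) (by ring)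
      have hx3 : x ^ 3 = 1 := Units.ext (by
        rw [pow_three, Units.val_mul, Units.val_mul, hx, plm_mul, plm_mul, Units.val_one, ← plm_one]
        congr 1 <;> ring)
      have hns : ∀ z : F, (x : MS) ≠ z • 1 := fun z e => plm_not_scalar (Or.inr one_ne_zero) z (hx.symm.trans e)
      refine not_meets_three_minus h hfr hZ h3 hx3 hns ?_ (hall x hxU ⟨1, by rw [hx3, Units.val_one, one_smul]⟩ hns)
      rw [hx, hxi, plm_trace, plm_trace]
      ring
    rcases eq_or_ne r 5 with rfl | hne5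
    · haveI : Fact (Nat.Prime 5) := ⟨by norm_num⟩
      rcases eq_or_ne p 5 with rfl | hp55
      · exact plane_transvection h (p := 5) (CharP.cast_eq_zero F 5) hall
      have hpm : IsSquare (p : ZMod 5) := by
        have hne := hr5 rfl
        have h0 : p % 5 ≠ 0 := fun e =>
          hp55 ((Nat.prime_dvd_prime_iff_eq (by norm_num) hp).mp (Nat.dvd_of_mod_eq_zero e)).symm
        rw [← ZMod.natCast_mod] at hne ⊢
        obtain ⟨-, -, h2, h3, q1, q4⟩ := zmod_five_facts
        rcases (show p % 5 = 1 ∨ p % 5 = 2 ∨ p % 5 = 3 ∨ p % 5 = 4 by omega) with e | e | e | e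
        · exact e ▸ q1
        · exact absurd (e ▸ h2) hne
        · exact absurd (e ▸ h3) hne
        · exact e ▸ q4
      obtain ⟨t, ht⟩ : IsSquare (5 : F) := by
        have := ((five_square hp2).mpr hpm).map (ZMod.castHom dvd_rfl F)
        rw [map_natCast] at this
        exact_mod_cast this
      obtain ⟨s, hs⟩ : ∃ s : F, s * s + s - 1 = 0 := ⟨(-1 + t) / 2, by field_simp [h.two]; linear_combination -ht⟩
      have h5F : (5 : F) ≠ 0 := by
        exact_mod_cast hcast 5 fun e => hp55 ((Nat.prime_dvd_prime_iff_eq hp (by norm_num)).mp e)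
      obtain ⟨x, hxU, hx, hxi⟩ := exists_plane (a := (0 : F)) (b := -1) (c := 1) (d := s) (by ring)
      have hx5 : x ^ 5 = 1 := Units.ext (by
        rw [Units.val_pow_eq_pow_val, hx, Units.val_one]
        refine five_of_quad hs ?_
        rw [plm_mul, plm_mul]
        ext i j
        rcases i with i | i <;> rcases j with j | j <;> fin_cases i <;> fin_cases j <;> simp [plm] <;>
          first | ring1 | linear_combination hs | linear_combination -hs)
      have hns : ∀ z : F, (x : MS) ≠ z • 1 := fun z e => plm_not_scalar (Or.inr one_ne_zero) z (hx.symm.trans e)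
      refine not_meets_trace h (Or.inr rfl) hx5 hns ?_ (by norm_num) (hall x hxU ⟨1, by rw [hx5, Units.val_one, one_smul]⟩ hns)
      rw [hx, hxi, plm_trace, plm_trace]
      intro e
      have e' : (s + 1) * (s + 3) = 0 := by linear_combination e
      rcases mul_eq_zero.mp e' with e1 | e1
      · exact one_ne_zero (α := F) (by linear_combination -hs + s * e1)
      · exact h5F (by linear_combination hs - (s - 2) * e1)
    have hr7 : 7 ≤ r := by
      have := hr.two_le
      by_contra hlt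
      interval_cases r <;> simp_all (config := { decide := true })
    obtain ⟨x, hx⟩ := exists_prime_orderOf_dvd_card' (G := Cfsg.spGL 2 F) r (hΩ.trans (Subgroup.relIndex_dvd_card _ _))
    rw [← Subgroup.orderOf_coe] at hx
    have hxr : (x : GS) ^ r = 1 := hx ▸ pow_orderOf_eq_one _
    have hns : ∀ z : F, ((x : GS) : MS) ≠ z • 1 := fun z e => by
      have hzz := sp_scalar_sq x.2 e
      have hxx : (x : GS) ^ 2 = 1 := Units.ext (by
        rw [Units.val_pow_eq_pow_val, e, smul_pow, sq, hzz, one_pow, one_smul, Units.val_one])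
      have := orderOf_dvd_of_pow_eq_one hxx
      rw [hx] at this
      have := Nat.le_of_dvd two_pos this
      omega
    exact not_meets_large h hr7 hxr hns (hall x x.2 ⟨1, by rw [hxr, Units.val_one, one_smul]⟩ hns)
  · rintro hcase x hx ⟨z, hz⟩ hns
    have hzz : z * z = 1 := sp_scalar_sq (pow_mem hx r) hz
    rcases hcase with rfl | ⟨rfl, ho⟩
    · have hxx : (x : MS) * x = z • 1 := by rw [← Units.val_mul, ← sq x, hz]
      have hnorm : ∀ y ∈ R, y ∈ subgroupNormalizer R := fun y hy => Subgroup.le_normalizer hy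
      rcases mul_self_eq_one_iff.mp hzz with e | e <;> subst e
      · rw [one_smul] at hxx
        have hans : ∀ c : F, (a : MS) ≠ c • 1 := fun c e => eq_of_comm_neg h b.isUnit a.isUnit (by simp [e]) hfr.ba
        obtain ⟨g, hg, hgx⟩ := conj_of_normal (invol_normal h.two hx hxx hns)
          (invol_normal h.two (hRU hfr.a_mem) hfr.aa hans)
        exact ⟨g, hg, hgx ▸ hnorm a hfr.a_mem⟩
      · rw [neg_one_smul] at hxx
        obtain ⟨g, hg, hgx⟩ := conj_of_normal (quarter_normal h.two hx hxx)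
          (quarter_normal h.two (hRU hfr.A_mem) hfr.AA)
        exact ⟨g, hg, hgx ▸ hnorm A hfr.A_mem⟩
    · haveI : Fact (Nat.Prime 5) := ⟨by norm_num⟩
      have hp5m : p % 5 = 2 ∨ p % 5 = 3 := by
        rw [← ZMod.natCast_mod] at ho
        obtain ⟨h1, h4, -, -, -, -⟩ := zmod_five_facts
        have h0 : orderOf ((0 : ℕ) : ZMod 5) = 0 := orderOf_eq_zero_iff'.mpr fun n hn => by rw [Nat.cast_zero, zero_pow (Nat.pos_iff_ne_zero.mp hn)]; exact zero_ne_one
        rcases (show p % 5 = 0 ∨ p % 5 = 1 ∨ p % 5 = 2 ∨ p % 5 = 3 ∨ p % 5 = 4 by omega) with e | e | e | e | e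
        · rw [e, h0] at ho; omega
        · rw [e, h1] at ho; omega
        · exact Or.inl e
        · exact Or.inr e
        · rw [e, h4] at ho; omega
      have h5F : (5 : F) ≠ 0 := by
        exact_mod_cast hcast 5 fun e => by
          have := (Nat.prime_dvd_prime_iff_eq hp (by norm_num)).mp e; omega
      refine meets_five (G := Cfsg.spGL 2 F) h hfr hU hRU (fun g hg _ => hg) le_rfl
        (by rw [hFc]; omega) ?_ hx ⟨z, hz⟩
      intro w _ hw hw1 u _ hu huw
      refine five_commutant (by simp) h5F (fun d hd hdd => ?_) hw hw1 hu huw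
      rw [hFc] at hdd
      have h1 : 1 ≤ p ^ d := Nat.one_le_pow _ _ hp.pos
      have hmod : p ^ d % 5 = 1 := by omega
      rw [Nat.pow_mod] at hmod
      interval_cases d <;> rcases hp5m with e | e <;> simp_all

end Cfsg.Agent.Classical.SymFour
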