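import Cfsg.Agent.Lib.Classical.Elusive.SymTypeLinear

/-!
# Centralizers of elements of orders three and five in unitary groups of dimension four
-/

set_option autoImplicit false
set_option linter.unusedSectionVars false

namespace Cfsg.Agent.Classical.SymFour

open Matrix Cfsg.Geo

variable {F : Type*} [Field F] [Fintype F] {q : ℕ} {σ : F ≃+* F} (hσ : IsUSigma q σ)

local notation "M4" => Matrix (Fin 4) (Fin 4) F
local notation "V4" => Fin 4 → F
local notation "ff" => Cfsg.hermForm 4 F q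

include hσ

theorem herm_nondeg {v : V4} (hv : ∀ y, ff v y = 0) : v = 0 := by
  by_contra hne
  obtain ⟨⟨y, hy⟩, -⟩ := (hσ.isUnitaryForm (n := 4)).nondegenerate v hne
  exact hy (((hσ.isUnitaryForm (n := 4)).herm y v).trans (by rw [hv y, map_zero]))

/-- A vector orthogonal to a spanning set is zero. -/
theorem herm_nondeg' {v : V4} {S : Set V4} (hS : Submodule.span F S = ⊤) (hv : ∀ y ∈ S, ff v y = 0) : v = 0 := by
  refine herm_nondeg hσ fun y => ?_
  have hsf := semiForm_of_unitary (hσ.isUnitaryForm (n := 4))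
  have hy : y ∈ Submodule.span F S := hS ▸ Submodule.mem_top
  induction hy using Submodule.span_induction with
  | mem u hu => exact hv u hu
  | zero => simp [hσ.hermForm_eq]
  | add u w _ _ h1 h2 => rw [hsf.add_right, h1, h2, add_zero]
  | smul c u _ h1 => rw [hsf.smul_right, h1, mul_zero]

/-- The centralizer of two commuting elements of order three. -/
theorem three_commutant_U {ω : F} (hω : ω * ω + ω + 1 = 0) (hσω : σ ω = ω) (h3 : (3 : F) ≠ 0)
    {w w' u : GL (Fin 4) F} (hwU : w ∈ Cfsg.GU 4 F q) (hwU' : w' ∈ Cfsg.GU 4 F q) (huU : u ∈ Cfsg.GU 4 F q)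
    (hq : (w : M4) * w + w + 1 = 0) (hq' : (w' : M4) * w' + w' + 1 = 0) (hww : w * w' = w' * w) (hne : w' ≠ w)
    (hne2 : w' ≠ w * w) (hu : u ^ 3 = 1) (huw : u * w = w * u) (huw' : u * w' = w' * u) :
    ∃ i j : ℕ, u = w ^ i * w' ^ j := by
  classical
  have hf := hσ.isUnitaryForm (n := 4)
  have hsf := semiForm_of_unitary hf
  have hw2 : ω * ω = -ω - 1 := by linear_combination hω
  have hω3 : ω ^ 3 = 1 := by linear_combination (ω - 1) * hω
  have hd : ω - ω * ω ≠ 0 := fun e => h3 (by linear_combination (ω * ω - 3 * ω + 3) * hω - (ω - ω * ω) * e)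
  obtain ⟨ev, hev⟩ : ∃ ev : Bool → F, ∀ b, ev b = if b then ω * ω else ω := ⟨_, fun _ => rfl⟩
  have hev3 : ∀ b, ev b ^ 3 = 1 := fun b => by
    rw [hev]; cases b
    · simpa using hω3
    · simp only [if_true]; linear_combination (ω ^ 3 + 1) * hω3
  have hσev : ∀ b, σ (ev b) = ev b := fun b => by rw [hev]; cases b <;> simp [hσω]
  have hevmul : ∀ a b, ev a * ev b = 1 → b = !a := by
    intro a b e
    rw [hev, hev] at e
    cases a <;> cases b <;> simp at e ⊢
    · exact h3 (by linear_combination e - (ω - 2) * (hω - e))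
    · exact h3 (by linear_combination hω - (ω + 2) * (e - ω * hω3))
  -- projections
  obtain ⟨pr, hpr⟩ : ∃ pr : GL (Fin 4) F → Bool → M4, ∀ g b,
      pr g b = (ev b - ev (!b))⁻¹ • ((g : M4) - ev (!b) • 1) := ⟨_, fun _ _ => rfl⟩
  have hevne : ∀ b, ev b - ev (!b) ≠ 0 := fun b => by
    rw [hev, hev]; cases b <;> simp
    · exact hd
    · exact fun e => hd (by linear_combination -e)
  have hsum : ∀ g, pr g false + pr g true = 1 := fun g => by
    rw [hpr, hpr, Bool.not_false, Bool.not_true]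
    have e : (ev true - ev false)⁻¹ = -(ev false - ev true)⁻¹ := by rw [← inv_neg, neg_sub]
    rw [e, neg_smul, ← sub_eq_add_neg, ← smul_sub, sub_sub_sub_cancel_left, ← sub_smul, smul_smul,
      inv_mul_cancel₀ (by simpa using hevne false), one_smul]
  have hmulpr : ∀ g : GL (Fin 4) F, (g : M4) * g + g + 1 = 0 → ∀ b, (g : M4) * pr g b = ev b • pr g b := by
    intro g hg b
    rw [hpr, mul_smul_comm, smul_comm (ev b)]
    congr 1
    have hp : ev b + ev (!b) = -1 ∧ ev b * ev (!b) = 1 := by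
      rw [hev, hev]; cases b <;> simp <;> constructor <;> linear_combination (norm := ring_nf) hω
      all_goals first | linear_combination (ω - 1) * hω - hω | ring
    rw [mul_sub, mul_smul_comm, mul_one, smul_sub, smul_smul, hp.2, one_smul]
    have hg' : (g : M4) * g = -(g : M4) - 1 := by linear_combination (norm := noncomm_ring) hg
    rw [hg', eq_neg_of_add_eq_zero_left (show ev b + (ev (!b) + 1) = 0 by linear_combination hp.1)]
    module
  obtain ⟨P, hP⟩ : ∃ P : Bool × Bool → M4, ∀ k, P k = pr w k.1 * pr w' k.2 := ⟨_, fun _ => rfl⟩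
  have hcw : (w' : M4) * w = (w : M4) * w' := (congrArg (fun t : GL (Fin 4) F => (t : M4)) hww).symm
  have hPw : ∀ k, (w : M4) * P k = ev k.1 • P k ∧ (w' : M4) * P k = ev k.2 • P k := by
    intro k
    rw [hP]
    refine ⟨by rw [← mul_assoc, hmulpr w hq, smul_mul_assoc], ?_⟩
    have e : (w' : M4) * pr w k.1 = pr w k.1 * w' := by
      rw [hpr, mul_smul_comm, smul_mul_assoc, mul_sub, sub_mul, hcw, mul_smul_comm, smul_mul_assoc, one_mul, mul_one]
    rw [← mul_assoc, e, mul_assoc, hmulpr w' hq', mul_smul_comm]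
  have hPsum : ∀ v : V4, v = (P (false, false) *ᵥ v + P (false, true) *ᵥ v) +
      (P (true, false) *ᵥ v + P (true, true) *ᵥ v) := fun v => by
    rw [← Matrix.add_mulVec, ← Matrix.add_mulVec, ← Matrix.add_mulVec, hP, hP, hP, hP, ← mul_add, ← mul_add,
      hsum, mul_one, mul_one, hsum, Matrix.one_mulVec]
  have hjoint : ∀ k v, (w : M4) *ᵥ (P k *ᵥ v) = ev k.1 • (P k *ᵥ v) ∧ (w' : M4) *ᵥ (P k *ᵥ v) = ev k.2 • (P k *ᵥ v) :=
    fun k v => ⟨by rw [Matrix.mulVec_mulVec, (hPw k).1, Matrix.smul_mulVec],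
      by rw [Matrix.mulVec_mulVec, (hPw k).2, Matrix.smul_mulVec]⟩
  obtain ⟨J, hJ⟩ : ∃ J : Bool × Bool → V4 → Prop, ∀ k v, J k v ↔
      ((w : M4) *ᵥ v = ev k.1 • v ∧ (w' : M4) *ᵥ v = ev k.2 • v) := ⟨_, fun _ _ => Iff.rfl⟩
  have hJP : ∀ k v, J k (P k *ᵥ v) := fun k v => (hJ _ _).mpr (hjoint k v)
  have horth : ∀ k k' v v', J k v → J k' v' → k' ≠ (!k.1, !k.2) → ff v v' = 0 := by
    intro k k' v v' hv hv' hne
    rw [hJ] at hv hv'
    by_contra h0
    refine hne (Prod.ext (hevmul _ _ ?_) (hevmul _ _ ?_))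
    · have e := mem_GU_iff.mp hwU v v'
      rw [hv.1, hv'.1, hsf.smul_left, hsf.smul_right, hσev, ← mul_assoc] at e
      exact (mul_eq_right₀ h0).mp e
    · have e := mem_GU_iff.mp hwU' v v'
      rw [hv.2, hv'.2, hsf.smul_left, hsf.smul_right, hσev, ← mul_assoc] at e
      exact (mul_eq_right₀ h0).mp e
  have hspan : Submodule.span F {v : V4 | ∃ k, J k v} = ⊤ := Submodule.eq_top_iff'.mpr fun v => by
    rw [hPsum v]
    exact add_mem (add_mem (Submodule.subset_span ⟨_, hJP _ v⟩) (Submodule.subset_span ⟨_, hJP _ v⟩))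
      (add_mem (Submodule.subset_span ⟨_, hJP _ v⟩) (Submodule.subset_span ⟨_, hJP _ v⟩))
  have hpair : ∀ k v, J k v → v ≠ 0 → ∃ v', J (!k.1, !k.2) v' ∧ ff v v' ≠ 0 := by
    intro k v hv hv0
    by_contra hcon
    push Not at hcon
    refine hv0 (herm_nondeg' hσ hspan ?_)
    rintro y ⟨k', hy⟩
    by_cases e : k' = (!k.1, !k.2)
    · exact hcon y (e ▸ hy)
    · exact horth k k' v y hv hy e
  have hex : ∀ k, ∃ v, J k v ∧ v ≠ 0 := by
    intro k
    by_contra hcon
    push Not at hcon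
    have hzero : ∀ v, P k *ᵥ v = 0 ∧ P (!k.1, !k.2) *ᵥ v = 0 := fun v => by
      refine ⟨hcon _ (hJP k v), ?_⟩
      by_contra h0
      obtain ⟨v', hv', hne⟩ := hpair _ _ (hJP _ v) h0
      rw [Bool.not_not, Bool.not_not, Prod.mk.eta] at hv'
      exact hne (by rw [hcon v' hv']; simp [hσ.hermForm_eq])
    -- then `w'` is `w` or `w²`
    have hsw : (w' : M4) = (if k.1 = k.2 then (w : M4) * (w : M4) else (w : M4)) := by
      refine Matrix.ext_of_mulVec_single fun i => ?_
      rw [hPsum (Pi.single i 1)]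
      simp only [Matrix.mulVec_add]
      have term : ∀ k' v, (k' = k ∨ k' = (!k.1, !k.2)) ∨
          (w' : M4) *ᵥ (P k' *ᵥ v) = (if k.1 = k.2 then (w : M4) * (w : M4) else (w : M4)) *ᵥ (P k' *ᵥ v) := by
        intro k' v
        obtain ⟨k1, k2⟩ := k
        obtain ⟨a, b⟩ := k'
        cases k1 <;> cases k2 <;> cases a <;> cases b <;>
          first
            | exact Or.inl (Or.inl rfl)
            | exact Or.inl (Or.inr rfl)
            | (refine Or.inr ?_
               rw [(hjoint _ v).2]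
               simp only [Bool.false_eq_true, Bool.true_eq_false, if_true, if_false]
               simp only [← Matrix.mulVec_mulVec _ (w : M4) (w : M4), (hjoint _ v).1, Matrix.mulVec_smul, smul_smul]
               all_goals simp only [hev, Bool.false_eq_true, if_true, if_false]
               all_goals (congr 1; all_goals linear_combination (-ω) * hω3))
      have t : ∀ k' v, (w' : M4) *ᵥ (P k' *ᵥ v) = (if k.1 = k.2 then (w : M4) * (w : M4) else (w : M4)) *ᵥ (P k' *ᵥ v) := by
        intro k' v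
        rcases term k' v with (rfl | rfl) | e
        · rw [(hzero v).1, Matrix.mulVec_zero, Matrix.mulVec_zero]
        · rw [(hzero v).2, Matrix.mulVec_zero, Matrix.mulVec_zero]
        · exact e
      rw [t, t, t, t]
    split_ifs at hsw
    · exact hne2 (Units.ext (by rw [Units.val_mul]; exact hsw))
    · exact hne (Units.ext hsw)
  choose v hv hv0 using hex
  have hnz : ∀ k, ff (v k) (v (!k.1, !k.2)) ≠ 0 ∧ ∀ v', J (!k.1, !k.2) v' → ∃ c : F, v' = c • v (!k.1, !k.2) := by
    have hli : LinearIndependent F v := by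
      rw [Fintype.linearIndependent_iff]
      intro c hc k
      obtain ⟨v', hv', hne'⟩ := hpair k (v k) (hv k) (hv0 k)
      let L : V4 →ₗ[F] F :=
        { toFun := fun x => ff x v'
          map_add' := fun x y => hsf.add_left x y _
          map_smul' := fun t x => hsf.smul_left t x _ }
      have e := congrArg L hc
      rw [map_sum, map_zero] at e
      simp only [map_smul, smul_eq_mul] at e
      change ∑ x, c x * ff (v x) v' = 0 at e
      rw [Finset.sum_eq_single k (fun x _ hx => by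
        rw [horth x _ _ _ (hv x) hv' (fun e' => hx (Prod.ext (by simpa using (congrArg Prod.fst e').symm)
          (by simpa using (congrArg Prod.snd e').symm))), mul_zero]) (by simp)] at e
      exact (mul_eq_zero.mp e).resolve_right hne'
    have htop : Submodule.span F (Set.range v) = ⊤ := hli.span_eq_top_of_card_eq_finrank (by simp)
    intro k
    have hline : ∀ k v', J k v' → ∃ c : F, v' = c • v k := by
      intro k v' hv'
      obtain ⟨c, hc⟩ := (Submodule.mem_span_range_iff_exists_fun F).mp (htop ▸ Submodule.mem_top : v' ∈ _)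
      refine ⟨c k, sub_eq_zero.mp (herm_nondeg' hσ hspan ?_)⟩
      rintro y ⟨k', hy⟩
      let L : V4 →ₗ[F] F :=
        { toFun := fun x => ff x y
          map_add' := fun x z => hsf.add_left x z _
          map_smul' := fun t x => hsf.smul_left t x _ }
      change L (v' - c k • v k) = 0
      rw [map_sub, map_smul, smul_eq_mul]
      change ff v' y - c k * ff (v k) y = 0
      by_cases e : k' = (!k.1, !k.2)
      · have hs : ff v' y = c k * ff (v k) y := by
          change L v' = _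
          rw [← hc, map_sum]
          simp only [map_smul, smul_eq_mul]
          change ∑ x, c x * ff (v x) y = _
          rw [Finset.sum_eq_single k (fun x _ hx => by
            rw [horth x _ _ _ (hv x) hy (fun e' => hx (by
              rw [e] at e'
              exact Prod.ext (by simpa using (congrArg Prod.fst e').symm) (by simpa using (congrArg Prod.snd e').symm))),
              mul_zero]) (by simp)]
        rw [hs, sub_self]
      · rw [horth k k' _ _ hv' hy e, horth k k' _ _ (hv k) hy e, mul_zero, sub_zero]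
    refine ⟨fun e => ?_, hline _⟩
    obtain ⟨v', hv', hne'⟩ := hpair k (v k) (hv k) (hv0 k)
    obtain ⟨c, rfl⟩ := hline _ v' hv'
    rw [hsf.smul_right, e, mul_zero] at hne'
    exact hne' rfl
  have hcu : (w : M4) * u = (u : M4) * w := (congrArg (fun t : GL (Fin 4) F => (t : M4)) huw).symm
  have hcu' : (w' : M4) * u = (u : M4) * w' := (congrArg (fun t : GL (Fin 4) F => (t : M4)) huw').symm
  have hc : ∀ k, ∃ c : F, (u : M4) *ᵥ v k = c • v k := by
    intro k
    have := (hnz (!k.1, !k.2)).2 ((u : M4) *ᵥ v k)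
    rw [Bool.not_not, Bool.not_not, Prod.mk.eta] at this
    refine this ((hJ _ _).mpr ⟨?_, ?_⟩)
    · rw [Matrix.mulVec_mulVec, hcu, ← Matrix.mulVec_mulVec, ((hJ _ _).mp (hv k)).1, Matrix.mulVec_smul]
    · rw [Matrix.mulVec_mulVec, hcu', ← Matrix.mulVec_mulVec, ((hJ _ _).mp (hv k)).2, Matrix.mulVec_smul]
  choose c hcv using hc
  have hc3 : ∀ k, c k = 1 ∨ c k = ω ∨ c k = ω * ω := by
    intro k
    have e : (((u ^ 3 : GL (Fin 4) F)) : M4) *ᵥ v k = (c k * c k * c k) • v k := by
      rw [pow_three', Units.val_mul, Units.val_mul, ← Matrix.mulVec_mulVec, ← Matrix.mulVec_mulVec, hcv,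
        Matrix.mulVec_smul, hcv, smul_smul, Matrix.mulVec_smul, hcv, smul_smul]
    rw [hu, Units.val_one, Matrix.one_mulVec] at e
    have e' : (1 : F) = c k * c k * c k := smul_left_injective F (hv0 k) ((one_smul F (v k)).trans e)
    have : (c k - 1) * (c k - ω) * (c k - ω * ω) = 0 := by
      linear_combination -e' - hω3 + (c k * ω - c k * c k) * hω
    rcases mul_eq_zero.mp this with h1 | h1
    · rcases mul_eq_zero.mp h1 with h2 | h2
      · exact Or.inl (sub_eq_zero.mp h2)
      · exact Or.inr (Or.inl (sub_eq_zero.mp h2))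
    · exact Or.inr (Or.inr (sub_eq_zero.mp h1))
  have hpow3 : ∀ k, ∃ i : ℕ, c k = ω ^ i := fun k => by
    rcases hc3 k with e | e | e
    exacts [⟨0, by rw [e, pow_zero]⟩, ⟨1, by rw [e, pow_one]⟩, ⟨2, by rw [e, sq]⟩]
  have hinv : ∀ k, c k * c (!k.1, !k.2) = 1 := by
    intro k
    have hs : σ (c (!k.1, !k.2)) = c (!k.1, !k.2) := by
      rcases hc3 (!k.1, !k.2) with e | e | e <;> rw [e] <;> simp [hσω]
    have e := mem_GU_iff.mp huU (v k) (v (!k.1, !k.2))
    rw [hcv, hcv, hsf.smul_left, hsf.smul_right, hs, ← mul_assoc] at e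
    exact (mul_eq_right₀ (hnz k).1).mp e
  obtain ⟨i, hi⟩ := hpow3 (false, false)
  obtain ⟨j, hj⟩ := hpow3 (false, true)
  obtain ⟨a, ha⟩ : ∃ a, a = i + 2 * (j + 2 * i) := ⟨_, rfl⟩
  obtain ⟨b, hb⟩ : ∃ b, b = j + 2 * i := ⟨_, rfl⟩
  have hωmod : ∀ {m n : ℕ}, m % 3 = n % 3 → ω ^ m = ω ^ n := fun {m n} e => by
    rw [← Nat.mod_add_div m 3, ← Nat.mod_add_div n 3, pow_add, pow_add, pow_mul, pow_mul, hω3, one_pow, one_pow, e]
  have hpowv : ∀ (g : GL (Fin 4) F) (t : F) (x : V4), (g : M4) *ᵥ x = t • x → ∀ n,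
      ((g ^ n : GL (Fin 4) F) : M4) *ᵥ x = t ^ n • x := by
    intro g t x hx n
    induction n with
    | zero => simp
    | succ n ih => rw [pow_succ', Units.val_mul, ← Matrix.mulVec_mulVec, ih, Matrix.mulVec_smul, hx, smul_smul, pow_succ]
  have hval : ∀ k, c k = ev k.1 ^ a * ev k.2 ^ b := by
    have e00 : c (false, false) = ev false ^ a * ev false ^ b := by
      rw [hi, hev, if_neg Bool.false_ne_true, ← pow_add]
      exact hωmod (by omega)
    have e01 : c (false, true) = ev false ^ a * ev true ^ b := by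
      rw [hj, hev, hev, if_neg Bool.false_ne_true, if_pos rfl, ← sq, ← pow_mul, ← pow_add]
      exact hωmod (by omega)
    have ev1 : ev false * ev true = 1 := by
      rw [hev, hev, if_neg Bool.false_ne_true, if_pos rfl]
      linear_combination hω3
    have other : ∀ k, c k = ev k.1 ^ a * ev k.2 ^ b → c (!k.1, !k.2) = ev (!k.1) ^ a * ev (!k.2) ^ b := by
      intro k e
      have hk : ∀ x, ev x * ev (!x) = 1 := fun x => by
        cases x
        · exact ev1
        · rw [mul_comm]; exact ev1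
      have := hinv k
      have e' : c k * (ev (!k.1) ^ a * ev (!k.2) ^ b) = 1 := by
        rw [e, mul_mul_mul_comm, ← mul_pow, ← mul_pow, hk, hk, one_pow, one_pow, one_mul]
      have hc0 : c k ≠ 0 := fun z => by rw [z, zero_mul] at this; exact zero_ne_one this
      exact mul_left_cancel₀ hc0 (this.trans e'.symm)
    intro k
    obtain ⟨k1, k2⟩ := k
    cases k1 <;> cases k2
    exacts [e00, e01, other (false, true) e01, other (false, false) e00]
  refine ⟨a, b, Units.ext (Matrix.ext_of_mulVec_single fun m => ?_)⟩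
  obtain ⟨i0, hi0⟩ : ∃ y : V4, y = Pi.single m 1 := ⟨_, rfl⟩
  rw [← hi0, hPsum i0, Matrix.mulVec_add, Matrix.mulVec_add, Matrix.mulVec_add, Matrix.mulVec_add, Matrix.mulVec_add,
    Matrix.mulVec_add]
  have t : ∀ k x, J k x → (u : M4) *ᵥ x = ((w ^ a * w' ^ b : GL (Fin 4) F) : M4) *ᵥ x := by
    intro k x hx
    have hlk := (hnz (!k.1, !k.2)).2 x
    rw [Bool.not_not, Bool.not_not, Prod.mk.eta] at hlk
    obtain ⟨t, rfl⟩ := hlk hx
    rw [Matrix.mulVec_smul, Matrix.mulVec_smul, hcv, Units.val_mul, ← Matrix.mulVec_mulVec,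
      hpowv w' _ _ ((hJ _ _).mp (hv k)).2, Matrix.mulVec_smul, hpowv w _ _ ((hJ _ _).mp (hv k)).1, smul_smul, hval,
      mul_comm (ev k.1 ^ a)]
    simp only [smul_smul]
  rw [t _ _ (hJP _ i0), t _ _ (hJP _ i0), t _ _ (hJP _ i0), t _ _ (hJP _ i0)]

/-- The centralizer of an element of order five. -/
theorem five_commutant_U (h2 : (2 : F) ≠ 0) (h5 : (5 : F) ≠ 0) (hq5 : ¬ 5 ∣ Nat.card F - 1)
    {s : F} (hs : s * s + s - 1 = 0) (hσs : σ s = -1 - s)
    {w u : GL (Fin 4) F} (hwU : w ∈ Cfsg.GU 4 F q) (huU : u ∈ Cfsg.GU 4 F q) (hw : w ^ 5 = 1) (hw1 : w ≠ 1)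
    (hu : u ^ 5 = 1) (hc : u * w = w * u) : ∃ i : ℕ, u = w ^ i := by
  classical
  have : Fact (Nat.Prime 5) := ⟨by norm_num⟩
  have hf := hσ.isUnitaryForm (n := 4)
  have hsf := semiForm_of_unitary hf
  obtain ⟨W, hW⟩ : ∃ W : M4, W = (w : M4) := ⟨_, rfl⟩
  have hW5 : W * W * W * W * W = 1 := by
    rw [hW, ← Units.val_mul, ← Units.val_mul, ← Units.val_mul, ← Units.val_mul,
      show w * w * w * w * w = w ^ 5 by simp only [pow_succ, pow_zero, one_mul], hw, Units.val_one]
  obtain ⟨M, hM⟩ : ∃ M : M4, M = W + W * W * W * W := ⟨_, rfl⟩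
  obtain ⟨Φ, hΦ⟩ : ∃ Φ : M4, Φ = 1 + W + W * W + W * W * W + W * W * W * W := ⟨_, rfl⟩
  have hMM : M * M + M - 1 = Φ := by
    have e6 : W * W * W * W * W * W * W * W = W * W * W := by
      calc W * W * W * W * W * W * W * W = W * W * W * W * W * (W * W * W) := by noncomm_ring
        _ = _ := by rw [hW5, one_mul]
    rw [hM, hΦ]
    linear_combination (norm := noncomm_ring) hW5 + hW5 + e6
  have hΦW : (W - 1) * Φ = 0 ∧ Φ * (W - 1) = 0 := by
    rw [hΦ]
    constructor <;> linear_combination (norm := noncomm_ring) hW5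
  have hMadj : ∀ x y : V4, ff (M *ᵥ x) y = ff x (M *ᵥ y) := by
    intro x y
    have hw4 : w ^ 4 * w = 1 := by rw [← pow_succ, hw]
    have e4 : ((w ^ 4 : GL (Fin 4) F) : M4) = W * W * W * W := by
      rw [hW, ← Units.val_mul, ← Units.val_mul, ← Units.val_mul]
      simp only [pow_succ, pow_zero, one_mul]
    have a1 : ∀ x y, ff (W *ᵥ x) y = ff x ((W * W * W * W) *ᵥ y) := fun x y => by
      have := mem_GU_iff.mp (pow_mem hwU 4) (W *ᵥ x) y
      rw [← this, hW, Matrix.mulVec_mulVec, ← Units.val_mul, hw4, Units.val_one, Matrix.one_mulVec, e4, hW]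
    have a2 : ∀ x y, ff ((W * W * W * W) *ᵥ x) y = ff x (W *ᵥ y) := fun x y => by
      rw [hf.herm, ← a1, ← hf.herm]
    rw [hM, Matrix.add_mulVec, Matrix.add_mulVec, hsf.add_left, hsf.add_right, a1, a2, add_comm]
  obtain ⟨K, hK⟩ : ∃ K : F → Submodule F V4, ∀ (t : F) v, v ∈ K t ↔ M *ᵥ v = t • v :=
    ⟨fun t => LinearMap.ker (Matrix.toLin' (M - t • 1)), fun t v => by
      simp [Matrix.sub_mulVec, Matrix.smul_mulVec, sub_eq_zero]⟩
  have hss : σ (-1 - s) = s := by rw [map_sub, map_neg, map_one, hσs]; ring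
  have horth : ∀ t t' : F, t ≠ σ t' → ∀ x ∈ K t, ∀ y ∈ K t', ff x y = 0 := by
    intro t t' hne x hx y hy
    rw [hK] at hx hy
    have e := hMadj x y
    rw [hx, hy, hsf.smul_left, hsf.smul_right] at e
    have : (t - σ t') * ff x y = 0 := by linear_combination e
    exact (mul_eq_zero.mp this).resolve_left (sub_ne_zero.mpr hne)
  have hs2 : s ≠ 2 ∧ -1 - s ≠ 2 := by
    refine ⟨fun e => h5 (by linear_combination hs - (s + 3) * e), fun e => h5 (by linear_combination hs + (s - 2) * e)⟩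
  have hsne : s ≠ -1 - s := fun e => h5 (by linear_combination (2 * s + 1) * e - 4 * hs)
  have hfix2 : ∀ v : V4, W *ᵥ v = v → v ∈ K 2 := fun v hv => by
    rw [hK, hM, Matrix.add_mulVec, ← Matrix.mulVec_mulVec, ← Matrix.mulVec_mulVec, ← Matrix.mulVec_mulVec, hv, hv, hv,
      hv, two_smul]
  have hdecomp : ∀ v : V4, ∃ a b c, a ∈ K s ∧ b ∈ K (-1 - s) ∧ W *ᵥ c = c ∧ v = a + b + c := by
    intro v
    obtain ⟨c, hc⟩ : ∃ c, c = (5 : F)⁻¹ • (Φ *ᵥ v) := ⟨_, rfl⟩
    have hcfix : W *ᵥ c = c := by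
      rw [hc, Matrix.mulVec_smul, Matrix.mulVec_mulVec]
      congr 1
      have := congrArg (fun A : M4 => A *ᵥ v) hΦW.1
      simp only [Matrix.sub_mulVec, sub_mul, one_mul, Matrix.zero_mulVec] at this
      exact sub_eq_zero.mp this
    obtain ⟨r, hr⟩ : ∃ r, r = v - c := ⟨_, rfl⟩
    have hΦr : Φ *ᵥ r = 0 := by
      have e : Φ *ᵥ c = (5 : F) • c := by
        rw [hΦ]
        simp only [Matrix.add_mulVec, ← Matrix.mulVec_mulVec, hcfix, Matrix.one_mulVec]
        module
      rw [hr, Matrix.mulVec_sub, e, hc, smul_smul, mul_inv_cancel₀ h5, one_smul, sub_self]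
    have hrel : M *ᵥ (M *ᵥ r) + M *ᵥ r - r = 0 := by
      rw [← hMM, Matrix.sub_mulVec, Matrix.add_mulVec, ← Matrix.mulVec_mulVec, Matrix.one_mulVec] at hΦr
      exact hΦr
    have hd0 : s - (-1 - s) ≠ 0 := sub_ne_zero.mpr hsne
    refine ⟨(s - (-1 - s))⁻¹ • (M *ᵥ r - (-1 - s) • r), ((-1 - s) - s)⁻¹ • (M *ᵥ r - s • r), c, ?_, ?_, hcfix, ?_⟩
    · rw [hK, Matrix.mulVec_smul, smul_comm s]
      congr 1
      rw [Matrix.mulVec_sub, Matrix.mulVec_smul]
      linear_combination (norm := skip) hrel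
      match_scalars <;> first | ring1 | linear_combination hs | linear_combination -hs
    · rw [hK, Matrix.mulVec_smul, smul_comm (-1 - s)]
      congr 1
      rw [Matrix.mulVec_sub, Matrix.mulVec_smul]
      linear_combination (norm := skip) hrel
      match_scalars <;> first | ring1 | linear_combination hs | linear_combination -hs
    · rw [show ((-1 - s) - s)⁻¹ = -(s - (-1 - s))⁻¹ by rw [← inv_neg, neg_sub], neg_smul, ← sub_eq_add_neg,
        ← smul_sub, sub_sub_sub_cancel_left, ← sub_smul, smul_smul, inv_mul_cancel₀ hd0, one_smul, hr, sub_add_cancel]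
  have hspan : Submodule.span F {v : V4 | v ∈ K s ∨ v ∈ K (-1 - s) ∨ W *ᵥ v = v} = ⊤ :=
    Submodule.eq_top_iff'.mpr fun v => by
      obtain ⟨a, b, c, ha, hb, hc, rfl⟩ := hdecomp v
      exact add_mem (add_mem (Submodule.subset_span (Or.inl ha)) (Submodule.subset_span (Or.inr (Or.inl hb))))
        (Submodule.subset_span (Or.inr (Or.inr hc)))
  have hperp : ∀ t, (t = s ∨ t = -1 - s) → ∀ x ∈ K t, (∀ y ∈ K (σ t), ff x y = 0) → x = 0 := by
    intro t ht x hx hy
    refine herm_nondeg' hσ hspan ?_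
    have hσt : σ (σ t) = t := hσ.involutive t
    rintro y (hy' | hy' | hy')
    · by_cases e : σ t = s
      · exact hy y (e ▸ hy')
      · exact horth t s (fun e' => e (by rw [e']; exact hσ.involutive s)) x hx y hy'
    · by_cases e : σ t = -1 - s
      · exact hy y (e ▸ hy')
      · exact horth t (-1 - s) (fun e' => e (by rw [e']; exact hσ.involutive _)) x hx y hy'
    · refine horth t 2 ?_ x hx y (hfix2 y hy')
      rw [map_ofNat]
      rcases ht with rfl | rfl
      exacts [hs2.1, hs2.2]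
  have hwK : ∀ t, ∀ v ∈ K t, W *ᵥ v ∈ K t := fun t v hv => by
    have hcomm : M * W = W * M := by rw [hM]; noncomm_ring
    rw [hK] at hv ⊢
    rw [Matrix.mulVec_mulVec, hcomm, ← Matrix.mulVec_mulVec, hv, Matrix.mulVec_smul]
  have hnofix : ∀ t, (t = s ∨ t = -1 - s) → ∀ v ∈ K t, W *ᵥ v = v → v = 0 := by
    intro t ht v hv hv'
    have e1 := (hK 2 v).mp (hfix2 v hv')
    have e2 := (hK t v).mp hv
    rw [e2] at e1
    refine (smul_eq_zero.mp (show (t - 2) • v = 0 by rw [sub_smul, e1, sub_self])).resolve_left (sub_ne_zero.mpr ?_)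
    rcases ht with rfl | rfl
    exacts [hs2.1, hs2.2]
  have hdim : ∀ t, (t = s ∨ t = -1 - s) → ∀ X : Submodule F V4, X ≤ K t → X ≠ ⊥ → (∀ v ∈ X, W *ᵥ v ∈ X) →
      2 ≤ Module.finrank F X := by
    intro t ht X hX hX0 hinv
    by_contra hlt
    have h1 : Module.finrank F X = 1 := by
      have := Submodule.one_le_finrank_iff.mpr hX0
      omega
    have hd := dvd_card_sub_one (r := 5) ((Matrix.toLin' (w : M4)).restrict (fun v hv => by
        rw [Matrix.toLin'_apply]; exact hW ▸ hinv v hv : ∀ v ∈ X, Matrix.toLin' (w : M4) v ∈ X))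
      (LinearMap.ext fun v => Subtype.ext (by
        rw [Module.End.pow_restrict]
        show ((Matrix.toLin' (w : M4)) ^ 5) (v : V4) = _
        rw [mulVec_end_pow, hw, Units.val_one, Matrix.toLin'_one]
        rfl))
      (fun v hv => Subtype.ext (hnofix t ht v (hX v.2) (by
        rw [hW]; exact congrArg Subtype.val hv)))
    rw [h1, pow_one] at hd
    exact hq5 hd
  have hKne : ∀ t, (t = s ∨ t = -1 - s) → K t ≠ ⊥ := by
    intro t ht e0
    have hσt : σ t = s ∨ σ t = -1 - s := by rcases ht with rfl | rfl; exacts [Or.inr hσs, Or.inl hss]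
    have e1 : K (σ t) = ⊥ := (Submodule.eq_bot_iff _).mpr fun x hx => hperp _ hσt x hx fun y hy => by
      rw [hσ.involutive, e0, Submodule.mem_bot] at hy
      rw [hy]; simp [hσ.hermForm_eq]
    refine hw1 (Units.ext (Matrix.ext_of_mulVec_single fun i => ?_))
    obtain ⟨a, b, c, ha, hb, hc, e⟩ := hdecomp (Pi.single i 1)
    have hz : a = 0 ∧ b = 0 := by
      rcases ht with rfl | rfl
      · rw [hσs] at e1; rw [e0] at ha; rw [e1] at hb
        exact ⟨(Submodule.mem_bot F).mp ha, (Submodule.mem_bot F).mp hb⟩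
      · rw [hss] at e1; rw [e1] at ha; rw [e0] at hb
        exact ⟨(Submodule.mem_bot F).mp ha, (Submodule.mem_bot F).mp hb⟩
    rw [e, hz.1, hz.2, zero_add, zero_add, ← hW, hc, Units.val_one, Matrix.one_mulVec]
  have hdisj : Disjoint (K s) (K (-1 - s)) := by
    rw [Submodule.disjoint_def]
    intro v hv hv'
    rw [hK] at hv hv'
    rw [hv] at hv'
    exact (smul_eq_zero.mp (show (s - (-1 - s)) • v = 0 by rw [sub_smul, hv', sub_self])).resolve_left
      (sub_ne_zero.mpr hsne)
  have hd1 := hdim s (Or.inl rfl) _ le_rfl (hKne s (Or.inl rfl)) (hwK s)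
  have hd2 := hdim (-1 - s) (Or.inr rfl) _ le_rfl (hKne _ (Or.inr rfl)) (hwK _)
  have hsum := Submodule.finrank_sup_add_finrank_inf_eq (K s) (K (-1 - s))
  rw [hdisj.eq_bot, finrank_bot] at hsum
  have hle := Submodule.finrank_le (K s ⊔ K (-1 - s))
  rw [Module.finrank_fintype_fun_eq_card, Fintype.card_fin] at hle
  have htop : K s ⊔ K (-1 - s) = ⊤ := Submodule.eq_top_of_finrank_eq (by
    rw [Module.finrank_fintype_fun_eq_card, Fintype.card_fin]; omega)
  have hu' : ∀ t, ∀ v ∈ K t, (u : M4) *ᵥ v ∈ K t := fun t v hv => by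
    have hcomm : M * (u : M4) = (u : M4) * M := by
      have c0 : Commute (u : M4) W := by
        rw [hW]; exact congrArg (fun t : GL (Fin 4) F => (t : M4)) hc
      rw [hM]
      exact (c0.add_right (((c0.mul_right c0).mul_right c0).mul_right c0)).eq.symm
    rw [hK] at hv ⊢
    rw [Matrix.mulVec_mulVec, hcomm, ← Matrix.mulVec_mulVec, hv, Matrix.mulVec_smul]
  have hwlin : ∀ v ∈ K s, Matrix.toLin' (w : M4) v ∈ K s := fun v hv => by
    rw [Matrix.toLin'_apply]; exact hW ▸ hwK s v hv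
  have hulin : ∀ v ∈ K s, Matrix.toLin' (u : M4) v ∈ K s := fun v hv => by
    rw [Matrix.toLin'_apply]; exact hu' s v hv
  obtain ⟨v0, hv0, hv00⟩ := Submodule.exists_mem_ne_zero_of_ne_bot (hKne s (Or.inl rfl))
  have hpow : ∀ (g : GL (Fin 4) F) (hg : ∀ v ∈ K s, (Matrix.toLin' (g : M4)) v ∈ K s) (n : ℕ) (v : K s),
      ((((Matrix.toLin' (g : M4)).restrict hg : Module.End F (K s)) ^ n) v : V4) =
        ((g ^ n : GL (Fin 4) F) : M4) *ᵥ v := by
    intro g hg n v
    rw [Module.End.pow_restrict]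
    show ((Matrix.toLin' (g : M4)) ^ n) (v : V4) = _
    rw [mulVec_end_pow, Matrix.toLin'_apply]
  obtain ⟨i, -, hi⟩ := commutant_root (r := 5) (by norm_num) ((Matrix.toLin' (w : M4)).restrict hwlin)
    (LinearMap.ext fun v => Subtype.ext (by rw [hpow w hwlin, hw, Units.val_one, Matrix.one_mulVec]; rfl))
    (fun e => hv00 (hnofix s (Or.inl rfl) v0 hv0 (by
      rw [hW]; exact congrArg Subtype.val (LinearMap.congr_fun e ⟨v0, hv0⟩))))
    (v := (⟨v0, hv0⟩ : K s)) (fun e => hv00 (congrArg Subtype.val e))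
    (fun X hX => by
      by_cases hb : X = ⊥
      · exact Or.inl hb
      refine Or.inr ?_
      have h2' := hdim s (Or.inl rfl) (X.map (K s).subtype) (Submodule.map_subtype_le _ _) (fun e => hb (by
          rwa [← Submodule.map_bot (K s).subtype,
            (Submodule.map_injective_of_injective (K s).subtype_injective).eq_iff] at e))
        (by rintro _ ⟨y, hy, rfl⟩; exact ⟨_, hX y hy, by rw [hW]; rfl⟩)
      rw [(Submodule.equivMapOfInjective (K s).subtype (K s).subtype_injective X).finrank_eq.symm] at h2'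
      refine Submodule.eq_top_of_finrank_eq ?_
      have := X.finrank_le
      omega)
    (u := (Matrix.toLin' (u : M4)).restrict hulin)
    (LinearMap.ext fun v => Subtype.ext (by rw [hpow u hulin, hu, Units.val_one, Matrix.one_mulVec]; rfl))
    (LinearMap.ext fun v => Subtype.ext (by
      show (u : M4) *ᵥ ((w : M4) *ᵥ (v : V4)) = (w : M4) *ᵥ ((u : M4) *ᵥ (v : V4))
      rw [Matrix.mulVec_mulVec, Matrix.mulVec_mulVec, ← Units.val_mul, hc, Units.val_mul]))
  have hfixK : ∀ v ∈ K s, (u : M4) *ᵥ v = ((w ^ i : GL (Fin 4) F) : M4) *ᵥ v := fun v hv => by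
    have := congrArg Subtype.val (LinearMap.congr_fun hi ⟨v, hv⟩)
    rw [hpow w hwlin] at this
    exact this
  refine ⟨i, Units.ext (Matrix.ext_of_mulVec_single fun k => ?_)⟩
  obtain ⟨x, hx, y, hy, e⟩ := Submodule.mem_sup.mp (htop ▸ Submodule.mem_top : (Pi.single k 1 : V4) ∈ K s ⊔ K (-1 - s))
  rw [← e, Matrix.mulVec_add, Matrix.mulVec_add, hfixK x hx]
  congr 1
  have hwi : ∀ (n : ℕ) t, ∀ v ∈ K t, ((w ^ n : GL (Fin 4) F) : M4) *ᵥ v ∈ K t := by
    intro n t
    induction n with
    | zero => intro v hv; simpa using hv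
    | succ n ih =>
      intro v hv
      rw [pow_succ', Units.val_mul, ← Matrix.mulVec_mulVec]
      exact hW ▸ hwK t _ (ih v hv)
  refine sub_eq_zero.mp (hperp (-1 - s) (Or.inr rfl) _ (sub_mem (hu' _ y hy) (hwi i _ y hy)) fun z hz => ?_)
  rw [hss] at hz
  -- `u` and the power agree on `K s`, and both are isometries
  obtain ⟨z', hz', rfl⟩ : ∃ z' ∈ K s, (u : M4) *ᵥ z' = z := by
    refine ⟨((u ^ 4 : GL (Fin 4) F) : M4) *ᵥ z, ?_, ?_⟩
    · have : ∀ n : ℕ, ((u ^ n : GL (Fin 4) F) : M4) *ᵥ z ∈ K s := by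
        intro n
        induction n with
        | zero => simpa using hz
        | succ n ih => rw [pow_succ', Units.val_mul, ← Matrix.mulVec_mulVec]; exact hu' s _ ih
      exact this 4
    · rw [Matrix.mulVec_mulVec, ← Units.val_mul, ← pow_succ', hu, Units.val_one, Matrix.one_mulVec]
  have e1 := mem_GU_iff.mp huU y z'
  have e2 := mem_GU_iff.mp (pow_mem hwU i) y z'
  rw [sub_eq_add_neg, ← neg_one_smul F, hsf.add_left, hsf.smul_left, e1]
  rw [hfixK z' hz']
  rw [e2]
  ring

end Cfsg.Agent.Classical.SymFour
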