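import Cfsg.Agent.Lib.Classical.FieldExt.Symp.Matrix
import Cfsg.Agent.Lib.Classical.Elusive.CharTwoForms
import Cfsg.Agent.Lib.Classical.Elusive.SympSetup
import Cfsg.Agent.Lib.Lead.SympDerangement

/-!
# The index of a symplectic group over an extension field, and its normaliser
-/

set_option autoImplicit false
set_option linter.style.haveILetI false
set_option linter.unusedSectionVars false

universe u

namespace Cfsg.Agent.Classical.SympExtension

open Matrix Cfsg Cfsg.Geo Cfsg.Agent.Classical Cfsg.Agent.Classical.FieldExt Cfsg.Agent.Classical.FieldExt.Symp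

variable {F : Type u} [Field F] [Fintype F] {d k : ℕ}

/-- The centraliser of a subalgebra. -/
def cent (K : Subalgebra F (Matrix (Fin d ⊕ Fin d) (Fin d ⊕ Fin d) F)) : Subgroup (GL (Fin d ⊕ Fin d) F) where
  carrier := {g | ∀ a ∈ K, (g : Matrix (Fin d ⊕ Fin d) (Fin d ⊕ Fin d) F) * a = a * g}
  mul_mem' := fun {g g'} h h' a ha => by
    rw [Units.val_mul, mul_assoc, h' a ha, ← mul_assoc, h a ha, mul_assoc]
  one_mem' := fun a _ => by simp
  inv_mem' := fun {g} h a ha => by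
    rw [← one_mul (a * _), ← Units.inv_mul g, mul_assoc _ (g : Matrix (Fin d ⊕ Fin d) (Fin d ⊕ Fin d) F),
      ← mul_assoc (g : Matrix (Fin d ⊕ Fin d) (Fin d ⊕ Fin d) F), h a ha, mul_assoc a, Units.mul_inv, mul_one]

theorem cent_le (K : Subalgebra F (Matrix (Fin d ⊕ Fin d) (Fin d ⊕ Fin d) F)) : cent K ≤ subalgebraNormalizer K := by
  intro g hg a
  constructor
  · intro ha
    rw [hg a ha, mul_assoc, Units.mul_inv, mul_one]
    exact ha
  · intro ha
    have e := hg _ ha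
    rw [mul_assoc _ ((g⁻¹ : GL (Fin d ⊕ Fin d) F) : Matrix (Fin d ⊕ Fin d) (Fin d ⊕ Fin d) F), Units.inv_mul, mul_one]
      at e
    have e' : a = (g : Matrix (Fin d ⊕ Fin d) (Fin d ⊕ Fin d) F) * a *
        ((g⁻¹ : GL (Fin d ⊕ Fin d) F) : Matrix (Fin d ⊕ Fin d) (Fin d ⊕ Fin d) F) := by
      refine (Units.isUnit g).mul_left_cancel ?_
      exact e.symm
    exact e' ▸ ha

/-- The centraliser is a symplectic group over the extension field. -/
theorem card_cent (hd : 1 ≤ d) {K : Subalgebra F (Matrix (Fin d ⊕ Fin d) (Fin d ⊕ Fin d) F)}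
    (hK : IsFieldSubalgebra k K) (hsa : IsSelfAdjointFor (sympForm d F) K)
    (halt : ∀ a ∈ K, ∀ v : (Fin d ⊕ Fin d → F), sympForm d F (a *ᵥ v) v = 0) :
    ∃ e, d = k * e ∧ Nat.card ↥((cent K).subgroupOf (spGL d F)) = Fintype.card F ^ (k * e ^ 2) *
      ∏ i ∈ Finset.range e, (Fintype.card F ^ (2 * (k * (i + 1))) - 1) := by
  classical
  haveI : Finite K := Finite.of_injective _ Subtype.val_injective
  letI : CommRing K := { K.toRing with mul_comm := fun a b => Subtype.ext (hK.comm a a.2 b b.2) }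
  haveI : Nonempty (Fin d ⊕ Fin d) := ⟨Sum.inl ⟨0, by omega⟩⟩
  haveI : Nontrivial K := ⟨⟨0, 1, fun e => zero_ne_one (congrArg Subtype.val e)⟩⟩
  haveI : NoZeroDivisors K := ⟨fun {a b} hab =>
    (fieldSubalgebra_mul_eq_zero hK a.2 (congrArg Subtype.val hab)).imp (fun h => Subtype.ext h) fun h => Subtype.ext h⟩
  haveI : IsDomain K := NoZeroDivisors.to_isDomain _
  letI : Field K := (Finite.isDomain_to_isField K).toField
  letI : Module K (Fin d ⊕ Fin d → F) :=
    { smul := fun k v => (k : Matrix (Fin d ⊕ Fin d) (Fin d ⊕ Fin d) F) *ᵥ v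
      one_smul := fun v => Matrix.one_mulVec v
      mul_smul := fun a b v => (Matrix.mulVec_mulVec v _ _).symm
      smul_zero := fun a => Matrix.mulVec_zero _
      smul_add := fun a u v => Matrix.mulVec_add _ u v
      add_smul := fun a b v => Matrix.add_mulVec _ _ v
      zero_smul := fun v => Matrix.zero_mulVec v }
  have hsmul : ∀ (k₀ : K) (v : Fin d ⊕ Fin d → F),
      k₀ • v = (k₀ : Matrix (Fin d ⊕ Fin d) (Fin d ⊕ Fin d) F) *ᵥ v := fun _ _ => rfl
  haveI : IsScalarTower F K (Fin d ⊕ Fin d → F) :=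
    ⟨fun a k v => Matrix.smul_mulVec a (k : Matrix (Fin d ⊕ Fin d) (Fin d ⊕ Fin d) F) v⟩
  haveI : Module.Finite K (Fin d ⊕ Fin d → F) := Module.Finite.of_finite
  haveI := finiteDimensional (F := F) (E := K)
  have hrk : Module.finrank F K = k := hK.finrank_eq
  have hS := sympForm_isSymplectic (m := d) (F := F)
  have hnd := traceForm_nondegenerate F K
  -- the form over the big field
  have hex : ∀ u v : Fin d ⊕ Fin d → F, ∃ b : K, ∀ c : K, Algebra.trace F K (c * b) = sympForm d F (c • u) v := by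
    intro u v
    let l : Module.Dual F K :=
      { toFun := fun c => sympForm d F (c • u) v
        map_add' := fun a b => by rw [add_smul, hS.bilinear.add_left]
        map_smul' := fun a b => by rw [RingHom.id_apply, smul_assoc, hS.bilinear.smul_left, smul_eq_mul] }
    refine ⟨(LinearMap.BilinForm.toDual (Algebra.traceForm F K) hnd).symm l, fun c => ?_⟩
    have h := LinearMap.BilinForm.apply_toDual_symm_apply (hB := hnd) l c
    rw [Algebra.traceForm_apply, mul_comm] at h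
    exact h
  choose b hb using hex
  have huniq : ∀ x y : K, (∀ c, Algebra.trace F K (c * x) = Algebra.trace F K (c * y)) → x = y := fun x y h => by
    refine sub_eq_zero.mp (hnd.2 _ fun c => ?_)
    rw [Algebra.traceForm_apply, mul_sub, map_sub, h, sub_self]
  have hsa' : ∀ (k₀ : K) (u v : Fin d ⊕ Fin d → F), sympForm d F (k₀ • u) v = sympForm d F u (k₀ • v) :=
    fun k₀ u v => hsa k₀ k₀.2 u v
  let φ : (Fin d ⊕ Fin d → F) →ₗ[K] (Fin d ⊕ Fin d → F) →ₗ[K] K := LinearMap.mk₂ K b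
    (fun u u' v => huniq _ _ fun c => by
      rw [mul_add, map_add, hb, hb, hb, smul_add, hS.bilinear.add_left])
    (fun d u v => huniq _ _ fun c => by rw [hb, smul_smul, smul_eq_mul, ← mul_assoc, hb])
    (fun u v v' => huniq _ _ fun c => by rw [mul_add, map_add, hb, hb, hb, hS.bilinear.add_right])
    (fun d u v => huniq _ _ fun c => by
      rw [hb, ← hsa' d, smul_smul, smul_eq_mul, ← mul_assoc, hb, mul_comm d c])
  have hφb : ∀ u v, φ u v = b u v := fun u v => rfl
  have htr : ∀ u v, Algebra.trace F K (φ u v) = sympForm d F u v := fun u v => by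
    have h := hb u v 1
    rwa [one_mul, one_smul] at h
  have hφ : IsSymp φ := by
    refine ⟨fun x => huniq _ _ fun c => ?_, fun x h => ?_⟩
    · rw [mul_zero, map_zero, hφb, hb, hsmul]
      exact halt c c.2 x
    · by_contra hx
      obtain ⟨y, hy⟩ := (hS.nondegenerate x hx).2
      exact hy (by rw [← htr, h, map_zero])
  haveI : FiniteDimensional K (Fin d ⊕ Fin d → F) := Module.Finite.of_finite
  have hφ' : SpCount.IsAltND φ := ⟨hφ.alt, hφ.nondeg⟩
  obtain ⟨e, he⟩ := Lead.SympDerangement.even_finrank _ hφ' le_rfl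
  have hde : d = k * e := by
    have h5 := Module.finrank_mul_finrank F K (Fin d ⊕ Fin d → F)
    rw [hrk, he, Module.finrank_fintype_fun_eq_card, Fintype.card_sum, Fintype.card_fin, Nat.mul_add] at h5
    omega
  refine ⟨e, hde, ?_⟩
  have hV : Module.finrank K (Fin d ⊕ Fin d → F) = 2 * e := by rw [he, two_mul]
  letI : Fintype K := Fintype.ofFinite K
  obtain ⟨f₀⟩ := SpCount.exists_fam e hφ' hV
  let b₀ := SpCount.famBasis hφ' hV f₀
  have hb₀ : ∀ i, b₀ i = f₀.1 i := fun i => Module.Basis.mk_apply _ _ i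
  have hcg : ∀ (g : ↥((cent K).subgroupOf (spGL d F))), ∀ a ∈ K,
      (g.1.1 : Matrix (Fin d ⊕ Fin d) (Fin d ⊕ Fin d) F) * a = a * g.1.1 := fun g => g.2
  have hφg : ∀ g : ↥((cent K).subgroupOf (spGL d F)), ∀ u v,
      φ ((g.1.1 : Matrix (Fin d ⊕ Fin d) (Fin d ⊕ Fin d) F) *ᵥ u)
        ((g.1.1 : Matrix (Fin d ⊕ Fin d) (Fin d ⊕ Fin d) F) *ᵥ v) = φ u v := fun g u v => by
    refine huniq _ _ fun c => ?_
    rw [hφb, hφb, hb, hb, hsmul, hsmul, Matrix.mulVec_mulVec,
      ← hcg g c c.2,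
      ← Matrix.mulVec_mulVec]
    exact g.1.2 _ _
  have hcard : Nat.card ↥((cent K).subgroupOf (spGL d F)) = Nat.card (SpCount.SpFam φ e) := by
    refine Nat.card_eq_of_bijective (fun g =>
      ⟨fun i => (g.1.1 : Matrix (Fin d ⊕ Fin d) (Fin d ⊕ Fin d) F) *ᵥ f₀.1 i, fun i j => by
        rw [hφg]; exact f₀.2 i j⟩) ⟨fun g g' h => ?_, fun f => ?_⟩
    · let L : ↥((cent K).subgroupOf (spGL d F)) → ((Fin d ⊕ Fin d → F) →ₗ[K] (Fin d ⊕ Fin d → F)) := fun g =>
        { toFun := fun v => (g.1.1 : Matrix (Fin d ⊕ Fin d) (Fin d ⊕ Fin d) F) *ᵥ v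
          map_add' := Matrix.mulVec_add _
          map_smul' := fun c v => by
            rw [RingHom.id_apply, hsmul, hsmul, Matrix.mulVec_mulVec, Matrix.mulVec_mulVec,
              hcg g c c.2] }
      have e1 : L g = L g' := b₀.ext fun i => by
        rw [hb₀]
        exact congrFun (congrArg Subtype.val h) i
      refine Subtype.ext (Subtype.ext (Units.ext (Matrix.ext_of_mulVec_single fun i => ?_)))
      exact LinearMap.congr_fun e1 (Pi.single i 1)
    · let T := b₀.equiv (SpCount.famBasis hφ' hV f) (Equiv.refl _)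
      have hT : ∀ i, T (f₀.1 i) = f.1 i := fun i => by
        rw [← hb₀, Module.Basis.equiv_apply, Equiv.refl_apply]
        exact Module.Basis.mk_apply _ _ i
      have hTφ : ∀ u v, φ (T u) (T v) = φ u v := by
        have e1 : φ.compl₁₂ T.toLinearMap T.toLinearMap = φ := by
          refine LinearMap.ext_basis b₀ b₀ fun i j => ?_
          rw [hb₀, hb₀, LinearMap.compl₁₂_apply, LinearEquiv.coe_coe, hT, hT, f.2, f₀.2]
        intro u v
        rw [← LinearMap.congr_fun (LinearMap.congr_fun e1 u) v, LinearMap.compl₁₂_apply, LinearEquiv.coe_coe]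
      let TF := T.restrictScalars F
      let x : GL (Fin d ⊕ Fin d) F :=
        ⟨LinearMap.toMatrix' TF.toLinearMap, LinearMap.toMatrix' TF.symm.toLinearMap,
          by rw [← LinearMap.toMatrix'_comp, TF.comp_symm, LinearMap.toMatrix'_id],
          by rw [← LinearMap.toMatrix'_comp, TF.symm_comp, LinearMap.toMatrix'_id]⟩
      have hx : ∀ v, (x : Matrix (Fin d ⊕ Fin d) (Fin d ⊕ Fin d) F) *ᵥ v = T v := fun v => by
        show LinearMap.toMatrix' TF.toLinearMap *ᵥ v = _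
        rw [LinearMap.toMatrix'_mulVec]
        rfl
      refine ⟨⟨⟨x, fun u v => ?_⟩, fun a ha => ?_⟩, Subtype.ext (funext fun i => (hx _).trans (hT i))⟩
      · show sympForm d F ((x : Matrix (Fin d ⊕ Fin d) (Fin d ⊕ Fin d) F) *ᵥ u)
          ((x : Matrix (Fin d ⊕ Fin d) (Fin d ⊕ Fin d) F) *ᵥ v) = sympForm d F u v
        rw [hx, hx, ← htr, hTφ, htr]
      · show (x : Matrix (Fin d ⊕ Fin d) (Fin d ⊕ Fin d) F) * a = a * x
        refine Matrix.ext_of_mulVec_single fun i => ?_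
        rw [← Matrix.mulVec_mulVec, ← Matrix.mulVec_mulVec, hx, hx, ← hsmul ⟨a, ha⟩, map_smul, hsmul]
  rw [hcard, SpCount.card_fam e hφ' hV, Module.card_eq_pow_finrank (K := F) (V := K), hrk, ← pow_mul]
  congr 1
  refine Finset.prod_congr rfl fun i _ => ?_
  rw [← pow_mul, show k * (2 * (i + 1)) = 2 * (k * (i + 1)) by ring]

/-- Divisors of the index of the normaliser. -/
theorem prime_dvd_index (hd : 1 ≤ d) {K : Subalgebra F (Matrix (Fin d ⊕ Fin d) (Fin d ⊕ Fin d) F)}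
    (hK : IsFieldSubalgebra k K) (hsa : IsSelfAdjointFor (sympForm d F) K)
    (halt : ∀ a ∈ K, ∀ v : (Fin d ⊕ Fin d → F), sympForm d F (a *ᵥ v) v = 0) {r : ℕ} (hr : r.Prime)
    (hdvd : r ∣ (subalgebraNormalizer K).relIndex (spGL d F)) :
    k ∣ d ∧ (r ∣ Fintype.card F ∨ ∃ j, 1 ≤ j ∧ j ≤ d ∧ ¬ k ∣ j ∧ r ∣ Fintype.card F ^ (2 * j) - 1) := by
  classical
  obtain ⟨e, hde, hc⟩ := card_cent hd hK hsa halt
  refine ⟨⟨e, hde⟩, ?_⟩
  have hk : 0 < k := by
    rcases Nat.eq_zero_or_pos k with h | h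
    · rw [h, zero_mul] at hde; omega
    · exact h
  set q := Fintype.card F
  have hm := Subgroup.card_mul_index ((cent K).subgroupOf (spGL d F))
  rw [hc, CharTwoQuad.card_spGL, ← Finset.prod_filter_mul_prod_filter_not (Finset.range d) (fun j => k ∣ j + 1)] at hm
  have himg : ∏ j ∈ (Finset.range d).filter (fun j => k ∣ j + 1), (q ^ (2 * (j + 1)) - 1) =
      ∏ i ∈ Finset.range e, (q ^ (2 * (k * (i + 1))) - 1) := by
    symm
    refine Finset.prod_nbij (fun i => k * (i + 1) - 1) (fun i hi => ?_) (fun i hi i' hi' h => ?_) (fun j hj => ?_)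
      fun i hi => ?_
    · rw [Finset.mem_range] at hi
      have h1 : 1 ≤ k * (i + 1) := Nat.mul_pos hk (Nat.succ_pos i)
      have h2 : k * (i + 1) ≤ k * e := Nat.mul_le_mul_left _ hi
      rw [Finset.mem_filter, Finset.mem_range, Nat.sub_add_cancel h1]
      exact ⟨by omega, dvd_mul_right _ _⟩
    · have h1 : 1 ≤ k * (i + 1) := Nat.mul_pos hk (Nat.succ_pos i)
      have h2 : 1 ≤ k * (i' + 1) := Nat.mul_pos hk (Nat.succ_pos i')
      have h3 : k * (i + 1) = k * (i' + 1) := by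
        change k * (i + 1) - 1 = k * (i' + 1) - 1 at h
        omega
      have := Nat.eq_of_mul_eq_mul_left hk h3
      omega
    · rw [Finset.mem_coe, Finset.mem_filter, Finset.mem_range] at hj
      obtain ⟨hj, w, hw⟩ := hj
      have hw0 : 0 < w := Nat.pos_of_ne_zero fun h => by rw [h, mul_zero] at hw; omega
      have hwe : w ≤ e := Nat.le_of_mul_le_mul_left (by omega) hk
      refine ⟨w - 1, Finset.mem_coe.mpr (Finset.mem_range.mpr (by omega)), ?_⟩
      show k * (w - 1 + 1) - 1 = j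
      rw [Nat.sub_add_cancel hw0]
      omega
    · rw [Nat.sub_add_cancel (Nat.mul_pos hk (Nat.succ_pos i))]
  rw [himg] at hm
  have hle : k * e ^ 2 ≤ d ^ 2 := by
    rw [hde, mul_pow, pow_two k, mul_assoc k k]
    exact Nat.mul_le_mul_left _ (Nat.le_mul_of_pos_left _ hk)
  rw [← Nat.add_sub_cancel' hle, pow_add] at hm
  have hm' : (Fintype.card F ^ (k * e ^ 2) * ∏ i ∈ Finset.range e, (q ^ (2 * (k * (i + 1))) - 1)) *
      ((cent K).subgroupOf (spGL d F)).index =
      (Fintype.card F ^ (k * e ^ 2) * ∏ i ∈ Finset.range e, (q ^ (2 * (k * (i + 1))) - 1)) *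
        (q ^ (d ^ 2 - k * e ^ 2) * ∏ j ∈ (Finset.range d).filter (fun j => ¬ k ∣ j + 1), (q ^ (2 * (j + 1)) - 1)) := by
    rw [hm]; ring
  have hind := Nat.eq_of_mul_eq_mul_left (by rw [← hc]; exact Nat.card_pos) hm'
  have hdiv := hdvd.trans ((Subgroup.relIndex_dvd_of_le_left _ (cent_le K)).trans (dvd_of_eq hind))
  rcases hr.dvd_mul.mp hdiv with h | h
  · exact Or.inl (hr.dvd_of_dvd_pow h)
  · obtain ⟨j, hj, h'⟩ := (Prime.dvd_finset_prod_iff hr.prime _).mp h
    rw [Finset.mem_filter, Finset.mem_range] at hj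
    exact Or.inr ⟨j + 1, by omega, by omega, hj.2, h'⟩

variable {K : Subalgebra F (Matrix (Fin d ⊕ Fin d) (Fin d ⊕ Fin d) F)}

/-- An element with a fixed space of more than half the dimension centralises the field it normalises. -/
theorem commute_of_fix (hK : IsFieldSubalgebra k K) {Y : GL (Fin d ⊕ Fin d) F} (hY : Y ∈ subalgebraNormalizer K)
    (W : Submodule F (Fin d ⊕ Fin d → F)) (hW : d < Module.finrank F W)
    (hfix : ∀ w ∈ W, (Y : Matrix (Fin d ⊕ Fin d) (Fin d ⊕ Fin d) F) *ᵥ w = w) : Y ∈ cent K := by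
  classical
  intro a ha
  by_contra hne
  have ha' : (Y : Matrix (Fin d ⊕ Fin d) (Fin d ⊕ Fin d) F) * a *
      ((Y⁻¹ : GL (Fin d ⊕ Fin d) F) : Matrix (Fin d ⊕ Fin d) (Fin d ⊕ Fin d) F) ∈ K := (hY a).mp ha
  set a' := (Y : Matrix (Fin d ⊕ Fin d) (Fin d ⊕ Fin d) F) * a *
      ((Y⁻¹ : GL (Fin d ⊕ Fin d) F) : Matrix (Fin d ⊕ Fin d) (Fin d ⊕ Fin d) F) with ha'def
  have hYa : (Y : Matrix (Fin d ⊕ Fin d) (Fin d ⊕ Fin d) F) * a = a' * Y := by
    rw [ha'def, mul_assoc _ ((Y⁻¹ : GL (Fin d ⊕ Fin d) F) : Matrix (Fin d ⊕ Fin d) (Fin d ⊕ Fin d) F),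
      Units.inv_mul, mul_one]
  have hne' : a' - a ≠ 0 := fun h => hne (by rw [hYa, sub_eq_zero.mp h])
  obtain ⟨b, -, hb⟩ := hK.inv _ (K.sub_mem ha' ha) hne'
  have ha0 : a ≠ 0 := fun h => hne (by rw [h, mul_zero, zero_mul])
  obtain ⟨a₁, -, ha₁⟩ := hK.inv a ha ha0
  let L : (Fin d ⊕ Fin d → F) ≃ₗ[F] (Fin d ⊕ Fin d → F) :=
    LinearEquiv.ofLinearMap (Matrix.toLin' a) (Matrix.toLin' a₁)
      (by rw [← Matrix.toLin'_mul, ha₁, Matrix.toLin'_one])
      (by rw [← Matrix.toLin'_mul, mul_eq_one_comm.mp ha₁, Matrix.toLin'_one])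
  have hd' : Module.finrank F (W.map L.symm.toLinearMap) = Module.finrank F W := LinearEquiv.finrank_map_eq L.symm W
  obtain ⟨v, hv, hv0⟩ : ∃ v ∈ W ⊓ W.map L.symm.toLinearMap, v ≠ 0 := by
    refine Submodule.exists_mem_ne_zero_of_ne_bot fun h => ?_
    have h1 := Submodule.finrank_sup_add_finrank_inf_eq W (W.map L.symm.toLinearMap)
    rw [h, finrank_bot, hd'] at h1
    have h2 := Submodule.finrank_le (W ⊔ W.map L.symm.toLinearMap)
    rw [Module.finrank_fintype_fun_eq_card, Fintype.card_sum, Fintype.card_fin] at h2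
    omega
  obtain ⟨hvW, w, hw, hwv⟩ := hv
  have hav : a *ᵥ v = w := by
    rw [← hwv]
    show a *ᵥ (a₁ *ᵥ w) = w
    rw [Matrix.mulVec_mulVec, ha₁, Matrix.one_mulVec]
  have h1 : (Y : Matrix (Fin d ⊕ Fin d) (Fin d ⊕ Fin d) F) *ᵥ (a *ᵥ v) = a *ᵥ v := by rw [hav, hfix w hw]
  rw [Matrix.mulVec_mulVec, hYa, ← Matrix.mulVec_mulVec, hfix v hvW] at h1
  apply hv0
  rw [← Matrix.one_mulVec v, ← mul_eq_one_comm.mp hb, ← Matrix.mulVec_mulVec, Matrix.sub_mulVec, h1, sub_self,
    Matrix.mulVec_zero]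

/-- An element of prime order different from the degree centralises the field it normalises. -/
theorem commute_of_order (hd : 1 ≤ d) (hk : k.Prime) (hK : IsFieldSubalgebra k K) {Y : GL (Fin d ⊕ Fin d) F}
    (hY : Y ∈ subalgebraNormalizer K) {r : ℕ} (hr : r.Prime) (hYr : Y ^ r = 1) (hrk : r ≠ k) : Y ∈ cent K := by
  classical
  haveI : Finite K := Finite.of_injective _ Subtype.val_injective
  letI : CommRing K := { K.toRing with mul_comm := fun a b => Subtype.ext (hK.comm a a.2 b b.2) }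
  haveI : Nonempty (Fin d ⊕ Fin d) := ⟨Sum.inl ⟨0, by omega⟩⟩
  haveI : Nontrivial K := ⟨⟨0, 1, fun e => zero_ne_one (congrArg Subtype.val e)⟩⟩
  haveI : NoZeroDivisors K := ⟨fun {a b} hab =>
    (fieldSubalgebra_mul_eq_zero hK a.2 (congrArg Subtype.val hab)).imp (fun h => Subtype.ext h) fun h => Subtype.ext h⟩
  haveI : IsDomain K := NoZeroDivisors.to_isDomain _
  letI : Field K := (Finite.isDomain_to_isField K).toField
  haveI := finiteDimensional (F := F) (E := K)
  let σ₀ : K →ₐ[F] K :=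
    { toFun := fun a => ⟨_, (hY a).mp a.2⟩
      map_one' := Subtype.ext (by simp)
      map_mul' := fun a b => Subtype.ext (by simp [mul_assoc])
      map_zero' := Subtype.ext (by simp)
      map_add' := fun a b => Subtype.ext (by simp [mul_add, add_mul])
      commutes' := fun c => Subtype.ext (by
        simp [Algebra.algebraMap_eq_smul_one, Matrix.mul_smul, Matrix.smul_mul]) }
  let σ : K ≃ₐ[F] K := AlgEquiv.ofBijective σ₀
    ⟨σ₀.toRingHom.injective, Finite.surjective_of_injective σ₀.toRingHom.injective⟩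
  have hit : ∀ (j : ℕ) (a : K), ((σ ^ j) a).1 = ((Y ^ j : GL (Fin d ⊕ Fin d) F) :
      Matrix (Fin d ⊕ Fin d) (Fin d ⊕ Fin d) F) * a.1 *
      (((Y ^ j)⁻¹ : GL (Fin d ⊕ Fin d) F) : Matrix (Fin d ⊕ Fin d) (Fin d ⊕ Fin d) F) := by
    intro j
    induction j with
    | zero => intro a; simp
    | succ j ih =>
      intro a
      rw [pow_succ' σ, AlgEquiv.mul_apply]
      show (Y : Matrix (Fin d ⊕ Fin d) (Fin d ⊕ Fin d) F) * ((σ ^ j) a).1 *
        ((Y⁻¹ : GL (Fin d ⊕ Fin d) F) : Matrix (Fin d ⊕ Fin d) (Fin d ⊕ Fin d) F) = _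
      rw [ih, pow_succ' Y, _root_.mul_inv_rev, Units.val_mul, Units.val_mul]
      simp only [mul_assoc]
  have hσr : σ ^ r = 1 := AlgEquiv.ext fun a => Subtype.ext (by rw [hit, hYr]; simp)
  have hcardAut : Nat.card (K ≃ₐ[F] K) = k := by
    rw [IsGalois.card_aut_eq_finrank, hK.finrank_eq]
  have h1 : orderOf σ ∣ r := orderOf_dvd_of_pow_eq_one hσr
  have h2 : orderOf σ ∣ k := hcardAut ▸ orderOf_dvd_natCard σ
  have hσ1 : σ = 1 := orderOf_eq_one_iff.mp (Nat.eq_one_of_dvd_coprimes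
    ((Nat.coprime_primes hr hk).mpr hrk) h1 h2)
  intro a ha
  have h3 : (σ ⟨a, ha⟩).1 = a := by rw [hσ1]; rfl
  change (Y : Matrix (Fin d ⊕ Fin d) (Fin d ⊕ Fin d) F) * a *
    ((Y⁻¹ : GL (Fin d ⊕ Fin d) F) : Matrix (Fin d ⊕ Fin d) (Fin d ⊕ Fin d) F) = a at h3
  conv_rhs => rw [← h3]
  rw [mul_assoc _ ((Y⁻¹ : GL (Fin d ⊕ Fin d) F) : Matrix (Fin d ⊕ Fin d) (Fin d ⊕ Fin d) F), Units.inv_mul, mul_one]

end Cfsg.Agent.Classical.SympExtension
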