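import Cfsg.Agent.Lib.Classical.Elusive.TensorSpO
import Cfsg.Agent.Lib.Classical.Elusive.OrthSimDer
import Cfsg.Agent.Lib.Classical.Elusive.InvolModels

/-!
# Prime order elements and tensor decompositions `GL_a ⊗ GL_b`
-/

set_option autoImplicit false
set_option linter.unusedSectionVars false
set_option linter.style.haveILetI false
set_option maxHeartbeats 400000

namespace Cfsg.Agent.Classical.Elusive.TensorGL

open Matrix Module
open Cfsg.Agent.Classical.Elusive.TensorSpO (rk rk_conj rk_kron_one rk_one_kron le_rk_kron moved_facts)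
open scoped Kronecker

universe u

variable {F : Type u} [Field F] {n a b : ℕ} (e : Fin n ≃ Fin a × Fin b) (P : GL (Fin n) F)

/-- Membership in the stabilizer of a decomposition. -/
theorem mem_iff (K : GL (Fin n) F) :
    K ∈ Cfsg.Geo.tensorProductSubgroup a b e P ↔ ∃ (A : GL (Fin a) F) (B : GL (Fin b) F),
      K.1 * P.1 = P.1 * ((A.1 ⊗ₖ B.1).submatrix e e) := by
  constructor
  · rintro ⟨_, ⟨g, ⟨A, B, hg⟩, rfl⟩, rfl⟩
    refine ⟨A, B, ?_⟩
    rw [← hg]
    simp only [MulEquiv.coe_toMonoidHom, MulAut.conj_apply, Units.val_mul]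
    rw [Units.inv_mul_cancel_right]
    rfl
  · rintro ⟨A, B, h⟩
    obtain ⟨g, hg⟩ : ∃ g : GL (Fin a × Fin b) F, g.1 = A.1 ⊗ₖ B.1 := by
      have h1 : (A.1 ⊗ₖ B.1) * ((A⁻¹ : GL (Fin a) F).1 ⊗ₖ (B⁻¹ : GL (Fin b) F).1) = 1 := by
        rw [← Matrix.mul_kronecker_mul, ← Units.val_mul, ← Units.val_mul, mul_inv_cancel, mul_inv_cancel,
          Units.val_one, Units.val_one, Matrix.one_kronecker_one]
      have h2 : ((A⁻¹ : GL (Fin a) F).1 ⊗ₖ (B⁻¹ : GL (Fin b) F).1) * (A.1 ⊗ₖ B.1) = 1 := by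
        rw [← Matrix.mul_kronecker_mul, ← Units.val_mul, ← Units.val_mul, inv_mul_cancel, inv_mul_cancel,
          Units.val_one, Units.val_one, Matrix.one_kronecker_one]
      exact ⟨⟨_, _, h1, h2⟩, rfl⟩
    refine ⟨_, ⟨g, ⟨A, B, hg⟩, rfl⟩, Units.ext ?_⟩
    simp only [MulEquiv.coe_toMonoidHom, MulAut.conj_apply, Units.val_mul]
    rw [show ((Cfsg.Geo.glReindex e.symm g : GL (Fin n) F)).1 = g.1.submatrix e e from rfl, hg, ← h, mul_assoc,
      ← Units.val_mul, mul_inv_cancel, Units.val_one, mul_one]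

/-- The moved spaces of a scaled element conjugate into the stabilizer. -/
theorem of_fix {x g : GL (Fin n) F} (h : g⁻¹ * x * g ∈ Cfsg.Geo.tensorProductSubgroup a b e P) :
    ∃ (A : Matrix (Fin a) (Fin a) F) (B : Matrix (Fin b) (Fin b) F),
      (∀ c : F, rk (Matrix.toLin' (c • x.1)) = rk (Matrix.toLin' ((c • A) ⊗ₖ B))) ∧
      ∀ (k : ℕ) (z : F), x.1 ^ k = z • 1 → (A ^ k) ⊗ₖ (B ^ k) = z • (1 : Matrix (Fin a × Fin b) (Fin a × Fin b) F) := by
  obtain ⟨A, B, hAB⟩ := (mem_iff e P _).mp h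
  obtain ⟨C, hC⟩ : ∃ C, C = g * P := ⟨_, rfl⟩
  have hxC : x.1 * C.1 = C.1 * ((A.1 ⊗ₖ B.1).submatrix e e) := by
    rw [hC, Units.val_mul, mul_assoc g.1, ← hAB, ← Units.val_mul, ← Units.val_mul, ← Units.val_mul, ← Units.val_mul]
    congr 1
    group
  refine ⟨A.1, B.1, fun c => ?_, fun k z hz => ?_⟩
  · obtain ⟨φ, hφ⟩ : ∃ φ : (Fin a × Fin b → F) ≃ₗ[F] (Fin n → F), ∀ v, φ v = C.1 *ᵥ (v ∘ e) := by
      refine ⟨(LinearEquiv.funCongrLeft F F e).trans
        (LinearEquiv.ofBijective (Matrix.toLin' C.1) ⟨?_, ?_⟩), fun v => rfl⟩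
      · exact Matrix.mulVec_injective_iff_isUnit.2 C.isUnit
      · exact Matrix.mulVec_surjective_iff_isUnit.2 C.isUnit
    refine rk_conj φ fun v => ?_
    rw [hφ, hφ, Matrix.toLin'_apply, Matrix.toLin'_apply, Matrix.mulVec_mulVec, Matrix.smul_mul, hxC,
      Matrix.smul_kronecker, Matrix.smul_mulVec, Matrix.smul_mulVec, ← Matrix.mulVec_mulVec]
    rw [show (c • ((A.1 ⊗ₖ B.1) *ᵥ v)) ∘ e = c • (((A.1 ⊗ₖ B.1) *ᵥ v) ∘ e) from rfl, Matrix.mulVec_smul]
    congr 2
    rw [Matrix.submatrix_mulVec_equiv]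
    simp [Function.comp_def]
  · have hpow : ∀ j : ℕ, x.1 ^ j * C.1 = C.1 * (((A.1 ⊗ₖ B.1) ^ j).submatrix e e) := by
      intro j
      induction j with
      | zero => simp
      | succ j ih =>
        rw [pow_succ, mul_assoc, hxC, ← mul_assoc, ih, mul_assoc, pow_succ (A.1 ⊗ₖ B.1),
          Matrix.submatrix_mul_equiv]
    have h1 := hpow k
    rw [hz, Matrix.smul_mul, Matrix.one_mul] at h1
    have h2 : C.1 * ((z • (1 : Matrix (Fin a × Fin b) (Fin a × Fin b) F)).submatrix e e) =
        C.1 * (((A.1 ⊗ₖ B.1) ^ k).submatrix e e) := by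
      rw [← h1, show ((z • (1 : Matrix (Fin a × Fin b) (Fin a × Fin b) F)).submatrix e e) =
        z • (1 : Matrix (Fin n) (Fin n) F) by ext i j; simp [Matrix.one_apply], Matrix.mul_smul, Matrix.mul_one]
    have h3 := C.isUnit.mul_left_cancel h2
    rw [← TensorSpO.kron_pow]
    ext ⟨i, j⟩ ⟨i', j'⟩
    have h4 := congrFun (congrFun h3 (e.symm (i, j))) (e.symm (i', j'))
    simpa using h4.symm

/-- An element with a Kronecker model is conjugate into the stabilizer. -/
theorem fix_of_model (bs : Basis (Fin a × Fin b) F (Fin n → F)) (x : GL (Fin n) F)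
    {A : GL (Fin a) F} {B : GL (Fin b) F} (hY : LinearMap.toMatrix bs bs (Matrix.toLin' x.1) = A.1 ⊗ₖ B.1)
    (hdet : ∀ u : F, u ≠ 0 → ∃ h : Matrix (Fin a × Fin b) (Fin a × Fin b) F,
      h.det = u ∧ h * (A.1 ⊗ₖ B.1) = (A.1 ⊗ₖ B.1) * h) :
    ∃ g ∈ Cfsg.Geo.specialLinear (Fin n) F, g⁻¹ * x * g ∈ Cfsg.Geo.tensorProductSubgroup a b e P := by
  classical
  obtain ⟨b', hb'⟩ : ∃ b', b' = bs.reindex e.symm := ⟨_, rfl⟩
  obtain ⟨C, hC⟩ : ∃ C, C = (Pi.basisFun F (Fin n)).toMatrix b' := ⟨_, rfl⟩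
  have hY' : LinearMap.toMatrix b' b' (Matrix.toLin' x.1) = (A.1 ⊗ₖ B.1).submatrix e e := by
    ext i j
    rw [← hY, Matrix.submatrix_apply, LinearMap.toMatrix_apply, LinearMap.toMatrix_apply, hb', Basis.repr_reindex_apply,
      Basis.reindex_apply, Equiv.symm_symm]
  have hxC : x.1 * C = C * (A.1 ⊗ₖ B.1).submatrix e e := by
    rw [← hY', hC, basis_toMatrix_mul_linearMap_toMatrix]
    conv_lhs => rw [← LinearMap.toMatrix'_toLin' x.1, ← LinearMap.toMatrix_eq_toMatrix']
    rw [linearMap_toMatrix_mul_basis_toMatrix]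
  have hCu : IsUnit C := by
    rw [hC]
    letI := (Pi.basisFun F (Fin n)).invertibleToMatrix b'
    exact isUnit_of_invertible _
  obtain ⟨C, rfl⟩ := hCu
  have hd0 : P.1.det / C.1.det ≠ 0 := div_ne_zero ((Matrix.isUnit_iff_isUnit_det _).mp P.isUnit).ne_zero
    ((Matrix.isUnit_iff_isUnit_det _).mp C.isUnit).ne_zero
  obtain ⟨h, hh, hhY⟩ := hdet _ hd0
  obtain ⟨h', hh'⟩ : ∃ h' : GL (Fin n) F, h'.1 = h.submatrix e e :=
    ⟨((Matrix.isUnit_iff_isUnit_det (h.submatrix e e)).mpr (by
      rw [Matrix.det_submatrix_equiv_self, hh]; exact isUnit_iff_ne_zero.mpr hd0)).unit, rfl⟩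
  have hg : Matrix.GeneralLinearGroup.det (C * h' * P⁻¹) = 1 := by
    rw [map_mul, map_mul, map_inv, mul_inv_eq_one]
    refine Units.ext ?_
    rw [Units.val_mul, Matrix.GeneralLinearGroup.val_det_apply, Matrix.GeneralLinearGroup.val_det_apply,
      Matrix.GeneralLinearGroup.val_det_apply, hh', Matrix.det_submatrix_equiv_self, hh,
      mul_div_cancel₀ _ ((Matrix.isUnit_iff_isUnit_det _).mp C.isUnit).ne_zero]
  refine ⟨C * h' * P⁻¹, hg, (mem_iff e P _).mpr ⟨A, B, ?_⟩⟩
  obtain ⟨Y, hY''⟩ : ∃ Y : GL (Fin n) F, Y.1 = (A.1 ⊗ₖ B.1).submatrix e e :=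
    ⟨C⁻¹ * x * C, by rw [Units.val_mul, Units.val_mul, mul_assoc, hxC, ← mul_assoc, Units.inv_mul, one_mul]⟩
  rw [← hY'']
  have hcomm : Y * h' = h' * Y := Units.ext (by
    rw [Units.val_mul, Units.val_mul, hY'', hh', Matrix.submatrix_mul_equiv, Matrix.submatrix_mul_equiv, hhY])
  have hx : x = C * Y * C⁻¹ := by
    rw [eq_mul_inv_iff_mul_eq]
    exact Units.ext (by rw [Units.val_mul, Units.val_mul, hY'', hxC])
  rw [← Units.val_mul, ← Units.val_mul]
  congr 1
  rw [hx, show (C * h' * P⁻¹)⁻¹ * (C * Y * C⁻¹) * (C * h' * P⁻¹) * P = P * (h'⁻¹ * (Y * h')) by group, hcomm,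
    inv_mul_cancel_left]

variable [Fintype F] (hab : n = a * b) (ha : 2 ≤ a) (hlt : a < b)

include hab ha hlt

theorem not_fix_of_rk {x g : GL (Fin n) F} (h : g⁻¹ * x * g ∈ Cfsg.Geo.tensorProductSubgroup a b e P) (c : F) {k : ℕ}
    (hk : rk (Matrix.toLin' (c • x.1)) = k) : a + 1 ≤ k ∨ a ∣ k ∨ b ∣ k := by
  obtain ⟨A, B, hrk, -⟩ := of_fix e P h
  rw [hrk] at hk
  by_cases hB : ∃ z : F, B = z • 1
  · obtain ⟨z, rfl⟩ := hB
    rw [Matrix.kronecker_smul, ← Matrix.smul_kronecker, rk_kron_one] at hk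
    exact .inr (.inr (Dvd.intro _ hk))
  by_cases hA : ∃ z : F, c • A = z • 1
  · obtain ⟨z, hz⟩ := hA
    rw [hz, Matrix.smul_kronecker, ← Matrix.kronecker_smul, rk_one_kron] at hk
    exact .inr (.inl (Dvd.intro _ hk))
  · exact .inl (hk ▸ le_rk_kron (by omega) (fun z hz => hA ⟨z, hz⟩) (fun z hz => hB ⟨z, hz⟩))

/-- A derangement for every prime outside the exceptional case. -/
theorem exists_der {p : ℕ} [Fact p.Prime] [CharP F p] {r : ℕ} [Fact r.Prime]
    (hΩ : r ∣ (Cfsg.Geo.tensorProductSubgroup a b e P).relIndex (Cfsg.Geo.specialLinear (Fin n) F))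
    (hne : ¬ (r = 2 ∧ a = 2 ∧ Odd (Fintype.card F) ∧ padicValNat 2 (Fintype.card F - 1) ≤ padicValNat 2 n)) :
    ∃ x ∈ Cfsg.Geo.specialLinear (Fin n) F, (∃ z : F, x.1 ^ r = z • 1) ∧ (∀ z : F, x.1 ≠ z • 1) ∧
      ∀ g : GL (Fin n) F, g⁻¹ * x * g ∉ Cfsg.Geo.tensorProductSubgroup a b e P := by
  classical
  have hr := (Fact.out : r.Prime)
  have hn6 : 6 ≤ n := by
    have h1 := Nat.mul_le_mul ha (show 3 ≤ b by omega)
    omega
  have hfr : finrank F (Fin n → F) = n := Module.finrank_fin_fun F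
  have hfin : ∀ (x : GL (Fin n) F), x ∈ Cfsg.Geo.specialLinear (Fin n) F → (∃ z : F, x.1 ^ r = z • 1) →
      ∀ (c : F) (k : ℕ), rk (Matrix.toLin' (c • x.1)) = k → 0 < k → k < n → ¬ a + 1 ≤ k → ¬ a ∣ k → ¬ b ∣ k →
      ∃ x ∈ Cfsg.Geo.specialLinear (Fin n) F, (∃ z : F, x.1 ^ r = z • 1) ∧ (∀ z : F, x.1 ≠ z • 1) ∧
        ∀ g : GL (Fin n) F, g⁻¹ * x * g ∉ Cfsg.Geo.tensorProductSubgroup a b e P := by
    intro x hx hxr c k hk hk0 hkn h1 h2 h3
    refine ⟨x, hx, hxr, fun z hz => ?_, fun g hg => ?_⟩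
    · rcases TensorSpO.rk_scalar (f := Matrix.toLin' (c • x.1)) (z := c * z) (fun v => by
        rw [Matrix.toLin'_apply, hz, smul_smul, Matrix.smul_mulVec, Matrix.one_mulVec]) with h | h <;> omega
    · rcases not_fix_of_rk e P hab ha hlt hg c hk with h | h | h
      exacts [h1 h, h2 h, h3 h]
  have hdiag : ∀ (d : Fin n → F), rk (Matrix.toLin' (Matrix.diagonal d)) = Fintype.card {i // d i - 1 ≠ 0} := fun d => by
    have e1 : Matrix.toLin' (Matrix.diagonal d) - 1 = Matrix.mulVecLin (Matrix.diagonal fun i => d i - 1) := by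
      refine LinearMap.ext fun v => funext fun i => ?_
      simp [Matrix.mulVec_diagonal, sub_mul]
    rw [rk, e1, ← Matrix.rank, Matrix.rank_diagonal]
  obtain ⟨i0, hi0⟩ : ∃ i : Fin n, (i : ℕ) = 0 := ⟨⟨0, by omega⟩, rfl⟩
  obtain ⟨i1, hi1⟩ : ∃ i : Fin n, (i : ℕ) = 1 := ⟨⟨1, by omega⟩, rfl⟩
  have h01 : i0 ≠ i1 := fun e => by simp [e, hi1] at hi0
  by_cases hrp : r = p
  · -- a transvection
    subst hrp
    obtain ⟨x, hx⟩ : ∃ x, x = Matrix.SpecialLinearGroup.toGL (Matrix.SpecialLinearGroup.transvection h01 (1 : F)) :=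
      ⟨_, rfl⟩
    have hxv : x.1 = 1 + Matrix.single i0 i1 1 := by rw [hx]; rfl
    haveI : Nonempty (Fin n) := ⟨i0⟩
    haveI : CharP (Matrix (Fin n) (Fin n) F) r := charP_of_injective_algebraMap' F (A := Matrix (Fin n) (Fin n) F) r
    refine hfin x (hx ▸ Units.ext (Matrix.SpecialLinearGroup.transvection h01 (1 : F)).2) ⟨1, ?_⟩ 1 1 ?_ one_pos
      (by omega) (by omega) (fun h => by have := Nat.le_of_dvd one_pos h; omega)
      (fun h => by have := Nat.le_of_dvd one_pos h; omega)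
    · rw [hxv, add_pow_char_of_commute r (Commute.one_left _), one_pow, pow_eq_zero_of_le hr.two_le (by
        rw [pow_two, Matrix.single_mul_single_of_ne (h := h01.symm)]), add_zero, one_smul]
    · rw [one_smul, hxv, rk, map_add, Matrix.toLin'_one]
      rw [show (LinearMap.id + Matrix.toLin' (Matrix.single i0 i1 (1 : F)) - 1 : Module.End F (Fin n → F)) =
        Matrix.toLin' (Matrix.single i0 i1 (1 : F)) by rw [← Module.End.one_eq_id]; abel]
      have hrange : LinearMap.range (Matrix.toLin' (Matrix.single i0 i1 (1 : F))) =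
          Submodule.span F {(Pi.single i0 1 : Fin n → F)} := by
        refine le_antisymm ?_ ((Submodule.span_singleton_le_iff_mem _ _).mpr ⟨Pi.single i1 1, ?_⟩)
        · rintro _ ⟨v, rfl⟩
          exact Submodule.mem_span_singleton.mpr ⟨v i1, by ext j; simp [Matrix.single_mulVec, Pi.single_apply, Function.update_apply]⟩
        · ext j; simp [Matrix.single_apply, Pi.single_apply, eq_comm]
      rw [hrange, finrank_span_singleton (by simp)]
  have hr0 : (r : F) ≠ 0 := Elusive.cast_ne_zero (F := F) hrp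
  have hU : Nat.card Fˣ = Fintype.card F - 1 := by rw [Nat.card_units, Nat.card_eq_fintype_card]
  have hq2 : 2 ≤ Fintype.card F := Fintype.one_lt_card
  by_cases hr2 : r = 2
  · subst hr2
    have h2 : (2 : F) ≠ 0 := by exact_mod_cast hr0
    have hm1 : (-1 : F) - 1 ≠ 0 := fun h => h2 (by linear_combination -h)
    have hodd : Odd (Fintype.card F) := Nat.odd_iff.mpr (FiniteField.odd_card_of_char_ne_two fun h => h2 (by
      haveI : CharP F 2 := ringChar.of_eq h
      exact_mod_cast CharP.cast_eq_zero F 2))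
    by_cases ha3 : 3 ≤ a
    · obtain ⟨x, hx⟩ : ∃ x : GL (Fin n) F, x.1 = Matrix.diagonal (fun i : Fin n => if (i : ℕ) < 2 then (-1 : F) else 1) :=
        ⟨Matrix.GeneralLinearGroup.mkOfDetNeZero
          (Matrix.diagonal fun i : Fin n => if (i : ℕ) < 2 then (-1 : F) else 1) (by
          rw [Matrix.det_diagonal]
          exact Finset.prod_ne_zero_iff.mpr fun i _ => by split_ifs <;> simp), rfl⟩
      refine hfin x (Units.ext ?_) ⟨1, ?_⟩ 1 2 ?_ two_pos (by omega) (by omega)
        (fun h => by have := Nat.le_of_dvd two_pos h; omega) (fun h => by have := Nat.le_of_dvd two_pos h; omega)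
      · rw [Matrix.GeneralLinearGroup.val_det_apply, hx, Matrix.det_diagonal,
          Fin.prod_univ_eq_prod_range (fun i => if i < 2 then (-1 : F) else 1) n,
          show n = 2 + (n - 2) by omega, Finset.prod_range_add]
        simp [Finset.prod_range_succ]
        refine Finset.prod_eq_one fun i _ => if_neg ?_
        omega
      · rw [hx, pow_two, Matrix.diagonal_mul_diagonal, one_smul, ← Matrix.diagonal_one]
        congr 1
        funext i
        split_ifs <;> ring
      · rw [one_smul, hx, hdiag, Fintype.card_subtype,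
          show (Finset.univ.filter fun i : Fin n => (if (i : ℕ) < 2 then (-1 : F) else 1) - 1 ≠ 0) =
            Finset.univ.filter fun i : Fin n => (i : ℕ) < 2 by
            ext i; simp only [Finset.mem_filter, Finset.mem_univ, true_and]; split_ifs with h <;> simp [h, hm1],
          Fin.card_filter_val_lt]
        omega
    · have ha2 : a = 2 := by omega
      have hlt' : padicValNat 2 n < padicValNat 2 (Fintype.card F - 1) := by
        by_contra h
        exact hne ⟨rfl, ha2, hodd, by omega⟩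
      obtain ⟨c, hc⟩ := pow_padicValNat_dvd (p := 2) (n := n)
      obtain ⟨η, hη⟩ : ∃ η : Fˣ, orderOf η = 2 ^ (padicValNat 2 n + 1) := by
        obtain ⟨g, hg⟩ := IsCyclic.exists_ofOrder_eq_natCard (α := Fˣ)
        refine ⟨_, orderOf_pow_orderOf_div (orderOf_pos g).ne' (hg ▸ hU ▸ ?_)⟩
        exact (pow_dvd_pow 2 (by omega)).trans pow_padicValNat_dvd
      have hco : Odd c := by
        by_contra h
        obtain ⟨k, hk⟩ := Nat.not_odd_iff_even.mp h
        have e2 : 2 ^ (padicValNat 2 n + 1) * k = 2 ^ padicValNat 2 n * c := by rw [hk, pow_succ]; ring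
        have : 2 ^ (padicValNat 2 n + 1) ∣ n := ⟨k, hc.trans e2.symm⟩
        exact pow_succ_padicValNat_not_dvd (by omega) this
      have hw : (η : F) ^ n = -1 := by
        have h1 : ((η : F) ^ 2 ^ padicValNat 2 n) ^ 2 = 1 := by
          rw [← pow_mul, ← pow_succ, ← hη, ← Units.val_pow_eq_pow_val, pow_orderOf_eq_one, Units.val_one]
        have h2' : (η : F) ^ 2 ^ padicValNat 2 n = -1 := (sq_eq_one_iff.mp h1).resolve_left fun h => by
          have h3 := orderOf_dvd_of_pow_eq_one (x := η) (n := 2 ^ padicValNat 2 n) (Units.ext (by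
            rw [Units.val_pow_eq_pow_val, h, Units.val_one]))
          rw [hη, Nat.pow_dvd_pow_iff_le_right (by omega)] at h3
          omega
        conv_lhs => rw [hc, pow_mul, h2', hco.neg_one_pow]
      obtain ⟨x, hx⟩ : ∃ x : GL (Fin n) F,
          x.1 = Matrix.diagonal (fun i : Fin n => (η : F) * if (i : ℕ) < 1 then (-1 : F) else 1) :=
        ⟨Matrix.GeneralLinearGroup.mkOfDetNeZero
          (Matrix.diagonal fun i : Fin n => (η : F) * if (i : ℕ) < 1 then (-1 : F) else 1) (by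
          rw [Matrix.det_diagonal]
          exact Finset.prod_ne_zero_iff.mpr fun i _ => by split_ifs <;> simp), rfl⟩
      refine hfin x (Units.ext ?_) ⟨(η : F) * η, ?_⟩ (η : F)⁻¹ 1 ?_ one_pos (by omega) (by omega)
        (fun h => by have := Nat.le_of_dvd one_pos h; omega) (fun h => by have := Nat.le_of_dvd one_pos h; omega)
      · rw [Matrix.GeneralLinearGroup.val_det_apply, hx, Matrix.det_diagonal, Finset.prod_mul_distrib,
          Finset.prod_const, Finset.card_univ, Fintype.card_fin, hw,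
          Fin.prod_univ_eq_prod_range (fun i => if i < 1 then (-1 : F) else 1) n,
          show n = 1 + (n - 1) by omega, Finset.prod_range_add]
        simp
      · rw [hx, pow_two, Matrix.diagonal_mul_diagonal, Matrix.smul_one_eq_diagonal]
        congr 1
        funext i
        split_ifs <;> ring
      · rw [hx, ← Matrix.diagonal_smul, hdiag, Fintype.card_subtype,
          show (Finset.univ.filter fun i : Fin n =>
              ((η : F)⁻¹ • fun i : Fin n => (η : F) * if (i : ℕ) < 1 then (-1 : F) else 1) i - 1 ≠ 0) =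
            Finset.univ.filter fun i : Fin n => (i : ℕ) < 1 by
            ext i
            simp only [Finset.mem_filter, Finset.mem_univ, true_and, Pi.smul_apply, smul_eq_mul, ← mul_assoc,
              inv_mul_cancel₀ η.ne_zero, one_mul]
            split_ifs with h <;> simp [h, hm1],
          Fin.card_filter_val_lt]
        omega
  -- odd primes different from the characteristic
  have hipos : 0 < orderOf (Fintype.card F : ZMod r) := Elusive.orderOf_pos' (F := F) hrp
  by_cases h1 : orderOf (Fintype.card F : ZMod r) = 1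
  · obtain ⟨ζ, hζ⟩ := USim.exists_zeta (F := F) (r := r) (Elusive.orderOf_eq_one_iff'.mp h1)
    have hζ0 : ζ ≠ 0 := hζ.ne_zero hr.ne_zero
    have hζ2 : ζ⁻¹ ≠ ζ := fun h => by
      have h' : ζ ^ 2 = 1 := by rw [pow_two]; nth_rw 1 [← h]; exact inv_mul_cancel₀ hζ0
      have := Nat.le_of_dvd two_pos ((hζ.pow_eq_one_iff_dvd 2).mp h')
      have := hr.two_le
      omega
    obtain ⟨d, hd⟩ : ∃ d : Fin n → F, d = fun i => if i = i0 then ζ else if i = i1 then ζ⁻¹ else 1 := ⟨_, rfl⟩
    have hd0 : ∀ i, d i ≠ 0 := fun i => by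
      simp only [hd]; split_ifs <;> simp [hζ0]
    obtain ⟨x, hx⟩ : ∃ x : GL (Fin n) F, x.1 = Matrix.diagonal d :=
      ⟨Matrix.GeneralLinearGroup.mkOfDetNeZero (Matrix.diagonal d) (by
        rw [Matrix.det_diagonal]
        exact Finset.prod_ne_zero_iff.mpr fun i _ => hd0 i), rfl⟩
    have hxS : x ∈ Cfsg.Geo.specialLinear (Fin n) F := Units.ext (by
      rw [Matrix.GeneralLinearGroup.val_det_apply, hx, Matrix.det_diagonal,
        ← Finset.prod_subset (Finset.subset_univ {i0, i1}) (fun i _ hi => by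
          simp only [Finset.mem_insert, Finset.mem_singleton, not_or] at hi
          simp [hd, hi.1, hi.2]), Finset.prod_pair h01]
      simp [hd, h01.symm, hζ0])
    have hxr : x.1 ^ r = (1 : F) • 1 := by
      rw [hx, Matrix.diagonal_pow, one_smul, ← Matrix.diagonal_one]
      congr 1
      funext i
      simp only [hd, Pi.pow_apply]
      split_ifs <;> simp [hζ.pow_eq_one]
    refine ⟨x, hxS, ⟨1, hxr⟩, fun z hz => ?_, fun g hg => ?_⟩
    · have e0 := congrFun (congrFun (hx.symm.trans hz) i0) i0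
      have e1 := congrFun (congrFun (hx.symm.trans hz) i1) i1
      simp [hd, h01.symm] at e0 e1
      exact hζ2 (e1.trans e0.symm)
    have hζ1 : ζ ≠ 1 := hζ.ne_one hr.one_lt
    have hk1 : rk (Matrix.toLin' ((1 : F) • x.1)) = 2 := by
      rw [one_smul, hx, hdiag, Fintype.card_subtype,
        show (Finset.univ.filter fun i => d i - 1 ≠ 0) = {i0, i1} by
          ext i
          simp only [Finset.mem_filter, Finset.mem_univ, true_and, Finset.mem_insert, Finset.mem_singleton, hd,
            sub_ne_zero]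
          split_ifs with h h'
          · simp [h, hζ1]
          · simp [h', hζ1]
          · simp [h, h'],
        Finset.card_pair h01]
    have hk2 : rk (Matrix.toLin' (ζ⁻¹ • x.1)) = n - 1 := by
      rw [hx, ← Matrix.diagonal_smul, hdiag, Fintype.card_subtype,
        show (Finset.univ.filter fun i => (ζ⁻¹ • d) i - 1 ≠ 0) = Finset.univ.erase i0 by
          ext i
          simp only [Finset.mem_filter, Finset.mem_univ, true_and, Finset.mem_erase, and_true, hd, Pi.smul_apply,
            smul_eq_mul, sub_ne_zero]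
          split_ifs with h h'
          · simp [h, hζ0]
          · refine iff_of_true (fun hc => hζ2 ?_) h
            rw [← mul_left_inj' hζ0] at hc
            rw [one_mul, mul_assoc, inv_mul_cancel₀ hζ0, mul_one] at hc
            exact hc
          · simp [h, hζ1],
        Finset.card_erase_of_mem (Finset.mem_univ _), Finset.card_univ, Fintype.card_fin]
    obtain ⟨A, B, hrk, -⟩ := of_fix e P hg
    rw [hrk] at hk1 hk2
    by_cases hB : ∃ z : F, B = z • 1
    · obtain ⟨z, rfl⟩ := hB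
      rw [Matrix.kronecker_smul, ← Matrix.smul_kronecker, rk_kron_one] at hk1
      have := Nat.le_of_dvd two_pos (Dvd.intro _ hk1)
      omega
    by_cases hA : ∃ z : F, A = z • 1
    · obtain ⟨z, rfl⟩ := hA
      rw [smul_smul, Matrix.smul_kronecker, ← Matrix.kronecker_smul, rk_one_kron] at hk2
      have h3 : a ∣ n - 1 := Dvd.intro _ hk2
      have h4 := Nat.dvd_sub (hab ▸ dvd_mul_right a b : a ∣ n) h3
      rw [show n - (n - 1) = 1 by omega, Nat.dvd_one] at h4
      omega
    · have := le_rk_kron (show 3 ≤ b by omega) (fun z hz => hA ⟨z, hz⟩) (fun z hz => hB ⟨z, hz⟩)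
      rw [one_smul] at hk1
      omega
  have hi2 : 2 ≤ orderOf (Fintype.card F : ZMod r) := by omega
  have hrk : ∀ {m : ℕ} (M : Matrix (Fin m) (Fin m) F), M ^ r = 1 →
      orderOf (Fintype.card F : ZMod r) ∣ rk (Matrix.toLin' M) := fun {m} M hM =>
    (moved_facts (B := 0) hr hr2 ⟨hr0, by rw [← Matrix.toLin'_pow, hM, Matrix.toLin'_one]; rfl,
      fun _ _ => rfl⟩).1
  have hrk0 : ∀ {m : ℕ} (M : Matrix (Fin m) (Fin m) F), M ^ r = 1 → M ≠ 1 →
      orderOf (Fintype.card F : ZMod r) ≤ m := fun {m} M hM hM1 => by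
    refine (Nat.le_of_dvd (Nat.pos_of_ne_zero fun h0 => hM1 ?_) (hrk M hM)).trans
      ((Submodule.finrank_le _).trans (le_of_eq (Module.finrank_fin_fun F)))
    rw [rk, Submodule.finrank_eq_zero, LinearMap.range_eq_bot] at h0
    exact Matrix.toLin'.injective (by rw [Matrix.toLin'_one]; exact sub_eq_zero.mp h0)
  have hin : orderOf (Fintype.card F : ZMod r) ≤ n := by
    obtain ⟨⟨y, hy⟩, hyo⟩ := exists_prime_orderOf_dvd_card' (G := ↥(Cfsg.Geo.specialLinear (Fin n) F)) r
      (hΩ.trans (Subgroup.relIndex_dvd_card _ _))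
    rw [← Subgroup.orderOf_coe] at hyo
    change orderOf y = r at hyo
    refine hrk0 y.1 (by rw [← Units.val_pow_eq_pow_val, ← hyo, pow_orderOf_eq_one, Units.val_one]) fun h => ?_
    rw [show y = 1 from Units.ext h, orderOf_one] at hyo
    exact hr.ne_one hyo.symm
  obtain ⟨x, hxr, φ, hφi, -, hφd, -, hch⟩ := OSimilar.exists_mixed_one (F := F) (n := n) hrp hi2
    (a := n - orderOf (Fintype.card F : ZMod r)) (t := 1) (by omega)
  rw [pow_one] at hch
  have hss : Module.End.IsSemisimple (Matrix.toLin' x.1) := Elusive.isSemisimple_of_pow (c := (1 : F)) hr0 one_ne_zero (by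
    rw [← Matrix.toLin'_pow, hxr, Matrix.toLin'_one, one_smul]; rfl)
  have hk : rk (Matrix.toLin' x.1) = orderOf (Fintype.card F : ZMod r) := by
    have hker : finrank F (LinearMap.ker (Matrix.toLin' x.1 - 1)) = n - orderOf (Fintype.card F : ZMod r) := by
      have h := LinearMap.finrank_maxGenEigenspace_eq (Matrix.toLin' x.1) (1 : F)
      rw [hss.isFinitelySemisimple.maxGenEigenspace_eq_eigenspace, Module.End.eigenspace_def, one_smul,
        Matrix.charpoly_toLin', hch, Polynomial.rootMultiplicity_mul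
          (mul_ne_zero (pow_ne_zero _ (Polynomial.X_sub_C_ne_zero _)) hφi.ne_zero),
        Polynomial.rootMultiplicity_X_sub_C_pow,
        Polynomial.rootMultiplicity_eq_zero (fun h => by
          have := Polynomial.degree_eq_one_of_irreducible_of_root hφi h
          rw [Polynomial.degree_eq_natDegree hφi.ne_zero, hφd] at this
          norm_cast at this), add_zero] at h
      exact h
    have h := LinearMap.finrank_range_add_finrank_ker (Matrix.toLin' x.1 - 1)
    rw [hker, hfr] at h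
    unfold rk
    omega
  refine ⟨Matrix.SpecialLinearGroup.toGL x, Units.ext x.2, ⟨1, by rw [one_smul]; exact hxr⟩, fun z hz => ?_,
    fun g hg => ?_⟩
  · have hz' : x.1 = z • 1 := hz
    have hz1 : z ^ r = 1 := by
      rw [hz', smul_pow, one_pow] at hxr
      simpa using congrFun (congrFun hxr i0) i0
    rw [hz', OSimilar.mult_one hi2 hz1, one_smul, rk, Matrix.toLin'_one, ← Module.End.one_eq_id, sub_self,
      LinearMap.range_zero, finrank_bot] at hk
    omega
  obtain ⟨A, B, hrkAB, hpow⟩ := of_fix e P hg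
  have hk' : rk (Matrix.toLin' (((1 : F) • A) ⊗ₖ B)) = orderOf (Fintype.card F : ZMod r) := by
    rw [← hrkAB, one_smul]; exact hk
  rw [one_smul] at hk'
  have hAB := hpow r 1 (by rw [one_smul]; exact hxr)
  rw [one_smul] at hAB
  by_cases hB : ∃ z : F, B = z • 1
  · obtain ⟨z, rfl⟩ := hB
    rw [Matrix.kronecker_smul, ← Matrix.smul_kronecker, rk_kron_one] at hk'
    rw [smul_pow, one_pow, Matrix.kronecker_smul, ← Matrix.smul_kronecker, ← smul_pow] at hAB
    have hM : (z • A) ^ r = 1 := by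
      ext i j
      have := congrFun (congrFun hAB (i, ⟨0, by omega⟩)) (j, ⟨0, by omega⟩)
      simpa [Matrix.one_apply] using this
    obtain ⟨l, hl⟩ := hrk _ hM
    rw [hl] at hk'
    rcases Nat.eq_zero_or_pos l with rfl | hl0
    · simp at hk'; omega
    · have := Nat.mul_le_mul (show 2 ≤ b by omega) (Nat.le_mul_of_pos_right (orderOf (Fintype.card F : ZMod r)) hl0)
      omega
  by_cases hA : ∃ z : F, A = z • 1
  · obtain ⟨z, rfl⟩ := hA
    rw [Matrix.smul_kronecker, ← Matrix.kronecker_smul, rk_one_kron] at hk'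
    rw [smul_pow, one_pow, Matrix.smul_kronecker, ← Matrix.kronecker_smul, ← smul_pow] at hAB
    have hM : (z • B) ^ r = 1 := by
      ext i j
      have := congrFun (congrFun hAB (⟨0, by omega⟩, i)) (⟨0, by omega⟩, j)
      simpa [Matrix.one_apply] using this
    obtain ⟨l, hl⟩ := hrk _ hM
    rw [hl] at hk'
    rcases Nat.eq_zero_or_pos l with rfl | hl0
    · simp at hk'; omega
    · have := Nat.mul_le_mul ha (Nat.le_mul_of_pos_right (orderOf (Fintype.card F : ZMod r)) hl0)
      omega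
  have hle := le_rk_kron (show 3 ≤ b by omega) (fun z hz => hA ⟨z, hz⟩) (fun z hz => hB ⟨z, hz⟩)
  obtain ⟨t, ht⟩ : ∃ t, t = (B ^ r) ⟨0, by omega⟩ ⟨0, by omega⟩ := ⟨_, rfl⟩
  have h1' : ∀ i j, (A ^ r) i j * t = (1 : Matrix (Fin a) (Fin a) F) i j := fun i j => by
    have := congrFun (congrFun hAB (i, ⟨0, by omega⟩)) (j, ⟨0, by omega⟩)
    simpa [ht, Matrix.one_apply] using this
  have ht0 : t ≠ 0 := fun h => by
    have := h1' ⟨0, by omega⟩ ⟨0, by omega⟩
    simp [h] at this
  have hdvd : ¬ r ∣ Fintype.card F - 1 := fun h => h1 (Elusive.orderOf_eq_one_iff'.mpr h)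
  obtain ⟨l, hl⟩ := (powCoprime (G := Fˣ) (n := r) (Nat.Coprime.symm ((Nat.Prime.coprime_iff_not_dvd hr).mpr
    (by rwa [hU])))).surjective (Units.mk0 t ht0)
  have hl' : (l : F) ^ r = t := by rw [← Units.val_pow_eq_pow_val]; exact congrArg Units.val hl
  have hA' : ((l : F) • A) ^ r = 1 := by
    rw [smul_pow, hl']
    ext i j
    rw [Matrix.smul_apply, smul_eq_mul, mul_comm, h1']
  have := hrk0 _ hA' fun h => hA ⟨(l : F)⁻¹, by rw [← h, smul_smul, inv_mul_cancel₀ l.ne_zero, one_smul]⟩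
  omega

end Cfsg.Agent.Classical.Elusive.TensorGL
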