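import Cfsg.Agent.Lib.Classical.UnitaryOrders
import Cfsg.Agent.Lib.Classical.UnitaryCount
import Cfsg.Agent.Lib.Classical.UnitaryForm
import Cfsg.Agent.Lib.Small.Hermitian
import Cfsg.Agent.Lib.Small.UnitaryConj

/-!
# Complementary totally singular halves of unitary spaces
-/

set_option autoImplicit false
set_option linter.unusedSectionVars false

universe u

namespace Cfsg.Agent.Classical.UnitaryPairs

open Module Matrix Cfsg Cfsg.Geo Cfsg.Agent.Classical

variable {F : Type u} [Field F] [Fintype F] {q n m : ℕ} {σ : F ≃+* F} (hσ : IsUSigma q σ)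

/-- A basis of two totally singular halves in duality. -/
def IsFrame (q : ℕ) (f : Fin m ⊕ Fin m → (Fin n → F)) : Prop :=
  ∀ s t, hermForm n F q (f s) (f t) = if t = s.swap then 1 else 0

/-- The matrix of a frame. -/
def frameMat (e : Fin n ≃ Fin m ⊕ Fin m) (f : Fin m ⊕ Fin m → (Fin n → F)) : Matrix (Fin n) (Fin n) F :=
  Matrix.of fun i j => f (e j) i

theorem frameMat_mulVec (e : Fin n ≃ Fin m ⊕ Fin m) (f : Fin m ⊕ Fin m → (Fin n → F)) (s : Fin m ⊕ Fin m) :
    frameMat e f *ᵥ Pi.single (e.symm s) 1 = f s := by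
  rw [Matrix.mulVec_single_one]
  funext i
  simp [frameMat]

include hσ in
theorem gram_entry (A : Matrix (Fin n) (Fin n) F) (i j : Fin n) :
    (Aᵀ * A.map σ) i j = hermForm n F q (fun k => A k i) (fun k => A k j) := by
  rw [hσ.hermForm_eq, Matrix.mul_apply]
  rfl

include hσ in
theorem mem_GU_of_gram {g : GL (Fin n) F}
    (h : (g : Matrix (Fin n) (Fin n) F)ᵀ * (g : Matrix (Fin n) (Fin n) F).map σ = 1) : g ∈ Cfsg.GU n F q := by
  refine mem_GU_iff.mpr fun u v => ?_
  rw [hσ.hermForm_eq, hσ.hermForm_eq]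
  have e : ∀ w : Fin n → F, (fun i => σ (((g : Matrix (Fin n) (Fin n) F) *ᵥ w) i)) =
      (g : Matrix (Fin n) (Fin n) F).map σ *ᵥ fun i => σ (w i) := fun w => by
    funext i
    simp [Matrix.mulVec, dotProduct]
  show ((g : Matrix (Fin n) (Fin n) F) *ᵥ u) ⬝ᵥ (fun i => σ (((g : Matrix (Fin n) (Fin n) F) *ᵥ v) i)) = _
  rw [e, ← Matrix.vecMul_transpose, ← Matrix.dotProduct_mulVec, Matrix.mulVec_mulVec, h, Matrix.one_mulVec]
  rfl

include hσ in
theorem frame_gram (e : Fin n ≃ Fin m ⊕ Fin m) {f : Fin m ⊕ Fin m → (Fin n → F)} (hf : IsFrame q f) :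
    (frameMat e f)ᵀ * (frameMat e f).map σ =
      (Matrix.of fun i j => if e j = (e i).swap then (1 : F) else 0) := by
  ext i j
  rw [gram_entry hσ]
  exact hf (e i) (e j)

include hσ in
theorem frame_isUnit (e : Fin n ≃ Fin m ⊕ Fin m) {f : Fin m ⊕ Fin m → (Fin n → F)} (hf : IsFrame q f) :
    IsUnit (frameMat e f).det := by
  classical
  have hJ : (Matrix.of fun i j => if e j = (e i).swap then (1 : F) else 0) *
      (Matrix.of fun i j => if e j = (e i).swap then (1 : F) else 0) = (1 : Matrix (Fin n) (Fin n) F) := by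
    ext i j
    rw [Matrix.mul_apply, Finset.sum_eq_single (e.symm (e i).swap) (fun k _ hk => by
      rw [Matrix.of_apply, if_neg (fun h => hk (by rw [← h, Equiv.symm_apply_apply])), zero_mul])
      (fun h => absurd (Finset.mem_univ _) h)]
    simp [Matrix.one_apply, e.apply_eq_iff_eq, eq_comm]
  have hd : ((frameMat e f).det * σ (frameMat e f).det) *
      (Matrix.of fun i j => if e j = (e i).swap then (1 : F) else 0).det = 1 := by
    have h := congrArg Matrix.det (frame_gram hσ e hf)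
    rw [Matrix.det_mul, Matrix.det_transpose] at h
    rw [RingEquiv.map_det, RingEquiv.mapMatrix_apply, h, ← Matrix.det_mul, hJ, Matrix.det_one]
  exact IsUnit.of_mul_eq_one (σ (frameMat e f).det *
    (Matrix.of fun i j => if e j = (e i).swap then (1 : F) else 0).det) (by rw [← mul_assoc, hd])

include hσ in
/-- Frames are permuted transitively by the general unitary group. -/
theorem exists_GU_move (e : Fin n ≃ Fin m ⊕ Fin m) {f g : Fin m ⊕ Fin m → (Fin n → F)} (hf : IsFrame q f)
    (hg : IsFrame q g) :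
    ∃ x : GL (Fin n) F, x ∈ Cfsg.GU n F q ∧
      (x : Matrix (Fin n) (Fin n) F).det * (frameMat e f).det = (frameMat e g).det ∧
      ∀ s, (x : Matrix (Fin n) (Fin n) F) *ᵥ f s = g s := by
  classical
  have hP := frame_isUnit hσ e hf
  have hQ := frame_isUnit hσ e hg
  have hM : IsUnit (frameMat e g * (frameMat e f)⁻¹) := by
    rw [Matrix.isUnit_iff_isUnit_det, Matrix.det_mul]
    exact hQ.mul (Matrix.isUnit_nonsing_inv_det _ hP)
  refine ⟨hM.unit, mem_GU_of_gram hσ ?_, ?_, fun s => ?_⟩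
  · rw [IsUnit.unit_spec, Matrix.transpose_mul, Matrix.map_mul, mul_assoc, ← mul_assoc (frameMat e g)ᵀ,
      frame_gram hσ e hg, ← frame_gram hσ e hf, mul_assoc, ← Matrix.map_mul, Matrix.mul_nonsing_inv _ hP,
      Matrix.map_one _ (map_zero σ) (map_one σ), mul_one, ← Matrix.transpose_mul, Matrix.mul_nonsing_inv _ hP,
      Matrix.transpose_one]
  · rw [IsUnit.unit_spec, ← Matrix.det_mul, mul_assoc, Matrix.nonsing_inv_mul _ hP, mul_one]
  · rw [IsUnit.unit_spec, ← frameMat_mulVec e f s, Matrix.mulVec_mulVec, mul_assoc,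
      Matrix.nonsing_inv_mul _ hP, mul_one, frameMat_mulVec]

include hσ in
/-- Elements of norm one are quotients of conjugates. -/
theorem exists_quotient {δ : F} (hδ : δ * σ δ = 1) : ∃ l : F, l ≠ 0 ∧ l = δ * σ l := by
  have hq := hσ.two_le
  obtain ⟨g, hg, hord⟩ := hσ.exists_gen
  have hδ0 : δ ≠ 0 := fun h => by rw [h, zero_mul] at hδ; exact zero_ne_one hδ
  obtain ⟨a, ha⟩ := hg (Units.mk0 δ hδ0)⁻¹
  have h1 : g ^ (a * (q + 1)) = 1 := by
    rw [pow_mul, ← ha, inv_pow, inv_eq_one]
    refine Units.ext ?_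
    rw [Units.val_pow_eq_pow_val, Units.val_mk0, Units.val_one, pow_succ', ← hσ.apply_eq, hδ]
  have h2 : q - 1 ∣ a := by
    have h := orderOf_dvd_of_pow_eq_one h1
    rw [hord, show q ^ 2 - 1 = (q - 1) * (q + 1) by rw [mul_comm, ← Nat.sq_sub_sq, one_pow]] at h
    exact Nat.dvd_of_mul_dvd_mul_right (Nat.succ_pos q) h
  obtain ⟨b, hb⟩ := h2
  refine ⟨((g ^ b : Fˣ) : F), Units.ne_zero _, ?_⟩
  have e : (g ^ b) ^ q = (Units.mk0 δ hδ0)⁻¹ * g ^ b := by
    rw [ha, hb, ← pow_mul, ← pow_add]
    congr 1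
    obtain ⟨q', rfl⟩ := Nat.exists_eq_add_of_le (show 1 ≤ q by omega)
    rw [Nat.add_sub_cancel_left]
    ring
  rw [hσ.apply_eq, ← Units.val_pow_eq_pow_val, e, Units.val_mul, ← mul_assoc, Units.val_inv_eq_inv_val,
    Units.val_mk0, mul_inv_cancel₀ hδ0, one_mul]

include hσ in
/-- Frames are permuted transitively, up to scalars, by the special unitary group. -/
theorem exists_SU_move (e : Fin n ≃ Fin m ⊕ Fin m) (hm : 0 < m) {f g : Fin m ⊕ Fin m → (Fin n → F)}
    (hf : IsFrame q f) (hg : IsFrame q g) :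
    ∃ x : GL (Fin n) F, x ∈ Cfsg.GU n F q ⊓ Cfsg.Geo.specialLinear (Fin n) F ∧
      ∀ s, ∃ l : F, l ≠ 0 ∧ (x : Matrix (Fin n) (Fin n) F) *ᵥ f s = l • g s := by
  classical
  obtain ⟨x₀, hx₀, hdet₀, -⟩ := exists_GU_move hσ e hf hg
  obtain ⟨δ, hδdef⟩ : ∃ δ, δ = (x₀ : Matrix (Fin n) (Fin n) F).det := ⟨_, rfl⟩
  have hδ : δ * σ δ = 1 := hδdef ▸ UCount.det_norm hσ hx₀
  have hδ0 : δ ≠ 0 := fun h => by rw [h, zero_mul] at hδ; exact zero_ne_one hδ
  have hiδ : δ⁻¹ * σ δ⁻¹ = 1 := by rw [map_inv₀, ← mul_inv, hδ, inv_one]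
  obtain ⟨l, hl0, hl⟩ := exists_quotient hσ hiδ
  have hσl : σ l ≠ 0 := (map_ne_zero σ).mpr hl0
  let c : Fin m ⊕ Fin m → F := Sum.elim (fun i => if i = ⟨0, hm⟩ then l else 1)
    (fun i => if i = ⟨0, hm⟩ then (σ l)⁻¹ else 1)
  have hc : ∀ s, c s * σ (c s.swap) = 1 := by
    rintro (i | i) <;> simp only [c, Sum.swap_inl, Sum.swap_inr, Sum.elim_inl, Sum.elim_inr] <;>
      split_ifs <;> simp [map_inv₀, hσ.involutive, hl0, hσl]
  have hc0 : ∀ s, c s ≠ 0 := fun s h => by
    have := hc s
    rw [h, zero_mul] at this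
    exact zero_ne_one this
  have hg' : IsFrame q fun s => c s • g s := by
    intro s t
    rw [hσ.isUnitaryForm.smul_left, hσ.isUnitaryForm.herm (g s), hσ.isUnitaryForm.smul_left, map_mul,
      ← hσ.isUnitaryForm.herm (g s), hg]
    split_ifs with h
    · rw [h, mul_one, hc]
    · rw [mul_zero, mul_zero]
  obtain ⟨x, hx, hdet, hxf⟩ := exists_GU_move hσ e hf hg'
  refine ⟨x, ⟨hx, ?_⟩, fun s => ⟨c s, hc0 s, hxf s⟩⟩
  have hmat : frameMat e (fun s => c s • g s) = frameMat e g * Matrix.diagonal (fun j => c (e j)) := by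
    ext i j
    simp [frameMat, Matrix.mul_diagonal, mul_comm]
  have hprod : ∏ j, c (e j) = l * (σ l)⁻¹ := by
    rw [Equiv.prod_comp e c, Fintype.prod_sum_type]
    simp only [c, Sum.elim_inl, Sum.elim_inr]
    rw [Finset.prod_ite_eq' Finset.univ, Finset.prod_ite_eq' Finset.univ, if_pos (Finset.mem_univ _),
      if_pos (Finset.mem_univ _)]
  have hone : (x : Matrix (Fin n) (Fin n) F).det = 1 := by
    rw [hmat, Matrix.det_mul, Matrix.det_diagonal, hprod, ← hdet₀, ← hδdef] at hdet
    have e1 : l * (σ l)⁻¹ = δ⁻¹ := by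
      nth_rewrite 1 [hl]
      rw [mul_assoc, mul_inv_cancel₀ hσl, mul_one]
    rw [e1] at hdet
    have hP := (frame_isUnit hσ e hf).ne_zero
    refine mul_right_cancel₀ hP (hdet.trans ?_)
    rw [mul_comm δ, mul_assoc, mul_inv_cancel₀ hδ0, mul_one, one_mul]
  show x ∈ (Matrix.GeneralLinearGroup.det : GL (Fin n) F →* Fˣ).ker
  exact MonoidHom.mem_ker.mpr (Units.ext (by rw [Matrix.GeneralLinearGroup.val_det_apply]; exact hone))

include hσ in
/-- Two complementary totally singular halves carry a frame. -/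
theorem exists_frame {A B : Submodule F (Fin n → F)} (hA : IsTotallySingularFor (hermForm n F q) A)
    (hB : IsTotallySingularFor (hermForm n F q) B) (hdA : finrank F A = m) (hdB : finrank F B = m)
    (htop : A ⊔ B = ⊤) :
    ∃ f : Fin m ⊕ Fin m → (Fin n → F), IsFrame q f ∧ (∀ i, f (Sum.inl i) ∈ A) ∧ (∀ i, f (Sum.inr i) ∈ B) := by
  classical
  have hU := hσ.isUnitaryForm (n := n)
  let a := finBasisOfFinrankEq F A hdA
  let L : B →ₗ[F] (Fin m → F) :=
    { toFun := fun v j => hermForm n F q v.1 (a j).1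
      map_add' := fun v w => funext fun j => hU.add_left v.1 w.1 _
      map_smul' := fun c v => funext fun j => hU.smul_left c v.1 _ }
  have hinj : Function.Injective L := by
    rw [← LinearMap.ker_eq_bot, LinearMap.ker_eq_bot']
    intro v hv
    refine Subtype.ext ?_
    by_contra hne
    obtain ⟨-, w, hw⟩ := hU.nondegenerate v.1 hne
    apply hw
    obtain ⟨x, hx, y, hy, rfl⟩ := Submodule.mem_sup.mp (htop ▸ Submodule.mem_top : w ∈ A ⊔ B)
    rw [hU.herm, hU.add_left, map_add, ← hU.herm, ← hU.herm, hB _ v.2 _ hy, add_zero]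
    have e : (⟨x, hx⟩ : A) = ∑ j, a.repr ⟨x, hx⟩ j • a j := (a.sum_repr _).symm
    have e' : x = ∑ j, a.repr ⟨x, hx⟩ j • (a j).1 := by
      have h := congrArg (A.subtype) e
      rw [map_sum] at h
      simp only [map_smul, Submodule.subtype_apply] at h
      exact h
    rw [e', hσ.hermForm_eq]
    simp only [Finset.sum_apply, Pi.smul_apply, smul_eq_mul, map_sum, map_mul, Finset.mul_sum]
    rw [Finset.sum_comm]
    refine Finset.sum_eq_zero fun j _ => ?_
    have hz : hermForm n F q v.1 (a j).1 = 0 := congrFun hv j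
    rw [hσ.hermForm_eq] at hz
    rw [show ∑ i, v.1 i * (σ (a.repr ⟨x, hx⟩ j) * σ ((a j).1 i)) =
      σ (a.repr ⟨x, hx⟩ j) * ∑ i, v.1 i * σ ((a j).1 i) by rw [Finset.mul_sum]; exact Finset.sum_congr rfl fun i _ => by ring,
      hz, mul_zero]
  have hsurj : Function.Surjective L :=
    (LinearMap.injective_iff_surjective_of_finrank_eq_finrank (by rw [hdB, finrank_fin_fun])).mp hinj
  choose b hb using fun i : Fin m => hsurj (Pi.single i 1)
  have hba : ∀ i j, hermForm n F q (b i).1 (a j).1 = if j = i then 1 else 0 := fun i j => by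
    rw [show hermForm n F q (b i).1 (a j).1 = L (b i) j from rfl, hb, Pi.single_apply]
  refine ⟨Sum.elim (fun i => (a i).1) fun i => (b i).1, ?_, fun i => (a i).2, fun i => (b i).2⟩
  rintro (i | i) (j | j)
  · simp [hA _ (a i).2 _ (a j).2]
  · rw [Sum.elim_inl, Sum.elim_inr, hU.herm, hba]
    simp [apply_ite σ, eq_comm]
  · rw [Sum.elim_inl, Sum.elim_inr, hba]
    simp
  · simp [hB _ (b i).2 _ (b j).2]

/-! ### The index of the stabiliser -/

include hσ in
theorem card_split (m : ℕ) : q ^ (m * (2 * m - 1)) *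
      ∏ i ∈ Finset.range (2 * m), (if Even i then q ^ (i + 1) + 1 else q ^ (i + 1) - 1) =
    (∏ i : Fin m, ((q ^ 2) ^ m - (q ^ 2) ^ (i : ℕ))) *
      (q ^ (m * (2 * m - 1) - m * (m - 1)) * ∏ i ∈ Finset.range m, (q ^ (2 * i + 1) + 1)) := by
  have h1 : ∀ k : ℕ, ∏ i ∈ Finset.range (2 * k), (if Even i then q ^ (i + 1) + 1 else q ^ (i + 1) - 1) =
      (∏ i ∈ Finset.range k, (q ^ (2 * i + 1) + 1)) * ∏ i ∈ Finset.range k, (q ^ (2 * (i + 1)) - 1) := by
    intro k
    induction k with
    | zero => simp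
    | succ k ih =>
      rw [show 2 * (k + 1) = 2 * k + 1 + 1 by ring, Finset.prod_range_succ, Finset.prod_range_succ, ih,
        if_pos (even_two_mul k), if_neg (Nat.not_even_iff_odd.mpr ⟨k, rfl⟩), Finset.prod_range_succ,
        Finset.prod_range_succ, show 2 * k + 1 + 1 = 2 * (k + 1) by ring]
      ring
  have h2 : ∏ i : Fin m, ((q ^ 2) ^ m - (q ^ 2) ^ (i : ℕ)) =
      q ^ (m * (m - 1)) * ∏ i ∈ Finset.range m, (q ^ (2 * (i + 1)) - 1) := by
    rw [Fin.prod_univ_eq_prod_range (fun i => (q ^ 2) ^ m - (q ^ 2) ^ i) m]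
    have : ∀ i ∈ Finset.range m, (q ^ 2) ^ m - (q ^ 2) ^ i = q ^ (2 * i) * (q ^ (2 * (m - i)) - 1) := by
      intro i hi
      rw [Finset.mem_range] at hi
      rw [Nat.mul_sub, mul_one, ← pow_add, ← pow_mul, ← pow_mul,
        show 2 * i + 2 * (m - i) = 2 * m by omega]
    rw [Finset.prod_congr rfl this, Finset.prod_mul_distrib, Finset.prod_pow_eq_pow_sum, ← Finset.mul_sum,
      mul_comm 2 (∑ i ∈ Finset.range m, i), Finset.sum_range_id_mul_two,
      ← Finset.prod_range_reflect (fun i => q ^ (2 * (i + 1)) - 1) m]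
    congr 1
    refine Finset.prod_congr rfl fun i hi => ?_
    rw [Finset.mem_range] at hi
    rw [show m - 1 - i + 1 = m - i by omega]
  have hle : m * (m - 1) ≤ m * (2 * m - 1) := Nat.mul_le_mul_left _ (by omega)
  rw [h1, h2, mul_mul_mul_comm, ← pow_add, Nat.add_sub_cancel' hle, mul_comm (∏ i ∈ Finset.range m, (q ^ (2 * i + 1) + 1))]

include hσ in
/-- Divisors of the index of the stabiliser of two complementary totally singular halves. -/
theorem relIndex_dvd (e : Fin n ≃ Fin m ⊕ Fin m) (hm : 0 < m) {D : Fin 2 → Submodule F (Fin n → F)}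
    (hDd : ∀ i, finrank F (D i) = m) {f : Fin m ⊕ Fin m → (Fin n → F)} (hf : IsFrame q f)
    (hfl : ∀ i, f (Sum.inl i) ∈ D 0) (hfr : ∀ i, f (Sum.inr i) ∈ D 1) :
    (decompositionStabilizer D).relIndex (Cfsg.GU n F q ⊓ Cfsg.Geo.specialLinear (Fin n) F) ∣
      q ^ (m * (2 * m - 1) - m * (m - 1)) * ∏ i ∈ Finset.range m, (q ^ (2 * i + 1) + 1) := by
  classical
  have hP := frame_isUnit hσ e hf
  have hn : n = 2 * m := by
    have := Fintype.card_congr e
    simp at this
    omega
  -- the linear group of a half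
  let Z : GL (Fin m) F → Matrix (Fin n) (Fin n) F := fun A =>
    (Matrix.fromBlocks (A : Matrix (Fin m) (Fin m) F) 0 0
      ((((A⁻¹ : GL (Fin m) F) : Matrix (Fin m) (Fin m) F)ᵀ).map σ)).submatrix e e
  have hZmul : ∀ A A', Z (A * A') = Z A * Z A' := fun A A' => by
    simp only [Z]
    rw [Matrix.submatrix_mul_equiv, Matrix.fromBlocks_multiply]
    simp [_root_.mul_inv_rev, Matrix.transpose_mul, Matrix.map_mul]
  have hZone : Z 1 = 1 := by
    simp only [Z, inv_one, Units.val_one, Matrix.transpose_one, Matrix.map_one _ (map_zero σ) (map_one σ),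
      Matrix.fromBlocks_one, Matrix.submatrix_one_equiv]
  let φ : GL (Fin m) F →* GL (Fin n) F :=
    { toFun := fun A => ⟨frameMat e f * Z A * (frameMat e f)⁻¹, frameMat e f * Z A⁻¹ * (frameMat e f)⁻¹,
        by simp only [mul_assoc, Matrix.nonsing_inv_mul_cancel_left _ _ hP]
           rw [← mul_assoc (Z A), ← hZmul, mul_inv_cancel, hZone, one_mul, Matrix.mul_nonsing_inv _ hP],
        by simp only [mul_assoc, Matrix.nonsing_inv_mul_cancel_left _ _ hP]
           rw [← mul_assoc (Z A⁻¹), ← hZmul, inv_mul_cancel, hZone, one_mul, Matrix.mul_nonsing_inv _ hP]⟩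
      map_one' := Units.ext (by
        show frameMat e f * Z 1 * (frameMat e f)⁻¹ = 1
        rw [hZone, mul_one, Matrix.mul_nonsing_inv _ hP])
      map_mul' := fun A A' => Units.ext (by
        show frameMat e f * Z (A * A') * (frameMat e f)⁻¹ =
          (frameMat e f * Z A * (frameMat e f)⁻¹) * (frameMat e f * Z A' * (frameMat e f)⁻¹)
        rw [hZmul]
        simp only [mul_assoc, Matrix.nonsing_inv_mul_cancel_left _ _ hP]) }
  have hφf : ∀ A s, (φ A : Matrix (Fin n) (Fin n) F) *ᵥ f s = ∑ t, Z A (e.symm t) (e.symm s) • f t := fun A s => by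
    show (frameMat e f * Z A * (frameMat e f)⁻¹) *ᵥ f s = _
    rw [show (frameMat e f * Z A * (frameMat e f)⁻¹) *ᵥ f s =
        (frameMat e f * Z A * (frameMat e f)⁻¹) *ᵥ (frameMat e f *ᵥ Pi.single (e.symm s) 1) by rw [frameMat_mulVec],
      Matrix.mulVec_mulVec, mul_assoc, Matrix.nonsing_inv_mul _ hP, mul_one, ← Matrix.mulVec_mulVec,
      Matrix.mulVec_single_one]
    funext i
    rw [Finset.sum_apply, ← Equiv.sum_comp e]
    simp [Matrix.mulVec, dotProduct, frameMat, mul_comm]
  have hφGU : ∀ A, φ A ∈ Cfsg.GU n F q := fun A => by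
    refine mem_GU_of_gram hσ ?_
    show (frameMat e f * Z A * (frameMat e f)⁻¹)ᵀ * (frameMat e f * Z A * (frameMat e f)⁻¹).map σ = 1
    have hJ : (Z A)ᵀ * (Matrix.of fun i j => if e j = (e i).swap then (1 : F) else 0) * (Z A).map σ =
        (Matrix.of fun i j => if e j = (e i).swap then (1 : F) else 0) := by
      have hJ' : (Matrix.of fun i j => if e j = (e i).swap then (1 : F) else 0) =
          (Matrix.fromBlocks (0 : Matrix (Fin m) (Fin m) F) 1 1 0).submatrix e e := by
        ext i j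
        rw [Matrix.of_apply, Matrix.submatrix_apply]
        rcases e i with a | a <;> rcases e j with b | b <;> simp [Matrix.one_apply, eq_comm]
      rw [hJ']
      simp only [Z]
      rw [Matrix.transpose_submatrix, Matrix.submatrix_mul_equiv, ← Matrix.submatrix_map,
        Matrix.submatrix_mul_equiv]
      congr 1
      rw [Matrix.fromBlocks_transpose, Matrix.fromBlocks_map, Matrix.fromBlocks_multiply,
        Matrix.fromBlocks_multiply]
      have hinv : ∀ M : Matrix (Fin m) (Fin m) F, (M.map σ).map σ = M := fun M => by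
        ext i j; simp [hσ.involutive]
      simp only [Matrix.transpose_zero, Matrix.mul_zero, Matrix.zero_mul, add_zero, zero_add, Matrix.mul_one,
        Matrix.map_zero _ (map_zero σ), Matrix.transpose_map, Matrix.transpose_transpose, hinv, ← Matrix.map_mul,
        ← Matrix.transpose_mul, Units.inv_mul, Matrix.transpose_one, Matrix.map_one _ (map_zero σ) (map_one σ)]
    rw [Matrix.transpose_mul, Matrix.transpose_mul, Matrix.map_mul, Matrix.map_mul]
    simp only [mul_assoc]
    rw [← mul_assoc (frameMat e f)ᵀ, frame_gram hσ e hf, ← mul_assoc (Matrix.of _), ← mul_assoc (Z A)ᵀ,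
      ← mul_assoc (Z A)ᵀ, hJ, ← frame_gram hσ e hf, mul_assoc, ← Matrix.map_mul, Matrix.mul_nonsing_inv _ hP,
      Matrix.map_one _ (map_zero σ) (map_one σ), mul_one, ← Matrix.transpose_mul, Matrix.mul_nonsing_inv _ hP,
      Matrix.transpose_one]
  have hφinj : Function.Injective φ := fun A A' h => by
    have h1 : frameMat e f * Z A * (frameMat e f)⁻¹ = frameMat e f * Z A' * (frameMat e f)⁻¹ := congrArg Units.val h
    have h2 : Z A = Z A' := by
      have := congrArg (fun M => (frameMat e f)⁻¹ * M * frameMat e f) h1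
      simpa only [mul_assoc, Matrix.nonsing_inv_mul _ hP, mul_one, Matrix.nonsing_inv_mul_cancel_left _ _ hP]
        using this
    refine Units.ext (Matrix.ext fun i j => ?_)
    have := congrFun (congrFun h2 (e.symm (Sum.inl i))) (e.symm (Sum.inl j))
    simpa [Z] using this
  have hli : LinearIndependent F f := by
    rw [Fintype.linearIndependent_iff]
    intro c hc s
    have h : hermForm n F q (∑ t, c t • f t) (f s.swap) = c s := by
      have hsum : ∀ (S : Finset (Fin m ⊕ Fin m)), hermForm n F q (∑ t ∈ S, c t • f t) (f s.swap) =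
          ∑ t ∈ S, c t * hermForm n F q (f t) (f s.swap) := fun S => by
        rw [hσ.hermForm_eq]
        simp only [Finset.sum_apply, Pi.smul_apply, smul_eq_mul, Finset.sum_mul, hσ.hermForm_eq, Finset.mul_sum]
        rw [Finset.sum_comm]
        simp only [mul_assoc]
      rw [hsum, Finset.sum_eq_single s (fun t _ ht => by
        rw [hf, if_neg (fun h => ht (Sum.swap_leftInverse.injective h).symm), mul_zero])
        (fun h => absurd (Finset.mem_univ _) h), hf, if_pos rfl, mul_one]
    rw [hc] at h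
    rw [← h, hσ.hermForm_eq]
    simp
  have hspan : ∀ (κ : Fin 2) (g : Fin m → (Fin n → F)), LinearIndependent F g → (∀ i, g i ∈ D κ) →
      Submodule.span F (Set.range g) = D κ := fun κ g hg hgm => by
    refine Submodule.eq_of_le_of_finrank_le (Submodule.span_le.mpr ?_) ?_
    · rintro _ ⟨i, rfl⟩; exact hgm i
    · rw [finrank_span_eq_card hg, Fintype.card_fin, hDd]
  have hfix : ∀ A, φ A ∈ decompositionStabilizer D := fun A => by
    refine ⟨1, fun κ => ?_⟩
    rw [Equiv.Perm.coe_one, id_eq]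
    have key : ∀ (g : Fin m → (Fin n → F)), LinearIndependent F g → (∀ i, g i ∈ D κ) →
        (∀ i, (φ A : Matrix (Fin n) (Fin n) F) *ᵥ g i ∈ D κ) →
        (D κ).map (Matrix.toLin' (φ A : Matrix (Fin n) (Fin n) F)) = D κ := by
      intro g hg hgm hgi
      refine Submodule.eq_of_le_of_finrank_le ?_ (le_of_eq ?_)
      · nth_rewrite 1 [← hspan κ g hg hgm]
        rw [Submodule.map_span, Submodule.span_le]
        rintro _ ⟨_, ⟨i, rfl⟩, rfl⟩
        rw [Matrix.toLin'_apply]
        exact hgi i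
      · refine (LinearEquiv.finrank_eq (Submodule.equivMapOfInjective _ ?_ (D κ))).symm.symm
        intro u v huv
        rw [Matrix.toLin'_apply, Matrix.toLin'_apply] at huv
        have := congrArg (fun w => ((φ A)⁻¹ : GL (Fin n) F).1 *ᵥ w) huv
        simpa [Matrix.mulVec_mulVec] using this
    fin_cases κ
    · refine key (fun i => f (Sum.inl i)) (hli.comp _ Sum.inl_injective) hfl fun i => ?_
      rw [hφf, Fintype.sum_sum_type]
      refine Submodule.add_mem _ (Submodule.sum_mem _ fun t _ => Submodule.smul_mem _ _ (hfl t))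
        (Submodule.sum_mem _ fun t _ => ?_)
      simp [Z]
    · refine key (fun i => f (Sum.inr i)) (hli.comp _ Sum.inr_injective) hfr fun i => ?_
      rw [hφf, Fintype.sum_sum_type]
      refine Submodule.add_mem _ (Submodule.sum_mem _ fun t _ => ?_)
        (Submodule.sum_mem _ fun t _ => Submodule.smul_mem _ _ (hfr t))
      simp [Z]
  -- counting
  set S : Subgroup (GL (Fin n) F) := Cfsg.GU n F q ⊓ Cfsg.Geo.specialLinear (Fin n) F with hS
  let ψ : GL (Fin m) F →* ↥(powMonoidHom (q + 1) : Fˣ →* Fˣ).ker :=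
    (UCount.detU hσ n).comp (φ.codRestrict (Cfsg.GU n F q) hφGU)
  have hker : Nat.card ψ.ker ∣ Nat.card ↥((decompositionStabilizer D).subgroupOf S) := by
    let ι : ψ.ker →* ↥((decompositionStabilizer D).subgroupOf S) :=
      { toFun := fun A => ⟨⟨φ A.1, ⟨hφGU A.1, MonoidHom.mem_ker.mpr (by
            have h := congrArg Subtype.val (MonoidHom.mem_ker.mp A.2)
            exact h.trans rfl)⟩⟩, hfix A.1⟩
        map_one' := Subtype.ext (Subtype.ext (by simp))
        map_mul' := fun A A' => Subtype.ext (Subtype.ext (by simp)) }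
    exact Subgroup.card_dvd_of_injective ι fun A A' h =>
      Subtype.ext (hφinj (congrArg (fun x => x.1.1) h))
  have hrange : Nat.card ψ.range ∣ q + 1 := by
    have h := Subgroup.card_subgroup_dvd_card ψ.range
    exact h.trans (dvd_of_eq (UCount.card_mu hσ))
  have hGL : Nat.card ψ.ker * Nat.card ψ.range = Nat.card (GL (Fin m) F) := by
    rw [← Subgroup.index_ker]
    exact Subgroup.card_mul_index _
  have hSU : Nat.card S * (q + 1) = Nat.card (Cfsg.GU n F q) := by
    rw [← Subgroup.card_mul_index (UCount.detU hσ n).ker, Subgroup.index_ker,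
      MonoidHom.range_eq_top.mpr (UCount.detU_surjective hσ (by omega)), Subgroup.card_top, UCount.card_mu hσ]
    congr 1
    exact Nat.card_congr
      { toFun := fun x => ⟨⟨x.1, x.2.1⟩, MonoidHom.mem_ker.mpr (Subtype.ext (MonoidHom.mem_ker.mp x.2.2))⟩
        invFun := fun x => ⟨x.1.1, x.1.2, MonoidHom.mem_ker.mpr (congrArg Subtype.val (MonoidHom.mem_ker.mp x.2))⟩
        left_inv := fun _ => rfl
        right_inv := fun _ => rfl }
  have hidx : (decompositionStabilizer D).relIndex S * Nat.card ↥((decompositionStabilizer D).subgroupOf S) =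
      Nat.card S := by
    rw [mul_comm]
    exact Subgroup.card_mul_index _
  have hdvd : Nat.card (GL (Fin m) F) * (decompositionStabilizer D).relIndex S ∣ Nat.card (Cfsg.GU n F q) := by
    rw [← hSU, ← hidx, ← hGL, mul_comm _ ((decompositionStabilizer D).relIndex S), mul_assoc]
    exact Nat.mul_dvd_mul_left _ (Nat.mul_dvd_mul hker hrange)
  have hGUcard := UCount.card_GU hσ n
  have e1 : n * (n - 1) / 2 = m * (2 * m - 1) := by
    rw [hn, mul_assoc, Nat.mul_div_cancel_left _ two_pos]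
  rw [e1] at hGUcard
  rw [hGUcard, show Finset.range n = Finset.range (2 * m) by rw [← hn], card_split hσ m, Matrix.card_GL_field,
    hσ.card] at hdvd
  refine Nat.dvd_of_mul_dvd_mul_left ?_ hdvd
  have h2 := hσ.two_le
  exact Finset.prod_pos fun i _ => Nat.sub_pos_of_lt (Nat.pow_lt_pow_right (by nlinarith) i.2)

end Cfsg.Agent.Classical.UnitaryPairs
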